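import Mathlib.AlgebraicGeometry.ZariskisMainTheorem
import Mathlib.AlgebraicGeometry.Morphisms.LocalIso
import Mathlib.AlgebraicGeometry.FunctionField
import Mathlib.RingTheory.Localization.AsSubring
import Mathlib.RingTheory.ZariskisMainTheorem

/-!
# Zariski's main theorem for birational morphisms to normal points
-/

universe u

open CategoryTheory CategoryTheory.Limits AlgebraicGeometry

namespace Groth.Agent.H26.BirationalZMT

/-- The algebraic core: a quasi-finite birational extension is trivial near an integrally closed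
prime. -/
theorem exists_denominator {A B : Type u} [CommRing A] [CommRing B] [IsDomain A] [IsDomain B]
    (φ : A →+* B) (hφ : Function.Injective φ) (hft : φ.FiniteType)
    (hfrac : ∀ b : B, ∃ a s : A, s ≠ 0 ∧ b * φ s = φ a)
    (q : Ideal B) [q.IsPrime] (hq : φ.QuasiFiniteAt q)
    (hn : IsIntegrallyClosed (Localization.AtPrime (q.comap φ))) :
    ∃ t : A, φ t ∉ q ∧ ∀ b : B, ∃ (c : A) (n : ℕ), b * φ t ^ n = φ c := by
  classical
  algebraize [φ]
  have hZ : Algebra.ZariskisMainProperty A q :=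
    have : Algebra.QuasiFiniteAt A q := hq
    .of_finiteType q
  obtain ⟨r, hrq, hr, hx⟩ := Algebra.zariskisMainProperty_iff.mp hZ
  let K := FractionRing B
  let p := q.comap φ
  have hAK : Function.Injective (algebraMap A K) := by
    rw [IsScalarTower.algebraMap_eq A B K, RingHom.coe_comp]
    exact (IsFractionRing.injective B K).comp hφ
  have : FaithfulSMul A K := (faithfulSMul_iff_algebraMap_injective A K).mpr hAK
  have : IsFractionRing A K := by
    refine IsFractionRing.of_field A K fun z => ?_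
    obtain ⟨b₁, b₂, hb₂, rfl⟩ := IsFractionRing.div_surjective (A := B) z
    obtain ⟨a₁, s₁, hs₁, e₁⟩ := hfrac b₁
    obtain ⟨a₂, s₂, hs₂, e₂⟩ := hfrac b₂
    refine ⟨a₁ * s₂, a₂ * s₁, ?_⟩
    have hb₂' : algebraMap B K b₂ ≠ 0 :=
      IsFractionRing.to_map_ne_zero_of_mem_nonZeroDivisors hb₂
    have h1 : algebraMap A K s₁ ≠ 0 := (map_ne_zero_iff _ hAK).mpr hs₁
    have h2 : algebraMap A K s₂ ≠ 0 := (map_ne_zero_iff _ hAK).mpr hs₂
    have E₁ : algebraMap B K b₁ * algebraMap A K s₁ = algebraMap A K a₁ := by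
      rw [IsScalarTower.algebraMap_apply A B K, IsScalarTower.algebraMap_apply A B K, ← map_mul]
      exact congrArg _ e₁
    have E₂ : algebraMap B K b₂ * algebraMap A K s₂ = algebraMap A K a₂ := by
      rw [IsScalarTower.algebraMap_apply A B K, IsScalarTower.algebraMap_apply A B K, ← map_mul]
      exact congrArg _ e₂
    rw [map_mul, map_mul, ← E₁, ← E₂]
    rw [div_eq_div_iff hb₂' (mul_ne_zero (mul_ne_zero hb₂' h2) h1)]
    ring
  have hle : p.primeCompl ≤ nonZeroDivisors A := Ideal.primeCompl_le_nonZeroDivisors p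
  let S := Localization.subalgebra.ofField K p.primeCompl hle
  have : IsLocalization p.primeCompl S := Localization.subalgebra.isLocalization_ofField K _ hle
  have : IsFractionRing S K := Localization.subalgebra.isFractionRing_ofField K _ hle
  have : IsIntegrallyClosed S :=
    IsIntegrallyClosed.of_equiv (IsLocalization.algEquiv p.primeCompl (Localization.AtPrime p) S).toRingEquiv
  have key : ∀ z : B, IsIntegral A z → ∃ a s : A, s ∉ p ∧ z * φ s = φ a := fun z hz => by
    have hzK : IsIntegral A (algebraMap B K z) := hz.map (IsScalarTower.toAlgHom A B K)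
    obtain ⟨w, hw⟩ := IsIntegrallyClosed.isIntegral_iff.mp (hzK.tower_top (A := S))
    obtain ⟨⟨a, s⟩, has⟩ := IsLocalization.surj p.primeCompl w
    refine ⟨a, s, s.2, IsFractionRing.injective B K ?_⟩
    have := congrArg (algebraMap S K) has
    rw [map_mul, hw, ← IsScalarTower.algebraMap_apply A S K, ← IsScalarTower.algebraMap_apply A S K,
      IsScalarTower.algebraMap_apply A B K, IsScalarTower.algebraMap_apply A B K, ← map_mul] at this
    exact this
  have key' : ∀ b : B, ∃ c t : A, t ∉ p ∧ b * φ t = φ c := fun b => by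
    obtain ⟨a, s, hs, e⟩ := key r hr
    have ha : a ∉ p := fun ha => by
      rcases Ideal.IsPrime.mem_or_mem ‹q.IsPrime› (show r * φ s ∈ q by rw [e]; exact ha) with h | h
      exacts [hrq h, hs h]
    obtain ⟨m, hm⟩ := hx b
    obtain ⟨a', s', hs', e'⟩ := key _ hm
    refine ⟨a' * s ^ m, s' * a ^ m, ?_, ?_⟩
    · exact fun h => (Ideal.IsPrime.mem_or_mem inferInstance h).elim hs'
        fun h => ha (Ideal.IsPrime.mem_of_pow_mem inferInstance _ h)
    · simp only [map_mul, map_pow, ← e, ← e']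
      ring
  obtain ⟨s, hs⟩ := Algebra.FiniteType.out (R := A) (A := B)
  choose c t ht htc using key'
  refine ⟨∏ b ∈ s, t b, fun h => ?_, fun b => ?_⟩
  · rw [← Ideal.mem_comap, (inferInstance : p.IsPrime).prod_mem_iff] at h
    obtain ⟨b, -, hb⟩ := h
    exact ht b hb
  · set T := ∏ b ∈ s, t b
    have hb : b ∈ Algebra.adjoin A (s : Set B) := by rw [hs]; exact Algebra.mem_top
    induction hb using Algebra.adjoin_induction with
    | mem x hx =>
      obtain ⟨T', hT'⟩ := Finset.dvd_prod_of_mem t (show x ∈ s from hx)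
      exact ⟨c x * T', 1, by rw [pow_one, show T = t x * T' from hT', map_mul, map_mul, ← htc]; ring⟩
    | algebraMap a => exact ⟨a, 0, by rw [pow_zero, mul_one]; rfl⟩
    | add x y _ _ hx hy =>
      obtain ⟨cx, n, hx⟩ := hx
      obtain ⟨cy, m, hy⟩ := hy
      exact ⟨cx * T ^ m + cy * T ^ n, n + m, by
        rw [map_add, map_mul, map_mul, map_pow, map_pow, ← hx, ← hy]; ring⟩
    | mul x y _ _ hx hy =>
      obtain ⟨cx, n, hx⟩ := hx
      obtain ⟨cy, m, hy⟩ := hy
      exact ⟨cx * cy, n + m, by rw [map_mul, ← hx, ← hy]; ring⟩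

variable {X Y : Scheme.{u}} [IsIntegral X] [IsIntegral Y] (f : X ⟶ Y)

lemma genericPoint_mem {Z : Scheme.{u}} [IsIntegral Z] {U : Z.Opens} {z : Z} (hz : z ∈ U) :
    genericPoint Z ∈ U :=
  (genericPoint_spec Z).mem_open_set_iff U.2 |>.mpr ⟨z, trivial, hz⟩

/-- A morphism is an isomorphism between basic opens when its ring map becomes bijective. -/
theorem isIso_resLE_basicOpen {X Y : Scheme.{u}} [IsIntegral X] (f : X ⟶ Y) {V : Y.Opens}
    (hV : IsAffineOpen V) {X₁ : X.Opens} (hX₁ : IsAffineOpen X₁) (hX₁V : X₁ ≤ f ⁻¹ᵁ V) (t : Γ(Y, V))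
    (hφ : Function.Injective (f.appLE V X₁ hX₁V).hom)
    (hgenB : ∀ b, ∃ (c : Γ(Y, V)) (n : ℕ),
      b * (f.appLE V X₁ hX₁V).hom t ^ n = (f.appLE V X₁ hX₁V).hom c)
    {x : X} (hxW : x ∈ X.basicOpen (f.appLE V X₁ hX₁V t)) :
    ∃ e : X.basicOpen (f.appLE V X₁ hX₁V t) ≤ f ⁻¹ᵁ Y.basicOpen t,
      IsIso (f.resLE (Y.basicOpen t) (X.basicOpen (f.appLE V X₁ hX₁V t)) e) := by
  classical
  let φ := f.appLE V X₁ hX₁V
  let U := Y.basicOpen t
  let W := X.basicOpen (φ t)
  have hWX₁ : W ≤ X₁ := X.basicOpen_le _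
  have hηX : genericPoint X ∈ X₁ := genericPoint_mem (hWX₁ hxW)
  have : Nonempty X₁ := ⟨⟨_, hWX₁ hxW⟩⟩
  have hinjX : Function.Injective (X.presheaf.germ X₁ _ hηX) :=
    germ_injective_of_isIntegral X _ hηX
  have e : W ≤ f ⁻¹ᵁ U := by
    intro z hz
    rw [Scheme.preimage_basicOpen]
    simp only [W, φ, Scheme.Hom.appLE, CommRingCat.comp_apply, Scheme.basicOpen_res] at hz
    exact hz.2
  refine ⟨e, ?_⟩
  have : IsAffine U := hV.basicOpen t
  have : IsAffine W := hX₁.basicOpen (φ t)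
  let ψ := f.appLE U W e
  have hψ : ∀ a, ψ (Y.presheaf.map (homOfLE (Y.basicOpen_le t)).op a) =
      X.presheaf.map (homOfLE hWX₁).op (φ a) := fun a => by
    change (Y.presheaf.map (homOfLE (Y.basicOpen_le t)).op ≫ f.appLE U W e) a =
      (f.appLE V X₁ hX₁V ≫ X.presheaf.map (homOfLE hWX₁).op) a
    erw [Scheme.Hom.map_appLE, Scheme.Hom.appLE_map]
  let := (Y.presheaf.map (homOfLE (Y.basicOpen_le t)).op).hom.toAlgebra
  let := (X.presheaf.map (homOfLE hWX₁).op).hom.toAlgebra
  have : IsLocalization.Away t Γ(Y, U) := hV.isLocalization_basicOpen t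
  have : IsLocalization.Away (φ t) Γ(X, W) := hX₁.isLocalization_basicOpen (φ t)
  have : Nonempty W := ⟨⟨x, hxW⟩⟩
  have hψbij : Function.Bijective ψ := by
    constructor
    · rw [injective_iff_map_eq_zero]
      intro z hz
      obtain ⟨⟨a, s⟩, has⟩ := IsLocalization.surj (Submonoid.powers t) z
      have h1 := congrArg ψ has
      rw [map_mul, hz, zero_mul] at h1
      have h2 : X.presheaf.map (homOfLE hWX₁).op (φ a) = 0 := (hψ a).symm.trans h1.symm
      have h3 : φ a = 0 := by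
        apply hinjX
        rw [← X.presheaf.germ_res_apply (homOfLE hWX₁) _ (genericPoint_mem hxW), h2, map_zero,
          map_zero]
      obtain rfl : a = 0 := hφ (h3.trans (map_zero _).symm)
      rw [map_zero] at has
      exact ((IsLocalization.map_units Γ(Y, U) s).mul_left_eq_zero).mp has
    · intro z
      obtain ⟨⟨b, ⟨_, n, rfl⟩⟩, hb⟩ := IsLocalization.surj (Submonoid.powers (φ t)) z
      obtain ⟨c, m, hc⟩ := hgenB b
      refine ⟨IsLocalization.mk' Γ(Y, U) c (⟨t ^ (n + m), _, rfl⟩ : Submonoid.powers t), ?_⟩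
      have hu : IsUnit (X.presheaf.map (homOfLE hWX₁).op (φ t ^ (n + m))) :=
        IsLocalization.map_units Γ(X, W) (⟨φ t ^ (n + m), _, rfl⟩ : Submonoid.powers (φ t))
      refine hu.mul_left_injective ?_
      have hs := congrArg ψ (IsLocalization.mk'_spec Γ(Y, U) c
        (⟨t ^ (n + m), _, rfl⟩ : Submonoid.powers t))
      rw [map_mul] at hs
      erw [hψ, hψ] at hs
      rw [map_pow] at hs
      refine hs.trans ?_
      have hb' : X.presheaf.map (homOfLE hWX₁).op b = z * X.presheaf.map (homOfLE hWX₁).op (φ t ^ n) :=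
        hb.symm
      rw [← hc, map_mul, hb', pow_add, map_mul, mul_assoc]
  have happ : IsIso (f.resLE U W e).appTop := by
    change IsIso ((f.resLE U W e).app ⊤)
    rw [Scheme.Hom.resLE_app_top]
    have hi : IsIso (f.appLE U W e) := (ConcreteCategory.isIso_iff_bijective _).mpr hψbij
    exact IsIso.comp_isIso' U.topIso.isIso_hom (IsIso.comp_isIso' hi W.topIso.isIso_inv)
  exact (MorphismProperty.arrow_mk_iso_iff (.isomorphisms Scheme)
    (arrowIsoSpecΓOfIsAffine (f.resLE U W e))).mpr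
    (MorphismProperty.isomorphisms.iff _ |>.mpr (inferInstanceAs (IsIso (Spec.map _))))


/-- A birational morphism is, near a quasi-finite point over a normal point, an isomorphism of
opens. -/
theorem exists_isIso_resLE [LocallyOfFiniteType f] (hgen : f (genericPoint X) = genericPoint Y)
    (hbir : IsIso (f.stalkMap (genericPoint X))) (x : X)
    (hy : IsIntegrallyClosed (Y.presheaf.stalk (f x))) (hx : f.QuasiFiniteAt x) :
    ∃ (U : Y.Opens) (W : X.Opens) (e : W ≤ f ⁻¹ᵁ U), x ∈ W ∧ IsIso (f.resLE U W e) := by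
  classical
  obtain ⟨_, ⟨V, hV, rfl⟩, hxV, -⟩ := Y.isBasis_affineOpens.exists_subset_of_mem_open
    (Set.mem_univ (f x)) isOpen_univ
  obtain ⟨_, ⟨X₁, hX₁, rfl⟩, hxX₁, hX₁V : X₁ ≤ f ⁻¹ᵁ V⟩ :=
    X.isBasis_affineOpens.exists_subset_of_mem_open (show x ∈ f ⁻¹ᵁ V from hxV) (f ⁻¹ᵁ V).isOpen
  have : Nonempty V := ⟨⟨_, hxV⟩⟩
  have : Nonempty X₁ := ⟨⟨_, hxX₁⟩⟩
  have hηV : f (genericPoint X) ∈ V := hgen ▸ genericPoint_mem hxV
  have hηX : genericPoint X ∈ X₁ := genericPoint_mem hxX₁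
  let φ := f.appLE V X₁ hX₁V
  have hcomm : ∀ a, X.presheaf.germ X₁ _ hηX (φ a) =
      f.stalkMap _ (Y.presheaf.germ V _ hηV a) := fun a => by
    rw [Scheme.Hom.germ_stalkMap_apply, Scheme.Hom.app_eq_appLE,
      ← X.presheaf.germ_res_apply (homOfLE hX₁V) _ hηX]
    simp only [φ, ← Scheme.Hom.appLE_map f le_rfl (homOfLE hX₁V).op]
    rfl
  have hinjX : Function.Injective (X.presheaf.germ X₁ _ hηX) :=
    germ_injective_of_isIntegral X _ hηX
  have hinjY : Function.Injective (Y.presheaf.germ V _ hηV) :=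
    germ_injective_of_isIntegral Y _ hηV
  have hbij := ConcreteCategory.bijective_of_isIso (f.stalkMap (genericPoint X))
  have hφ : Function.Injective φ.hom := fun a b h => hinjY (hbij.1 (by
    rw [← hcomm, ← hcomm]; exact congrArg _ h))
  have hfrac : ∀ b, ∃ a s, s ≠ 0 ∧ b * φ.hom s = φ.hom a := fun b => by
    obtain ⟨z, hz⟩ := hbij.2 (X.presheaf.germ X₁ _ hηX b)
    let := TopCat.Presheaf.algebra_section_stalk Y.presheaf (⟨f (genericPoint X), hηV⟩ : V)
    have := hV.isLocalization_stalk ⟨f (genericPoint X), hηV⟩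
    obtain ⟨⟨a, s⟩, has⟩ := IsLocalization.surj
      (hV.primeIdealOf ⟨f (genericPoint X), hηV⟩).asIdeal.primeCompl z
    refine ⟨a, s, fun h => s.2 (h ▸ Ideal.zero_mem _), hinjX ?_⟩
    rw [map_mul]
    refine (congrArg₂ (· * ·) hz.symm (hcomm s)).trans ?_
    rw [← map_mul]
    exact (congrArg (f.stalkMap (genericPoint X)) has).trans (hcomm a).symm
  let q := hX₁.primeIdealOf ⟨x, hxX₁⟩
  have hp : q.asIdeal.comap φ.hom = (hV.primeIdealOf ⟨f x, hxV⟩).asIdeal :=
    congrArg PrimeSpectrum.asIdeal (IsAffineOpen.comap_primeIdealOf_appLE V hV X₁ hX₁ hX₁V hxX₁)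
  have hn : IsIntegrallyClosed (Localization.AtPrime (q.asIdeal.comap φ.hom)) := by
    let := TopCat.Presheaf.algebra_section_stalk Y.presheaf (⟨f x, hxV⟩ : V)
    have : IsLocalization (q.asIdeal.comap φ.hom).primeCompl (Y.presheaf.stalk (f x)) := by
      rw [show (q.asIdeal.comap φ.hom).primeCompl =
        (hV.primeIdealOf ⟨f x, hxV⟩).asIdeal.primeCompl by ext; simp only [Ideal.mem_primeCompl_iff, hp]]
      exact hV.isLocalization_stalk ⟨f x, hxV⟩
    exact IsIntegrallyClosed.of_equiv (IsLocalization.algEquiv (q.asIdeal.comap φ.hom).primeCompl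
      (Y.presheaf.stalk (f x)) (Localization.AtPrime (q.asIdeal.comap φ.hom))).toRingEquiv
  obtain ⟨t, ht, hgenB⟩ := exists_denominator φ.hom hφ (f.finiteType_appLE hV hX₁ hX₁V) hfrac
    q.asIdeal (hx.quasiFiniteAt hX₁ hV hX₁V hxX₁) hn
  have hxW : x ∈ X.basicOpen (φ t) := by
    have : q ∈ hX₁.fromSpec ⁻¹ᵁ X.basicOpen (φ t) := by
      rw [hX₁.fromSpec_preimage_basicOpen]
      exact ht
    change hX₁.fromSpec q ∈ X.basicOpen (φ t) at this
    rwa [hX₁.fromSpec_primeIdealOf ⟨x, hxX₁⟩] at this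
  obtain ⟨e, he⟩ := isIso_resLE_basicOpen f hV hX₁ hX₁V t hφ hgenB hxW
  exact ⟨_, _, e, hxW, he⟩

/-- Zariski's main theorem for birational morphisms: over a normal point with an isolated point in
the fibre, a separated birational morphism is an isomorphism. -/
theorem exists_isIso_morphismRestrict [IsSeparated f] [LocallyOfFiniteType f]
    (hgen : f (genericPoint X) = genericPoint Y) (hbir : IsIso (f.stalkMap (genericPoint X))) (x : X)
    (hy : IsIntegrallyClosed (Y.presheaf.stalk (f x))) (hx : f.QuasiFiniteAt x) :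
    ∃ U : Y.Opens, f x ∈ U ∧ IsIso (f ∣_ U) := by
  obtain ⟨U, W, e, hxW, hiso⟩ := exists_isIso_resLE f hgen hbir x hy hx
  refine ⟨U, e hxW, ?_⟩
  let j := X.homOfLE e
  have hj : j ≫ (f ∣_ U) = f.resLE U W e := by
    rw [← cancel_mono U.ι, Category.assoc, morphismRestrict_ι, Scheme.Hom.resLE_comp_ι,
      Scheme.homOfLE_ι_assoc]
  have : IsClosedImmersion (j ≫ (f ∣_ U)) := by rw [hj]; infer_instance
  have : IsClosedImmersion j := IsClosedImmersion.of_comp j (f ∣_ U)
  have : Nonempty (f ⁻¹ᵁ U : Scheme.{u}) := ⟨⟨x, e hxW⟩⟩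
  have hclopen : IsClopen (Set.range j) :=
    ⟨j.isClosedEmbedding.isClosed_range, j.isOpenEmbedding.isOpen_range⟩
  have : IsPreirreducible (Set.univ : Set (f ⁻¹ᵁ U : Scheme.{u})) :=
    PreirreducibleSpace.isPreirreducible_univ
  have : Surjective j := ⟨Set.range_eq_univ.mp (hclopen.eq_univ ⟨j ⟨x, hxW⟩, Set.mem_range_self _⟩)⟩
  have : Epi j.base := (TopCat.epi_iff_surjective _).mpr j.surjective
  have : IsIso j := IsOpenImmersion.isIso j
  rw [show f ∣_ U = inv j ≫ f.resLE U W e by rw [← hj, IsIso.inv_hom_id_assoc]]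
  infer_instance

/-- A quasi-finite birational morphism to a normal scheme is a local isomorphism. -/
theorem isLocalIso [LocallyQuasiFinite f] [LocallyOfFiniteType f]
    (hgen : f (genericPoint X) = genericPoint Y) (hbir : IsIso (f.stalkMap (genericPoint X)))
    (hN : ∀ y : Y, IsIntegrallyClosed (Y.presheaf.stalk y)) : IsLocalIso f := by
  refine ⟨fun x => ?_⟩
  obtain ⟨U, W, e, hxW, hiso⟩ := exists_isIso_resLE f hgen hbir x (hN _) (f.quasiFiniteAt x)
  refine ⟨W, hxW, ?_⟩
  rw [← Scheme.Hom.resLE_comp_ι f e]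
  infer_instance

/-- A separated quasi-finite birational morphism to a normal scheme is an open immersion. -/
theorem isOpenImmersion [IsSeparated f] [LocallyQuasiFinite f] [LocallyOfFiniteType f]
    (hgen : f (genericPoint X) = genericPoint Y) (hbir : IsIso (f.stalkMap (genericPoint X)))
    (hN : ∀ y : Y, IsIntegrallyClosed (Y.presheaf.stalk y)) : IsOpenImmersion f := by
  choose U hxU hU using fun x => exists_isIso_morphismRestrict f hgen hbir x (hN _) (f.quasiFiniteAt x)
  have hinj : Function.Injective f := fun a b hab => by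
    have h := (ConcreteCategory.bijective_of_isIso (f ∣_ U a).base).1
      (a₁ := (⟨a, hxU a⟩ : f ⁻¹ᵁ U a)) (a₂ := ⟨b, show f b ∈ U a by rw [← hab]; exact hxU a⟩)
      (Subtype.ext (((morphismRestrict_base_coe f (U a) _).trans hab).trans (morphismRestrict_base_coe f (U a) _).symm))
    exact congrArg Subtype.val h
  have hlocal : ∀ x, IsOpenImmersion ((f ⁻¹ᵁ U x).ι ≫ f) := fun x => by
    rw [← morphismRestrict_ι]; infer_instance
  have : ∀ x, IsIso (f.stalkMap x) := fun x => by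
    have h := (Scheme.Hom.stalkMap_comp (f ⁻¹ᵁ U x).ι f ⟨x, hxU x⟩)
    have := hlocal x
    have : IsIso (((f ⁻¹ᵁ U x).ι ≫ f).stalkMap ⟨x, hxU x⟩) :=
      (IsOpenImmersion.iff_isIso_stalkMap.mp (hlocal x)).2 _
    have : IsIso ((f ⁻¹ᵁ U x).ι.stalkMap ⟨x, hxU x⟩) :=
      (IsOpenImmersion.iff_isIso_stalkMap.mp inferInstance).2 _
    have h2 : IsIso (f.stalkMap ((f ⁻¹ᵁ U x).ι ⟨x, hxU x⟩) ≫ (f ⁻¹ᵁ U x).ι.stalkMap ⟨x, hxU x⟩) :=
      h ▸ ‹IsIso (((f ⁻¹ᵁ U x).ι ≫ f).stalkMap ⟨x, hxU x⟩)›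
    exact IsIso.of_isIso_comp_right (f.stalkMap ((f ⁻¹ᵁ U x).ι ⟨x, hxU x⟩))
      ((f ⁻¹ᵁ U x).ι.stalkMap ⟨x, hxU x⟩)
  refine IsOpenImmersion.of_isIso_stalkMap f (.of_continuous_injective_isOpenMap f.continuous hinj ?_)
  intro s hs
  rw [isOpen_iff_mem_nhds]
  rintro _ ⟨a, ha, rfl⟩
  have ho := ((f ⁻¹ᵁ U a).ι ≫ f).isOpenEmbedding.isOpenMap _
    (hs.preimage (f ⁻¹ᵁ U a).ι.continuous)
  exact Filter.mem_of_superset (ho.mem_nhds ⟨⟨a, hxU a⟩, ha, rfl⟩)
    (by rintro _ ⟨w, hw, rfl⟩; exact ⟨_, hw, rfl⟩)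

end Groth.Agent.H26.BirationalZMT
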