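import Groth.Agent.H26.BirationalZMT
import Mathlib.RingTheory.UniqueFactorizationDomain.Basic
import Mathlib.RingTheory.Localization.NumDen
import Mathlib.RingTheory.Ideal.Height
import Mathlib.RingTheory.Ideal.KrullsHeightTheorem
import Mathlib.AlgebraicGeometry.Noetherian

/-!
# Purity of the exceptional locus over factorial schemes
-/

universe u

open CategoryTheory CategoryTheory.Limits AlgebraicGeometry

namespace Groth.Agent.H26.Purity

/-- Dimensions of local rings at generizations. -/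
theorem ringKrullDim_stalk_fromSpecStalk {X : Scheme.{u}} (x : X)
    (p : Spec (X.presheaf.stalk x)) :
    ringKrullDim (X.presheaf.stalk (X.fromSpecStalk x p)) = p.asIdeal.height := by
  rw [ringKrullDim_stalk_eq_coheight, idealHeight_eq_coheight]
  refine WithBot.coe_eq_coe.mpr (Order.coheight_eq_of_strictMono _ ?_ ?_ p).symm
  · intro a b hab
    have hle : X.fromSpecStalk x a ≤ X.fromSpecStalk x b :=
      (hab.le : b ⤳ a).map (X.fromSpecStalk x).continuous
    exact lt_of_le_not_ge hle fun h => hab.not_ge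
      ((X.fromSpecStalk x).isEmbedding.toIsInducing.specializes_iff.mp h)
  · intro a b hb
    have hb' : b ∈ Set.range (X.fromSpecStalk x) := by
      rw [Scheme.range_fromSpecStalk]
      have ha : X.fromSpecStalk x a ∈ Set.range (X.fromSpecStalk x) := ⟨a, rfl⟩
      rw [Scheme.range_fromSpecStalk] at ha
      exact (show b ⤳ X.fromSpecStalk x a from hb.le).trans ha
    obtain ⟨a', rfl⟩ := hb'
    exact ⟨a', lt_of_le_not_ge
      (((X.fromSpecStalk x).isEmbedding.toIsInducing.specializes_iff).mp hb.le)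
      fun h => hb.not_ge (show _ ≤ _ from (show a ⤳ a' from h).map (X.fromSpecStalk x).continuous), rfl⟩

variable {X Y : Scheme.{u}} [IsIntegral X] [IsLocallyNoetherian X] [IsIntegral Y]
  [IsLocallyNoetherian Y] (g : X ⟶ Y) [LocallyOfFiniteType g]

theorem birational_of_isOpenImmersion (W : X.Opens) (hne : (W : Set X).Nonempty)
    [IsOpenImmersion (W.ι ≫ g)] :
    g (genericPoint X) = genericPoint Y ∧ IsIso (g.stalkMap (genericPoint X)) := by
  have : Nonempty (W : Scheme.{u}) := hne.to_subtype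
  have : IsIntegral (W : Scheme.{u}) := isIntegral_of_isOpenImmersion W.ι
  have h1 : W.ι (genericPoint (W : Scheme.{u})) = genericPoint X := genericPoint_eq_of_isOpenImmersion W.ι
  constructor
  · rw [← h1, ← Scheme.Hom.comp_apply]
    exact genericPoint_eq_of_isOpenImmersion (W.ι ≫ g)
  · have h2 : IsIso ((W.ι ≫ g).stalkMap (genericPoint (W : Scheme.{u}))) :=
      (IsOpenImmersion.iff_isIso_stalkMap.mp ‹IsOpenImmersion (W.ι ≫ g)›).2 _
    have h3 : IsIso (W.ι.stalkMap (genericPoint (W : Scheme.{u}))) :=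
      (IsOpenImmersion.iff_isIso_stalkMap.mp inferInstance).2 _
    have h4 : IsIso (g.stalkMap (W.ι (genericPoint (W : Scheme.{u}))) ≫
        W.ι.stalkMap (genericPoint (W : Scheme.{u}))) :=
      (Scheme.Hom.stalkMap_comp W.ι g (genericPoint (W : Scheme.{u}))) ▸ h2
    have h5 := IsIso.of_isIso_comp_right (g.stalkMap (W.ι (genericPoint (W : Scheme.{u}))))
      (W.ι.stalkMap (genericPoint (W : Scheme.{u})))
    rwa [h1] at h5

variable {g}

theorem exists_openImmersion_of_quasiFiniteAt (hgen : g (genericPoint X) = genericPoint Y)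
    (hbir : IsIso (g.stalkMap (genericPoint X)))
    (hY : ∀ y : Y, UniqueFactorizationMonoid (Y.presheaf.stalk y)) (x : X)
    (hx : g.QuasiFiniteAt x) : ∃ W : X.Opens, x ∈ W ∧ IsOpenImmersion (W.ι ≫ g) := by
  have := hY (g x)
  obtain ⟨U, W, e, hxW, hiso⟩ :=
    BirationalZMT.exists_isIso_resLE g hgen hbir x inferInstance hx
  refine ⟨W, hxW, ?_⟩
  rw [← Scheme.Hom.resLE_comp_ι g e]
  infer_instance

theorem dim_eq_one (hgen : g (genericPoint X) = genericPoint Y)
    (hbir : IsIso (g.stalkMap (genericPoint X)))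
    (hV : ∃ W : X.Opens, genericPoint X ∈ W ∧ IsOpenImmersion (W.ι ≫ g))
    (hY : ∀ y : Y, UniqueFactorizationMonoid (Y.presheaf.stalk y))
    (ξ : X) (hξ : ¬ ∃ W : X.Opens, ξ ∈ W ∧ IsOpenImmersion (W.ι ≫ g))
    (hmax : ∀ η : X, (¬ ∃ W : X.Opens, η ∈ W ∧ IsOpenImmersion (W.ι ≫ g)) → η ⤳ ξ → η = ξ) :
    ringKrullDim (X.presheaf.stalk ξ) = 1 := by
  classical
  have := hY (g ξ)
  let φ := g.stalkMap ξ
  have hnsurj : ¬ Function.Surjective φ.hom := fun h => hξ
    (exists_openImmersion_of_quasiFiniteAt hgen hbir hY ξ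
      (RingHom.QuasiFinite.of_finite (RingHom.Finite.of_surjective _ h)))
  obtain ⟨b, hb⟩ : ∃ b, ∀ a, φ.hom a ≠ b := by
    by_contra h; push Not at h; exact hnsurj h
  have hηξ : genericPoint X ⤳ ξ := (genericPoint_spec X).specializes trivial
  obtain ⟨z, hz⟩ := (ConcreteCategory.bijective_of_isIso (g.stalkMap (genericPoint X))).2
    (X.presheaf.stalkSpecializes hηξ b)
  have hgη : g (genericPoint X) ⤳ g ξ := hηξ.map g.continuous
  let : Algebra (Y.presheaf.stalk (g ξ)) (Y.presheaf.stalk (g (genericPoint X))) :=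
    (Y.presheaf.stalkSpecializes hgη).hom.toAlgebra
  have : IsFractionRing (Y.presheaf.stalk (g ξ)) (Y.presheaf.stalk (g (genericPoint X))) := by
    have key : ∀ (η : Y) (hη : η ⤳ g ξ), η = genericPoint Y →
        @IsFractionRing (Y.presheaf.stalk (g ξ)) _ (Y.presheaf.stalk η) _
          (Y.presheaf.stalkSpecializes hη).hom.toAlgebra := by
      rintro _ hη rfl
      exact inferInstanceAs (IsFractionRing (Y.presheaf.stalk (g ξ)) Y.functionField)
    exact key _ hgη hgen
  let : Field (Y.presheaf.stalk (g (genericPoint X))) :=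
    (IsFractionRing.toField (Y.presheaf.stalk (g ξ)))
  obtain ⟨a, s, has, hzas⟩ := IsFractionRing.exists_reduced_fraction (Y.presheaf.stalk (g ξ)) z
  have hXinj : Function.Injective (X.presheaf.stalkSpecializes hηξ).hom :=
    IsFractionRing.injective (X.presheaf.stalk ξ) X.functionField
  have hab : b * φ.hom (s : Y.presheaf.stalk (g ξ)) = φ.hom a := by
    have e : ∀ c, (X.presheaf.stalkSpecializes hηξ).hom (φ.hom c) =
        g.stalkMap (genericPoint X) (algebraMap _ _ c) := fun c =>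
      (ConcreteCategory.congr_hom (g.stalkSpecializes_stalkMap (genericPoint X) ξ hηξ) c).symm
    apply hXinj
    rw [map_mul, e, e]
    refine (congrArg (· * _) hz.symm).trans ?_
    rw [← map_mul, ← hzas]
    exact congrArg _ (IsLocalization.mk'_spec _ a s)
  have hloc : IsLocalHom φ.hom := inferInstance
  have hs : φ.hom (s : Y.presheaf.stalk (g ξ)) ∈ IsLocalRing.maximalIdeal (X.presheaf.stalk ξ) := by
    intro hu
    obtain ⟨u, hu'⟩ := isUnit_of_map_unit φ.hom (s : Y.presheaf.stalk (g ξ)) hu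
    refine hb (a * ↑u⁻¹) ?_
    rw [map_mul, ← hab, mul_assoc, ← map_mul, ← hu', Units.mul_inv, map_one, mul_one]
  have : IsNoetherianRing (X.presheaf.stalk ξ) := inferInstance
  obtain ⟨P, hP, hPm⟩ := Ideal.exists_minimalPrimes_le
    (show Ideal.span {φ.hom (s : Y.presheaf.stalk (g ξ))} ≤ IsLocalRing.maximalIdeal _ from
      (Ideal.span_singleton_le_iff_mem _).mpr hs)
  have hPprime : P.IsPrime := hP.1.1
  have hPh : P.height ≤ 1 := Ideal.height_le_one_of_isPrincipal_of_mem_minimalPrimes _ _ hP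
  rcases eq_or_ne P (IsLocalRing.maximalIdeal _) with rfl | hne
  · refine le_antisymm ?_ ?_
    · rw [← IsLocalRing.maximalIdeal_height_eq_ringKrullDim]
      exact_mod_cast hPh
    · rw [← IsLocalRing.maximalIdeal_height_eq_ringKrullDim]
      have hpos : (IsLocalRing.maximalIdeal (X.presheaf.stalk ξ)).height ≠ 0 := fun h0 => by
        have : ξ = genericPoint X := by
          by_contra hne
          have hfield : IsLocalRing.maximalIdeal (X.presheaf.stalk ξ) = ⊥ :=
            Ideal.height_eq_zero_iff_eq_bot.mp h0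
          have hs0 : φ.hom (s : Y.presheaf.stalk (g ξ)) = 0 := by
            have := hs
            rw [hfield] at this
            exact this
          have : (s : Y.presheaf.stalk (g ξ)) = 0 := by
            apply IsFractionRing.injective (Y.presheaf.stalk (g ξ)) (Y.presheaf.stalk (g (genericPoint X)))
            apply (ConcreteCategory.bijective_of_isIso (g.stalkMap (genericPoint X))).1
            refine ((ConcreteCategory.congr_hom
              (g.stalkSpecializes_stalkMap (genericPoint X) ξ hηξ) (s : Y.presheaf.stalk (g ξ)))).trans ?_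
            change (X.presheaf.stalkSpecializes hηξ).hom (φ.hom (s : Y.presheaf.stalk (g ξ))) = _
            rw [hs0, map_zero, map_zero, map_zero]
          exact nonZeroDivisors.coe_ne_zero s this
        exact hξ (this ▸ hV)
      exact_mod_cast Order.one_le_iff_pos.mpr (pos_iff_ne_zero.mpr hpos)
  · exfalso
    let Pp : Spec (X.presheaf.stalk ξ) := ⟨P, hPprime⟩
    let η := X.fromSpecStalk ξ Pp
    have hηξ' : η ⤳ ξ := by
      have : η ∈ Set.range (X.fromSpecStalk ξ) := ⟨Pp, rfl⟩
      rwa [Scheme.range_fromSpecStalk] at this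
    have hηne : η ≠ ξ := fun e => hne (by
      have h1 : η = X.fromSpecStalk ξ (IsLocalRing.closedPoint (X.presheaf.stalk ξ)) :=
        e.trans Scheme.fromSpecStalk_closedPoint.symm
      exact congrArg PrimeSpectrum.asIdeal ((X.fromSpecStalk ξ).isEmbedding.injective h1))
    obtain ⟨W, hηW, hW⟩ : ∃ W : X.Opens, η ∈ W ∧ IsOpenImmersion (W.ι ≫ g) := by
      by_contra h; exact hηne (hmax η h hηξ')
    have hiso : IsIso (g.stalkMap η) := by
      have h2 : IsIso ((W.ι ≫ g).stalkMap ⟨η, hηW⟩) := (IsOpenImmersion.iff_isIso_stalkMap.mp hW).2 _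
      have h3 : IsIso (W.ι.stalkMap ⟨η, hηW⟩) :=
        (IsOpenImmersion.iff_isIso_stalkMap.mp inferInstance).2 _
      have h4 : IsIso (g.stalkMap (W.ι ⟨η, hηW⟩) ≫ W.ι.stalkMap ⟨η, hηW⟩) :=
        (Scheme.Hom.stalkMap_comp W.ι g ⟨η, hηW⟩) ▸ h2
      exact IsIso.of_isIso_comp_right (g.stalkMap (W.ι ⟨η, hηW⟩)) (W.ι.stalkMap ⟨η, hηW⟩)
    let p : Spec (Y.presheaf.stalk (g ξ)) := Spec.map φ Pp
    have hp : Y.fromSpecStalk (g ξ) p = g η := by
      change (Spec.map φ ≫ Y.fromSpecStalk (g ξ)) Pp = (X.fromSpecStalk ξ ≫ g) Pp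
      rw [Scheme.SpecMap_stalkMap_fromSpecStalk]
    have hdim : (p.asIdeal.height : WithBot ℕ∞) ≤ 1 := by
      rw [← ringKrullDim_stalk_fromSpecStalk, hp,
        RingEquiv.ringKrullDim (asIso (g.stalkMap η)).commRingCatIsoToRingEquiv,
        ringKrullDim_stalk_fromSpecStalk]
      exact_mod_cast hPh
    have hps : (s : Y.presheaf.stalk (g ξ)) ∈ p.asIdeal :=
      hP.1.2 (Ideal.mem_span_singleton_self _)
    have hpa : a ∈ p.asIdeal := by
      change φ.hom a ∈ P
      rw [← hab]
      exact P.mul_mem_left _ hps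
    have hne0 : p.asIdeal ≠ ⊥ := fun h => by
      rw [h] at hps
      exact nonZeroDivisors.coe_ne_zero s hps
    obtain ⟨π, hπp, hπ⟩ := Ideal.IsPrime.exists_mem_prime_of_ne_bot p.2 hne0
    have heq : Ideal.span {π} = p.asIdeal := by
      have hle : Ideal.span {π} ≤ p.asIdeal := (Ideal.span_singleton_le_iff_mem _).mpr hπp
      have : (Ideal.span {π}).IsPrime := (Ideal.span_singleton_prime hπ.ne_zero).mpr hπ
      by_contra hne'
      have hlt := lt_of_le_of_ne hle hne'
      have h1 : (1 : ℕ∞) ≤ (Ideal.span {π}).height := by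
        refine Order.one_le_iff_pos.mpr (pos_iff_ne_zero.mpr fun h0 => ?_)
        have := Ideal.height_eq_zero_iff_eq_bot.mp h0
        exact hπ.ne_zero (Ideal.span_singleton_eq_bot.mp this)
      have : p.asIdeal.IsPrime := p.2
      have h2 := Ideal.height_add_one_le_of_lt_of_isPrime hlt
      have h3 : p.asIdeal.height ≤ 1 := WithBot.coe_le_coe.mp (by exact_mod_cast hdim)
      have h4 : (1 : ℕ∞) + 1 ≤ 1 := (add_le_add h1 le_rfl).trans (h2.trans h3)
      norm_num at h4
    have hdiv : ∀ c ∈ p.asIdeal, π ∣ c := fun c hc => by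
      rw [← heq] at hc; exact Ideal.mem_span_singleton.mp hc
    exact hπ.not_isUnit (has (hdiv a hpa) (hdiv _ hps))

theorem exists_maximal {x : X} (hx : ¬ ∃ W : X.Opens, x ∈ W ∧ IsOpenImmersion (W.ι ≫ g)) :
    ∃ ξ : X, (¬ ∃ W : X.Opens, ξ ∈ W ∧ IsOpenImmersion (W.ι ≫ g)) ∧
      ∀ η : X, (¬ ∃ W : X.Opens, η ∈ W ∧ IsOpenImmersion (W.ι ≫ g)) → η ⤳ ξ → η = ξ := by
  let T : Set X := {z | ¬ ∃ W : X.Opens, z ∈ W ∧ IsOpenImmersion (W.ι ≫ g)}
  have hT : IsClosed T := by
    rw [← isOpen_compl_iff, isOpen_iff_forall_mem_open]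
    intro z hz
    obtain ⟨W, hzW, hW⟩ := not_not.mp hz
    exact ⟨W, fun w hw => not_not.mpr ⟨W, hw, hW⟩, W.2, hzW⟩
  obtain ⟨Z, hZ, hxZ⟩ : ∃ Z ∈ irreducibleComponents T, (⟨x, hx⟩ : T) ∈ Z :=
    ⟨irreducibleComponent _, irreducibleComponent_mem_irreducibleComponents _, mem_irreducibleComponent⟩
  have hZc : IsClosed (Subtype.val '' Z : Set X) :=
    hT.isClosedEmbedding_subtypeVal.isClosedMap _ (isClosed_of_mem_irreducibleComponents Z hZ)
  have hZi : IsIrreducible (Subtype.val '' Z : Set X) :=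
    hZ.1.image _ continuous_subtype_val.continuousOn
  obtain ⟨ξ, hξ⟩ := QuasiSober.sober hZi hZc
  obtain ⟨ξ', hξZ, rfl⟩ := hξ.mem
  refine ⟨ξ'.1, ξ'.2, fun η hη hηξ => ?_⟩
  have hsub : Z ⊆ closure {(⟨η, hη⟩ : T)} := by
    intro w hw
    rw [← specializes_iff_mem_closure, subtype_specializes_iff]
    exact hηξ.trans (hξ.specializes ⟨w, hw, rfl⟩)
  have h2 : closure {(⟨η, hη⟩ : T)} ⊆ Z := hZ.2 isIrreducible_singleton.closure hsub
  have : ξ'.1 ⤳ η := hξ.specializes ⟨⟨η, hη⟩, h2 (subset_closure rfl), rfl⟩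
  exact (hηξ.antisymm this).eq

end Groth.Agent.H26.Purity
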