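import Groth.Agent.H26.BirationalZMT
import Groth.Agent.H75.RedSub
import Groth.Agent.H46.DvrScheme
import Mathlib.AlgebraicGeometry.Noetherian

/-!
# Extending sections to normal points
-/

universe u

open CategoryTheory CategoryTheory.Limits AlgebraicGeometry TopologicalSpace

namespace Groth.Agent.H26.SectionExtend

/-- Morphisms on opens agreeing on overlaps glue. -/
theorem exists_glue {X Y : Scheme.{u}} {ι : Type u} (U : ι → X.Opens)
    (f : ∀ i, (U i : Scheme.{u}) ⟶ Y)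
    (hf : ∀ i j, X.homOfLE (inf_le_left : U i ⊓ U j ≤ U i) ≫ f i =
      X.homOfLE (inf_le_right : U i ⊓ U j ≤ U j) ≫ f j) :
    ∃ g : ((⨆ i, U i : X.Opens) : Scheme.{u}) ⟶ Y,
      ∀ i, X.homOfLE (le_iSup U i) ≫ g = f i := by
  let 𝒰 := Scheme.Opens.iSupOpenCover U
  have h : ∀ i j : ι, pullback.fst (X.homOfLE (le_iSup U i)) (X.homOfLE (le_iSup U j)) ≫ f i =
      pullback.snd (X.homOfLE (le_iSup U i)) (X.homOfLE (le_iSup U j)) ≫ f j := by
    intro i j
    let a := pullback.fst (X.homOfLE (le_iSup U i)) (X.homOfLE (le_iSup U j))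
    let b := pullback.snd (X.homOfLE (le_iSup U i)) (X.homOfLE (le_iSup U j))
    have hab : a ≫ (U i).ι = b ≫ (U j).ι := by
      rw [← Scheme.homOfLE_ι X (le_iSup U i), ← Scheme.homOfLE_ι X (le_iSup U j)]
      exact congrArg (· ≫ (⨆ i, U i : X.Opens).ι) pullback.condition |>.trans (Category.assoc _ _ _)
        |> fun h => (Category.assoc _ _ _).symm.trans h
    let c := IsOpenImmersion.lift (U i ⊓ U j).ι (a ≫ (U i).ι) (by
      rw [Scheme.Opens.range_ι]
      rintro _ ⟨w, rfl⟩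
      refine ⟨?_, ?_⟩
      · rw [Scheme.Hom.comp_apply]; exact (a w).2
      · rw [hab, Scheme.Hom.comp_apply]; exact (b w).2)
    have hc : c ≫ (U i ⊓ U j).ι = a ≫ (U i).ι := IsOpenImmersion.lift_fac _ _ _
    have ha : a = c ≫ X.homOfLE inf_le_left := by
      rw [← cancel_mono (U i).ι, Category.assoc, Scheme.homOfLE_ι, hc]
    have hb : b = c ≫ X.homOfLE inf_le_right := by
      rw [← cancel_mono (U j).ι, Category.assoc, Scheme.homOfLE_ι, hc, hab]
    change a ≫ f i = b ≫ f j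
    rw [ha, hb, Category.assoc, Category.assoc, hf]
  exact ⟨𝒰.glueMorphisms f h, fun i => 𝒰.ι_glueMorphisms f h i⟩

/-- A point whose local ring is a domain has an integral open neighbourhood. -/
theorem exists_integral_nhd {X : Scheme.{u}} [IsLocallyNoetherian X] (x : X)
    [IsDomain (X.presheaf.stalk x)] :
    ∃ W : X.Opens, x ∈ W ∧ IsIntegral (W : Scheme.{u}) := by
  obtain ⟨_, ⟨V, hV, rfl⟩, hxV, -⟩ := X.isBasis_affineOpens.exists_subset_of_mem_open
    (Set.mem_univ x) isOpen_univ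
  have : IsNoetherianRing Γ(X, V) := IsLocallyNoetherian.component_noetherian ⟨V, hV⟩
  let := TopCat.Presheaf.algebra_section_stalk X.presheaf (⟨x, hxV⟩ : V)
  have := hV.isLocalization_stalk ⟨x, hxV⟩
  let M := (hV.primeIdealOf ⟨x, hxV⟩).asIdeal.primeCompl
  let P : Ideal Γ(X, V) := RingHom.ker (algebraMap Γ(X, V) (X.presheaf.stalk x))
  obtain ⟨gens, hgens⟩ := IsNoetherian.noetherian P
  have hk : ∀ g : Γ(X, V), g ∈ P → ∃ m : M, (m : Γ(X, V)) * g = 0 := fun g hg =>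
    (IsLocalization.map_eq_zero_iff M (X.presheaf.stalk x) g).mp hg
  classical
  choose! m hm using hk
  let t : Γ(X, V) := ∏ g ∈ gens, (m g : Γ(X, V))
  have ht : t ∈ M := Submonoid.prod_mem _ fun g _ => (m g).2
  have hann : ∀ p ∈ P, t * p = 0 := by
    intro p hp
    rw [← hgens] at hp
    induction hp using Submodule.span_induction with
    | mem g hg =>
      obtain ⟨t', ht'⟩ := Finset.dvd_prod_of_mem (fun g => (m g : Γ(X, V))) hg
      rw [show t = (m g : Γ(X, V)) * t' from ht', mul_right_comm,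
        hm g (hgens ▸ Submodule.subset_span hg), zero_mul]
    | zero => exact mul_zero _
    | add a b _ _ ha hb => rw [mul_add, ha, hb, add_zero]
    | smul c a _ ha => rw [smul_eq_mul, mul_left_comm, ha, mul_zero]
  let B := Localization.Away t
  let φ : B →+* X.presheaf.stalk x := IsLocalization.Away.lift t
    (g := algebraMap Γ(X, V) (X.presheaf.stalk x)) (IsLocalization.map_units _ (⟨t, ht⟩ : M))
  have hφ : Function.Injective φ := by
    rw [injective_iff_map_eq_zero]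
    intro z hz
    obtain ⟨a, ⟨_, n, rfl⟩, rfl⟩ := IsLocalization.exists_mk'_eq (Submonoid.powers t) z
    have h0 : algebraMap Γ(X, V) (X.presheaf.stalk x) a = 0 := by
      have h1 := congrArg φ (IsLocalization.mk'_spec B a (⟨t ^ n, n, rfl⟩ : Submonoid.powers t))
      rw [map_mul, hz, zero_mul] at h1
      rw [IsLocalization.Away.lift_eq] at h1
      exact h1.symm
    rw [IsLocalization.mk'_eq_zero_iff]
    exact ⟨⟨t, Submonoid.mem_powers t⟩, hann a h0⟩
  have : IsDomain B := hφ.isDomain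
  refine ⟨X.basicOpen t, ?_, ?_⟩
  · have : hV.primeIdealOf ⟨x, hxV⟩ ∈ hV.fromSpec ⁻¹ᵁ X.basicOpen t := by
      rw [hV.fromSpec_preimage_basicOpen]
      exact ht
    change hV.fromSpec (hV.primeIdealOf ⟨x, hxV⟩) ∈ X.basicOpen t at this
    rwa [hV.fromSpec_primeIdealOf ⟨x, hxV⟩] at this
  · let := (X.presheaf.map (homOfLE (X.basicOpen_le t)).op).hom.toAlgebra
    have : IsLocalization.Away t Γ(X, X.basicOpen t) := hV.isLocalization_basicOpen t
    have : IsDomain Γ(X, X.basicOpen t) :=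
      (IsLocalization.algEquiv (Submonoid.powers t) Γ(X, X.basicOpen t) B).toRingEquiv.toMulEquiv.isDomain B
    have : IsAffine (X.basicOpen t : Scheme.{u}) := hV.basicOpen t
    have : IsIntegral (Spec Γ(X, X.basicOpen t)) := inferInstance
    have : Nonempty (X.basicOpen t : Scheme.{u}) := by
      refine ⟨⟨x, ?_⟩⟩
      have : hV.primeIdealOf ⟨x, hxV⟩ ∈ hV.fromSpec ⁻¹ᵁ X.basicOpen t := by
        rw [hV.fromSpec_preimage_basicOpen]
        exact ht
      change hV.fromSpec (hV.primeIdealOf ⟨x, hxV⟩) ∈ X.basicOpen t at this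
      rwa [hV.fromSpec_primeIdealOf ⟨x, hxV⟩] at this
    exact isIntegral_of_isOpenImmersion (hV.basicOpen t).isoSpec.hom

/-- If a subset closed in an open contains no generization of `x`, its closure misses `x`. -/
theorem exists_nhd_subset {X : Scheme.{u}} [IsLocallyNoetherian X] (U : X.Opens) (O : Set X)
    (hO : IsOpen O) (x : X) (h : ∀ w ∈ U, w ⤳ x → w ∈ O) :
    ∃ V : X.Opens, x ∈ V ∧ ∀ w ∈ U, w ∈ V → w ∈ O := by
  obtain ⟨_, ⟨W, hW, rfl⟩, hxW, -⟩ := X.isBasis_affineOpens.exists_subset_of_mem_open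
    (Set.mem_univ x) isOpen_univ
  have : NoetherianSpace (W : Scheme.{u}) := by
    have : IsNoetherianRing Γ(X, W) := IsLocallyNoetherian.component_noetherian ⟨W, hW⟩
    exact hW.isoSpec.hom.homeomorph.isInducing.noetherianSpace
  let C : Set (W : Scheme.{u}) := Subtype.val ⁻¹' ((U : Set X) \ O)
  by_cases hx : (⟨x, hxW⟩ : (W : Scheme.{u})) ∈ closure C
  · exfalso
    obtain ⟨Zs, hfin, hclosed, hirr, hcl⟩ :=
      NoetherianSpace.exists_finite_set_isClosed_irreducible (isClosed_closure (s := C))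
    have hCsub : ∀ w ∈ C, w ∈ ⋃₀ Zs := fun w hw => hcl ▸ subset_closure hw
    have : closure C ⊆ ⋃₀ {Z ∈ Zs | (Z ∩ C).Nonempty} := by
      refine closure_minimal (fun w hw => ?_) ?_
      · obtain ⟨Z, hZ, hwZ⟩ := hCsub w hw
        exact ⟨Z, ⟨hZ, w, hwZ, hw⟩, hwZ⟩
      · rw [Set.sUnion_eq_biUnion]
        exact (hfin.subset fun Z hZ => hZ.1).isClosed_biUnion fun Z hZ => hclosed Z hZ.1
    obtain ⟨Z, ⟨hZ, hZC⟩, hxZ⟩ := this hx
    obtain ⟨η, hη⟩ := QuasiSober.sober (hirr Z hZ) (hclosed Z hZ)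
    obtain ⟨w, hwZ, hw⟩ := hZC
    have hηw : η ⤳ w := hη.specializes hwZ
    have hηU : η.1 ∈ U := (hηw.map continuous_subtype_val).mem_open U.2 hw.1
    have hηx : η.1 ⤳ x := (hη.specializes hxZ).map continuous_subtype_val
    have hηC : η ∈ closure C := hcl ▸ Set.mem_sUnion_of_mem hη.mem hZ
    have hsub : C ⊆ Subtype.val ⁻¹' Oᶜ := fun w hw => hw.2
    exact closure_minimal hsub (hO.isClosed_compl.preimage continuous_subtype_val) hηC (h η.1 hηU hηx)
  · let V : X.Opens := ⟨Subtype.val '' (closure C)ᶜ,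
      W.2.isOpenEmbedding_subtypeVal.isOpenMap _ isClosed_closure.isOpen_compl⟩
    refine ⟨V, ⟨⟨x, hxW⟩, hx, rfl⟩, ?_⟩
    rintro w hwU ⟨w', hw', rfl⟩
    by_contra hwO
    exact hw' (subset_closure ⟨hwU, hwO⟩)

/-- Monomorphic restrictions detect equality of lifts. -/
theorem eq_of_isIso_restrict {G W A : Scheme.{u}} (p : G ⟶ W) (U₁ : W.Opens) [IsIso (p ∣_ U₁)]
    {a b : A ⟶ G} (ha : ∀ w, p (a w) ∈ U₁) (hab : a ≫ p = b ≫ p) : a = b := by
  have hb : ∀ w, p (b w) ∈ U₁ := fun w => by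
    rw [← Scheme.Hom.comp_apply, ← hab, Scheme.Hom.comp_apply]; exact ha w
  let a' := IsOpenImmersion.lift (p ⁻¹ᵁ U₁).ι a
    (by rw [Scheme.Opens.range_ι]; rintro _ ⟨w, rfl⟩; exact ha w)
  let b' := IsOpenImmersion.lift (p ⁻¹ᵁ U₁).ι b
    (by rw [Scheme.Opens.range_ι]; rintro _ ⟨w, rfl⟩; exact hb w)
  have ea : a' ≫ (p ⁻¹ᵁ U₁).ι = a := IsOpenImmersion.lift_fac _ _ _
  have eb : b' ≫ (p ⁻¹ᵁ U₁).ι = b := IsOpenImmersion.lift_fac _ _ _
  have : a' = b' := by
    rw [← cancel_mono (p ∣_ U₁), ← cancel_mono U₁.ι, Category.assoc, Category.assoc,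
      morphismRestrict_ι, reassoc_of% ea, reassoc_of% eb, hab]
  rw [← ea, ← eb, this]

/-- A dense open contains a generization of every point, through which the graph extends. -/
theorem exists_generization {X : Scheme.{u}} (U : X.Opens) (hU : Dense (U : Set X)) (x : X)
    (W : X.Opens) (hxW : x ∈ W) [IsIntegral (W : Scheme.{u})] :
    ∃ η ∈ U, η ∈ W ∧ ∀ w ∈ W, η ⤳ w := by
  obtain ⟨y, hyW, hyU⟩ := hU.inter_open_nonempty W W.2 ⟨x, hxW⟩
  let η := genericPoint (W : Scheme.{u})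
  have h : ∀ w : (W : Scheme.{u}), η.1 ⤳ w.1 := fun w =>
    ((genericPoint_spec (W : Scheme.{u})).specializes trivial).map continuous_subtype_val
  exact ⟨η.1, (h ⟨y, hyW⟩).mem_open U.2 hyU, η.2, fun w hw => h ⟨w, hw⟩⟩

/-- A section over a dense open extends to a normal point `x` when it lands near `x` in a separated
open `Y₁` in which `y₀` is isolated among the limits of the section in the fibre over `x`. -/
theorem exists_extension {X Y : Scheme.{u}} [IsLocallyNoetherian X] (q : Y ⟶ X)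
    [LocallyOfFiniteType q] (U : X.Opens) (hU : Dense (U : Set X)) (h : (U : Scheme.{u}) ⟶ Y)
    (hh : h ≫ q = U.ι) (x : X) [IsDomain (X.presheaf.stalk x)]
    (hx : IsIntegrallyClosed (X.presheaf.stalk x))
    (Y₁ : Y.Opens) [IsSeparated (Y₁.ι ≫ q)] (y₀ : Y) (hy₁ : y₀ ∈ Y₁) (hy₀ : q y₀ = x)
    (hgen : ∀ w : (U : Scheme.{u}), w.1 ⤳ x → h w ∈ Y₁)
    (hcl : ∀ w : (U : Scheme.{u}), (∀ w' : (U : Scheme.{u}), w'.1 ⤳ x → w.1 ⤳ w'.1) → w.1 ⤳ x →
      h w ⤳ y₀)
    (hiso : ∃ N : Y.Opens, y₀ ∈ N ∧ ∀ w : (U : Scheme.{u}), w.1 ⤳ x → ∀ y, y ∈ N → y ∈ Y₁ → q y = x →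
      h w ⤳ y → y = y₀) :
    ∃ (U₁ : X.Opens) (s : (U₁ : Scheme.{u}) ⟶ Y) (hx₁ : x ∈ U₁), s ≫ q = U₁.ι ∧ s ⟨x, hx₁⟩ = y₀ ∧
      X.homOfLE (inf_le_right : U ⊓ U₁ ≤ U₁) ≫ s = X.homOfLE (inf_le_left : U ⊓ U₁ ≤ U) ≫ h := by
  classical
  obtain ⟨W₀, hxW₀, hW₀⟩ := exists_integral_nhd x
  obtain ⟨V, hxV, hV⟩ := exists_nhd_subset U (Subtype.val '' (h ⁻¹' (Y₁ : Set Y)))
    (U.2.isOpenEmbedding_subtypeVal.isOpenMap _ (Y₁.2.preimage h.continuous)) x
    (fun w hw hwx => ⟨⟨w, hw⟩, hgen ⟨w, hw⟩ hwx, rfl⟩)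
  let W : X.Opens := W₀ ⊓ V
  have hxW : x ∈ W := ⟨hxW₀, hxV⟩
  have : Nonempty (W : Scheme.{u}) := ⟨⟨x, hxW⟩⟩
  have : IsIntegral (W : Scheme.{u}) :=
    isIntegral_of_isOpenImmersion (X.homOfLE (inf_le_left : W ≤ W₀))
  obtain ⟨η, hηU, hηW, hηgen⟩ := exists_generization U hU x W hxW
  let UW : X.Opens := U ⊓ W
  have : Nonempty (UW : Scheme.{u}) := ⟨⟨η, hηU, hηW⟩⟩
  have : IsIntegral (UW : Scheme.{u}) :=
    isIntegral_of_isOpenImmersion (X.homOfLE (inf_le_right : UW ≤ W))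
  let hW := X.homOfLE (inf_le_left : UW ≤ U) ≫ h
  have hWq : hW ≫ q = UW.ι := by
    simp only [hW, Category.assoc, hh, Scheme.homOfLE_ι]
    rfl
  let Y' : Y.Opens := Y₁ ⊓ q ⁻¹ᵁ W
  have hY' : Set.range hW ⊆ Set.range Y'.ι := by
    rw [Scheme.Opens.range_ι]
    rintro _ ⟨w, rfl⟩
    refine ⟨?_, ?_⟩
    · obtain ⟨w', hw', hw''⟩ := hV w.1 w.2.1 w.2.2.2
      have : X.homOfLE (inf_le_left : UW ≤ U) w = w' := Subtype.ext (by
        change (X.homOfLE (inf_le_left : UW ≤ U) ≫ U.ι) w = w'.1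
        rw [Scheme.homOfLE_ι, hw'']
        rfl)
      change h (X.homOfLE (inf_le_left : UW ≤ U) w) ∈ Y₁
      rw [this]; exact hw'
    · change q (hW w) ∈ W
      rw [← Scheme.Hom.comp_apply, hWq]
      exact w.2.2
  let j := IsOpenImmersion.lift Y'.ι hW hY'
  have hj : j ≫ Y'.ι = hW := IsOpenImmersion.lift_fac _ _ _
  let qW : (Y' : Scheme.{u}) ⟶ W := q.resLE W Y' inf_le_right
  have hjq : j ≫ qW = X.homOfLE (inf_le_right : UW ≤ W) := by
    rw [← cancel_mono W.ι, Category.assoc, Scheme.Hom.resLE_comp_ι, reassoc_of% hj, hWq,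
      Scheme.homOfLE_ι]
  have : IsSeparated (qW ≫ W.ι) := by
    rw [Scheme.Hom.resLE_comp_ι, ← Scheme.homOfLE_ι Y (inf_le_left : Y' ≤ Y₁), Category.assoc]
    infer_instance
  have : IsSeparated qW := IsSeparated.of_comp qW W.ι
  have : IsImmersion (j ≫ qW) := by rw [hjq]; infer_instance
  have : IsImmersion j := IsImmersion.of_comp j qW
  obtain ⟨G, l, i, hl, hi, hG, hrange, hli⟩ := Groth.Agent.H75.RedSub.exists_factor j
  let p := i ≫ qW
  have hlp : l ≫ p = X.homOfLE (inf_le_right : UW ≤ W) := by rw [reassoc_of% hli, hjq]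
  have hdl : DenseRange l := fun g => by
    rw [i.isEmbedding.isInducing.closure_eq_preimage_closure_image, Set.mem_preimage,
      ← Set.range_comp, ← TopCat.coe_comp, ← Scheme.Hom.comp_base, hli, ← hrange]
    exact Set.mem_range_self g
  have : IrreducibleSpace G := by
    have h1 := ((IrreducibleSpace.isIrreducible_univ (UW : Scheme.{u})).image l
      l.continuous.continuousOn).closure
    rw [Set.image_univ, hdl.closure_range] at h1
    exact irreducibleSpace_def _ |>.mpr h1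
  have : IsIntegral G := isIntegral_of_irreducibleSpace_of_isReduced _
  have hηl : l (genericPoint (UW : Scheme.{u})) = genericPoint G :=
    genericPoint_eq_of_isOpenImmersion l
  have hgen' : p (genericPoint G) = genericPoint (W : Scheme.{u}) := by
    rw [← hηl, ← Scheme.Hom.comp_apply, hlp]
    exact genericPoint_eq_of_isOpenImmersion _
  have hbir : IsIso (p.stalkMap (genericPoint G)) := by
    have h1 : IsIso ((l ≫ p).stalkMap (genericPoint (UW : Scheme.{u}))) := by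
      have : IsOpenImmersion (l ≫ p) := by rw [hlp]; infer_instance
      exact (IsOpenImmersion.iff_isIso_stalkMap.mp this).2 _
    have h2 : IsIso (l.stalkMap (genericPoint (UW : Scheme.{u}))) :=
      (IsOpenImmersion.iff_isIso_stalkMap.mp inferInstance).2 _
    have h3 : IsIso (p.stalkMap (l (genericPoint (UW : Scheme.{u}))) ≫
        l.stalkMap (genericPoint (UW : Scheme.{u}))) :=
      (Scheme.Hom.stalkMap_comp l p (genericPoint (UW : Scheme.{u}))) ▸ h1
    have h4 := IsIso.of_isIso_comp_right (p.stalkMap (l (genericPoint (UW : Scheme.{u}))))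
      (l.stalkMap (genericPoint (UW : Scheme.{u})))
    rwa [hηl] at h4
  let w₀ : (U : Scheme.{u}) := X.homOfLE (inf_le_left : UW ≤ U) (genericPoint (UW : Scheme.{u}))
  have hw₀ : w₀.1 = (genericPoint (UW : Scheme.{u})).1 := by
    change (X.homOfLE (inf_le_left : UW ≤ U) ≫ U.ι) (genericPoint (UW : Scheme.{u})) = _
    rw [Scheme.homOfLE_ι]
    rfl
  have hw₀gen : ∀ v ∈ W, w₀.1 ⤳ v := fun v hv => by
    rw [hw₀]
    exact (((genericPoint_spec (UW : Scheme.{u})).specializes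
      (show (⟨η, hηU, hηW⟩ : (UW : Scheme.{u})) ∈ _ from trivial)).map continuous_subtype_val).trans
      (hηgen v hv)
  have hw₀x : w₀.1 ⤳ x := hw₀gen x hxW
  have hw₀cl : h w₀ ⤳ y₀ := hcl w₀ (fun w' hw' => hw₀gen w'.1 (hw'.mem_open W.2 hxW)) hw₀x
  let y₀' : (Y' : Scheme.{u}) := ⟨y₀, hy₁, show q y₀ ∈ W by rw [hy₀]; exact hxW⟩
  obtain ⟨g₀, hg₀⟩ : y₀' ∈ Set.range i := by
    rw [hrange, Y'.ι.isEmbedding.isInducing.closure_eq_preimage_closure_image, Set.mem_preimage,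
      ← Set.range_comp, ← TopCat.coe_comp, ← Scheme.Hom.comp_base, hj]
    exact hw₀cl.mem_closed isClosed_closure (subset_closure ⟨genericPoint (UW : Scheme.{u}), rfl⟩)
  have hpg : p g₀ = ⟨x, hxW⟩ := by
    apply Subtype.ext
    change (qW ≫ W.ι) (i g₀) = x
    rw [Scheme.Hom.resLE_comp_ι, hg₀]
    exact hy₀
  have hy : IsIntegrallyClosed ((W : Scheme.{u}).presheaf.stalk (p g₀)) := by
    rw [hpg]
    exact IsIntegrallyClosed.of_equiv (W.stalkIso ⟨x, hxW⟩).commRingCatIsoToRingEquiv.symm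
  have hqf : p.QuasiFiniteAt g₀ := by
    rw [Scheme.Hom.quasiFiniteAt_iff_isOpen_singleton_asFiber]
    obtain ⟨N, hyN, hN⟩ := hiso
    let m := p.fiberι (p g₀) ≫ i ≫ Y'.ι
    have : ({p.asFiber g₀} : Set (p.fiber (p g₀))) = m ⁻¹' (N : Set Y) := by
      ext v
      constructor
      · rintro rfl
        rw [Set.mem_preimage]
        simp only [m, Scheme.Hom.comp_apply, p.fiberι_asFiber, hg₀]
        exact hyN
      · intro hv
        apply (p.fiberι (p g₀)).isEmbedding.injective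
        apply i.isEmbedding.injective
        apply Subtype.ext
        rw [p.fiberι_asFiber, hg₀]
        have h1 : p (p.fiberι (p g₀) v) = p g₀ := by
          have : p.fiberι (p g₀) v ∈ Set.range (p.fiberι (p g₀)) := Set.mem_range_self v
          rwa [Scheme.Hom.range_fiberι] at this
        refine hN w₀ hw₀x _ hv (i (p.fiberι (p g₀) v)).2.1 ?_ ?_
        · have h2 := congrArg Subtype.val (h1.trans hpg)
          change (qW ≫ W.ι) (i (p.fiberι (p g₀) v)) = x at h2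
          rw [Scheme.Hom.resLE_comp_ι] at h2
          exact h2
        · have hspec : genericPoint G ⤳ p.fiberι (p g₀) v := (genericPoint_spec G).specializes trivial
          have h3 := hspec.map (i ≫ Y'.ι).continuous
          rw [← hηl, ← Scheme.Hom.comp_apply, reassoc_of% hli, hj] at h3
          exact h3
    rw [this]
    exact N.2.preimage m.continuous
  obtain ⟨U₁', hxU₁', hiso₁⟩ :=
    Groth.Agent.H26.BirationalZMT.exists_isIso_morphismRestrict p hgen' hbir g₀ hy hqf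
  rw [hpg] at hxU₁'
  let U₁ : X.Opens := W.ι ''ᵁ U₁'
  let e : (U₁' : Scheme.{u}) ≅ (U₁ : Scheme.{u}) := W.ι.isoImage U₁'
  let s₀ : (U₁ : Scheme.{u}) ⟶ G := e.inv ≫ inv (p ∣_ U₁') ≫ (p ⁻¹ᵁ U₁').ι
  have hs₀ : s₀ ≫ p ≫ W.ι = U₁.ι := by
    simp only [s₀, Category.assoc]
    rw [← morphismRestrict_ι_assoc, IsIso.inv_hom_id_assoc]
    simp [e]
    rfl
  refine ⟨U₁, s₀ ≫ i ≫ Y'.ι, ⟨⟨x, hxW⟩, hxU₁', rfl⟩, ?_, ?_, ?_⟩
  · rw [← hs₀]
    simp only [p, qW, Category.assoc, Scheme.Hom.resLE_comp_ι]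
  · let xx : (U₁ : Scheme.{u}) := ⟨x, ⟨⟨x, hxW⟩, hxU₁', rfl⟩⟩
    have h1 : p (s₀ xx) = ⟨x, hxW⟩ := by
      apply Subtype.ext
      change (s₀ ≫ p ≫ W.ι) xx = x
      rw [hs₀]; rfl
    have h2 : s₀ xx = g₀ := by
      have hm := (ConcreteCategory.bijective_of_isIso (p ∣_ U₁').base).1
        (a₁ := (⟨s₀ xx, show p (s₀ xx) ∈ U₁' by rw [h1]; exact hxU₁'⟩ : p ⁻¹ᵁ U₁'))
        (a₂ := ⟨g₀, show p g₀ ∈ U₁' by rw [hpg]; exact hxU₁'⟩)
        (Subtype.ext (((morphismRestrict_base_coe p U₁'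
          (⟨s₀ xx, show p (s₀ xx) ∈ U₁' by rw [h1]; exact hxU₁'⟩ : p ⁻¹ᵁ U₁')).trans
            (h1.trans hpg.symm)).trans (morphismRestrict_base_coe p U₁'
          (⟨g₀, show p g₀ ∈ U₁' by rw [hpg]; exact hxU₁'⟩ : p ⁻¹ᵁ U₁')).symm))
      exact congrArg Subtype.val hm
    change Y'.ι (i (s₀ xx)) = y₀
    rw [h2, hg₀]
    rfl
  · have hle : U ⊓ U₁ ≤ UW := by
      rintro z ⟨hzU, z', -, rfl⟩
      exact ⟨hzU, z'.2⟩
    have hab : X.homOfLE (inf_le_right : U ⊓ U₁ ≤ U₁) ≫ s₀ = X.homOfLE hle ≫ l := by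
      refine eq_of_isIso_restrict p U₁' (fun w => ?_) ?_
      · obtain ⟨w', hw', hww⟩ := w.2.2
        have : p ((X.homOfLE (inf_le_right : U ⊓ U₁ ≤ U₁) ≫ s₀) w) = w' := by
          apply Subtype.ext
          change ((X.homOfLE (inf_le_right : U ⊓ U₁ ≤ U₁) ≫ s₀) ≫ p ≫ W.ι) w = _
          rw [Category.assoc, hs₀, Scheme.homOfLE_ι]
          exact hww.symm
        rw [this]; exact hw'
      · rw [← cancel_mono W.ι]
        simp only [Category.assoc, hlp, hs₀, Scheme.homOfLE_ι]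
        exact (Scheme.homOfLE_ι X hle).symm
    rw [← Category.assoc, hab, Category.assoc, reassoc_of% hli, hj]
    simp only [hW, Scheme.homOfLE_homOfLE_assoc]

end Groth.Agent.H26.SectionExtend
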