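import Groth.Agent.H26.BigOpen
import Groth.Agent.Lib.ParaF.ResBij
import Groth.Agent.Lib.RefHull.HomSh
import Groth.Agent.Lib.RefHull.Reflexive
import Groth.Agent.Lib.TensorMod.Basis
import Groth.Agent.Lib.Modules.FreeStalk
import Groth.Prelude.Def_ExtPow2
import Mathlib.LinearAlgebra.ExteriorPower.Basis

/-!
# Extension of duals across big opens; top exterior powers of free modules
-/

universe u

open CategoryTheory AlgebraicGeometry TopologicalSpace Opposite

namespace Groth.Agent.H26.DetExtend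

open Groth.Agent.Lib Groth.Agent.Lib.TensorMod.Dual Groth.Agent.Lib.RefHull.SecHom
open Groth.Agent.Lib.ParaF.ResBij

variable {X : Scheme.{u}} {U : X.Opens}

/-- If functions extend uniquely across the complement of `U`, so do sections of any dual. -/
theorem resBij_dual
    (hO : ∀ V : X.Opens, Function.Bijective (X.presheaf.map (homOfLE (inf_le_left : V ⊓ U ≤ V)).op))
    (M : X.Modules) : ResBij U (RefHull.dual M) := by
  intro W
  refine ⟨fun g g' h => ?_, fun g => ?_⟩
  · refine Subtype.ext (funext fun y => LinearMap.ext fun v => ?_)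
    obtain ⟨O, hyO, m, rfl⟩ := TopCat.Presheaf.exists_germ_eq M.presheaf v
    let V := W ⊓ O
    have hV : V ≤ W := inf_le_left
    suffices e : app g hV (rs M (inf_le_right : V ≤ O) m) = app g' hV (rs M inf_le_right m) by
      have e1 := congrArg ((Coh.structureModule X).presheaf.germ V y.1 ⟨y.2, hyO⟩) e
      rwa [germ_app, germ_app, germ_rs] at e1
    refine (hO V).1 (sec_ext (M := Coh.structureModule X) fun z hz => ?_)
    have hz' : z ∈ V := hz.1
    show (Coh.structureModule X).presheaf.germ (V ⊓ U) z hz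
        (rs (Coh.structureModule X) inf_le_left (app g hV _)) =
      (Coh.structureModule X).presheaf.germ (V ⊓ U) z hz
        (rs (Coh.structureModule X) inf_le_left (app g' hV _))
    rw [germ_rs, germ_rs, germ_app, germ_app]
    have e2 := congrFun (congrArg Subtype.val h) ⟨z, ⟨hV hz', hz.2⟩⟩
    exact LinearMap.congr_fun e2 _
  · -- values on sections
    have hT : ∀ (V : X.Opens) (hV : V ≤ W) (m : Γ(M, V)), ∃ n : Γ(Coh.structureModule X, V),
        rs (Coh.structureModule X) (inf_le_left : V ⊓ U ≤ V) n =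
          app g (inf_le_inf_right U hV) (rs M inf_le_left m) := fun V hV m => (hO V).2 _
    choose T hT using hT
    have huniq : ∀ (V : X.Opens) (a b : Γ(Coh.structureModule X, V)),
        rs (Coh.structureModule X) (inf_le_left : V ⊓ U ≤ V) a =
          rs (Coh.structureModule X) inf_le_left b → a = b := fun V a b h => (hO V).1 h
    have hTres : ∀ (V V' : X.Opens) (hV : V ≤ W) (hV' : V' ≤ V) (m : Γ(M, V)),
        T V' (hV'.trans hV) (rs M hV' m) = rs (Coh.structureModule X) hV' (T V hV m) := by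
      intro V V' hV hV' m
      apply huniq
      rw [hT, rs_rs]
      refine sec_ext fun z hz => ?_
      have e := congrArg ((Coh.structureModule X).presheaf.germ (V ⊓ U) z ⟨hV' hz.1, hz.2⟩) (hT V hV m)
      simp only [germ_rs, germ_app] at e ⊢
      rw [e]
    have hTadd : ∀ (V : X.Opens) (hV : V ≤ W) (m m' : Γ(M, V)),
        T V hV (m + m') = T V hV m + T V hV m' := fun V hV m m' => huniq V _ _ (by
      show rs _ _ _ = (Coh.structureModule X).presheaf.map _ (T V hV m + T V hV m')
      rw [map_add, hT]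
      show app g _ (M.presheaf.map _ (m + m')) = _
      rw [map_add, map_add]
      exact congrArg₂ (· + ·) (hT V hV m).symm (hT V hV m').symm)
    have hTsmul : ∀ (V : X.Opens) (hV : V ≤ W) (r : Γ(X, V)) (m : Γ(M, V)),
        T V hV (r • m) = r • T V hV m := fun V hV r m => huniq V _ _ (by
      rw [hT, rs_smul, rs_smul, map_smul, hT])
    -- the stalk maps
    have hval : ∀ (y : W) (v : M.presheaf.stalk y.1), ∃ (V : X.Opens) (hV : V ≤ W) (hy : y.1 ∈ V)
        (m : Γ(M, V)), M.presheaf.germ V y.1 hy m = v := fun y v => by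
      obtain ⟨O, hyO, m, rfl⟩ := TopCat.Presheaf.exists_germ_eq M.presheaf v
      exact ⟨W ⊓ O, inf_le_left, ⟨y.2, hyO⟩, rs M inf_le_right m, germ_rs (M := M) _ _ m⟩
    choose Vv hVv hyv mv hmv using hval
    let F : ∀ y : W, M.presheaf.stalk y.1 → (Coh.structureModule X).presheaf.stalk y.1 := fun y v =>
      (Coh.structureModule X).presheaf.germ (Vv y v) y.1 (hyv y v) (T _ (hVv y v) (mv y v))
    have hF : ∀ (y : W) (V : X.Opens) (hV : V ≤ W) (hy : y.1 ∈ V) (m : Γ(M, V)),
        F y (M.presheaf.germ V y.1 hy m) =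
          (Coh.structureModule X).presheaf.germ V y.1 hy (T V hV m) := by
      intro y V hV hy m
      set v := M.presheaf.germ V y.1 hy m with hv
      obtain ⟨Z, hyZ, i, j, e⟩ := TopCat.Presheaf.germ_eq M.presheaf y.1 (hyv y v) hy (mv y v) m
        ((hmv y v).trans hv)
      have e' : rs M i.le (mv y v) = rs M j.le m := e
      have e2 : rs (Coh.structureModule X) i.le (T _ (hVv y v) (mv y v)) =
          rs (Coh.structureModule X) j.le (T V hV m) := by
        rw [← hTres, ← hTres]
        exact congrArg _ e'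
      have e3 := congrArg ((Coh.structureModule X).presheaf.germ Z y.1 hyZ) e2
      rwa [germ_rs, germ_rs] at e3
    have hcommon : ∀ (y : W) (v w : M.presheaf.stalk y.1), ∃ (V : X.Opens) (hV : V ≤ W) (hy : y.1 ∈ V)
        (m n : Γ(M, V)), M.presheaf.germ V y.1 hy m = v ∧ M.presheaf.germ V y.1 hy n = w := fun y v w =>
      ⟨Vv y v ⊓ Vv y w, inf_le_left.trans (hVv y v), ⟨hyv y v, hyv y w⟩,
        rs M inf_le_left (mv y v), rs M inf_le_right (mv y w),
        (germ_rs (M := M) _ _ _).trans (hmv y v), (germ_rs (M := M) _ _ _).trans (hmv y w)⟩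
    let f : ∀ y : W, RefHull.StalkHom M (Coh.structureModule X) y.1 := fun y =>
      { toFun := F y
        map_add' := fun v w => by
          obtain ⟨V, hV, hy, m, n, rfl, rfl⟩ := hcommon y v w
          rw [← map_add, hF _ V hV, hF _ V hV, hF _ V hV, hTadd, map_add]
        map_smul' := fun a v => by
          obtain ⟨O, hyO, r, rfl⟩ := TopCat.Presheaf.exists_germ_eq X.presheaf a
          obtain ⟨V, hV, hy, m, -, rfl, -⟩ := hcommon y v v
          have hy' : y.1 ∈ V ⊓ O := ⟨hy, hyO⟩
          have e : X.presheaf.germ O y.1 hyO r • M.presheaf.germ V y.1 hy m =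
              M.presheaf.germ (V ⊓ O) y.1 hy' (rf (inf_le_right : V ⊓ O ≤ O) r • rs M (inf_le_left : V ⊓ O ≤ V) m) := by
            rw [Mero.germ_smul, germ_rs, germ_rf]
          rw [RingHom.id_apply, e, hF _ _ (inf_le_left.trans hV), hTsmul, Mero.germ_smul, germ_rf,
            ← germ_rs (M := M) (inf_le_left : V ⊓ O ≤ V) hy' m, hF _ _ (inf_le_left.trans hV)] }
    have hloc : RefHull.IsLocSect M (Coh.structureModule X) f := fun V i m x =>
      ⟨V, x.2, 𝟙 V, T V i.le m, fun y => hF _ V i.le y.2 m⟩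
    refine ⟨⟨f, hloc⟩, Subtype.ext (funext fun y => LinearMap.ext fun v => ?_)⟩
    obtain ⟨V, hV, hy, m, -, rfl, -⟩ := hcommon ⟨y.1, y.2.1⟩ v v
    show F ⟨y.1, y.2.1⟩ (M.presheaf.germ V y.1 hy m) = g.1 y (M.presheaf.germ V y.1 hy m)
    rw [hF _ V hV hy m]
    have e := congrArg ((Coh.structureModule X).presheaf.germ (V ⊓ U) y.1 ⟨hy, y.2.2⟩) (hT V hV m)
    rw [germ_rs, germ_app, germ_rs] at e
    exact e

/-- The top exterior power of a free module is free on the product of a basis. -/
theorem bijective_smul_ιMulti {R M : Type u} [CommRing R] [AddCommGroup M] [Module R M] {n : ℕ}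
    (b : Module.Basis (Fin n) R M) :
    Function.Bijective fun r : R => r • exteriorPower.ιMulti R n (⇑b) := by
  have hs : ∀ s : Set.powersetCard (Fin n) n,
      exteriorPower.ιMulti_family R n b s = exteriorPower.ιMulti R n (⇑b) := fun s => by
    rw [exteriorPower.ιMulti_family]
    congr 1
    funext i
    have : (Set.powersetCard.ofFinEmbEquiv.symm s : Fin n → Fin n) = id :=
      ((Set.powersetCard.ofFinEmbEquiv.symm s).strictMono.range_inj strictMono_id).mp (by
        rw [Set.range_id, Set.range_eq_univ]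
        exact Finite.injective_iff_surjective.mp (Set.powersetCard.ofFinEmbEquiv.symm s).injective)
    rw [Function.comp_apply, this]
    rfl
  let s₀ : Set.powersetCard (Fin n) n := ⟨Finset.univ, by simp [Set.powersetCard.mem_iff]⟩
  refine ⟨fun r r' h => ?_, fun z => ?_⟩
  · have := congrArg (exteriorPower.ιMultiDual R n b s₀) h
    simp only [map_smul, ← hs s₀, exteriorPower.ιMultiDual_apply_diag, smul_eq_mul, mul_one] at this
    exact this
  · refine ⟨∑ s, (b.exteriorPower n).repr z s, ?_⟩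
    conv_rhs => rw [← (b.exteriorPower n).sum_repr z]
    change (∑ s, (b.exteriorPower n).repr z s) • exteriorPower.ιMulti R n (⇑b) = _
    rw [Finset.sum_smul]
    exact Finset.sum_congr rfl fun s _ => by rw [exteriorPower.basis_apply, hs]

variable {L : X.Modules}

/-- Biduality is bijective where the module is freely generated by one section. -/
theorem bijective_bidual_app {A : X.Opens} (ℓ : Γ(L, A))
    (hst : ∀ y (hy : y ∈ A), Function.Bijective fun a : X.presheaf.stalk y =>
      a • L.presheaf.germ A y hy ℓ)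
    {V : X.Opens} (hV : V ≤ A) : Function.Bijective ((RefHull.bidualMap L).app V) := by
  let e := fun (y : V) => LinearEquiv.ofBijective
    (LinearMap.toSpanSingleton (X.presheaf.stalk y.1) (L.presheaf.stalk y.1)
      (L.presheaf.germ A y.1 (hV y.2) ℓ)) (hst y.1 (hV y.2))
  let o := fun (y : X) => (Groth.Agent.Lib.RefHull.Reflexive.oEquiv (X := X) y).symm
  let θ : ∀ y : V, RefHull.StalkHom L (Coh.structureModule X) y.1 := fun y =>
    (o y.1).toLinearMap.comp (e y).symm.toLinearMap
  have ho : ∀ (W : X.Opens) (y : X) (hy : y ∈ W) (r : Γ(X, W)),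
      o y (X.presheaf.germ W y hy r) = (Coh.structureModule X).presheaf.germ W y hy r := fun W y hy r => by
    show AssPt.Basic.unitStalkEquiv y (X.presheaf.germ W y hy r) = _
    show X.presheaf.germ W y hy r • (Coh.structureModule X).presheaf.germ ⊤ y trivial (1 : Γ(X, ⊤)) = _
    rw [← germ_rs (M := Coh.structureModule X) (le_top : W ≤ ⊤) hy (1 : Γ(X, ⊤)),
      show rs (Coh.structureModule X) (le_top : W ≤ ⊤) (1 : Γ(X, ⊤)) = (1 : Γ(X, W)) from
        map_one (X.presheaf.map (homOfLE (le_top : W ≤ ⊤)).op).hom]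
    exact AssPt.Basic.unitStalk_germ_smul_one y hy r
  have hθ : RefHull.IsLocSect L (Coh.structureModule X) θ := by
    intro O i m x
    obtain ⟨a, ha⟩ := (hst x.1 (hV (i.le x.2))).2 (L.presheaf.germ O x.1 x.2 m)
    obtain ⟨W, hxW, r, rfl⟩ := TopCat.Presheaf.exists_germ_eq X.presheaf a
    have hx' : x.1 ∈ O ⊓ W := ⟨x.2, hxW⟩
    have hle : O ⊓ W ≤ A := inf_le_left.trans (i.le.trans hV)
    obtain ⟨Z, hxZ, j, j', hj⟩ := TopCat.Presheaf.germ_eq L.presheaf x.1 hx' x.2
      (rf (inf_le_right : O ⊓ W ≤ W) r • rs L hle ℓ) m (by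
      rw [Mero.germ_smul, germ_rs, germ_rf]; exact ha)
    refine ⟨Z, hxZ, j', rf (j.le.trans inf_le_right) r, fun y => ?_⟩
    have e1 := congrArg (L.presheaf.germ Z y.1 y.2) hj
    erw [TopCat.Presheaf.germ_res_apply, TopCat.Presheaf.germ_res_apply] at e1
    rw [Mero.germ_smul, germ_rs, germ_rf] at e1
    rw [← e1]
    let yV : V := ⟨y.1, i.le (j'.le y.2)⟩
    show o y.1 ((e yV).symm _) = _
    rw [show (e yV).symm (X.presheaf.germ W y.1 (j.le y.2).2 r • L.presheaf.germ A y.1 (hV yV.2) ℓ) =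
      X.presheaf.germ W y.1 (j.le y.2).2 r from (e yV).symm_apply_apply _, ← germ_rf (j.le.trans inf_le_right)]
    exact ho _ _ _ _
  let θs : Γ(RefHull.dual L, V) := ⟨θ, hθ⟩
  have hgen : ∀ (y : V), θ y (L.presheaf.germ A y.1 (hV y.2) ℓ) = o y.1 1 := fun y => by
    show o y.1 ((e y).symm _) = _
    congr 1
    rw [LinearEquiv.symm_apply_eq]
    exact (one_smul (X.presheaf.stalk y.1) _).symm
  refine ⟨?_, fun ξ => ?_⟩
  · rw [injective_iff_map_eq_zero]
    intro s hs
    refine sec_ext fun y hy => ?_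
    rw [map_zero]
    obtain ⟨a, ha⟩ := (hst y (hV hy)).2 (L.presheaf.germ V y hy s)
    have h1 := LinearMap.congr_fun (congrFun (congrArg Subtype.val hs) ⟨y, hy⟩)
      ((RefHull.dual L).presheaf.germ V y hy θs)
    have h2 : θ ⟨y, hy⟩ (L.presheaf.germ V y hy s) = 0 := by
      have h3 : RefHull.evalStalk L (Coh.structureModule X) y ((RefHull.dual L).presheaf.germ V y hy θs)
          (L.presheaf.germ V y hy s) = 0 := h1
      rw [RefHull.evalStalk_germ] at h3
      exact h3
    rw [← ha, map_smul, hgen ⟨y, hy⟩, ← map_smul, smul_eq_mul, mul_one, LinearEquiv.map_eq_zero_iff] at h2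
    rw [← ha]
    show a • _ = 0
    rw [h2, zero_smul]
  · let r : Γ(X, V) := app ξ le_rfl θs
    refine ⟨r • rs L hV ℓ, Subtype.ext (funext fun y => LinearMap.ext fun v => ?_)⟩
    obtain ⟨O, hyO, g, rfl⟩ := TopCat.Presheaf.exists_germ_eq (RefHull.dual L).presheaf v
    show RefHull.bidualAt L y.1 (L.presheaf.germ V y.1 y.2 (r • rs L hV ℓ)) _ = _
    rw [RefHull.bidualAt_apply, RefHull.evalStalk_germ, Mero.germ_smul, germ_rs, map_smul]
    -- `g` is a multiple of `θ`
    let c : X.presheaf.stalk y.1 := (o y.1).symm (g.1 ⟨y.1, hyO⟩ (L.presheaf.germ A y.1 (hV y.2) ℓ))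
    have hgy : g.1 ⟨y.1, hyO⟩ = c • θ y := LinearMap.ext fun w => by
      obtain ⟨a, rfl⟩ := (hst y.1 (hV y.2)).2 w
      rw [map_smul, map_smul, LinearMap.smul_apply, hgen, ← map_smul (o y.1) c, smul_eq_mul, mul_one,
        LinearEquiv.apply_symm_apply]
    obtain ⟨Oc, hyc, cs, hcs⟩ := TopCat.Presheaf.exists_germ_eq X.presheaf c
    -- compare `g` and `cs • θ` near `y`
    have key : (RefHull.dual L).presheaf.germ O y.1 hyO g =
        c • (RefHull.dual L).presheaf.germ V y.1 y.2 θs := by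
      let Z := O ⊓ (Oc ⊓ V)
      have hyZ : y.1 ∈ Z := ⟨hyO, hyc, y.2⟩
      have hZV : Z ≤ V := inf_le_right.trans inf_le_right
      have hZc : Z ≤ Oc := inf_le_right.trans inf_le_left
      have hcZ : c = X.presheaf.germ Z y.1 hyZ (rf hZc cs) := by
        rw [germ_rf, hcs]
      rw [hcZ, ← germ_rs (M := RefHull.dual L) hZV hyZ θs, ← Mero.germ_smul,
        ← germ_rs (M := RefHull.dual L) (inf_le_left : Z ≤ O) hyZ g]
      -- values on `ℓ` determine everything
      have e1 : (Coh.structureModule X).presheaf.germ Z y.1 hyZ (app g inf_le_left (rs L (hZV.trans hV) ℓ)) =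
          (Coh.structureModule X).presheaf.germ Z y.1 hyZ (rf hZc cs •
            app θs hZV (rs L (hZV.trans hV) ℓ)) := by
        rw [Mero.germ_smul, germ_app, germ_app, germ_rs, ← hcZ]
        exact LinearMap.congr_fun hgy _
      obtain ⟨Z', hyZ', j, j', hj⟩ := TopCat.Presheaf.germ_eq _ y.1 hyZ hyZ _ _ e1
      refine TopCat.Presheaf.germ_ext (RefHull.dual L).presheaf Z' hyZ' j j' ?_
      refine Subtype.ext (funext fun z => LinearMap.ext fun w => ?_)
      obtain ⟨a, rfl⟩ := (hst z.1 ((j.le.trans (hZV.trans hV)) z.2)).2 w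
      have e2 := congrArg ((Coh.structureModule X).presheaf.germ Z' z.1 z.2) hj
      erw [TopCat.Presheaf.germ_res_apply, TopCat.Presheaf.germ_res_apply] at e2
      rw [Mero.germ_smul, germ_app, germ_app, germ_rs] at e2
      rw [map_smul, map_smul]
      exact congrArg (a • ·) e2
    rw [key, map_smul]
    have hξ : ξ.1 y ((RefHull.dual L).presheaf.germ V y.1 y.2 θs) =
        (Coh.structureModule X).presheaf.germ V y.1 y.2 r := (germ_app ξ le_rfl θs y.1 y.2).symm
    rw [hξ, hgy, LinearMap.smul_apply, hgen, ← ho V y.1 y.2 r, ← map_smul (o y.1), ← map_smul (o y.1),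
      ← map_smul (o y.1)]
    simp only [smul_eq_mul, mul_one]
    rw [mul_comm]

open Groth.Agent.Lib.TensorMod in
/-- The top exterior power is generated by one section near a point where the module is free. -/
theorem exists_gen_extPow {F L : X.Modules} {n : ℕ} (hL : ExtPow.IsExtPow n F L) {W : X.Opens}
    (i : F.restrict W.ι ≅ FlatMod.freeMod (W : Scheme.{u}) n) {x : X} (hx : x ∈ W) :
    ∃ (A : X.Opens) (_ : x ∈ A) (_ : A ≤ W) (ℓ : Γ(L, A)), ∀ y (hy : y ∈ A), Function.Bijective
      fun a : X.presheaf.stalk y => a • L.presheaf.germ A y hy ℓ := by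
  obtain ⟨A, hA, hxA, hAW'⟩ := exists_isAffineOpen_mem_and_subset (X := X) (x := x) (U := W) hx
  have hAW : A ≤ W := fun z hz => hAW' hz
  obtain ⟨e₀, he₀⟩ := Basis.exists_basis_of_iso i
  have he := he₀.res hAW
  let e := fun k => rs F hAW (e₀ k)
  obtain ⟨φ, hφ⟩ := hL
  let ℓ : Γ(L, A) := (φ ⟨A, hA⟩).symm (exteriorPower.ιMulti _ n e)
  have haff : ∀ (V : X.Opens) (hV : IsAffineOpen V) (h : V ≤ A),
      Function.Bijective fun r : Γ(X, V) => r • rs L h ℓ := by
    intro V hV h
    let g : (Fin n → Γ(X, V)) →ₗ[Γ(X, V)] Γ(F, V) :=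
      Fintype.linearCombination Γ(X, V) fun k => rs F h (e k)
    have hg : Function.Bijective g := by
      have : ⇑g = Basis.comb e h := funext fun a => by
        simp only [g, Fintype.linearCombination_apply, Basis.comb]
      rw [this]; exact he V h
    let b : Module.Basis (Fin n) Γ(X, V) Γ(F, V) :=
      Module.Basis.ofEquivFun (LinearEquiv.ofBijective g hg).symm
    have hb : ∀ k, b k = rs F h (e k) := fun k => by
      simp only [b, Module.Basis.coe_ofEquivFun, LinearEquiv.symm_symm, LinearEquiv.ofBijective_apply]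
      exact (Fintype.linearCombination_apply_single _ _ k 1).trans (one_smul _ _)
    have hl : rs L h ℓ = (φ ⟨V, hV⟩).symm (exteriorPower.ιMulti _ n (⇑b)) :=
      (hφ ⟨A, hA⟩ ⟨V, hV⟩ h e).trans (by rw [show (⇑b) = fun k => rs F h (e k) from funext hb]; rfl)
    have h2 := (φ ⟨V, hV⟩).symm.bijective.comp (bijective_smul_ιMulti b)
    have e1 : ∀ r : Γ(X, V), r • rs L h ℓ =
        (φ ⟨V, hV⟩).symm (r • exteriorPower.ιMulti Γ(X, V) n (⇑b)) := fun r => by
      rw [hl]
      exact ((φ ⟨V, hV⟩).symm.map_smul r _).symm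
    exact ⟨fun r r' hrr => h2.1 ((e1 r).symm.trans (hrr.trans (e1 r'))),
      fun z => let ⟨r, hr⟩ := h2.2 z; ⟨r, (e1 r).trans hr⟩⟩
  refine ⟨A, hxA, hAW, ℓ, fun y hy => ⟨fun a a' h => ?_, fun v => ?_⟩⟩
  · rw [← sub_eq_zero]
    have h0 : (a - a') • L.presheaf.germ A y hy ℓ = 0 := by rw [sub_smul, sub_eq_zero]; exact h
    generalize a - a' = c at h0 ⊢
    obtain ⟨O, hyO, r, rfl⟩ := TopCat.Presheaf.exists_germ_eq X.presheaf c
    have hy' : y ∈ A ⊓ O := ⟨hy, hyO⟩
    obtain ⟨Z, hyZ, j, j', hj⟩ := TopCat.Presheaf.germ_eq L.presheaf y hy' hy'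
      (rf (inf_le_right : A ⊓ O ≤ O) r • rs L (inf_le_left : A ⊓ O ≤ A) ℓ) 0 (by
        rw [Mero.germ_smul, germ_rs, germ_rf, map_zero]; exact h0)
    obtain ⟨V, hV, hyV, hVZ'⟩ := exists_isAffineOpen_mem_and_subset (X := X) (x := y) (U := Z) hyZ
    have hVZ : V ≤ Z := fun z hz => hVZ' hz
    have hj' := congrArg (rs L hVZ) hj
    have hr : rf ((hVZ.trans j.le).trans inf_le_right) r = 0 := (haff V hV
      ((hVZ.trans j.le).trans inf_le_left)).1 (by
        change _ = (0 : Γ(X, V)) • _
        rw [zero_smul]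
        refine Eq.trans ?_ (hj'.trans ?_)
        · change _ = rs L hVZ (rs L j.le _)
          rw [rs_rs, rs_smul, rs_rs, rf_rf]
        · simp only [rs, map_zero])
    rw [← germ_rf ((hVZ.trans j.le).trans inf_le_right) hyV r, hr, map_zero]
  · obtain ⟨O, hyO, m, rfl⟩ := TopCat.Presheaf.exists_germ_eq L.presheaf v
    obtain ⟨V, hV, hyV, hVle⟩ := exists_isAffineOpen_mem_and_subset (X := X) (x := y) (U := A ⊓ O)
      ⟨hy, hyO⟩
    have hVA : V ≤ A := fun z hz => (hVle hz).1
    have hVO : V ≤ O := fun z hz => (hVle hz).2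
    obtain ⟨r, hr⟩ := (haff V hV hVA).2 (rs L hVO m)
    refine ⟨X.presheaf.germ V y hyV r, ?_⟩
    have e1 := congrArg (L.presheaf.germ V y hyV) hr
    rw [Mero.germ_smul, germ_rs, germ_rs] at e1
    exact e1

/-- A free restriction of a restriction gives a free restriction. -/
theorem nonempty_free_of_restrict {F : X.Modules} {n : ℕ} {W₀ : (U : Scheme.{u}).Opens}
    (e : (F.restrict U.ι).restrict W₀.ι ≅ FlatMod.freeMod (W₀ : Scheme.{u}) n) :
    Nonempty (F.restrict (U.ι ''ᵁ W₀).ι ≅ FlatMod.freeMod (↑(U.ι ''ᵁ W₀) : Scheme.{u}) n) := by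
  let g := IsOpenImmersion.isoOfRangeEq (W₀.ι ≫ U.ι) (U.ι ''ᵁ W₀).ι (by
    rw [Scheme.Hom.comp_base, TopCat.coe_comp, Set.range_comp, Scheme.Opens.range_ι,
      Scheme.Opens.range_ι]
    rfl)
  have h : g.inv ≫ W₀.ι ≫ U.ι = (U.ι ''ᵁ W₀).ι := IsOpenImmersion.isoOfRangeEq_inv_fac _ _ _
  exact ⟨(Scheme.Modules.restrictFunctorCongr h.symm).app F ≪≫
    (Scheme.Modules.restrictFunctorComp g.inv (W₀.ι ≫ U.ι)).app F ≪≫
    (Scheme.Modules.restrictFunctor g.inv).mapIso
      ((Scheme.Modules.restrictFunctorComp W₀.ι U.ι).app F ≪≫ e) ≪≫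
    Groth.Agent.Lib.Modules.Free.restrictFreeIso g.inv n⟩

/-- The biduality map of the top exterior power is an isomorphism where the module is locally free. -/
theorem isIso_restrict_bidual {F L : X.Modules} {n : ℕ} (hL : ExtPow.IsExtPow n F L)
    (hF : FlatMod.IsFinLocFreeOfRank n (F.restrict U.ι)) :
    IsIso ((Scheme.Modules.restrictFunctor U.ι).map (RefHull.bidualMap L)) := by
  refine Groth.Agent.Lib.ParaF.ResBij.isIso_of_forall_exists_app_bijective _ fun x => ?_
  obtain ⟨W₀, hx, ⟨e⟩⟩ := hF x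
  obtain ⟨i⟩ := nonempty_free_of_restrict e
  obtain ⟨A, hxA, hAW, ℓ, hst⟩ := exists_gen_extPow hL i
    (x := U.ι x) ⟨x, hx, rfl⟩
  refine ⟨U.ι ⁻¹ᵁ A, hxA, fun O hO => ?_⟩
  exact bijective_bidual_app ℓ hst (fun z ⟨w, hw, e'⟩ => e' ▸ hO hw)

end Groth.Agent.H26.DetExtend
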