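import Groth.Agent.Lib.PointDim.Basic
import Groth.Agent.Lib.Cyc.FieldDim
import Groth.Agent.Lib.Cyc.DimFun
import Mathlib.AlgebraicGeometry.FunctionField

/-!
# Transcendence degrees and local rings over a field
-/

set_option linter.all false
set_option maxHeartbeats 1000000

universe u

open CategoryTheory AlgebraicGeometry IsLocalRing
open Groth.Agent.Lib Groth.Agent.Lib.PointDim.Basic

noncomputable section

namespace Groth.Agent.H26.StalkTrdeg

variable {k : Type u} [Field k] {X Y : Scheme.{u}}

/-- `k ⟶ O_{X,x}`. -/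
def kStalk (f : X ⟶ Spec (CommRingCat.of k)) (x : X) : CommRingCat.of k ⟶ X.presheaf.stalk x :=
  Spec.preimage (X.fromSpecStalk x ≫ f)

@[simp]
theorem specMap_kStalk (f : X ⟶ Spec (CommRingCat.of k)) (x : X) :
    Spec.map (kStalk f x) = X.fromSpecStalk x ≫ f :=
  Spec.map_preimage _

theorem kStalk_residue (f : X ⟶ Spec (CommRingCat.of k)) (x : X) :
    kStalk f x ≫ X.residue x = kToRes f x := by
  apply Spec.map_injective
  rw [Spec.map_comp, specMap_kStalk, specMap_kToRes]
  rfl

theorem kStalk_stalkSpecializes (f : X ⟶ Spec (CommRingCat.of k)) {x y : X} (h : x ⤳ y) :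
    kStalk f y ≫ X.presheaf.stalkSpecializes h = kStalk f x := by
  apply Spec.map_injective
  rw [Spec.map_comp, specMap_kStalk, specMap_kStalk, Scheme.SpecMap_stalkSpecializes_fromSpecStalk_assoc]

theorem trdeg_residueField (f : X ⟶ Spec (CommRingCat.of k)) [LocallyOfFiniteType f] (x : X) :
    (letI := (kStalk f x).hom.toAlgebra
     Algebra.trdeg k (ResidueField (X.presheaf.stalk x))) = (natTdeg f x : Cardinal) := by
  rw [← tdeg_eq_natTdeg]
  let := (kStalk f x).hom.toAlgebra
  refine (tdeg_eq_of_algEquiv (L := ResidueField (X.presheaf.stalk x)) f x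
    (RingEquiv.refl (ResidueField (X.presheaf.stalk x))) fun a => ?_).symm
  exact congr($(kStalk_residue f x).hom a)

theorem trdeg_functionField [IsIntegral X] (f : X ⟶ Spec (CommRingCat.of k)) [LocallyOfFiniteType f] :
    (letI := (kStalk f (genericPoint X)).hom.toAlgebra
     Algebra.trdeg k X.functionField) = (natTdeg f (genericPoint X) : Cardinal) := by
  rw [← tdeg_eq_natTdeg]
  let := (kStalk f (genericPoint X)).hom.toAlgebra
  let e : X.functionField ≃+* X.residueField (genericPoint X) :=
    RingEquiv.ofBijective (X.residue (genericPoint X)).hom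
      ⟨RingHom.injective (R := X.functionField) _, residue_surjective⟩
  refine (tdeg_eq_of_algEquiv f _ e fun a => ?_).symm
  exact congr($(kStalk_residue f (genericPoint X)).hom a)

theorem fdelta_eq_natTdeg (f : X ⟶ Spec (CommRingCat.of k)) (x : X) :
    Cyc.FieldDim.fdelta f x = (natTdeg f x : ℤ) := by
  simp only [Cyc.FieldDim.fdelta, natTdeg, Cyc.Residue.trdegAt]
  rw [trdeg_residueFieldMap]

/-- `dim O_{X,x} = trdeg κ(η) - trdeg κ(x)`. -/
theorem ringKrullDim_stalk_eq [IrreducibleSpace X] (f : X ⟶ Spec (CommRingCat.of k))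
    [LocallyOfFiniteType f] (x : X) :
    ringKrullDim (X.presheaf.stalk x) =
      ((natTdeg f (genericPoint X) - natTdeg f x : ℕ) : WithBot ℕ∞) := by
  rw [Cyc.DimFun.ringKrullDim_stalk (Cyc.FieldDim.isDimFun_fdelta f) x,
    fdelta_eq_natTdeg, fdelta_eq_natTdeg, Int.toNat_sub]

/-- The transcendence degree only drops along a morphism. -/
theorem natTdeg_apply_le (g : X ⟶ Y) (fY : Y ⟶ Spec (CommRingCat.of k))
    (f : X ⟶ Spec (CommRingCat.of k)) [LocallyOfFiniteType f] [LocallyOfFiniteType fY]
    (h : g ≫ fY = f) (x : X) : natTdeg fY (g x) ≤ natTdeg f x := by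
  have : tdeg fY (g x) ≤ tdeg f x := by
    let : Algebra k (X.residueField x) := (kToRes f x).hom.toAlgebra
    let : Algebra k (Y.residueField (g x)) := (kToRes fY (g x)).hom.toAlgebra
    exact trdeg_le_of_injective
      ({ (g.residueFieldMap x).hom with
         commutes' := fun a => congr($(kToRes_comp g fY f h x).hom a).symm } :
        Y.residueField (g x) →ₐ[k] X.residueField x) (g.residueFieldMap x).hom.injective
  rw [tdeg_eq_natTdeg, tdeg_eq_natTdeg] at this
  exact_mod_cast this

/-- A morphism with a section at the generic point is birational. -/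
theorem birational_of_section {Z : Scheme.{u}} [IsIntegral Z] [IsIntegral Y] (φ : Z ⟶ Y)
    (τ : Spec Y.functionField ⟶ Z) [IsDominant τ]
    (h : τ ≫ φ = Y.fromSpecStalk (genericPoint Y)) :
    φ (genericPoint Z) = genericPoint Y ∧ IsIso (φ.stalkMap (genericPoint Z)) := by
  have hpt : τ (closedPoint Y.functionField) = genericPoint Z := by
    refine ((genericPoint_spec Z).eq ?_).symm
    rw [isGenericPoint_def, ← τ.denseRange.closure_range]
    refine congrArg closure (Set.Subset.antisymm ?_ ?_)
    · rintro _ rfl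
      exact ⟨_, rfl⟩
    · rintro _ ⟨p, rfl⟩
      exact congrArg τ (Subsingleton.elim (α := PrimeSpectrum Y.functionField) p _)
  have hgen : φ (genericPoint Z) = genericPoint Y := by
    rw [← hpt, ← Scheme.Hom.comp_apply, h]
    exact Scheme.fromSpecStalk_closedPoint
  refine ⟨hgen, ?_⟩
  have hρ : ∃ ρ : Z.presheaf.stalk (genericPoint Z) ⟶ Y.functionField,
      Spec.map ρ ≫ Z.fromSpecStalk _ = τ :=
    ⟨Z.presheaf.stalkSpecializes (specializes_of_eq hpt) ≫ Scheme.stalkClosedPointTo τ, by
      rw [Spec.map_comp, Category.assoc, Scheme.SpecMap_stalkSpecializes_fromSpecStalk,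
        Scheme.Spec_stalkClosedPointTo_fromSpecStalk]⟩
  obtain ⟨ρ, hρ⟩ := hρ
  let sp := Y.presheaf.stalkSpecializes (specializes_of_eq hgen)
  have hid : sp ≫ φ.stalkMap (genericPoint Z) ≫ ρ = 𝟙 _ := by
    apply Spec.map_injective
    rw [← cancel_mono (Y.fromSpecStalk (genericPoint Y)), Spec.map_comp, Spec.map_comp,
      Category.assoc, Category.assoc, Scheme.SpecMap_stalkSpecializes_fromSpecStalk,
      Scheme.SpecMap_stalkMap_fromSpecStalk, reassoc_of% hρ, h, Spec.map_id, Category.id_comp]
  have : IsIso sp :=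
    inferInstanceAs (IsIso (Y.presheaf.stalkCongr (Inseparable.of_eq hgen.symm)).hom)
  have hs : Function.Surjective ρ := fun a =>
    ⟨φ.stalkMap (genericPoint Z) (sp a), congr($(hid).hom a)⟩
  have : IsIso ρ := (ConcreteCategory.isIso_iff_bijective ρ).mpr
    ⟨RingHom.injective (R := Z.functionField) ρ.hom, hs⟩
  have : IsIso ((sp ≫ φ.stalkMap (genericPoint Z)) ≫ ρ) := by
    rw [Category.assoc, hid]; infer_instance
  have : IsIso (sp ≫ φ.stalkMap (genericPoint Z)) := IsIso.of_isIso_comp_right _ ρ
  exact IsIso.of_isIso_comp_left sp _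

/-- A morphism out of the spectrum of a domain lands in a closed subscheme containing the image
of its generic point. -/
theorem exists_lift {Q Z : Scheme.{u}} (i : Z ⟶ Q) [IsClosedImmersion i] {O F : Type u} [CommRing O]
    [IsDomain O] [Field F] [Algebra O F] [IsFractionRing O F] (G : Spec (CommRingCat.of O) ⟶ Q)
    (u : Spec (CommRingCat.of F) ⟶ Z)
    (h : u ≫ i = Spec.map (CommRingCat.ofHom (algebraMap O F)) ≫ G) :
    ∃ ψ : Spec (CommRingCat.of O) ⟶ Z, ψ ≫ i = G := by
  let p := Limits.pullback.snd i G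
  have : Surjective p := by
    refine ⟨Set.range_eq_univ.mp (Set.eq_univ_of_univ_subset ?_)⟩
    have hbot : (⟨⊥, Ideal.isPrime_bot⟩ : PrimeSpectrum O) ∈ Set.range p := by
      refine ⟨Limits.pullback.lift u _ h (closedPoint F), ?_⟩
      rw [← Scheme.Hom.comp_apply, Limits.pullback.lift_snd]
      refine PrimeSpectrum.ext ?_
      change Ideal.comap (algebraMap O F) (maximalIdeal F) = ⊥
      rw [maximalIdeal_eq_bot, ← RingHom.ker_eq_comap_bot,
        (RingHom.injective_iff_ker_eq_bot _).mp (IsFractionRing.injective O F)]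
    intro q _
    exact (p.isClosedEmbedding.isClosed_range.closure_subset_iff.mpr
      (Set.singleton_subset_iff.mpr hbot))
      ((PrimeSpectrum.le_iff_mem_closure (⟨⊥, Ideal.isPrime_bot⟩ : PrimeSpectrum O) q).mp bot_le)
  have : IsReduced (Spec (CommRingCat.of O)) := inferInstance
  have : IsIso p := isIso_of_isClosedImmersion_of_surjective p
  exact ⟨inv p ≫ Limits.pullback.fst i G, by
    rw [Category.assoc, Limits.pullback.condition, IsIso.inv_hom_id_assoc]⟩

end Groth.Agent.H26.StalkTrdeg
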