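import Groth.Agent.H26.RegImmLocal
import Groth.Prelude.Def_RegImm

/-!
# Kernels on stalks of regular immersions (not assumed closed)
-/

universe u

open CategoryTheory AlgebraicGeometry RingTheory.Sequence

namespace Groth.Agent.H26.RegImmKind

theorem ker_stalkMap {X Z : Scheme.{u}} (i : Z ⟶ X) {U : X.Opens} (hU : IsAffineOpen U)
    [IsClosedImmersion (i ∣_ U)] (z : Z) (hx : i z ∈ U) :
    RingHom.ker (i.stalkMap z).hom =
      (RingHom.ker (i.app U).hom).map (X.presheaf.germ U (i z) hx).hom := by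
  refine le_antisymm (fun c hc => ?_) ?_
  swap
  · rw [Ideal.map_le_iff_le_comap]
    intro r hr
    show (i.stalkMap z).hom _ = 0
    rw [Scheme.Hom.germ_stalkMap_apply, RingHom.mem_ker.mp hr, map_zero]
  haveI : IsAffine (U : Scheme.{u}) := hU
  have hA : IsAffineOpen (i ⁻¹ᵁ U) := isAffine_of_isAffineHom (i ∣_ U)
  have hsurj : Function.Surjective (i.app U) := by
    have h1 : Function.Surjective ((i ∣_ U).app ⊤) :=
      Scheme.Hom.app_surjective _ ⊤ (isAffineOpen_top _)
    rw [morphismRestrict_app] at h1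
    have key : ∀ V : X.Opens, V = U → Function.Surjective (i.app V) → Function.Surjective (i.app U) := by
      rintro V rfl h; exact h
    refine key _ U.ι_image_top ?_
    have hbij := ConcreteCategory.bijective_of_isIso
      (Z.presheaf.map (eqToHom (image_morphismRestrict_preimage i U ⊤)).op)
    exact Function.Surjective.of_comp_left h1 hbij.1
  letI := TopCat.Presheaf.algebra_section_stalk X.presheaf (⟨i z, hx⟩ : U)
  haveI := hU.isLocalization_stalk ⟨i z, hx⟩
  obtain ⟨⟨r, m⟩, hm⟩ := IsLocalization.surj (hU.primeIdealOf ⟨i z, hx⟩).asIdeal.primeCompl c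
  have hm' : c * X.presheaf.germ U (i z) hx m.1 = X.presheaf.germ U (i z) hx r := hm
  have hu : IsUnit (X.presheaf.germ U (i z) hx m.1) :=
    IsLocalization.map_units (X.presheaf.stalk (i z)) m
  have hx' : z ∈ i ⁻¹ᵁ U := hx
  have hr : Z.presheaf.germ (i ⁻¹ᵁ U) z hx' (i.app U r) = 0 := by
    rw [← Scheme.Hom.germ_stalkMap_apply i U z hx r, ← hm']
    exact (map_mul _ _ _).trans (by rw [RingHom.mem_ker.1 hc, zero_mul])
  letI := TopCat.Presheaf.algebra_section_stalk Z.presheaf (⟨z, hx'⟩ : (i ⁻¹ᵁ U : Z.Opens))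
  haveI := hA.isLocalization_stalk ⟨z, hx'⟩
  obtain ⟨⟨g', hg'⟩, hg0⟩ := (IsLocalization.map_eq_zero_iff
    (hA.primeIdealOf ⟨z, hx'⟩).asIdeal.primeCompl (Z.presheaf.stalk z) (i.app U r)).1 hr
  obtain ⟨g, rfl⟩ := hsurj g'
  have hgu' : IsUnit (Z.presheaf.germ (i ⁻¹ᵁ U) z hx' (i.app U g)) :=
    IsLocalization.map_units (Z.presheaf.stalk z)
      (⟨_, hg'⟩ : (hA.primeIdealOf ⟨z, hx'⟩).asIdeal.primeCompl)
  have hgu : IsUnit (X.presheaf.germ U (i z) hx g) := by
    rw [← Scheme.Hom.germ_stalkMap_apply i U z hx g] at hgu'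
    exact (isUnit_map_iff (i.stalkMap z).hom _).1 hgu'
  have hI : g * r ∈ RingHom.ker (i.app U).hom := by
    rw [RingHom.mem_ker, map_mul]
    exact hg0
  refine (Ideal.mul_unit_mem_iff_mem _ (hgu.mul hu)).1 ?_
  rw [show c * (X.presheaf.germ U (i z) hx g * X.presheaf.germ U (i z) hx m.1) =
    X.presheaf.germ U (i z) hx (g * r) by rw [map_mul, ← hm']; ring]
  exact Ideal.mem_map_of_mem _ hI

theorem isRegularIdeal_ker {X Z : Scheme.{u}} {i : Z ⟶ X} {z : Z}
    (h : RegImm.IsRegularImmersionAt RegImm.Kind.regular i z) :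
    CInt.IsRegularIdeal (RingHom.ker (i.stalkMap z).hom) := by
  obtain ⟨⟨U, hU⟩, hx, hcl, rs, hrs, hker⟩ := h
  haveI : IsClosedImmersion (i ∣_ U) := hcl
  letI := TopCat.Presheaf.algebra_section_stalk X.presheaf (⟨i z, hx⟩ : U)
  haveI := hU.isLocalization_stalk ⟨i z, hx⟩
  haveI : Module.Flat Γ(X, U) (X.presheaf.stalk (i z)) :=
    IsLocalization.flat _ (hU.primeIdealOf ⟨i z, hx⟩).asIdeal.primeCompl
  have hrs' : RingTheory.Sequence.IsRegular Γ(X, U) rs := hrs
  let gs := (rs : List Γ(X, U)).map (algebraMap Γ(X, U) (X.presheaf.stalk (i z)))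
  have hK : Ideal.ofList gs = RingHom.ker (i.stalkMap z).hom := by
    rw [← Ideal.map_ofList, ker_stalkMap i hU z hx, hker]
    rfl
  refine ⟨gs, Groth.Agent.Lib.Depth.Basic.isRegular_of_mem (I := IsLocalRing.maximalIdeal _)
    (Groth.Agent.Lib.Depth.Basic.smul_top_ne_top Ideal.IsPrime.ne_top')
    (IsWeaklyRegular.of_flat hrs'.toIsWeaklyRegular) (fun r hr => ?_), hK⟩
  exact IsLocalRing.le_maximalIdeal (RingHom.ker_ne_top _) (hK.le (Ideal.subset_span hr))

end Groth.Agent.H26.RegImmKind
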