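import Groth.Prelude.Def_CInt
import Groth.Agent.H46.FiberStalk
import Groth.Agent.H46.DimFormula
import Groth.Agent.Lib.JacCrit.SmoothLocal
import Groth.Agent.Lib.QDepth.FlatFibre
import Groth.Agent.Lib.Depth.CM
import Mathlib.AlgebraicGeometry.Noetherian
import Mathlib.AlgebraicGeometry.Properties

/-!
# Dimension and depth of the local rings of fibres
-/

universe u

open CategoryTheory CategoryTheory.Limits AlgebraicGeometry IsLocalRing LocCoh

namespace Groth.Agent.H26.FibreDim

variable {X Y S : Scheme.{u}}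

/-- Every nonempty scheme has a point whose local ring has dimension zero, below any given point. -/
theorem exists_ringKrullDim_stalk_eq_zero {F : Scheme.{u}} (z : F) :
    ∃ η : F, η ⤳ z ∧ ringKrullDim (F.presheaf.stalk η) = 0 := by
  obtain ⟨η, hη⟩ := QuasiSober.sober (isIrreducible_irreducibleComponent (x := z))
    isClosed_irreducibleComponent
  refine ⟨η, hη.specializes mem_irreducibleComponent, ?_⟩
  rw [ringKrullDim_stalk_eq_coheight]
  have : IsMax η := fun y hy => by
    have hy' : y ⤳ η := hy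
    have h1 : irreducibleComponent z ⊆ closure {y} := by
      rw [← hη.def]
      exact closure_minimal (Set.singleton_subset_iff.mpr hy'.mem_closure) isClosed_closure
    have h2 := (irreducibleComponent_mem_irreducibleComponents z).2
      isIrreducible_singleton.closure h1
    exact (hη.specializes (h2 (subset_closure rfl)) : η ⤳ y)
  rw [Order.coheight_eq_zero.mpr this]
  rfl

instance isNoetherianRing_fiberStalk [IsLocallyNoetherian X] (f : X ⟶ S) (x : X) :
    IsNoetherianRing (CInt.fiberStalk f x) :=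
  isNoetherianRing_of_ringEquiv _ (H46.FiberStalk.quotientEquiv f x)

theorem dim_fiberStalk_le_dim_stalk (f : X ⟶ S) (x : X) :
    ringKrullDim (CInt.fiberStalk f x) ≤ ringKrullDim (X.presheaf.stalk x) :=
  (H46.FiberStalk.ringKrullDim_stalk_fiber f x).le.trans
    (ringKrullDim_quotient_le _)

theorem dim_stalk_eq_add [IsLocallyNoetherian X] [IsLocallyNoetherian S] (f : X ⟶ S) [Flat f]
    (x : X) : ringKrullDim (X.presheaf.stalk x) =
      ringKrullDim (S.presheaf.stalk (f x)) + ringKrullDim (CInt.fiberStalk f x) :=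
  (Lib.JacCrit.SmoothLocal.ringKrullDim_eq_of_flat (f.stalkMap x).hom
    (Flat.stalkMap f x)).trans (by rw [H46.FiberStalk.ringKrullDim_stalk_fiber])

theorem dim_stalk_le_add [IsLocallyNoetherian X] [IsLocallyNoetherian S] (f : X ⟶ S)
    (x : X) : ringKrullDim (X.presheaf.stalk x) ≤
      ringKrullDim (S.presheaf.stalk (f x)) + ringKrullDim (CInt.fiberStalk f x) :=
  (H46.DimFormula.ringKrullDim_le_add (f.stalkMap x).hom).trans_eq
    (by rw [H46.FiberStalk.ringKrullDim_stalk_fiber])

theorem le_depth_stalk [IsLocallyNoetherian X] [IsLocallyNoetherian S] (f : X ⟶ S) [Flat f]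
    (x : X) {d : ℕ} (h : (d : ℕ∞) ≤ LocCoh.depth (CInt.fiberStalk f x) (CInt.fiberStalk f x)) :
    (d : ℕ∞) ≤ LocCoh.depth (X.presheaf.stalk x) (X.presheaf.stalk x) := by
  obtain ⟨φ, hs, hk⟩ := H46.FiberStalk.exists_surjective_stalk f (f x) (f.asFiber x) x
    (f.fiberι_asFiber x)
  letI : Algebra (S.presheaf.stalk (f x)) (X.presheaf.stalk x) := (f.stalkMap x).hom.toAlgebra
  haveI : IsLocalHom (algebraMap (S.presheaf.stalk (f x)) (X.presheaf.stalk x)) :=
    inferInstanceAs (IsLocalHom (f.stalkMap x).hom)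
  haveI : Module.Flat (S.presheaf.stalk (f x)) (X.presheaf.stalk x) := Flat.stalkMap f x
  letI : Algebra (X.presheaf.stalk x) (CInt.fiberStalk f x) := φ.toAlgebra
  rw [← Lib.Depth.Basic.depth_eq_of_surjective (R := X.presheaf.stalk x)
    (S := CInt.fiberStalk f x) (M := CInt.fiberStalk f x) hs] at h
  refine Lib.QDepth.le_idealDepth_of_fibre (A := S.presheaf.stalk (f x))
    (maximalIdeal (X.presheaf.stalk x)) (Algebra.linearMap _ (CInt.fiberStalk f x)) hs ?_ h
  rw [smul_eq_mul, Ideal.mul_top]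
  exact hk

/-- Dimension of `B/IB` against those of `A/I` and of the closed fibre. -/
theorem quotient_dim {A B : Type u} [CommRing A] [CommRing B] [IsLocalRing A] [IsLocalRing B]
    [IsNoetherianRing A] [IsNoetherianRing B] (φ : A →+* B) [IsLocalHom φ] (I : Ideal A)
    (hI : I ≤ maximalIdeal A) :
    ringKrullDim (B ⧸ I.map φ) ≤ ringKrullDim (A ⧸ I) + ringKrullDim (B ⧸ (maximalIdeal A).map φ) ∧
      (φ.Flat → ringKrullDim (B ⧸ I.map φ) =
        ringKrullDim (A ⧸ I) + ringKrullDim (B ⧸ (maximalIdeal A).map φ)) := by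
  have hm : (maximalIdeal A).map φ ≤ maximalIdeal B :=
    ((local_hom_TFAE φ).out 0 2).mp ‹_›
  have : Nontrivial (A ⧸ I) := Ideal.Quotient.nontrivial_iff.mpr
    (ne_top_of_le_ne_top Ideal.IsPrime.ne_top' hI)
  have : Nontrivial (B ⧸ I.map φ) := Ideal.Quotient.nontrivial_iff.mpr
    (ne_top_of_le_ne_top Ideal.IsPrime.ne_top' ((Ideal.map_mono hI).trans hm))
  have : IsLocalRing (A ⧸ I) := .of_surjective' _ Ideal.Quotient.mk_surjective
  have : IsLocalRing (B ⧸ I.map φ) := .of_surjective' _ Ideal.Quotient.mk_surjective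
  let ψ : A ⧸ I →+* B ⧸ I.map φ := Ideal.quotientMap (I.map φ) φ Ideal.le_comap_map
  have hmax : maximalIdeal (A ⧸ I) = (maximalIdeal A).map (Ideal.Quotient.mk I) :=
    (IsLocalRing.eq_maximalIdeal (Ideal.IsMaximal.map_of_surjective_of_ker_le
      Ideal.Quotient.mk_surjective ((Ideal.mk_ker).trans_le hI))).symm
  have hψm : (maximalIdeal (A ⧸ I)).map ψ =
      ((maximalIdeal A).map φ).map (Ideal.Quotient.mk (I.map φ)) := by
    rw [hmax, Ideal.map_map, Ideal.map_map]; rfl
  have : IsLocalHom ψ := by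
    refine ((local_hom_TFAE ψ).out 0 2).mpr ?_
    rw [hψm]
    refine (Ideal.map_mono hm).trans (le_maximalIdeal ?_)
    exact (Ideal.IsMaximal.map_of_surjective_of_ker_le Ideal.Quotient.mk_surjective
      (Ideal.mk_ker.trans_le ((Ideal.map_mono hI).trans hm))).ne_top
  have hfib : ringKrullDim ((B ⧸ I.map φ) ⧸ (maximalIdeal (A ⧸ I)).map ψ) =
      ringKrullDim (B ⧸ (maximalIdeal A).map φ) :=
    ringKrullDim_eq_of_ringEquiv ((Ideal.quotEquivOfEq hψm).trans
      (DoubleQuot.quotQuotEquivQuotOfLE (Ideal.map_mono hI)))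
  rw [← hfib]
  refine ⟨H46.DimFormula.ringKrullDim_le_add ψ, fun hflat => ?_⟩
  refine Lib.JacCrit.SmoothLocal.ringKrullDim_eq_of_flat ψ ?_
  letI := φ.toAlgebra
  haveI : Module.Flat A B := hflat
  have : Module.Flat (A ⧸ I) (B ⧸ I.map (algebraMap A B)) := Module.Flat.of_linearEquiv
    (Algebra.TensorProduct.quotIdealMapEquivQuotTensor B I).toLinearEquiv
  exact RingHom.flat_algebraMap_iff.mpr this

theorem dim_fiberStalk_comp [IsLocallyNoetherian X] [IsLocallyNoetherian Y] (g : Y ⟶ X)
    (f : X ⟶ S) (y : Y) :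
    ringKrullDim (CInt.fiberStalk (g ≫ f) y) ≤
      ringKrullDim (CInt.fiberStalk f (g y)) + ringKrullDim (CInt.fiberStalk g y) ∧
    (Flat g → ringKrullDim (CInt.fiberStalk (g ≫ f) y) =
      ringKrullDim (CInt.fiberStalk f (g y)) + ringKrullDim (CInt.fiberStalk g y)) := by
  rw [H46.FiberStalk.ringKrullDim_stalk_fiber (g ≫ f) y,
    H46.FiberStalk.ringKrullDim_stalk_fiber f (g y),
    H46.FiberStalk.ringKrullDim_stalk_fiber g y]
  have e : (maximalIdeal (S.presheaf.stalk ((g ≫ f) y))).map ((g ≫ f).stalkMap y).hom =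
      ((maximalIdeal (S.presheaf.stalk (f (g y)))).map (f.stalkMap (g y)).hom).map
        (g.stalkMap y).hom := by
    rw [Scheme.Hom.stalkMap_comp, Ideal.map_map]; rfl
  rw [ringKrullDim_eq_of_ringEquiv (Ideal.quotEquivOfEq e)]
  have h := quotient_dim (g.stalkMap y).hom
    ((maximalIdeal (S.presheaf.stalk (f (g y)))).map (f.stalkMap (g y)).hom)
    (((local_hom_TFAE (f.stalkMap (g y)).hom).out 0 2).mp
      (inferInstance : IsLocalHom (f.stalkMap (g y)).hom))
  exact ⟨h.1, fun _ => h.2 (Flat.stalkMap g y)⟩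

theorem dim_stalk_fiber_eq (f : X ⟶ S) {s : S} (a : f.fiber s) {x : X} (hx : f.fiberι s a = x) :
    ringKrullDim ((f.fiber s).presheaf.stalk a) = ringKrullDim (CInt.fiberStalk f x) := by
  rw [H46.FiberStalk.ringKrullDim_stalk_fiber' f s a x hx,
    H46.FiberStalk.ringKrullDim_stalk_fiber f x]

theorem exists_point_dim_fiber_zero (g : Y ⟶ X) (x : X) (hx : x ∈ Set.range g) :
    ∃ y : Y, g y = x ∧ ringKrullDim (CInt.fiberStalk g y) = 0 := by
  obtain ⟨y, rfl⟩ := hx
  obtain ⟨η, -, hη⟩ := exists_ringKrullDim_stalk_eq_zero (g.asFiber y)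
  refine ⟨g.fiberι _ η, ?_, ?_⟩
  · have : g.fiberι _ η ∈ g ⁻¹' {g y} := by rw [← g.range_fiberι]; exact ⟨η, rfl⟩
    exact this
  · rw [← dim_stalk_fiber_eq g η rfl]; exact hη

theorem exists_fiber_baseChange {S' : Scheme.{u}} (f : X ⟶ S) (g : S' ⟶ S) (s' : S') :
    ∃ h : (pullback.snd f g).fiber s' ⟶ f.fiber (g s'), Flat h ∧
      h ≫ f.fiberι (g s') = (pullback.snd f g).fiberι s' ≫ pullback.fst f g := by
  have e : Spec.map (g.residueFieldMap s') ≫ S.fromSpecResidueField (g s') =
      S'.fromSpecResidueField s' ≫ g :=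
    Scheme.Hom.SpecMap_residueFieldMap_fromSpecResidueField g s'
  let h : (pullback.snd f g).fiber s' ⟶ f.fiber (g s') :=
    pullback.lift ((pullback.snd f g).fiberι s' ≫ pullback.fst f g)
      ((pullback.snd f g).fiberToSpecResidueField s' ≫ Spec.map (g.residueFieldMap s'))
      (by rw [Category.assoc, Category.assoc, e, pullback.condition]
          exact (Category.assoc _ _ _).symm.trans (by
            rw [Scheme.Hom.fiber_fac, Category.assoc]))
  refine ⟨h, ?_, pullback.lift_fst _ _ _⟩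
  have hbig := (IsPullback.of_hasPullback (pullback.snd f g) (S'.fromSpecResidueField s')).paste_horiz
    (IsPullback.of_hasPullback f g)
  rw [← e] at hbig
  have h1 : IsPullback (h ≫ f.fiberι (g s')) ((pullback.snd f g).fiberToSpecResidueField s') f
      (Spec.map (g.residueFieldMap s') ≫ S.fromSpecResidueField (g s')) := by
    rw [show h ≫ f.fiberι (g s') = _ from pullback.lift_fst _ _ _]; exact hbig
  have h2 := IsPullback.of_right h1 (pullback.lift_snd _ _ _)
    (IsPullback.of_hasPullback f (S.fromSpecResidueField (g s')))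
  have : Flat (Spec.map (g.residueFieldMap s')) := by
    rw [HasRingHomProperty.Spec_iff (P := @Flat)]
    algebraize [(g.residueFieldMap s').hom]
    exact inferInstanceAs (Module.Flat (S.residueField (g s')) (S'.residueField s'))
  exact MorphismProperty.of_isPullback h2.flip ‹Flat (Spec.map (g.residueFieldMap s'))›

theorem dim_stalk_mono (h : Y ⟶ X) [Flat h] (z : Y) [IsNoetherianRing (X.presheaf.stalk (h z))]
    [IsNoetherianRing (Y.presheaf.stalk z)] :
    ringKrullDim (X.presheaf.stalk (h z)) ≤ ringKrullDim (Y.presheaf.stalk z) := by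
  rw [Lib.JacCrit.SmoothLocal.ringKrullDim_eq_of_flat (h.stalkMap z).hom (Flat.stalkMap h z)]
  have : Nontrivial (Y.presheaf.stalk z ⧸
      (maximalIdeal (X.presheaf.stalk (h z))).map (h.stalkMap z).hom) :=
    Ideal.Quotient.nontrivial_iff.mpr (ne_top_of_le_ne_top Ideal.IsPrime.ne_top'
      (((local_hom_TFAE (h.stalkMap z).hom).out 0 2).mp
        (inferInstance : IsLocalHom (h.stalkMap z).hom)))
  exact le_add_of_nonneg_right ringKrullDim_nonneg_of_nontrivial

theorem dim_stalk_le_of_fiber_zero (h : Y ⟶ X) (z : Y) [IsNoetherianRing (X.presheaf.stalk (h z))]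
    [IsNoetherianRing (Y.presheaf.stalk z)] (h0 : ringKrullDim (CInt.fiberStalk h z) = 0) :
    ringKrullDim (Y.presheaf.stalk z) ≤ ringKrullDim (X.presheaf.stalk (h z)) := by
  rw [H46.FiberStalk.ringKrullDim_stalk_fiber] at h0
  simpa [h0] using H46.DimFormula.ringKrullDim_le_add (h.stalkMap z).hom

theorem isNoetherianRing_stalk_fiber [IsLocallyNoetherian X] (f : X ⟶ S) {s : S} (a : f.fiber s) :
    IsNoetherianRing ((f.fiber s).presheaf.stalk a) := by
  obtain ⟨φ, hφ, -⟩ := H46.FiberStalk.exists_surjective_stalk f s a _ rfl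
  exact isNoetherianRing_of_surjective _ _ φ hφ

theorem le_fiber_baseChange {S' : Scheme.{u}} (f : X ⟶ S) (g : S' ⟶ S) [IsLocallyNoetherian X]
    [IsLocallyNoetherian (pullback f g)] (x' : ↑(pullback f g)) :
    ringKrullDim (CInt.fiberStalk f (pullback.fst f g x')) ≤
      ringKrullDim (CInt.fiberStalk (pullback.snd f g) x') := by
  obtain ⟨h, hflat, hh⟩ := exists_fiber_baseChange f g (pullback.snd f g x')
  have := isNoetherianRing_stalk_fiber f (h ((pullback.snd f g).asFiber x'))
  have := isNoetherianRing_stalk_fiber (pullback.snd f g) ((pullback.snd f g).asFiber x')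
  have hz : f.fiberι _ (h ((pullback.snd f g).asFiber x')) = pullback.fst f g x' := by
    rw [← Scheme.Hom.comp_apply, hh, Scheme.Hom.comp_apply, Scheme.Hom.fiberι_asFiber]
  rw [← dim_stalk_fiber_eq f _ hz]
  exact dim_stalk_mono h _

theorem exists_fiber_baseChange_le {S' : Scheme.{u}} (f : X ⟶ S) (g : S' ⟶ S)
    [IsLocallyNoetherian X] [IsLocallyNoetherian (pullback f g)] (x₀ : ↑(pullback f g)) :
    ∃ x' : ↑(pullback f g), pullback.fst f g x' = pullback.fst f g x₀ ∧
      ringKrullDim (CInt.fiberStalk (pullback.snd f g) x') ≤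
        ringKrullDim (CInt.fiberStalk f (pullback.fst f g x₀)) := by
  obtain ⟨h, -, hh⟩ := exists_fiber_baseChange f g (pullback.snd f g x₀)
  obtain ⟨z, hz, hz0⟩ := exists_point_dim_fiber_zero h (h ((pullback.snd f g).asFiber x₀)) ⟨_, rfl⟩
  have hzy : f.fiberι _ (h z) = pullback.fst f g x₀ := by
    rw [hz, ← Scheme.Hom.comp_apply, hh, Scheme.Hom.comp_apply, Scheme.Hom.fiberι_asFiber]
  have := isNoetherianRing_stalk_fiber f (h z)
  have := isNoetherianRing_stalk_fiber (pullback.snd f g) z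
  refine ⟨(pullback.snd f g).fiberι _ z, ?_, ?_⟩
  · rw [← hzy, ← Scheme.Hom.comp_apply, ← Scheme.Hom.comp_apply, hh]
  · rw [← dim_stalk_fiber_eq (pullback.snd f g) z rfl, ← dim_stalk_fiber_eq f (h z) hzy]
    exact dim_stalk_le_of_fiber_zero h z hz0

end Groth.Agent.H26.FibreDim
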