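import Groth.Agent.H26.CritereReg
import Groth.Agent.H26.FibreDim
import Groth.Agent.Lib.Depth.CM
import Groth.Agent.Lib.Flat55.FibrewiseScheme
import Groth.Agent.Lib.JacCrit.FlatRegular
import Groth.Agent.Lib.Cyc.SmoothReg
import Mathlib.AlgebraicGeometry.Morphisms.FinitePresentation

/-!
# Regular sequences and depth at a point from those of the fibre (non-Noetherian)
-/

universe u

open CategoryTheory CategoryTheory.Limits AlgebraicGeometry IsLocalRing LocCoh
open RingTheory.Sequence Pointwise

namespace Groth.Agent.H26.FibreRegStalk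

open Groth.Agent.Lib

theorem weaklyRegular_of_unit_mul {A : Type u} [CommRing A] (M : Type u) [AddCommGroup M]
    [Module A M] (gs : List A) (v : A → A) (hv : ∀ g, IsUnit (v g)) :
    IsWeaklyRegular M (gs.map fun g => v g * g) ↔ IsWeaklyRegular M gs := by
  induction gs generalizing M with
  | nil => simp
  | cons g gs ih =>
    rw [List.map_cons, isWeaklyRegular_cons_iff, isWeaklyRegular_cons_iff]
    have e : (v g * g) • (⊤ : Submodule A M) = g • (⊤ : Submodule A M) := by
      rw [← Submodule.ideal_span_singleton_smul, ← Submodule.ideal_span_singleton_smul,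
        Ideal.span_singleton_mul_left_unit (hv g)]
    have h1 : IsSMulRegular M (v g * g) ↔ IsSMulRegular M g :=
      ⟨fun h => h.of_mul, fun h => ((hv g).isSMulRegular M).mul h⟩
    rw [h1, ih, (Submodule.quotEquivOfEq _ _ e).isWeaklyRegular_congr]

variable {X S : Scheme.{u}} (f : X ⟶ S) [LocallyOfFinitePresentation f] (x : X)

theorem weaklyRegular_stalk (hflat : (f.stalkMap x).hom.Flat) (gs : List (X.presheaf.stalk x))
    (hgm : ∀ g ∈ gs, g ∈ maximalIdeal (X.presheaf.stalk x))
    (hreg : IsWeaklyRegular (X.presheaf.stalk x ⧸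
      (maximalIdeal (S.presheaf.stalk (f x))).map (f.stalkMap x).hom) gs) :
    IsWeaklyRegular (X.presheaf.stalk x) gs := by
  obtain ⟨V, hV, hxV, -⟩ := exists_isAffineOpen_mem_and_subset (X := S) (x := f x) (U := ⊤) trivial
  obtain ⟨U, hU, hxU, hUV'⟩ := exists_isAffineOpen_mem_and_subset (X := X) (x := x)
    (U := f ⁻¹ᵁ V) hxV
  have hUV : U ≤ f ⁻¹ᵁ V := fun z hz ↦ hUV' hz
  let φ : Γ(S, V) →+* Γ(X, U) := (f.appLE V U hUV).hom
  let := φ.toAlgebra
  have : Algebra.FinitePresentation Γ(S, V) Γ(X, U) :=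
    HasRingHomProperty.appLE @LocallyOfFinitePresentation f inferInstance ⟨V, hV⟩ ⟨U, hU⟩ hUV
  let := TopCat.Presheaf.algebra_section_stalk S.presheaf (⟨f x, hxV⟩ : V)
  let := TopCat.Presheaf.algebra_section_stalk X.presheaf (⟨x, hxU⟩ : U)
  have := hV.isLocalization_stalk ⟨f x, hxV⟩
  have := hU.isLocalization_stalk ⟨x, hxU⟩
  let P := (hU.primeIdealOf ⟨x, hxU⟩).asIdeal
  let pp := (hV.primeIdealOf ⟨f x, hxV⟩).asIdeal
  let Aloc : Algebra Γ(S, V) (X.presheaf.stalk x) :=
    ((algebraMap Γ(X, U) (X.presheaf.stalk x)).comp φ).toAlgebra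
  have : IsScalarTower Γ(S, V) Γ(X, U) (X.presheaf.stalk x) := .of_algebraMap_eq fun _ => rfl
  have hcomm : ∀ r, (f.stalkMap x).hom (algebraMap Γ(S, V) (S.presheaf.stalk (f x)) r) =
      algebraMap Γ(S, V) (X.presheaf.stalk x) r :=
    fun r => Flat55.FibrewiseScheme.germ_appLE f hUV hxU r
  have : Module.Flat Γ(S, V) (X.presheaf.stalk x) := by
    refine RingHom.flat_algebraMap_iff.mp ?_
    rw [show algebraMap Γ(S, V) (X.presheaf.stalk x) =
      (f.stalkMap x).hom.comp (algebraMap Γ(S, V) (S.presheaf.stalk (f x))) from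
        RingHom.ext fun r => (hcomm r).symm]
    exact RingHom.Flat.comp (RingHom.flat_algebraMap_iff.mpr (IsLocalization.flat _ pp.primeCompl))
      hflat
  have hmax : (maximalIdeal (S.presheaf.stalk (f x))).map (f.stalkMap x).hom =
      pp.map (algebraMap Γ(S, V) (X.presheaf.stalk x)) := by
    rw [← IsLocalization.AtPrime.map_eq_maximalIdeal pp (S.presheaf.stalk (f x)), Ideal.map_map]
    congr 1
    exact RingHom.ext hcomm
  have hp : P.comap (algebraMap Γ(S, V) Γ(X, U)) = pp := by
    ext r
    rw [Ideal.mem_comap, ← IsLocalization.AtPrime.to_map_mem_maximal_iff (X.presheaf.stalk x) P,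
      ← IsLocalization.AtPrime.to_map_mem_maximal_iff (S.presheaf.stalk (f x)) pp,
      ← IsScalarTower.algebraMap_apply, ← hcomm]
    rw [mem_maximalIdeal, mem_maximalIdeal, mem_nonunits_iff, mem_nonunits_iff,
      isUnit_map_iff (f.stalkMap x).hom]
  choose cs hcs using IsLocalization.surj P.primeCompl (S := X.presheaf.stalk x)
  let v : X.presheaf.stalk x → X.presheaf.stalk x :=
    fun g => algebraMap Γ(X, U) (X.presheaf.stalk x) (cs g).2.1
  have hv : ∀ g, IsUnit (v g) := fun g => IsLocalization.map_units _ (cs g).2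
  have hmap : (gs.map fun g => (cs g).1).map (algebraMap Γ(X, U) (X.presheaf.stalk x)) =
      gs.map fun g => v g * g := by
    rw [List.map_map]
    exact List.map_congr_left fun g _ => ((mul_comm _ _).trans (hcs g)).symm
  rw [hmax, ← weaklyRegular_of_unit_mul _ gs v hv, ← hmap] at hreg
  rw [← weaklyRegular_of_unit_mul _ gs v hv, ← hmap]
  refine (CritereReg.weaklyRegular_of_fibre P pp hp (X.presheaf.stalk x) _ ?_ hreg).1
  simp only [List.mem_map]
  rintro _ ⟨g, hg, rfl⟩
  rw [← IsLocalization.AtPrime.to_map_mem_maximal_iff (X.presheaf.stalk x) P, ← hcs g]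
  exact Ideal.mul_mem_right _ _ (hgm g hg)

theorem isNoetherianRing_fiberStalk : IsNoetherianRing (CInt.fiberStalk f x) := by
  have : LocallyOfFiniteType (f.fiberToSpecResidueField (f x)) :=
    MorphismProperty.of_isPullback (P := @LocallyOfFiniteType)
      (IsPullback.of_hasPullback f (S.fromSpecResidueField (f x))) inferInstance
  have := LocallyOfFiniteType.isLocallyNoetherian (f.fiberToSpecResidueField (f x))
  infer_instance

theorem le_depth_stalk (hflat : (f.stalkMap x).hom.Flat) {d : ℕ}
    (h : (d : ℕ∞) ≤ LocCoh.depth (CInt.fiberStalk f x) (CInt.fiberStalk f x)) :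
    (d : ℕ∞) ≤ LocCoh.depth (X.presheaf.stalk x) (X.presheaf.stalk x) := by
  let e := H46.FiberStalk.quotientEquiv f x
  let I := (maximalIdeal (S.presheaf.stalk (f x))).map (f.stalkMap x).hom
  have hI : I ≤ maximalIdeal (X.presheaf.stalk x) :=
    ((local_hom_TFAE (f.stalkMap x).hom).out 0 2).mp
      (inferInstance : IsLocalHom (f.stalkMap x).hom)
  obtain ⟨φ, hs, hk⟩ := H46.FiberStalk.exists_surjective_stalk f (f x) (f.asFiber x) x
    (f.fiberι_asFiber x)
  letI : Algebra (X.presheaf.stalk x) (CInt.fiberStalk f x) := φ.toAlgebra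
  have := isNoetherianRing_fiberStalk f x
  rw [← Depth.Basic.depth_eq_of_surjective (R := X.presheaf.stalk x)
    (S := CInt.fiberStalk f x) (M := CInt.fiberStalk f x) hs,
    Depth.Basic.depth_congr ((Algebra.linearMap (X.presheaf.stalk x)
      (CInt.fiberStalk f x)).quotKerEquivOfSurjective hs).symm] at h
  have hkI : LinearMap.ker (Algebra.linearMap (X.presheaf.stalk x) (CInt.fiberStalk f x)) = I := hk
  rw [Depth.Basic.depth_congr (Submodule.quotEquivOfEq _ I hkI)] at h
  rcases (Depth.Basic.le_idealDepth_iff _).mp h with h | ⟨rs, hl, hmem, hreg⟩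
  · exfalso
    have h1 := congrArg (Submodule.comap (Submodule.mkQ I)) h
    rw [Submodule.comap_top, ← Depth.Basic.smul_top_map _ _ (Submodule.mkQ_surjective _),
      Submodule.comap_map_mkQ, smul_eq_mul, Ideal.mul_top, sup_eq_right.mpr hI] at h1
    exact (maximalIdeal.isMaximal _).ne_top h1
  · exact hl ▸ Depth.Basic.length_le_idealDepth (weaklyRegular_stalk f x hflat rs hmem hreg) hmem

theorem isRegularLocalRing_fiberStalk [Smooth f] : IsRegularLocalRing (CInt.fiberStalk f x) := by
  have : Smooth (f.fiberToSpecResidueField (f x)) :=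
    MorphismProperty.of_isPullback (P := @Smooth)
      (IsPullback.of_hasPullback f (S.fromSpecResidueField (f x))) ‹Smooth f›
  exact @Cyc.SmoothReg.isRegularLocalRing_stalk (f.fiber (f x)) (S.residueField (f x)) _
    (f.fiberToSpecResidueField (f x)) this _

theorem le_depth_stalk_of_smooth [Smooth f] {d : ℕ}
    (h : (d : WithBot ℕ∞) ≤ ringKrullDim (CInt.fiberStalk f x)) :
    (d : ℕ∞) ≤ LocCoh.depth (X.presheaf.stalk x) (X.presheaf.stalk x) := by
  have := isRegularLocalRing_fiberStalk f x
  have := JacCrit.FlatRegular.isCohenMacaulayLocalRing (CInt.fiberStalk f x)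
  refine le_depth_stalk f x (Flat.stalkMap f x) ?_
  rw [Depth.CM.ringKrullDim_eq_depth] at h
  exact_mod_cast h

end Groth.Agent.H26.FibreRegStalk
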