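import Groth.Agent.H26.Triv
import Groth.Agent.Lib.Regular45.QuasiReg
import Mathlib.RingTheory.Flat.Equalizer
import Mathlib.LinearAlgebra.TensorProduct.Pi
import Mathlib.RingTheory.MvPolynomial.Ideal

/-!
# Sequences with vanishing first Koszul homology are quasi-regular
-/

universe u

open MvPolynomial TensorProduct CAlgX

set_option maxHeartbeats 400000

namespace Groth.Agent.H26.H1Quasi

open Triv

variable {A : Type u} [CommRing A]

theorem isTriv_map {M N : Type*} [AddCommGroup M] [Module A M] [AddCommGroup N] [Module A N]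
    (φ : M →ₗ[A] N) {n : ℕ} {f : Fin n → A} {m : Fin n → M} (h : IsTriv f m) :
    IsTriv f fun i => φ (m i) := by
  obtain ⟨a, ha⟩ := h
  exact ⟨fun i j => φ (a i j), fun i => by simp [ha]⟩

theorem mem_span_iff_isTriv {n : ℕ} (f : Fin n → A) (a : Fin n → A) :
    a ∈ Submodule.span A
      {v : Fin n → A | ∃ i j : Fin n, v = Pi.single i (f j) - Pi.single j (f i)} ↔ IsTriv f a := by
  classical
  constructor
  · intro h
    refine (Submodule.span_le (p := triv (M := A) f)).mpr ?_ h
    rintro _ ⟨i, j, rfl⟩
    have := isTriv_generator (M := A) f i j (1 : A)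
    show IsTriv f _
    convert this using 1
    funext k
    simp [Pi.single_apply]
  · rintro ⟨d, hd⟩
    have e : a = ∑ i, ∑ j, d i j • (Pi.single i (f j) - Pi.single j (f i) : Fin n → A) := by
      funext k
      simp only [Finset.sum_apply, Pi.smul_apply, Pi.sub_apply, smul_sub, Finset.sum_sub_distrib,
        smul_eq_mul, Pi.single_apply, mul_ite, mul_zero, hd k, mul_sub, Finset.sum_ite_irrel,
        Finset.sum_ite_eq, Finset.sum_const_zero, Finset.mem_univ, if_true, mul_comm]
    rw [e]
    exact Submodule.sum_mem _ fun i _ => Submodule.sum_mem _ fun j _ =>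
      Submodule.smul_mem _ _ (Submodule.subset_span ⟨i, j, rfl⟩)

theorem isH1Regular_iff {n : ℕ} (f : Fin n → A) :
    IsH1Regular f ↔ ∀ a : Fin n → A, ∑ i, a i * f i = 0 → IsTriv f a :=
  forall_congr' fun a => imp_congr_right fun _ => mem_span_iff_isTriv f a

theorem isTriv_of_sum_eq_zero {σ : Type*} {n : ℕ} {f : Fin n → A} (hf : IsH1Regular f)
    (S : Fin n → MvPolynomial σ A) (h : ∑ i, f i • S i = 0) : IsTriv f S := by
  classical
  let s := Finset.univ.biUnion fun i => (S i).support
  have e : S = ∑ d ∈ s, fun i => monomial d ((S i).coeff d) := by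
    funext i
    rw [Finset.sum_apply]
    conv_lhs => rw [(S i).as_sum]
    refine Finset.sum_subset (fun d hd => Finset.mem_biUnion.mpr ⟨i, Finset.mem_univ _, hd⟩)
      fun d _ hd => ?_
    rw [notMem_support_iff.mp hd, monomial_zero]
  rw [e]
  refine Submodule.sum_mem (triv (M := MvPolynomial σ A) f) fun d _ => ?_
  show IsTriv f _
  refine isTriv_map (MvPolynomial.monomial d (R := A)) ((isH1Regular_iff f).mp hf _ ?_)
  have := congrArg (coeff d) h
  simpa [coeff_sum, mul_comm] using this

theorem exists_homogeneous_parts {c n : ℕ} {P : MvPolynomial (Fin c) A}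
    (hP : P.IsHomogeneous (n + 1)) :
    ∃ Q : Fin c → MvPolynomial (Fin c) A, (∀ i, (Q i).IsHomogeneous n) ∧ P = ∑ i, X i * Q i := by
  classical
  have hmem : P ∈ Ideal.span (Set.range (X : Fin c → MvPolynomial (Fin c) A)) := by
    rw [← Set.image_univ, mem_ideal_span_X_image]
    intro d hd
    by_contra hne
    push Not at hne
    have hd0 : d = 0 := Finsupp.ext fun i => hne i (Set.mem_univ i)
    have := hP (mem_support_iff.mp hd)
    simp [hd0] at this
  obtain ⟨R, hR⟩ := (Ideal.mem_span_range_iff_exists_fun).mp hmem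
  refine ⟨fun i => homogeneousComponent n (R i), fun i => homogeneousComponent_isHomogeneous n _, ?_⟩
  ext d
  rw [coeff_sum]
  by_cases hd : d.degree = n + 1
  · conv_lhs => rw [← hR, coeff_sum]
    refine Finset.sum_congr rfl fun i _ => ?_
    rw [mul_comm (R i), coeff_X_mul', coeff_X_mul']
    split_ifs with hi
    · rw [coeff_homogeneousComponent, if_pos]
      have hle : Finsupp.single i 1 ≤ d := Finsupp.single_le_iff.mpr
        (Nat.one_le_iff_ne_zero.mpr (Finsupp.mem_support_iff.mp hi))
      have := congrArg Finsupp.degree (tsub_add_cancel_of_le hle)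
      rw [map_add, Finsupp.degree_single] at this
      omega
    · rfl
  · rw [hP.coeff_eq_zero hd]
    refine (Finset.sum_eq_zero fun i _ => ?_).symm
    exact ((isHomogeneous_X A i).mul (homogeneousComponent_isHomogeneous n (R i))).coeff_eq_zero
      (by omega)

/-- A homogeneous relation between the monomials is a combination of the trivial ones. -/
theorem exists_triv_of_eval_eq_zero {c : ℕ} {f : Fin c → A} (hf : IsH1Regular f) :
    ∀ (n : ℕ) (P : MvPolynomial (Fin c) A), P.IsHomogeneous n → eval f P = 0 →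
      ∃ T : Fin c → MvPolynomial (Fin c) A, IsTriv f T ∧ P = ∑ k, X k * T k := by
  intro n
  induction n with
  | zero =>
    intro P hP he
    rw [MvPolynomial.totalDegree_eq_zero_iff_eq_C.mp (Nat.le_zero.mp hP.totalDegree_le)] at he ⊢
    rw [eval_C] at he
    exact ⟨0, (triv (M := MvPolynomial (Fin c) A) f).zero_mem, by simp [he]⟩
  | succ n ih =>
    intro P hP he
    obtain ⟨Q, hQ, rfl⟩ := exists_homogeneous_parts hP
    obtain ⟨T, ⟨R, hR⟩, hT⟩ := ih (∑ i, f i • Q i)
      (IsHomogeneous.sum _ _ _ fun i _ => by rw [smul_eq_C_mul]; exact (hQ i).C_mul _)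
      (by rw [map_sum] at he ⊢; simpa [smul_eq_C_mul] using he)
    let S : Fin c → MvPolynomial (Fin c) A := fun j => Q j - ∑ i, X i * (R i j - R j i)
    have hS : ∑ j, f j • S j = 0 := by
      have h2 : ∑ j, f j • ∑ i, X i * (R i j - R j i) = ∑ k, X k * T k := by
        simp only [hR, Finset.mul_sum, Finset.smul_sum, mul_smul_comm]
        exact Finset.sum_comm
      rw [Finset.sum_congr rfl fun j _ => (show f j • S j = f j • Q j - f j • ∑ i, X i * (R i j - R j i)
        from smul_sub _ _ _), Finset.sum_sub_distrib, h2, hT, sub_self]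
    refine ⟨S, isTriv_of_sum_eq_zero hf S hS, ?_⟩
    have h3 : ∑ k, X k * ∑ i, X i * (R i k - R k i) = 0 := by
      simp only [mul_sub, Finset.sum_sub_distrib, Finset.mul_sum, sub_eq_zero]
      rw [Finset.sum_comm]
      exact Finset.sum_congr rfl fun i _ => Finset.sum_congr rfl fun j _ => by ring
    rw [Finset.sum_congr rfl fun k _ => (show X k * S k = X k * Q k - X k * ∑ i, X i * (R i k - R k i)
        from mul_sub _ _ _), Finset.sum_sub_distrib, h3, sub_zero]

/-- An `H₁`-regular sequence is quasi-regular. -/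
theorem isQuasiRegular {c : ℕ} {f : Fin c → A} (hf : IsH1Regular f) : IsQuasiRegular f := by
  classical
  intro n P hP he d
  refine Lib.Regular45.QuasiReg.of_eval_eq_zero f (fun P hP he d => ?_) hP he d
  obtain ⟨T, hT, rfl⟩ := exists_triv_of_eval_eq_zero hf n P hP he
  rw [coeff_sum]
  refine Ideal.sum_mem _ fun k _ => ?_
  rw [coeff_X_mul']
  split_ifs
  · have := Triv.mem_span_range (isTriv_map (lcoeff A (d - Finsupp.single k 1)) hT) k
    simpa [smul_eq_mul] using this
  · exact zero_mem _

theorem append {n m : ℕ} {f : Fin n → A} {g : Fin m → A} (hf : IsH1Regular f)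
    (hg : IsH1Regular fun j => Ideal.Quotient.mk (Ideal.span (Set.range f)) (g j)) :
    IsH1Regular (Fin.append f g) := by
  rw [isH1Regular_iff] at *
  intro a ha
  rw [Fin.sum_univ_add] at ha
  simp only [Fin.append_left, Fin.append_right] at ha
  let π := Ideal.Quotient.mk (Ideal.span (Set.range f))
  have hπf : ∀ i, π (f i) = 0 := fun i =>
    Ideal.Quotient.eq_zero_iff_mem.mpr (Ideal.subset_span ⟨i, rfl⟩)
  obtain ⟨d', hd'⟩ := hg (fun j => π (a (Fin.natAdd n j))) (by
    have := congrArg π ha
    simpa [map_sum, hπf] using this)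
  choose d hd using fun i j => Ideal.Quotient.mk_surjective (d' i j)
  have hdiff : ∀ i, a (Fin.natAdd n i) - ∑ j, g j • (d i j - d j i) ∈ Ideal.span (Set.range f) :=
    fun i => by
      rw [← Ideal.Quotient.eq_zero_iff_mem, map_sub, sub_eq_zero]
      refine (hd' i).trans ?_
      simp [map_sum, ← hd, π]
  choose e he using fun i => (Ideal.mem_span_range_iff_exists_fun).mp (hdiff i)
  obtain ⟨b, hb⟩ := hf (fun k => a (Fin.castAdd m k) + ∑ i, e i k * g i) (by
    have hK : ∑ i, (∑ j, g j • (d i j - d j i)) * g i = 0 := by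
      have h0 := IsTriv.sum_eq_zero (f := g) (m := fun i => ∑ j, g j • (d i j - d j i))
        ⟨d, fun i => rfl⟩
      simpa [mul_comm] using h0
    have h1 : ∑ i, a (Fin.natAdd n i) * g i = ∑ i, (∑ k, e i k * f k) * g i := by
      rw [eq_comm, ← sub_eq_zero, ← Finset.sum_sub_distrib, ← neg_eq_zero, ← Finset.sum_neg_distrib]
      refine Eq.trans (Finset.sum_congr rfl fun i _ => ?_) hK
      rw [he i]
      ring
    rw [h1] at ha
    rw [← ha]
    simp only [add_mul, Finset.sum_add_distrib, Finset.sum_mul]
    rw [add_right_inj, Finset.sum_comm]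
    exact Finset.sum_congr rfl fun i _ => Finset.sum_congr rfl fun k _ => by ring)
  refine ⟨Fin.append (fun k => Fin.append (b k) (fun i => -e i k))
    (fun i => Fin.append (fun _ => 0) (d i)), fun k => ?_⟩
  rw [Fin.sum_univ_add]
  induction k using Fin.addCases with
  | left k =>
    have := hb k
    simp only [Fin.append_left, Fin.append_right, sub_zero, smul_eq_mul] at this ⊢
    rw [eq_sub_of_add_eq this, sub_eq_add_neg, ← Finset.sum_neg_distrib]
    exact congrArg _ (Finset.sum_congr rfl fun i _ => by ring)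
  | right i =>
    simp only [Fin.append_left, Fin.append_right, sub_neg_eq_add, zero_add, smul_eq_mul] at *
    have := he i
    rw [eq_add_of_sub_eq this.symm]
    exact congrArg (· + _) (Finset.sum_congr rfl fun k _ => mul_comm _ _)

/-- Base change of `H₁`-regular sequences with flat quotient. -/
theorem baseChange (R B R' : Type u) [CommRing R] [CommRing B] [CommRing R'] [Algebra R B]
    [Algebra R R'] {r : ℕ} (f : Fin r → B) [Module.Flat R (B ⧸ Ideal.span (Set.range f))]
    (hq : IsH1Regular f) :
    IsH1Regular (fun i => ((1 : R') ⊗ₜ[R] f i : R' ⊗[R] B)) := by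
  classical
  rw [isH1Regular_iff] at *
  let J := Ideal.span (Set.range f)
  let φ : (Fin r → Fin r → B) →ₗ[R] (Fin r → B) :=
    { toFun := fun d i => ∑ j, f j * (d i j - d j i)
      map_add' := fun d d' => funext fun i => by
        simp only [Pi.add_apply, ← Finset.sum_add_distrib]
        exact Finset.sum_congr rfl fun j _ => by ring
      map_smul' := fun c d => funext fun i => by
        simp only [Pi.smul_apply, RingHom.id_apply, Finset.smul_sum, ← smul_sub, mul_smul_comm] }
  let ψ : (Fin r → B) →ₗ[R] ↥J :=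
    { toFun := fun a => ⟨∑ i, a i * f i,
        Ideal.sum_mem _ fun i _ => Ideal.mul_mem_left _ _ (Ideal.subset_span ⟨i, rfl⟩)⟩
      map_add' := fun a a' => Subtype.ext (by simp [add_mul, Finset.sum_add_distrib])
      map_smul' := fun c a => Subtype.ext (by simp [Finset.smul_sum]) }
  have hψ : Function.Surjective ψ := fun ⟨x, hx⟩ => by
    obtain ⟨a, rfl⟩ := Ideal.mem_span_range_iff_exists_fun.mp hx
    exact ⟨a, rfl⟩
  have hex : Function.Exact φ ψ := by
    intro a
    constructor
    · intro h
      obtain ⟨d, hd⟩ := hq a (congrArg Subtype.val h)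
      exact ⟨d, funext fun i => (hd i).symm⟩
    · rintro ⟨d, rfl⟩
      refine Subtype.ext ?_
      show ∑ i, (φ d) i * f i = 0
      have h0 := IsTriv.sum_eq_zero (f := f) (m := φ d) ⟨d, fun i => rfl⟩
      simpa [mul_comm] using h0
  let ι : ↥J →ₗ[R] B := (Submodule.subtype J).restrictScalars R
  have hinj : Function.Injective (ι.lTensor R') := by
    refine LinearMap.lTensor_injective_of_exact_of_flat (Ideal.Quotient.mkₐ R J).toLinearMap
      Ideal.Quotient.mk_surjective ι Subtype.val_injective (fun b => ?_) R'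
    exact Ideal.Quotient.eq_zero_iff_mem.trans ⟨fun h => ⟨⟨b, h⟩, rfl⟩, fun ⟨y, hy⟩ => hy ▸ y.2⟩
  let E := TensorProduct.piRight R R R' fun _ : Fin r => B
  intro a ha
  obtain ⟨t, rfl⟩ := E.surjective a
  have h1 : ∀ t, ι.lTensor R' (ψ.lTensor R' t) =
      ∑ i, E t i * ((1 : R') ⊗ₜ[R] f i : R' ⊗[R] B) := by
    intro t
    induction t using TensorProduct.induction_on with
    | zero => simp
    | tmul c v =>
      simp [E, ι, ψ, TensorProduct.tmul_sum]
    | add x y hx hy => simp [hx, hy, add_mul, Finset.sum_add_distrib]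
  have h2 : ψ.lTensor R' t = 0 := hinj (by rw [h1, ha, map_zero])
  obtain ⟨s, rfl⟩ := (lTensor_exact R' hex hψ t).mp h2
  induction s using TensorProduct.induction_on with
  | zero =>
    rw [map_zero, map_zero]
    exact (triv (M := R' ⊗[R] B) fun i => ((1 : R') ⊗ₜ[R] f i : R' ⊗[R] B)).zero_mem
  | tmul c d =>
    refine ⟨fun i j => c ⊗ₜ[R] d i j, fun i => ?_⟩
    simp [E, φ, TensorProduct.tmul_sum, TensorProduct.tmul_sub, mul_sub]
  | add x y hx hy =>
    rw [map_add, map_add]
    exact (triv (M := R' ⊗[R] B) _).add_mem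
      (hx (by rw [← h1, (lTensor_exact R' hex hψ _).mpr ⟨x, rfl⟩, map_zero])
        ((lTensor_exact R' hex hψ _).mpr ⟨x, rfl⟩))
      (hy (by rw [← h1, (lTensor_exact R' hex hψ _).mpr ⟨y, rfl⟩, map_zero])
        ((lTensor_exact R' hex hψ _).mpr ⟨y, rfl⟩))

end Groth.Agent.H26.H1Quasi
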