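import Groth.Agent.H26.CISpread
import Groth.Agent.Lib.Cyc.Dev.Scheme
import Groth.Agent.Lib.Flat55.RegularImm
import Groth.Agent.Lib.Depth.Basic
import Groth.Prelude.Def_CInt
import Groth.Prelude.Def_Mor2
import Mathlib.RingTheory.Regular.Flat

/-!
# Regular closed immersions and the kernels on stalks
-/

universe u

open CategoryTheory AlgebraicGeometry RingTheory.Sequence

namespace Groth.Agent.H26.RegImmLocal

variable {X Y : Scheme.{u}} (f : Y ⟶ X) [IsClosedImmersion f]

theorem ker_stalkMap (U : X.affineOpens) (y : Y) (hy : f y ∈ U.1) :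
    RingHom.ker (f.stalkMap y).hom = (f.ker.ideal U).map (X.presheaf.germ U.1 (f y) hy).hom := by
  refine le_antisymm (Groth.Agent.Lib.Cyc.Dev.SchemeCase.ker_stalkMap_le f U y hy) ?_
  rw [Ideal.map_le_iff_le_comap]
  intro r hr
  rw [Scheme.Hom.ker_apply, RingHom.mem_ker] at hr
  show (f.stalkMap y).hom _ = 0
  rw [Scheme.Hom.germ_stalkMap_apply, hr, map_zero]

/-- The kernel on stalks of an immersion regular near a point is a regular ideal. -/
theorem isRegularIdeal_of_regular_near (y : Y)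
    (h : ∃ V : X.Opens, f y ∈ V ∧ Mor2.IsRegularClosedImmersion (f ∣_ V)) :
    CInt.IsRegularIdeal (RingHom.ker (f.stalkMap y).hom) := by
  obtain ⟨W, hxW, -, hloc⟩ := h
  obtain ⟨U₁, hU₁, hzU, rs, hrs, hker⟩ := hloc ⟨y, hxW⟩
  let U₂ : X.affineOpens := ⟨W.ι ''ᵁ U₁, hU₁.image_of_isOpenImmersion _⟩
  have hxU₂ : f y ∈ U₂.1 := ⟨_, hzU, by simp⟩
  have hk2 : f.ker.ideal U₂ = Ideal.ofList (rs : List Γ(X, U₂.1)) :=
    (Scheme.ker_morphismRestrict_ideal f W ⟨U₁, hU₁⟩).symm.trans hker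
  letI := TopCat.Presheaf.algebra_section_stalk X.presheaf (⟨f y, hxU₂⟩ : U₂.1)
  haveI := U₂.2.isLocalization_stalk ⟨f y, hxU₂⟩
  haveI : Module.Flat Γ(X, U₂.1) (X.presheaf.stalk (f y)) :=
    IsLocalization.flat _ (U₂.2.primeIdealOf ⟨f y, hxU₂⟩).asIdeal.primeCompl
  let gs := (rs : List Γ(X, U₂.1)).map (algebraMap Γ(X, U₂.1) (X.presheaf.stalk (f y)))
  have hK : Ideal.ofList gs = RingHom.ker (f.stalkMap y).hom := by
    rw [← Ideal.map_ofList]
    exact (congrArg (Ideal.map _) hk2.symm).trans (ker_stalkMap f U₂ y hxU₂).symm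
  refine ⟨gs, Groth.Agent.Lib.Depth.Basic.isRegular_of_mem (I := IsLocalRing.maximalIdeal _)
    (Groth.Agent.Lib.Depth.Basic.smul_top_ne_top Ideal.IsPrime.ne_top')
    (IsWeaklyRegular.of_flat hrs.toIsWeaklyRegular) (fun r hr => ?_), hK⟩
  exact IsLocalRing.le_maximalIdeal (RingHom.ker_ne_top _) (hK.le (Ideal.subset_span hr))

/-- Spreading a regular generating sequence of a localised ideal. -/
theorem exists_away {B : Type u} [CommRing B] [IsNoetherianRing B] (p : Ideal B) [p.IsPrime]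
    (L : Type u) [CommRing L] [Algebra B L] [IsLocalization.AtPrime L p] (I : Ideal B) (rs : List L)
    (hw : IsWeaklyRegular L rs) (hI : Ideal.ofList rs = I.map (algebraMap B L)) :
    ∃ a ∉ p, ∃ fs : List B, ∀ (Sa : Type u) [CommRing Sa] [Algebra B Sa] [IsLocalization.Away a Sa],
      IsWeaklyRegular Sa (fs.map (algebraMap B Sa)) ∧
        I.map (algebraMap B Sa) = Ideal.ofList (fs.map (algebraMap B Sa)) := by
  classical
  have mem_iff : ∀ (J : Ideal B) (z : B), algebraMap B L z ∈ J.map (algebraMap B L) →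
      ∃ t ∉ p, t * z ∈ J := by
    intro J z hz
    obtain ⟨⟨a, s⟩, e⟩ := (IsLocalization.mem_map_algebraMap_iff p.primeCompl L).mp hz
    rw [← map_mul] at e
    obtain ⟨c, hc⟩ := IsLocalization.exists_of_eq (M := p.primeCompl) e
    exact ⟨c * s, fun hm => (Ideal.IsPrime.mem_or_mem ‹_› hm).elim c.2 s.2, by
      rw [mul_assoc, mul_comm (s : B) z, hc]; exact J.mul_mem_left _ a.2⟩
  have hnum : ∀ r ∈ rs, ∃ b : B, b ∈ I ∧ ∃ u : L, IsUnit u ∧ algebraMap B L b = u * r := fun r hr => by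
    obtain ⟨⟨b, s⟩, e⟩ := (IsLocalization.mem_map_algebraMap_iff p.primeCompl L).mp
      (hI ▸ Ideal.subset_span hr : r ∈ I.map (algebraMap B L))
    exact ⟨b, b.2, _, IsLocalization.map_units L s, by rw [mul_comm, e]⟩
  choose! b hbI u hu hbu using hnum
  let fs := rs.map b
  let v : L → L := fun r => if r ∈ rs then u r else 1
  have hv : ∀ r, IsUnit (v r) := fun r => by by_cases hr : r ∈ rs <;> simp [v, hr, hu]
  have hfs : fs.map (algebraMap B L) = rs.map fun r => v r * r := by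
    rw [List.map_map]; exact List.map_congr_left fun r hr => by simp [v, hr, hbu r hr]
  have hw' : IsWeaklyRegular L (fs.map (algebraMap B L)) := by
    rw [hfs]; exact (Groth.Agent.H26.FibreRegStalk.weaklyRegular_of_unit_mul _ rs v hv).mpr hw
  have hspan : (Ideal.ofList fs).map (algebraMap B L) = I.map (algebraMap B L) := by
    rw [← hI, Ideal.map_ofList, hfs]
    refine le_antisymm (Ideal.span_le.mpr fun z hz => ?_) (Ideal.span_le.mpr fun r hr => ?_)
    · obtain ⟨r, hr, rfl⟩ := List.mem_map.mp hz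
      exact Ideal.mul_mem_left _ _ (Ideal.subset_span hr)
    · exact (Ideal.unit_mul_mem_iff_mem _ (hv r)).mp
        (Ideal.subset_span (List.mem_map.mpr ⟨r, hr, rfl⟩))
  have hfsI : Ideal.ofList fs ≤ I := Ideal.span_le.mpr fun z hz => by
    obtain ⟨r, hr, rfl⟩ := List.mem_map.mp hz
    exact hbI r hr
  -- a finitely generated ideal which maps into another one does so after inverting one element
  have push : ∀ (J K : Ideal B), (∀ z ∈ J, algebraMap B L z ∈ K.map (algebraMap B L)) →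
      ∃ g ∉ p, ∀ z ∈ J, g * z ∈ K := by
    intro J K h
    obtain ⟨s, hs⟩ := J.fg_of_isNoetherianRing
    choose! t ht htz using fun z (hz : z ∈ s) => mem_iff K z (h z (hs.le (Submodule.subset_span hz)))
    refine ⟨∏ z ∈ s, t z, fun hm => ?_, fun z hz => ?_⟩
    · obtain ⟨z, hz, hzp⟩ := Ideal.IsPrime.prod_mem_iff.mp hm
      exact ht z hz hzp
    · have : z ∈ K.colon {∏ z ∈ s, t z} := by
        refine (hs.ge.trans (Submodule.span_le.mpr fun y hy => ?_)) hz
        rw [SetLike.mem_coe, Submodule.mem_colon_singleton, smul_eq_mul, mul_comm]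
        exact Ideal.mem_of_dvd _ (mul_dvd_mul_right (Finset.dvd_prod_of_mem t hy) _) (htz y hy)
      rwa [Submodule.mem_colon_singleton, smul_eq_mul, mul_comm] at this
  obtain ⟨g₀, hg₀, hg₀z⟩ := push I (Ideal.ofList fs) fun z hz =>
    hspan.ge (Ideal.mem_map_of_mem _ hz)
  have hstep : ∀ i : Fin fs.length, ∃ g ∉ p, ∀ z, fs[i.1] * z ∈ Ideal.ofList (fs.take i.1) →
      g * z ∈ Ideal.ofList (fs.take i.1) := by
    intro i
    obtain ⟨g, hg, hgz⟩ := push ((Ideal.ofList (fs.take i.1)).colon {fs[i.1]})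
      (Ideal.ofList (fs.take i.1)) fun z hz => by
        rw [Submodule.mem_colon_singleton, smul_eq_mul, mul_comm] at hz
        have h2 := (CISpread.isSMulRegular_quotient_iff _ _).mp
          (hw'.regular_mod_prev i.1 (by simp only [List.length_map]; exact i.2)) (algebraMap B L z)
        rw [← List.map_take, ← Ideal.map_ofList, List.getElem_map, ← map_mul] at h2
        exact h2 (Ideal.mem_map_of_mem _ hz)
    exact ⟨g, hg, fun z hz => hgz z (by
      rw [Submodule.mem_colon_singleton, smul_eq_mul, mul_comm]; exact hz)⟩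
  choose g hg hgz using hstep
  refine ⟨g₀ * ∏ i, g i, fun hm => ?_, fs, fun Sa _ _ _ => ?_⟩
  · rcases Ideal.IsPrime.mem_or_mem ‹_› hm with h | h
    · exact hg₀ h
    · obtain ⟨i, -, hi⟩ := Ideal.IsPrime.prod_mem_iff.mp h
      exact hg i hi
  set a := g₀ * ∏ i, g i with ha
  have hua : IsUnit (algebraMap B Sa a) := IsLocalization.Away.algebraMap_isUnit a
  have hu_dvd : ∀ d : B, d ∣ a → IsUnit (algebraMap B Sa d) := fun d hd =>
    isUnit_of_dvd_unit (map_dvd _ hd) hua
  refine ⟨⟨fun i hi => ?_⟩, ?_⟩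
  · rw [CISpread.isSMulRegular_quotient_iff, ← List.map_take, ← Ideal.map_ofList, List.getElem_map]
    intro z hz
    have hi' : i < fs.length := by simpa using hi
    obtain ⟨z₀, s, rfl⟩ := IsLocalization.exists_mk'_eq (Submonoid.powers a) z
    rw [← IsLocalization.mk'_one (M := Submonoid.powers a) Sa (fs[i]'hi'),
      ← IsLocalization.mk'_mul, one_mul, IsLocalization.mk'_mem_iff] at hz
    rw [IsLocalization.mk'_mem_iff]
    obtain ⟨⟨c, t⟩, e⟩ := (IsLocalization.mem_map_algebraMap_iff (Submonoid.powers a) Sa).mp hz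
    rw [← map_mul] at e
    obtain ⟨w, hw⟩ := IsLocalization.exists_of_eq (M := Submonoid.powers a) e
    have h1 : fs[i] * ((w : B) * t * z₀) ∈ Ideal.ofList (fs.take i) := by
      rw [show fs[i] * ((w : B) * t * z₀) = w * (fs[i] * z₀ * t) by ring, hw]
      exact Ideal.mul_mem_left _ _ c.2
    have h2 := Ideal.mem_map_of_mem (algebraMap B Sa) (hgz ⟨i, hi'⟩ _ h1)
    rw [map_mul, map_mul] at h2
    exact (Ideal.unit_mul_mem_iff_mem _ (((IsLocalization.map_units Sa w).mul
      (IsLocalization.map_units Sa t)).map (RingHom.id Sa))).mp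
      (by simpa [mul_assoc] using (Ideal.unit_mul_mem_iff_mem _ (hu_dvd (g ⟨i, hi'⟩)
        (dvd_mul_of_dvd_right (Finset.dvd_prod_of_mem g (Finset.mem_univ _)) _))).mp h2)
  · rw [← Ideal.map_ofList]
    refine le_antisymm (Ideal.map_le_iff_le_comap.mpr fun z hz => ?_) (Ideal.map_mono hfsI)
    rw [Ideal.mem_comap, ← Ideal.unit_mul_mem_iff_mem _ (hu_dvd g₀ (Dvd.intro _ rfl)), ← map_mul]
    exact Ideal.mem_map_of_mem _ (hg₀z z hz)

/-- On a locally Noetherian target, a regular kernel on stalks gives regularity nearby. -/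
theorem regular_near_of_isRegularIdeal [IsLocallyNoetherian X] (y : Y)
    (h : CInt.IsRegularIdeal (RingHom.ker (f.stalkMap y).hom)) :
    ∃ V : X.Opens, f y ∈ V ∧ Mor2.IsRegularClosedImmersion (f ∣_ V) := by
  obtain ⟨U, hU, hxU, -⟩ := exists_isAffineOpen_mem_and_subset (X := X) (x := f y) (U := ⊤) trivial
  haveI : IsNoetherianRing Γ(X, U) := IsLocallyNoetherian.component_noetherian ⟨U, hU⟩
  letI := TopCat.Presheaf.algebra_section_stalk X.presheaf (⟨f y, hxU⟩ : U)
  haveI := hU.isLocalization_stalk ⟨f y, hxU⟩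
  obtain ⟨rs, hrs, hrs'⟩ := h
  obtain ⟨a, ha, fs, hfs⟩ := exists_away (hU.primeIdealOf ⟨f y, hxU⟩).asIdeal (X.presheaf.stalk (f y))
    (f.ker.ideal ⟨U, hU⟩) rs hrs.toIsWeaklyRegular (hrs'.trans (ker_stalkMap f ⟨U, hU⟩ y hxU))
  let D := X.basicOpen a
  have hxD : f y ∈ D := by
    rw [X.mem_basicOpen a (f y) hxU]
    exact IsLocalization.map_units (X.presheaf.stalk (f y))
      (⟨a, ha⟩ : (hU.primeIdealOf ⟨f y, hxU⟩).asIdeal.primeCompl)
  haveI := hU.isLocalization_basicOpen a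
  have hD : IsAffineOpen D := hU.basicOpen a
  haveI : IsAffine (D : Scheme.{u}) := hD
  obtain ⟨hw, hI'⟩ := hfs Γ(X, D)
  have key : ∀ W : X.affineOpens, W.1 = D → ∃ rs : List Γ(X, W.1),
      IsWeaklyRegular Γ(X, W.1) rs ∧ f.ker.ideal W = Ideal.ofList rs := by
    rintro ⟨W, hW⟩ rfl
    refine ⟨_, hw, ?_⟩
    rw [← hI']
    exact (f.ker.map_ideal_basicOpen ⟨U, hU⟩ a).symm
  refine ⟨D, hxD, Groth.Agent.Lib.Flat55.RegularImm.isRegularClosedImmersion_of _ fun z => ?_⟩
  obtain ⟨rs', hrw, hrk⟩ := key ⟨D.ι ''ᵁ ⊤, (isAffineOpen_top _).image_of_isOpenImmersion _⟩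
    D.ι_image_top
  exact ⟨⊤, isAffineOpen_top _, trivial, rs', hrw,
    (Scheme.ker_morphismRestrict_ideal f D ⟨⊤, isAffineOpen_top _⟩).trans hrk⟩

theorem regular_near_iff [IsLocallyNoetherian X] (y : Y) :
    (∃ V : X.Opens, f y ∈ V ∧ Mor2.IsRegularClosedImmersion (f ∣_ V)) ↔
      CInt.IsRegularIdeal (RingHom.ker (f.stalkMap y).hom) :=
  ⟨isRegularIdeal_of_regular_near f y, regular_near_of_isRegularIdeal f y⟩

end Groth.Agent.H26.RegImmLocal
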