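import Groth.Agent.H26.RegKinds
import Groth.Agent.H26.RegImmLocal
import Groth.Agent.H26.RegImmKind
import Groth.Agent.Lib.Synt92.KRImm
import Groth.Agent.Lib.Regular45.QuasiRegConverse

/-!
# Quasi-regular immersions into locally Noetherian schemes are regular
-/

universe u

open CategoryTheory AlgebraicGeometry MvPolynomial

set_option maxHeartbeats 400000

namespace Groth.Agent.H26.RegQuasi

theorem quasi_localization {A L : Type u} [CommRing A] [CommRing L] [Algebra A L] (M : Submonoid A)
    [IsLocalization M L] {c : ℕ} {f : Fin c → A} (hf : CAlgX.IsQuasiRegular f) :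
    CAlgX.IsQuasiRegular fun i => algebraMap A L (f i) := by
  classical
  intro n P hP he d
  have hspan : Ideal.span (Set.range fun i => algebraMap A L (f i)) =
      (Ideal.span (Set.range f)).map (algebraMap A L) := by
    rw [Ideal.map_span, ← Set.range_comp]; rfl
  rw [hspan] at he ⊢
  obtain ⟨b, hb⟩ := IsLocalization.exist_integer_multiples M P.support P.coeff
  choose a ha using hb
  let P₀ : MvPolynomial (Fin c) A := ∑ e ∈ P.support.attach, monomial e.1 (a e.1 e.2)
  have hP₀ : P₀.IsHomogeneous n := IsHomogeneous.sum _ _ _ fun e _ => isHomogeneous_monomial _ (by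
    rw [Finsupp.degree_eq_weight_one]; exact hP (mem_support_iff.mp e.2))
  have hmap : MvPolynomial.map (algebraMap A L) P₀ = C (algebraMap A L b.1) * P := by
    simp only [P₀, map_sum, map_monomial]
    conv_rhs => rw [P.as_sum, Finset.mul_sum, ← Finset.sum_attach]
    refine Finset.sum_congr rfl fun e _ => ?_
    rw [C_mul_monomial, ha, Algebra.smul_def]
  have hev : algebraMap A L (eval f P₀) =
      algebraMap A L b.1 * eval (fun i => algebraMap A L (f i)) P := by
    rw [← eval_C (f := fun i => algebraMap A L (f i)) (algebraMap A L b.1), ← map_mul, ← hmap,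
      eval_map, ← Function.comp_def, ← eval₂_comp]
  have hmem : algebraMap A L (eval f P₀) ∈
      (Ideal.span (Set.range f) ^ (n + 1)).map (algebraMap A L) := by
    rw [hev, Ideal.map_pow]
    exact Ideal.mul_mem_left _ _ he
  obtain ⟨t, ht, htm⟩ := (IsLocalization.algebraMap_mem_map_algebraMap_iff M L _ _).mp hmem
  have hc := hf n (C t * P₀) (hP₀.C_mul t) (by rw [map_mul, eval_C]; exact htm) d
  rw [coeff_C_mul] at hc
  have h1 := Ideal.mem_map_of_mem (algebraMap A L) hc
  rw [map_mul, ← coeff_map, hmap, coeff_C_mul] at h1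
  exact (Ideal.unit_mul_mem_iff_mem _ (IsLocalization.map_units L b)).mp
    ((Ideal.unit_mul_mem_iff_mem _ (IsLocalization.map_units L ⟨t, ht⟩)).mp h1)

theorem regular_of_quasi {X Z : Scheme.{u}} [IsLocallyNoetherian X] (i : Z ⟶ X) (z : Z)
    (h : RegImm.IsRegularImmersionAt .quasi i z) : RegImm.IsRegularImmersionAt .regular i z := by
  obtain ⟨⟨U, hU⟩, hzU, hcl, rs, hrs, hker⟩ := h
  haveI : IsClosedImmersion (i ∣_ U) := hcl
  haveI : IsNoetherianRing Γ(X, U) := IsLocallyNoetherian.component_noetherian ⟨U, hU⟩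
  letI := TopCat.Presheaf.algebra_section_stalk X.presheaf (⟨i z, hzU⟩ : U)
  haveI hloc := hU.isLocalization_stalk ⟨i z, hzU⟩
  let p := (hU.primeIdealOf ⟨i z, hzU⟩).asIdeal
  let L := X.presheaf.stalk (i z)
  haveI : IsLocalization.AtPrime L p := hloc
  haveI : IsNoetherianRing L := IsLocalization.isNoetherianRing p.primeCompl _ inferInstance
  have hIL : (RingHom.ker (i.app U).hom).map (algebraMap Γ(X, U) L) =
      RingHom.ker (i.stalkMap z).hom := (RegImmKind.ker_stalkMap i hU z hzU).symm
  let g : Fin rs.length → L := fun k => algebraMap Γ(X, U) L (rs.get k)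
  have hspan : Ideal.span (Set.range g) = (RingHom.ker (i.app U).hom).map (algebraMap Γ(X, U) L) := by
    have e : Ideal.ofList rs = Ideal.span (Set.range rs.get) := by
      conv_lhs => rw [← List.ofFn_get rs]
      exact Triv.ofList_ofFn _
    rw [hker, e, Ideal.map_span, ← Set.range_comp]
    rfl
  have hjac : ∀ k, g k ∈ Ring.jacobson L := fun k => by
    rw [← Ideal.jacobson_bot, IsLocalRing.jacobson_eq_maximalIdeal (⊥ : Ideal L) bot_ne_top]
    exact IsLocalRing.le_maximalIdeal (RingHom.ker_ne_top _)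
      (hIL.le (hspan.le (Ideal.subset_span ⟨k, rfl⟩)))
  have hw := Lib.Regular45.QuasiRegConverse.isWeaklyRegular_of_quasiRegular rs.length L g hjac
    (quasi_localization p.primeCompl hrs)
  obtain ⟨a, ha, fs, hfs⟩ := RegImmLocal.exists_away p L (RingHom.ker (i.app U).hom) (List.ofFn g) hw
    ((Triv.ofList_ofFn g).trans hspan)
  let D := X.basicOpen a
  have hzD : i z ∈ D := by
    rw [X.mem_basicOpen a (i z) hzU]
    exact IsLocalization.map_units L (⟨a, ha⟩ : p.primeCompl)
  haveI := hU.isLocalization_basicOpen a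
  obtain ⟨hwD, hI⟩ := hfs Γ(X, D)
  have hkerD : RingHom.ker (i.app D).hom = Ideal.ofList (fs.map (algebraMap Γ(X, U) Γ(X, D))) := by
    rw [Lib.Synt92.KRImm.ker_app_basicOpen i hU hcl a]
    exact hI
  refine ⟨⟨D, hU.basicOpen a⟩, hzD, Lib.Synt92.KRImm.closed_of_le i (X.basicOpen_le a) hcl,
    fs.map (algebraMap Γ(X, U) Γ(X, D)), ⟨hwD, ?_⟩, hkerD⟩
  rw [smul_eq_mul, Ideal.mul_top, ← hkerD]
  intro h
  haveI : Nontrivial Γ(Z, i ⁻¹ᵁ D) := by
    refine ⟨0, 1, fun h01 => ?_⟩
    have := congrArg (Z.presheaf.germ (i ⁻¹ᵁ D) z hzD) h01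
    rw [map_zero, map_one] at this
    exact zero_ne_one this
  exact RingHom.ker_ne_top (i.app D).hom h.symm

end Groth.Agent.H26.RegQuasi
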