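import Groth.Agent.H26.FibreRegStalk
import Groth.Agent.Lib.RefHull.LocFree
import Groth.Agent.Lib.Regular.Quotient
import Groth.Agent.Lib.DerivedOX.PullbackStalk
import Groth.Agent.Lib.Flat55.QCohFP
import Groth.Agent.Lib.StalkLoc.Basic
import Groth.Agent.Lib.Modules.GenStalk
import Groth.Agent.H46.FiberStalk
import Mathlib.RingTheory.Flat.EquationalCriterion
import Mathlib.LinearAlgebra.FreeModule.PID
import Groth.Prelude.Def_TorSh
import Groth.Prelude.Def_FlatMod2
import Groth.Prelude.Def_CInt

/-!
# Modules flat over the base with free fibre are free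
-/

universe u

open CategoryTheory AlgebraicGeometry TopologicalSpace Opposite IsLocalRing
open scoped TensorProduct

namespace Groth.Agent.H26.FreeCrit

open Groth.Agent.Lib

/-- The fibrewise criterion of freeness. -/
theorem free_of_fibre {R A B : Type u} [CommRing R] [CommRing A] [CommRing B] [IsLocalRing R]
    [IsLocalRing A] [Algebra R A] [Algebra A B] (hs : Function.Surjective (algebraMap A B))
    (hk : RingHom.ker (algebraMap A B) = (maximalIdeal R).map (algebraMap R A))
    (hle : (maximalIdeal R).map (algebraMap R A) ≤ maximalIdeal A)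
    (N : Type u) [AddCommGroup N] [Module A N] [Module R N] [IsScalarTower R A N]
    [Module.FinitePresentation A N] [Module.Flat R N]
    [Module.Free B (B ⊗[A] N)] [Nontrivial B] : Module.Free A N := by
  classical
  set 𝔞 := (maximalIdeal R).map (algebraMap R A) with h𝔞
  let μ : N →ₗ[A] B ⊗[A] N := TensorProduct.mk A B N 1
  have hμ : Function.Surjective μ := TensorProduct.mk_surjective A N B hs
  have : Module.Finite B (B ⊗[A] N) := inferInstance
  obtain ⟨n, b⟩ : Σ n, Module.Basis (Fin n) B (B ⊗[A] N) := ⟨_, Module.finBasis B (B ⊗[A] N)⟩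
  choose g hg using fun i => hμ (b i)
  let π : (Fin n → A) →ₗ[A] N := Fintype.linearCombination A g
  have hμπ : ∀ c, μ (π c) = ∑ i, algebraMap A B (c i) • b i := fun c => by
    simp only [π, Fintype.linearCombination_apply, map_sum, map_smul, hg, algebraMap_smul]
  have hkerμ : ∀ x, μ x = 0 → x ∈ 𝔞 • (⊤ : Submodule A N) := fun x hx => by
    let e := (AlgEquiv.ofRingEquiv (f := (Ideal.quotEquivOfEq hk.symm).trans
      (RingHom.quotientKerEquivOfSurjective hs)) fun r => rfl : (A ⧸ 𝔞) ≃ₐ[A] B)
    have h1 : (TensorProduct.congr e.toLinearEquiv.symm (LinearEquiv.refl A N)) (μ x) = 0 := by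
      rw [hx, map_zero]
    have h2 : (1 : A ⧸ 𝔞) ⊗ₜ[A] x = 0 := by
      simpa [μ] using h1
    have h3 := congrArg (TensorProduct.quotTensorEquivQuotSMul N 𝔞) h2
    rw [map_zero, ← map_one (Ideal.Quotient.mk 𝔞), TensorProduct.quotTensorEquivQuotSMul_mk_tmul,
      one_smul, Submodule.Quotient.mk_eq_zero] at h3
    exact h3
  -- surjectivity
  have hπ : Function.Surjective π := by
    rw [← LinearMap.range_eq_top, eq_top_iff]
    refine Submodule.le_of_le_smul_of_le_jacobson_bot Module.Finite.fg_top
      (hle.trans (maximalIdeal_le_jacobson ⊥)) fun x _ => ?_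
    choose c hc using fun i => hs (b.repr (μ x) i)
    have h0 : μ (x - π c) = 0 := by
      rw [map_sub, hμπ, sub_eq_zero]
      simp only [hc]
      exact (b.sum_repr _).symm
    exact Submodule.mem_sup.mpr ⟨π c, ⟨c, rfl⟩, x - π c, hkerμ _ h0, add_sub_cancel _ _⟩
  let K := LinearMap.ker π
  have hK : K.FG := Module.FinitePresentation.fg_ker π hπ
  have hcomp : ∀ v ∈ K, ∀ i, v i ∈ 𝔞 := fun v hv i => by
    have h0 : μ (π v) = 0 := by rw [LinearMap.mem_ker.mp hv, map_zero]
    rw [hμπ] at h0
    rw [← hk]
    exact Fintype.linearIndependent_iff.mp b.linearIndependent _ h0 i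
  have hKle : K ≤ 𝔞 • K := by
    intro v hv
    -- write `v` as a combination with coefficients in the maximal ideal of `R`
    have hmem : v ∈ Submodule.span R {w : Fin n → A | ∃ r ∈ maximalIdeal R, ∃ a, w = r • a} := by
      rw [← Finset.univ_sum_single v]
      refine Submodule.sum_mem _ fun i _ => ?_
      have : ∀ t ∈ 𝔞, (Pi.single i t : Fin n → A) ∈
          Submodule.span R {w : Fin n → A | ∃ r ∈ maximalIdeal R, ∃ a, w = r • a} := by
        intro t ht
        obtain ⟨m, a, r, rfl⟩ := Submodule.mem_span_set'.mp ht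
        rw [← LinearMap.single_apply (R := A) (φ := fun _ : Fin n => A), map_sum]
        refine Submodule.sum_mem _ fun j _ => ?_
        obtain ⟨r₀, hr₀, e⟩ := (r j).2
        refine Submodule.subset_span ⟨r₀, hr₀, Pi.single i (a j), ?_⟩
        rw [LinearMap.single_apply, ← e, ← Pi.single_smul, smul_eq_mul, Algebra.smul_def, mul_comm]
      exact this _ (hcomp v hv i)
    obtain ⟨m, cR, w, hw⟩ := Submodule.mem_span_set'.mp hmem
    choose r hr a ha using fun j => (w j).2
    have hv' : v = ∑ j, (cR j * r j) • a j := by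
      rw [← hw]; exact Finset.sum_congr rfl fun j _ => by rw [ha, mul_smul]
    have h0 : ∑ j, (cR j * r j) • π (a j) = 0 := by
      have := LinearMap.mem_ker.mp hv
      rw [hv', map_sum] at this
      simpa only [LinearMap.map_smul_of_tower] using this
    obtain ⟨q, C, y, hy, hC⟩ := Module.Flat.isTrivialRelation_of_sum_smul_eq_zero h0
    choose Y hY using fun l => hπ (y l)
    have hv'' : v = ∑ j, (cR j * r j) • (a j - ∑ l, C j l • Y l) := by
      rw [hv']
      simp only [smul_sub, Finset.sum_sub_distrib, Finset.smul_sum, smul_smul]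
      rw [Finset.sum_comm (f := fun j l => (cR j * r j * C j l) • Y l)]
      simp only [← Finset.sum_smul]
      rw [Finset.sum_eq_zero (s := (Finset.univ : Finset (Fin q)))
        (f := fun l => (∑ j, cR j * r j * C j l) • Y l) fun l _ => by rw [hC l, zero_smul], sub_zero]
    rw [hv'']
    refine Submodule.sum_mem _ fun j _ => ?_
    rw [← algebraMap_smul A (cR j * r j)]
    refine Submodule.smul_mem_smul (Ideal.mem_map_of_mem _ (Ideal.mul_mem_left _ _ (hr j))) ?_
    rw [LinearMap.mem_ker, map_sub, map_sum, sub_eq_zero, show π (a j) = _ from hy j]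
    exact Finset.sum_congr rfl fun l _ => by rw [LinearMap.map_smul_of_tower, hY]
  have hbot : K = ⊥ := Submodule.eq_bot_of_le_smul_of_le_jacobson_bot 𝔞 K hK hKle
    (hle.trans (maximalIdeal_le_jacobson ⊥))
  exact Module.Free.of_equiv (LinearEquiv.ofBijective π ⟨LinearMap.ker_eq_bot.mp hbot, hπ⟩)

variable {X S : Scheme.{u}}

theorem isQuasicoherent_of_isFP {F : X.Modules} (hfp : CohB1.IsFP F) : F.IsQuasicoherent := by
  obtain ⟨σ, -⟩ := SheafOfModules.IsFinitePresentation.exists_quasicoherentData
    (show SheafOfModules X.ringCatSheaf from F) (self := hfp)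
  exact SheafOfModules.IsQuasicoherent.mk (C := X.Opens) (R := X.ringCatSheaf) (M := F) ⟨σ⟩

theorem finitePresentation_stalk {F : X.Modules} [F.IsQuasicoherent] {U : X.Opens}
    (hU : IsAffineOpen U) {x : X} (hx : x ∈ U) [Module.FinitePresentation Γ(X, U) Γ(F, U)] :
    Module.FinitePresentation (X.presheaf.stalk x) (F.presheaf.stalk x) := by
  let := TopCat.Presheaf.algebra_section_stalk X.presheaf (⟨x, hx⟩ : U)
  have := hU.isLocalization_stalk ⟨x, hx⟩
  let := StalkLoc.Basic.moduleSections F hx
  have := StalkLoc.Basic.isScalarTower_sections F hx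
  have := StalkLoc.Basic.isLocalizedModule_germ (M := F) hU hx
  exact FinitePresentation.of_isBaseChange (StalkLoc.Basic.germₗ F hx)
    ((isLocalizedModule_iff_isBaseChange (hU.primeIdealOf ⟨x, hx⟩).asIdeal.primeCompl
      (X.presheaf.stalk x) (StalkLoc.Basic.germₗ F hx)).1 inferInstance)

/-- A finitely presented module, flat over the base with torsion-free fibres, is free near the
points of fibre dimension at most one of a smooth morphism. -/
theorem exists_free_nhd (f : X ⟶ S) [Smooth f] (F : X.Modules) (hfp : CohB1.IsFP F)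
    (hfl : FlatMod.IsFlatOver f F)
    (htf : ∀ s : ↥S, TorSh.IsTorsionFree ((Scheme.Modules.pullback (f.fiberι s)).obj F))
    (x : X) (hx : ringKrullDim (CInt.fiberStalk f x) ≤ 1) :
    ∃ (V : X.Opens) (n : ℕ), x ∈ V ∧ Nonempty (F.restrict V.ι ≅ FlatMod.freeMod (↑V) n) := by
  have := hfp
  have := isQuasicoherent_of_isFP hfp
  obtain ⟨U, hU, hxU, -, hFP⟩ := Flat55.QCohFP.exists_affine_le F x ⊤ trivial
  have hfree : ∀ (s : S) (a : f.fiber s), Module.FinitePresentation (X.presheaf.stalk (f.fiberι s a))
      (F.presheaf.stalk (f.fiberι s a)) →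
      IsRegularLocalRing ((f.fiber s).presheaf.stalk a) →
      ringKrullDim ((f.fiber s).presheaf.stalk a) ≤ 1 →
      Module.Free (X.presheaf.stalk (f.fiberι s a)) (F.presheaf.stalk (f.fiberι s a)) := by
    intro s a hfpN hreg hd
    let A := X.presheaf.stalk (f.fiberι s a)
    let B := (f.fiber s).presheaf.stalk a
    let R := S.presheaf.stalk (f (f.fiberι s a))
    let N := F.presheaf.stalk (f.fiberι s a)
    letI : Algebra A B := ((f.fiberι s).stalkMap a).hom.toAlgebra
    letI : Algebra R A := (f.stalkMap (f.fiberι s a)).hom.toAlgebra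
    letI : Module R N := FlatMod.moduleStalkOver f F (f.fiberι s a)
    haveI : IsScalarTower R A N := IsScalarTower.of_algebraMap_smul fun _ _ => rfl
    haveI : Module.Flat R N := hfl (f.fiberι s a)
    haveI := hreg
    haveI : IsDomain B := Regular.Quotient.isDomain _
    haveI := RefHull.LocFree.isPrincipalIdealRing_of_regular B hd
    haveI : Module.IsTorsionFree B (((Scheme.Modules.pullback (f.fiberι s)).obj F).presheaf.stalk a) :=
      htf s a
    let e : B ⊗[A] N ≃ₗ[B] ((Scheme.Modules.pullback (f.fiberι s)).obj F).presheaf.stalk a :=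
      (asIso ((DerivedOX.PullbackStalk.comparison (f.fiberι s) a).app F)).toLinearEquiv
    haveI : Module.Finite B (B ⊗[A] N) := inferInstance
    haveI : Module.IsTorsionFree B (B ⊗[A] N) := e.injective.moduleIsTorsionFree _ (map_smul e)
    haveI : Module.Free B (B ⊗[A] N) := Module.free_of_finite_type_torsion_free'
    refine free_of_fibre (R := R) (B := B) ((f.fiberι s).stalkMap_surjective a)
      (H46.FiberStalk.ker_stalkMap_fiberι f s a) ?_ N
    exact Ideal.map_le_iff_le_comap.2 fun r hr hu =>
      hr (isUnit_of_map_unit (f.stalkMap (f.fiberι s a)).hom r hu)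
  have hfpx := finitePresentation_stalk (F := F) hU hxU
  have := FibreRegStalk.isRegularLocalRing_fiberStalk f x
  have hx' : ∀ y, y = x → Module.FinitePresentation (X.presheaf.stalk y) (F.presheaf.stalk y) := by
    rintro y rfl; exact hfpx
  have h1 := hfree (f x) (f.asFiber x) (hx' _ (f.fiberι_asFiber x)) this hx
  have hx'' : ∀ y, y = x → Module.Free (X.presheaf.stalk y) (F.presheaf.stalk y) →
      Module.Free (X.presheaf.stalk x) (F.presheaf.stalk x) := by
    rintro y rfl h; exact h
  have := hx'' _ (f.fiberι_asFiber x) h1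
  exact TensorMod.FPCrit.exists_free_nhd hU hxU

end Groth.Agent.H26.FreeCrit
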