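import Groth.Prelude.Def_CInt
import Groth.Agent.Lib.SchDense.Basic
import Groth.Agent.Lib.Unram.EtaleMono
import Mathlib.AlgebraicGeometry.Morphisms.Etale
import Mathlib.AlgebraicGeometry.Morphisms.UniversallyOpen
import Mathlib.RingTheory.Smooth.StandardSmoothCotangent

/-!
# Étale schemes extending from a dense open of the base
-/

set_option autoImplicit false
set_option maxHeartbeats 1000000
set_option linter.all false

universe u

open CategoryTheory CategoryTheory.Limits AlgebraicGeometry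

namespace Groth.Agent.H26.EtaleExtend

/-- A schematically dense open is dense. -/
theorem dense_of_isSchematicallyDense {S : Scheme.{u}} {U : S.Opens} (hU : CInt.IsSchematicallyDense U) :
    Dense (U : Set S) := by
  rw [dense_iff_inter_open]
  rintro V hV ⟨x, hx⟩
  by_contra hne
  rw [Set.not_nonempty_iff_eq_empty] at hne
  let V' : S.Opens := ⟨V, hV⟩
  have hbot : V' ⊓ U = ⊥ := TopologicalSpace.Opens.ext hne
  haveI : Subsingleton Γ(S, V' ⊓ U) := by
    rw [hbot]; infer_instance
  have h01 : (1 : Γ(S, V')) = 0 := hU V' (Subsingleton.elim _ _)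
  have := congrArg (S.presheaf.germ V' x hx).hom h01
  rw [map_one, map_zero] at this
  exact one_ne_zero this

variable {X S : Scheme.{u}} (f : X ⟶ S) (S₀ : S.Opens)

theorem dense_preimage [Flat f] [LocallyOfFinitePresentation f] (hS₀ : Dense (S₀ : Set S)) :
    Dense ((f ⁻¹ᵁ S₀ : X.Opens) : Set X) :=
  hS₀.preimage f.isOpenMap

/-- A smooth morphism étale over a dense open of the base is étale. -/
theorem etale_of_smooth [Smooth f] (hS₀ : Dense (S₀ : Set S)) [Etale (f ∣_ S₀)] : Etale f := by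
  rw [Etale.iff_smoothOfRelativeDimension_zero]
  refine ⟨fun x => ?_⟩
  obtain ⟨U, hU, V, hV, hxV, e, hst⟩ := Smooth.exists_isStandardSmooth f x
  refine ⟨U, hU, V, hV, hxV, e, ?_⟩
  algebraize [(f.appLE U V e).hom]
  haveI : Algebra.IsStandardSmooth Γ(S, U) Γ(X, V) := hst
  obtain ⟨_, _, _, _, ⟨P⟩⟩ := ‹Algebra.IsStandardSmooth Γ(S, U) Γ(X, V)›
  haveI hn : Algebra.IsStandardSmoothOfRelativeDimension P.dimension Γ(S, U) Γ(X, V) :=
    ⟨_, _, _, ‹_›, ⟨P, rfl⟩⟩
  suffices h0 : P.dimension = 0 by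
    show Algebra.IsStandardSmoothOfRelativeDimension 0 Γ(S, U) Γ(X, V)
    rw [← h0]; exact hn
  -- a basic open over `S₀`
  obtain ⟨w, hwV, hw0⟩ := (dense_preimage f S₀ hS₀).inter_open_nonempty (V : Set X) V.2 ⟨x, hxV⟩
  obtain ⟨h, hle, hwh⟩ := hV.exists_basicOpen_le (V := f ⁻¹ᵁ S₀) ⟨w, hw0⟩ hwV
  let D := X.basicOpen h
  have hD : IsAffineOpen D := hV.basicOpen h
  haveI : IsLocalization.Away h Γ(X, D) := hV.isLocalization_basicOpen h
  have eD : D ≤ f ⁻¹ᵁ U := (X.basicOpen_le h).trans e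
  have h1 : RingHom.IsStandardSmoothOfRelativeDimension P.dimension (f.appLE U D eD).hom := by
    have hb := (RingHom.isStandardSmoothOfRelativeDimension_stableUnderCompositionWithLocalizationAway
      P.dimension).right Γ(X, D) h (f.appLE U V e).hom
      (show RingHom.IsStandardSmoothOfRelativeDimension P.dimension (f.appLE U V e).hom from hn)
    rw [RingHom.algebraMap_toAlgebra, ← CommRingCat.hom_comp] at hb
    convert hb using 2
    exact (f.appLE_map _ _).symm
  haveI : Etale (f.resLE U D eD) := by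
    haveI : Etale (f.resLE U D eD ≫ U.ι) := by
      rw [Scheme.Hom.resLE_comp_ι, ← Scheme.homOfLE_ι X hle, Category.assoc, ← morphismRestrict_ι]
      infer_instance
    exact Etale.of_comp (f.resLE U D eD) U.ι
  haveI : IsAffine (U : Scheme.{u}) := hU
  haveI : IsAffine (D : Scheme.{u}) := hD
  have h2 : (f.appLE U D eD).hom.Etale :=
    (RingHom.Etale.respectsIso.arrow_mk_iso_iff (arrowResLEAppIso f U D eD)).mp
      ((HasRingHomProperty.iff_of_isAffine (P := @Etale)).mp inferInstance)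
  letI := (f.appLE U D eD).hom.toAlgebra
  haveI : Algebra.Etale Γ(S, U) Γ(X, D) := h2
  haveI : Nonempty D := ⟨⟨w, hwh⟩⟩
  haveI : Nontrivial Γ(X, D) := inferInstance
  haveI : Algebra.IsStandardSmoothOfRelativeDimension P.dimension Γ(S, U) Γ(X, D) := h1
  have h3 := Algebra.IsStandardSmoothOfRelativeDimension.rank_kaehlerDifferential
    (R := Γ(S, U)) (S := Γ(X, D)) P.dimension
  rw [rank_subsingleton'] at h3
  exact_mod_cast h3.symm

variable {M N : Scheme.{u}} (φ : M ⟶ N) (p : N ⟶ S)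

/-- A morphism of étale schemes which is a monomorphism over a dense open is an open immersion. -/
theorem isOpenImmersion_of_etale [Etale (φ ≫ p)] [Etale p] [IsSeparated φ]
    (hS₀ : Dense (S₀ : Set S)) [Mono (φ ∣_ (p ⁻¹ᵁ S₀))] : IsOpenImmersion φ := by
  haveI : Etale φ := Etale.of_comp φ p
  haveI : Surjective (pullback.diagonal φ) := by
    constructor
    intro z
    by_contra hz
    let Ω : (pullback φ φ).Opens := ⟨(Set.range (pullback.diagonal φ))ᶜ,
      (pullback.diagonal φ).isClosedEmbedding.isClosed_range.isOpen_compl⟩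
    let q := pullback.fst φ φ ≫ φ ≫ p
    obtain ⟨w, hwΩ, hw0⟩ := (dense_preimage q S₀ hS₀).inter_open_nonempty (Ω : Set _) Ω.2 ⟨z, hz⟩
    apply hwΩ
    let a := (pullback φ φ).fromSpecResidueField w ≫ pullback.fst φ φ
    let b := (pullback φ φ).fromSpecResidueField w ≫ pullback.snd φ φ
    have hab : a ≫ φ = b ≫ φ := by simp [a, b, pullback.condition]
    have hr : ∀ c : Spec ((pullback φ φ).residueField w) ⟶ M, c ≫ φ = a ≫ φ →
        Set.range c ⊆ Set.range (φ ⁻¹ᵁ p ⁻¹ᵁ S₀).ι := by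
      intro c hc
      rw [Scheme.Opens.range_ι]
      rintro _ ⟨t, rfl⟩
      show p (φ (c t)) ∈ S₀
      rw [← Scheme.Hom.comp_apply c φ, hc]
      simp only [a, Scheme.Hom.comp_apply, Scheme.fromSpecResidueField_apply]
      exact hw0
    let a' := IsOpenImmersion.lift (φ ⁻¹ᵁ p ⁻¹ᵁ S₀).ι a (hr a rfl)
    let b' := IsOpenImmersion.lift (φ ⁻¹ᵁ p ⁻¹ᵁ S₀).ι b (hr b hab.symm)
    have hab' : a' = b' := by
      rw [← cancel_mono (φ ∣_ (p ⁻¹ᵁ S₀)), ← cancel_mono (p ⁻¹ᵁ S₀).ι]
      simp only [Category.assoc, morphismRestrict_ι, a', b', IsOpenImmersion.lift_fac_assoc, hab]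
    have hba : a = b := by
      rw [← IsOpenImmersion.lift_fac (φ ⁻¹ᵁ p ⁻¹ᵁ S₀).ι a (hr a rfl),
        ← IsOpenImmersion.lift_fac (φ ⁻¹ᵁ p ⁻¹ᵁ S₀).ι b (hr b hab.symm)]
      exact congrArg (· ≫ _) hab'
    have hfac : (pullback φ φ).fromSpecResidueField w = a ≫ pullback.diagonal φ := by
      apply pullback.hom_ext <;> simp [a]
      exact hba.symm
    exact ⟨a (IsLocalRing.closedPoint _), by
      rw [← Scheme.Hom.comp_apply, ← hfac, Scheme.fromSpecResidueField_apply]⟩
  exact Groth.Agent.Lib.Unram.EtaleMono.isOpenImmersion_of_surjective_diagonal φ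

end Groth.Agent.H26.EtaleExtend
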