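import Groth.Agent.S2358
import Groth.Agent.S2155
import Groth.Agent.S3843
import Groth.Agent.H26.EtaleExtend
import Groth.Agent.Lib.Unram.SmoothAscent
import Groth.Agent.Lib.EtaleSection.Sections
import Groth.Agent.Lib.FinCond.Components
import Groth.Agent.Lib.SchDense.Basic
import Mathlib.AlgebraicGeometry.Morphisms.QuasiFinite

/-!
# Finite schemes over normal schemes: sections, and maps from smooth schemes
-/

set_option autoImplicit false
set_option maxHeartbeats 1000000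
set_option linter.all false

universe u

open CategoryTheory CategoryTheory.Limits AlgebraicGeometry TopologicalSpace

namespace Groth.Agent.H26.NormalSection

/-- A section of a finite morphism of normal schemes lands in the smooth locus. -/
theorem section_mem_smoothLocus {T S : Scheme.{u}} (π : T ⟶ S) [IsFinite π] [LocallyOfFinitePresentation π]
    (hT : Pi1.IsNormalScheme T) (hS : Pi1.IsNormalScheme S) (σ : S ⟶ T) (hσ : σ ≫ π = 𝟙 S) (x : S) :
    σ x ∈ π.smoothLocus := by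
  haveI := (hT (σ x)).1
  haveI := (hS x).1
  let a := π.stalkMap (σ x)
  let r := σ.stalkMap x
  have hiso : IsIso (a ≫ r) := by
    rw [← Scheme.Hom.stalkMap_comp, Scheme.Hom.stalkMap_congr_hom _ _ hσ, Scheme.Hom.stalkMap_id]
    exact @IsIso.comp_isIso _ _ _ _ _ _ _ (Iso.isIso_hom _) (IsIso.id _)
  have hbij : Function.Bijective (a ≫ r).hom := ConcreteCategory.bijective_of_isIso (a ≫ r)
  have hra : ∀ z, r.hom (a.hom z) = (a ≫ r).hom z := fun z => rfl
  haveI : (RingHom.ker r.hom).IsPrime := RingHom.ker_isPrime r.hom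
  let P : Spec (T.presheaf.stalk (σ x)) := ⟨RingHom.ker r.hom, inferInstance⟩
  let O : Spec (T.presheaf.stalk (σ x)) := ⟨⊥, Ideal.isPrime_bot⟩
  have hcomap : (Spec.map a) O = (Spec.map a) P := by
    refine PrimeSpectrum.ext (SetLike.ext fun z => ⟨fun hz => ?_, fun hz => ?_⟩)
    · have hz' : a.hom z = 0 := hz
      show r.hom (a.hom z) = 0
      rw [hz', map_zero]
    · have hz' : r.hom (a.hom z) = 0 := hz
      rw [hra] at hz'
      have : z = 0 := hbij.1 (hz'.trans (map_zero _).symm)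
      show a.hom z = 0
      rw [this, map_zero]
  have hπ : π (T.fromSpecStalk (σ x) O) = π (T.fromSpecStalk (σ x) P) := by
    rw [← Scheme.Hom.comp_apply, ← Scheme.Hom.comp_apply, ← Scheme.SpecMap_stalkMap_fromSpecStalk,
      Scheme.Hom.comp_apply, Scheme.Hom.comp_apply]
    exact congrArg _ hcomap
  have hspec : T.fromSpecStalk (σ x) O ⤳ T.fromSpecStalk (σ x) P :=
    ((PrimeSpectrum.le_iff_specializes O P).mp bot_le).map (T.fromSpecStalk (σ x)).continuous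
  have hOP : T.fromSpecStalk (σ x) O = T.fromSpecStalk (σ x) P := by
    haveI : DiscreteTopology ↑(⇑π ⁻¹' {π (T.fromSpecStalk (σ x) P)}) :=
      isDiscrete_iff_discreteTopology.mp (π.isDiscrete_preimage_singleton _)
    have h1 : (⟨T.fromSpecStalk (σ x) O, hπ⟩ : ↑(⇑π ⁻¹' {π (T.fromSpecStalk (σ x) P)})) ⤳
        ⟨T.fromSpecStalk (σ x) P, rfl⟩ := (subtype_specializes_iff _ _).mpr hspec
    have h2 := h1.eq
    exact congrArg (fun y : ↑(⇑π ⁻¹' {π (T.fromSpecStalk (σ x) P)}) => y.1) h2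
  have hker : RingHom.ker r.hom = ⊥ :=
    (congrArg PrimeSpectrum.asIdeal ((T.fromSpecStalk (σ x)).isEmbedding.injective hOP)).symm
  have hr : Function.Injective r.hom := (RingHom.injective_iff_ker_eq_bot _).mpr hker
  rw [Scheme.Hom.mem_smoothLocus]
  refine RingHom.FormallySmooth.of_bijective ⟨fun z w h => hbij.1 (by rw [← hra, ← hra]; exact congrArg r.hom h), fun b => ?_⟩
  obtain ⟨z, hz⟩ := hbij.2 (r.hom b)
  exact ⟨z, hr (by rw [← hz]; rfl)⟩

theorem isNormalScheme_of_smooth {X S : Scheme.{u}} (p : X ⟶ S) [Smooth p] (hS : Pi1.IsNormalScheme S) :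
    Pi1.IsNormalScheme X := fun x =>
  ((Lib.Unram.SmoothAscent.scheme_reduced_normal p x (by rw [Scheme.Hom.smoothLocus_eq_top]; trivial)).2).mpr
    (hS (p x))

variable {S T Z : Scheme.{u}} (π : T ⟶ S) [IsFinite π] [LocallyOfFinitePresentation π]

/-- Maps from smooth schemes to a normal finite scheme land in its smooth locus. -/
theorem range_subset_smoothLocus (hT : Pi1.IsNormalScheme T) (hS : Pi1.IsNormalScheme S) (p : Z ⟶ S)
    [Smooth p] (f : Z ⟶ T) (hf : f ≫ π = p) (z : Z) : f z ∈ π.smoothLocus := by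
  haveI : DiscreteTopology ↑(⇑π ⁻¹' {π (f z)}) :=
    isDiscrete_iff_discreteTopology.mp (π.isDiscrete_preimage_singleton _)
  obtain ⟨O, hO, hOeq⟩ := isOpen_induced_iff.mp (isOpen_discrete ({⟨f z, rfl⟩} : Set ↑(⇑π ⁻¹' {π (f z)})))
  have hmem : ∀ y, π y = π (f z) → y ∈ O → y = f z := fun y hy hyO =>
    congrArg Subtype.val ((Set.ext_iff.mp hOeq ⟨y, hy⟩).mp hyO)
  have hzO : f z ∈ O := (Set.ext_iff.mp hOeq ⟨f z, rfl⟩).mpr rfl
  let W : Z.Opens := f ⁻¹ᵁ ⟨O, hO⟩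
  obtain ⟨S', g, s', hg, hgs, h, hh⟩ := Lib.EtaleSection.Sections.exists_etale_section (W.ι ≫ p) ⟨z, hzO⟩
  have hS' : Pi1.IsNormalScheme S' := isNormalScheme_of_smooth g hS
  have hT'' : Pi1.IsNormalScheme (pullback π g) := isNormalScheme_of_smooth (pullback.fst π g) hT
  let σ : S' ⟶ pullback π g := pullback.lift (h ≫ W.ι ≫ f) (𝟙 S')
    (by simp only [Category.assoc, hf, hh, Category.id_comp])
  have hmem' := section_mem_smoothLocus (pullback.snd π g) hT'' hS' σ (pullback.lift_snd _ _ _) s'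
  rw [Groth.Agent.S2155.result π g (pullback.snd π g) (pullback.fst π g) (IsPullback.of_hasPullback π g) (Or.inr inferInstance)] at hmem'
  have hval : pullback.fst π g (σ s') = f z := by
    rw [← Scheme.Hom.comp_apply, pullback.lift_fst]
    refine hmem _ ?_ (h s').2
    rw [← Scheme.Hom.comp_apply (h ≫ W.ι ≫ f), Category.assoc, Category.assoc, hf, hh, hgs,
      Scheme.Hom.comp_apply, ← hf, Scheme.Hom.comp_apply]
    rfl
  rwa [← hval]

omit [LocallyOfFinitePresentation π] in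
/-- Maps to a finite scheme extend from dense opens of smooth schemes over normal bases. -/
theorem exists_extension (hS : Pi1.IsNormalScheme S) [IsLocallyNoetherian S] (S₀ : S.Opens)
    (hS₀ : CInt.IsSchematicallyDense S₀) (p : Z ⟶ S) [Smooth p]
    (k : (p ⁻¹ᵁ S₀ : Scheme.{u}) ⟶ T) (hk : k ≫ π = (p ⁻¹ᵁ S₀).ι ≫ p) :
    ∃ f : Z ⟶ T, f ≫ π = p ∧ (p ⁻¹ᵁ S₀).ι ≫ f = k := by
  haveI : IsLocallyNoetherian Z := LocallyOfFiniteType.isLocallyNoetherian p
  have hZ : Pi1.IsNormalScheme Z := isNormalScheme_of_smooth p hS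
  have hint : ∀ z : Z, ∃ W : Z.Opens, z ∈ W ∧ AlgebraicGeometry.IsIntegral (W : Scheme.{u}) := fun z => by
    haveI := (hZ z).1
    exact Lib.FinCond.exists_integral_nhd Z z
  choose W hzW hW using hint
  have hloc : ∀ z, ∃ g : (W z : Scheme.{u}) ⟶ T, g ≫ π = (W z).ι ≫ p ∧
      ((W z).ι ⁻¹ᵁ (p ⁻¹ᵁ S₀)).ι ≫ g = ((W z).ι ∣_ (p ⁻¹ᵁ S₀)) ≫ k := by
    intro z
    haveI := hW z
    have hN : Pi1.IsNormalScheme (W z) := isNormalScheme_of_smooth ((W z).ι ≫ p) hS
    have hd : Dense (((W z).ι ⁻¹ᵁ (p ⁻¹ᵁ S₀) : (W z : Scheme.{u}).Opens) : Set (W z : Scheme.{u})) :=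
      EtaleExtend.dense_preimage ((W z).ι ≫ p) S₀ (EtaleExtend.dense_of_isSchematicallyDense hS₀)
    obtain ⟨s, hs, hs'⟩ := Groth.Agent.S2358.result hN (pullback.snd π ((W z).ι ≫ p)) _ hd
      (pullback.lift (((W z).ι ∣_ (p ⁻¹ᵁ S₀)) ≫ k) ((W z).ι ⁻¹ᵁ (p ⁻¹ᵁ S₀)).ι
        (by rw [Category.assoc, hk, morphismRestrict_ι_assoc]))
      (pullback.lift_snd _ _ _)
    refine ⟨s ≫ pullback.fst _ _, ?_, ?_⟩
    · rw [Category.assoc, pullback.condition, reassoc_of% hs]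
    · rw [reassoc_of% hs', pullback.lift_fst]
  choose g hg hg' using hloc
  have key : ∀ (z : Z) {R : Scheme.{u}} (t : R ⟶ W z) (b : R ⟶ (p ⁻¹ᵁ S₀ : Z.Opens)),
      t ≫ (W z).ι = b ≫ (p ⁻¹ᵁ S₀).ι → t ≫ g z = b ≫ k := by
    intro z R t b hb
    have sq := isPullback_morphismRestrict (W z).ι (p ⁻¹ᵁ S₀)
    let l := sq.lift b t hb.symm
    have e1 : l ≫ ((W z).ι ⁻¹ᵁ (p ⁻¹ᵁ S₀)).ι = t := sq.lift_snd _ _ _
    have e2 : l ≫ ((W z).ι ∣_ (p ⁻¹ᵁ S₀)) = b := sq.lift_fst _ _ _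
    rw [← e1, Category.assoc, hg', reassoc_of% e2]
  let 𝒰 : Z.OpenCover := Z.openCoverOfIsOpenCover W
    (eq_top_iff.mpr fun z _ => Opens.mem_iSup.mpr ⟨z, hzW z⟩)
  have hcompat : ∀ i j : Z, pullback.fst (W i).ι (W j).ι ≫ g i = pullback.snd _ _ ≫ g j := by
    intro i j
    let q := pullback.fst (W i).ι (W j).ι ≫ (W i).ι ≫ p
    refine Lib.SchDense.Basic.ext_of_isSchematicallyDense π ?_ (Groth.Agent.S3843.result q S₀ hS₀) ?_
    · simp only [Category.assoc, hg, pullback.condition_assoc]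
    · have hr : Set.range ((q ⁻¹ᵁ S₀).ι ≫ pullback.fst (W i).ι (W j).ι ≫ (W i).ι) ⊆ Set.range (p ⁻¹ᵁ S₀).ι := by
        rw [Scheme.Opens.range_ι]
        rintro _ ⟨w, rfl⟩
        exact w.2
      let b := IsOpenImmersion.lift (p ⁻¹ᵁ S₀).ι _ hr
      have hb : b ≫ (p ⁻¹ᵁ S₀).ι = (q ⁻¹ᵁ S₀).ι ≫ pullback.fst (W i).ι (W j).ι ≫ (W i).ι :=
        IsOpenImmersion.lift_fac _ _ _
      rw [← Category.assoc, key i _ b (by rw [hb, Category.assoc]), ← Category.assoc,
        key j _ b (by rw [hb, Category.assoc, pullback.condition])]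
  refine ⟨𝒰.glueMorphisms g hcompat, Scheme.Cover.hom_ext 𝒰 _ _ fun z => ?_, ?_⟩
  · rw [← Category.assoc, Scheme.Cover.ι_glueMorphisms]
    exact hg z
  · refine Scheme.Cover.hom_ext (𝒰.pullback₁ (p ⁻¹ᵁ S₀).ι) _ _ fun z => ?_
    show pullback.fst (p ⁻¹ᵁ S₀).ι (𝒰.f z) ≫ (p ⁻¹ᵁ S₀).ι ≫ _ = pullback.fst (p ⁻¹ᵁ S₀).ι (𝒰.f z) ≫ k
    rw [pullback.condition_assoc, Scheme.Cover.ι_glueMorphisms]
    exact key z _ _ pullback.condition.symm

end Groth.Agent.H26.NormalSection
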