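import Groth.Agent.H95.ZeroSch
import Groth.Agent.H56.RelFP.Scheme
import Groth.Agent.Lib.TensorMod.QCohInv

/-!
Zero schemes of sections of invertible modules on frames, without integrality.
-/

set_option autoImplicit false
universe u
open CategoryTheory CategoryTheory.Limits AlgebraicGeometry TopologicalSpace Opposite
open Groth.Agent.Lib.TensorMod.Gen Groth.Agent.Lib.TensorMod.Dual
open Groth.Agent.H95.ZeroSch (Frame coord coord_smul exists_frame sv rs_sv rs_smul' section_ext res_res exists_change)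

set_option maxHeartbeats 800000
set_option linter.all false

namespace Groth.Agent.H26.ZeroFrame

variable {X : Scheme.{u}} {L : X.Modules} (hL : PicF.IsInvertible L) (s : Coh.structureModule X ⟶ L)

include hL

/-- Being a multiple of `s` over an affine open is local. -/
theorem exists_eq_smul_sv (U : X.affineOpens) {ι : Type u} (V : ι → X.Opens) (hV : ∀ i, V i ≤ U.1)
    (hU : U.1 ≤ ⨆ i, V i) (m : Γ(L, U.1))
    (h : ∀ i, ∃ b : Γ(X, V i), rs L (hV i) m = b • sv s (V i)) :
    ∃ b : Γ(X, U.1), m = b • sv s U.1 := by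
  have hQ : L.IsQuasicoherent := Groth.Agent.Lib.TensorMod.QCohInv.isQCoh_of_isInvertible hL
  let N : Submodule Γ(X, U.1) Γ(L, U.1) := Submodule.span Γ(X, U.1) {sv s U.1}
  suffices hm : m ∈ N by
    obtain ⟨b, hb⟩ := Submodule.mem_span_singleton.mp hm
    exact ⟨b, hb.symm⟩
  let I : Ideal Γ(X, U.1) := N.colon {m}
  suffices hI : I = ⊤ by
    have := Submodule.mem_colon_singleton.mp ((Ideal.eq_top_iff_one I).mp hI)
    rwa [one_smul] at this
  by_contra hne
  obtain ⟨M, hM, hIM⟩ := Ideal.exists_le_maximal I hne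
  let x : X := U.2.fromSpec ⟨M, hM.isPrime⟩
  have hx : x ∈ U.1 := by
    rw [← SetLike.mem_coe, ← U.2.range_fromSpec]; exact ⟨_, rfl⟩
  obtain ⟨i, hi⟩ := Opens.mem_iSup.mp (hU hx)
  obtain ⟨g, hgV, hxg⟩ := U.2.exists_basicOpen_le (V := V i) ⟨x, hi⟩ hx
  have hgM : g ∉ M := by
    have : (⟨M, hM.isPrime⟩ : PrimeSpectrum Γ(X, U.1)) ∈ PrimeSpectrum.basicOpen g := by
      rw [← U.2.fromSpec_preimage_basicOpen g]; exact hxg
    exact this
  obtain ⟨b, hb⟩ := h i
  have hD : X.basicOpen g ≤ U.1 := X.basicOpen_le g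
  have hb' : rs L hD m = X.presheaf.map (homOfLE hgV).op b • sv s (X.basicOpen g) := by
    rw [← rs_sv s hgV, ← rs_smul', ← hb]
    exact (rs_rs L (hV i) hgV m).symm
  haveI := U.2.isLocalization_basicOpen g
  obtain ⟨⟨c, ⟨_, l, rfl⟩⟩, hc⟩ := IsLocalization.surj (Submonoid.powers g)
    (X.presheaf.map (homOfLE hgV).op b)
  have hc' : X.presheaf.map (homOfLE hgV).op b * X.presheaf.map (homOfLE hD).op (g ^ l) =
      X.presheaf.map (homOfLE hD).op c := hc
  have h1 : rs L hD (g ^ l • m) = rs L hD (c • sv s U.1) := by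
    rw [rs_smul', rs_smul', rs_sv, hb', ← mul_smul, mul_comm, hc']
  letI := Groth.Agent.H56.RelFP.Scheme.moduleBasic L g
  haveI := Groth.Agent.H56.RelFP.Scheme.isLocalizedModule_resLin L g U.2
  obtain ⟨⟨_, l', rfl⟩, hl'⟩ := (IsLocalizedModule.eq_iff_exists (S := Submonoid.powers g)
    (Groth.Agent.H56.RelFP.Scheme.resLin L g)).mp h1
  refine hgM (hM.isPrime.mem_of_pow_mem (l' + l) (hIM (Submodule.mem_colon_singleton.mpr ?_)))
  have hl'' : g ^ l' • g ^ l • m = g ^ l' • c • sv s U.1 := hl'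
  rw [pow_add, mul_smul, hl'', ← mul_smul]
  exact Submodule.smul_mem N _ (Submodule.mem_span_singleton_self _)

omit hL in
/-- the functions multiplying every frame into the multiples of `s` -/
noncomputable def goodIdeal (U : X.affineOpens) : Ideal Γ(X, U.1) where
  carrier := {a | ∀ F : Frame L, ∀ hF : F.V.1 ≤ U.1, ∃ b : Γ(X, F.V.1),
    X.presheaf.map (homOfLE hF).op a • F.e = b • sv s F.V.1}
  add_mem' {a a'} ha ha' F hF := by
    obtain ⟨b, hb⟩ := ha F hF; obtain ⟨b', hb'⟩ := ha' F hF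
    exact ⟨b + b', by rw [map_add, add_smul, add_smul, hb, hb']⟩
  zero_mem' F hF := ⟨0, by rw [map_zero, zero_smul, zero_smul]⟩
  smul_mem' c {a} ha F hF := by
    obtain ⟨b, hb⟩ := ha F hF
    exact ⟨X.presheaf.map (homOfLE hF).op c * b, by rw [smul_eq_mul, map_mul, mul_smul, hb, mul_smul]⟩

omit hL in
/-- on a frame's own open: a function killing the frame into multiples of `s` is good -/
lemma mem_goodIdeal_of_frame (F : Frame L) {a : Γ(X, F.V.1)} {b : Γ(X, F.V.1)}
    (h : a • F.e = b • sv s F.V.1) : a ∈ goodIdeal s F.V := by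
  intro G hG
  obtain ⟨d, hd⟩ := exists_change F G hG le_rfl
  refine ⟨d * X.presheaf.map (homOfLE hG).op b, ?_⟩
  have hd' : G.e = d • rs L hG F.e := by simpa [rs] using hd
  rw [hd', ← mul_smul, mul_comm _ d, mul_smul, ← rs_smul', h, rs_smul', rs_sv, ← mul_smul]

lemma goodIdeal_le (U : X.affineOpens) {a : Γ(X, U.1)} (ha : a ∈ goodIdeal s U) (m : Γ(L, U.1)) :
    ∃ b : Γ(X, U.1), a • m = b • sv s U.1 := by
  refine exists_eq_smul_sv hL s U (fun F : {F : Frame L // F.V.1 ≤ U.1} => F.1.V.1) (fun F => F.2)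
    (fun x hx => ?_) _ fun F => ?_
  · obtain ⟨F, hxF, hF⟩ := exists_frame hL hx
    exact Opens.mem_iSup.mpr ⟨⟨F, hF⟩, hxF⟩
  · obtain ⟨b, hb⟩ := ha F.1 F.2
    refine ⟨coord F.1 (rs L F.2 m) * b, ?_⟩
    rw [rs_smul', ← coord_smul F.1 (rs L F.2 m), ← mul_smul, mul_comm, mul_smul, hb, ← mul_smul,
      coord_smul]

lemma map_goodIdeal (U : X.affineOpens) (g : Γ(X, U.1)) :
    (goodIdeal s U).map (X.presheaf.map (homOfLE (X.basicOpen_le g)).op).hom =
      goodIdeal s (X.affineBasicOpen g) := by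
  haveI := U.2.isLocalization_basicOpen g
  apply le_antisymm
  · refine Ideal.map_le_iff_le_comap.mpr fun a ha F hF => ?_
    obtain ⟨b, hb⟩ := ha F (hF.trans (X.basicOpen_le g))
    exact ⟨b, by rw [← hb]; exact congrArg (· • F.e) (res_res (X.basicOpen_le g) hF a)⟩
  · intro x hx
    obtain ⟨⟨a, ⟨_, m, rfl⟩⟩, hxa⟩ := IsLocalization.surj (Submonoid.powers g) x
    have hxa' : x * X.presheaf.map (homOfLE (X.basicOpen_le g)).op (g ^ m) =
        X.presheaf.map (homOfLE (X.basicOpen_le g)).op a := hxa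
    -- finitely many frames cover `U`
    obtain ⟨T, hT⟩ := U.2.isCompact.elim_finite_subcover
      (fun F : {F : Frame L // F.V.1 ≤ U.1} => (F.1.V.1 : Set X))
      (fun F => F.1.V.1.isOpen) (fun y hy => by
        obtain ⟨F, hyF, hFU⟩ := exists_frame hL hy
        exact Set.mem_iUnion.mpr ⟨⟨F, hFU⟩, hyF⟩)
    have key : ∀ F : {F : Frame L // F.V.1 ≤ U.1}, ∃ (l : ℕ) (b : Γ(X, F.1.V.1)),
        X.presheaf.map (homOfLE F.2).op (g ^ l * a) • F.1.e = b • sv s F.1.V.1 := by
      intro F
      let g' := X.presheaf.map (homOfLE F.2).op g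
      haveI := F.1.V.2.isLocalization_basicOpen g'
      have hD : X.basicOpen g' ≤ X.basicOpen g :=
        (X.basicOpen_res g (homOfLE F.2).op).le.trans inf_le_right
      have hDV : X.basicOpen g' ≤ F.1.V.1 := X.basicOpen_le g'
      obtain ⟨b0, hb⟩ := hx ⟨X.affineBasicOpen g', _, F.1.he.res hDV⟩ hD
      let b : Γ(X, X.basicOpen g') := b0
      have hxD := congrArg (X.presheaf.map (homOfLE hD).op) hxa'
      rw [map_mul, res_res, res_res] at hxD
      obtain ⟨⟨d, ⟨_, l, rfl⟩⟩, hd⟩ := IsLocalization.surj (Submonoid.powers g')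
        (b * X.presheaf.map (homOfLE (hDV.trans F.2)).op (g ^ m))
      have hd' : b * X.presheaf.map (homOfLE (hDV.trans F.2)).op (g ^ m) *
          X.presheaf.map (homOfLE hDV).op (g' ^ l) = X.presheaf.map (homOfLE hDV).op d := hd
      have hb' : X.presheaf.map (homOfLE hD).op x • rs L hDV F.1.e = b • sv s (X.basicOpen g') := hb
      have hgl : X.presheaf.map (homOfLE F.2).op (g ^ l) = g' ^ l :=
        map_pow (X.presheaf.map (homOfLE F.2).op).hom g l
      have h1 : X.presheaf.map (homOfLE hDV).op (X.presheaf.map (homOfLE F.2).op (g ^ l * a)) =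
          X.presheaf.map (homOfLE hDV).op (d * coord F.1 (sv s F.1.V.1)) := by
        refine (F.1.he _ hDV).injective ?_
        change _ • rs L hDV F.1.e = _ • rs L hDV F.1.e
        rw [map_mul, map_mul, hgl, res_res F.2 hDV a, ← hxD, map_mul, ← hd', mul_smul _
          (X.presheaf.map (homOfLE hDV).op (coord F.1 (sv s F.1.V.1))), ← rs_smul', coord_smul, rs_sv]
        calc (X.presheaf.map (homOfLE hDV).op (g' ^ l) * (X.presheaf.map (homOfLE hD).op x *
              X.presheaf.map (homOfLE (hDV.trans F.2)).op (g ^ m))) • rs L hDV F.1.e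
            = (X.presheaf.map (homOfLE hDV).op (g' ^ l) *
              X.presheaf.map (homOfLE (hDV.trans F.2)).op (g ^ m)) •
                (X.presheaf.map (homOfLE hD).op x • rs L hDV F.1.e) := by rw [← mul_smul]; ring_nf
          _ = _ := by rw [hb', ← mul_smul]; ring_nf
      obtain ⟨⟨_, l', rfl⟩, hl'⟩ := (IsLocalization.eq_iff_exists (Submonoid.powers g') _).mp h1
      refine ⟨l' + l, g' ^ l' * d, ?_⟩
      change g' ^ l' * X.presheaf.map (homOfLE F.2).op (g ^ l * a) =
        g' ^ l' * (d * coord F.1 (sv s F.1.V.1)) at hl'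
      rw [pow_add, mul_assoc, map_mul]
      rw [show X.presheaf.map (homOfLE F.2).op (g ^ l') = g' ^ l' from
        map_pow (X.presheaf.map (homOfLE F.2).op).hom g l', hl', ← mul_assoc, mul_smul, coord_smul]
    choose l b hb using key
    let M := T.sup l
    have hmem : g ^ M * a ∈ goodIdeal s U := by
      intro G hG
      refine exists_eq_smul_sv hL s G.V (fun F : {F // F ∈ T} => G.V.1 ⊓ F.1.1.V.1)
        (fun F => inf_le_left) (fun y hy => ?_) _ fun F => ?_
      · obtain ⟨F, hFT, hyF⟩ := Set.mem_iUnion₂.mp (hT (hG hy))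
        exact Opens.mem_iSup.mpr ⟨⟨F, hFT⟩, hy, hyF⟩
      · obtain ⟨c, hc⟩ := exists_change F.1.1 G
          (show G.V.1 ⊓ F.1.1.V.1 ≤ F.1.1.V.1 from inf_le_right) inf_le_left
        refine ⟨c * X.presheaf.map (homOfLE (inf_le_left.trans hG)).op (g ^ (M - l F.1)) *
          X.presheaf.map (homOfLE inf_le_right).op (b F.1), ?_⟩
        rw [rs_smul', res_res, hc, mul_smul _ (X.presheaf.map (homOfLE inf_le_right).op (b F.1)),
          ← rs_sv s (show G.V.1 ⊓ F.1.1.V.1 ≤ F.1.1.V.1 from inf_le_right), ← rs_smul', ← hb F.1,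
          rs_smul', res_res, ← mul_smul, ← mul_smul]
        congr 1
        rw [show M = (M - l F.1) + l F.1 from (Nat.sub_add_cancel (Finset.le_sup F.2)).symm, pow_add,
          mul_assoc, map_mul, Nat.add_sub_cancel]
        ring
    have hu : IsUnit (X.presheaf.map (homOfLE (X.basicOpen_le g)).op (g ^ (M + m))) :=
      IsLocalization.map_units Γ(X, X.basicOpen g) (⟨g ^ (M + m), M + m, rfl⟩ : Submonoid.powers g)
    refine (Ideal.mul_unit_mem_iff_mem _ hu).mp ?_
    rw [pow_add, map_mul, mul_left_comm, hxa', ← map_mul]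
    exact Ideal.mem_map_of_mem _ hmem

/-- the ideal sheaf of good functions -/
noncomputable def goodSheaf : X.IdealSheafData where
  ideal := goodIdeal s
  map_ideal_basicOpen := map_goodIdeal hL s

/-- the ideal of the zero scheme on a frame -/
lemma zeroScheme_ideal_eq (F : Frame L) :
    (PicF2.zeroScheme L s).ideal F.V = Ideal.span {coord F (sv s F.V.1)} := by
  apply le_antisymm
  · intro a ha
    obtain ⟨b0, hb⟩ := Scheme.IdealSheafData.ideal_ofIdeals_le _ F.V ha F.e
    let b : Γ(X, F.V.1) := b0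
    rw [Ideal.mem_span_singleton]
    refine ⟨b, (F.he F.V.1 le_rfl).injective ?_⟩
    have h1 : (a : Γ(X, F.V.1)) • F.e = b • sv s F.V.1 := hb
    rw [← coord_smul F (sv s F.V.1)] at h1
    simpa [rs, mul_comm b, mul_smul, smul_comm b] using h1
  · refine (Ideal.span_singleton_le_iff_mem _).mpr ?_
    have hle : goodSheaf hL s ≤ PicF2.zeroScheme L s :=
      Scheme.IdealSheafData.le_ofIdeals_iff.mpr fun U a ha => goodIdeal_le hL s U ha
    exact hle F.V (mem_goodIdeal_of_frame s F (b := 1) (by rw [coord_smul, one_smul]))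


end Groth.Agent.H26.ZeroFrame
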