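import Groth.Agent.H26.CIQuotient

/-!
# Isomorphism invariance of complete intersection rings
-/

universe u

open IsLocalRing Groth.Agent.Lib

namespace Groth.Agent.H26.CICongr

theorem imp {A A' : Type u} [CommRing A] [CommRing A'] [IsLocalRing A] [IsLocalRing A']
    [IsNoetherianRing A] (ψ : A ≃+* A') (h : Pi1.IsCompleteIntersection A') :
    Pi1.IsCompleteIntersection A := by
  letI : Algebra A A' := ψ.toRingHom.toAlgebra
  let φ : A ≃ₐ[A] A' := { ψ with commutes' := fun _ => rfl }
  have hs : Function.Surjective (algebraMap A A') := ψ.surjective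
  have : Module.Finite A A' := Module.Finite.equiv φ.toLinearEquiv
  obtain ⟨e⟩ : Nonempty (AdicCompletion (maximalIdeal A) A ≃+*
      AdicCompletion (maximalIdeal A') A') := by
    have hm : (maximalIdeal A).map (algebraMap A A') = maximalIdeal A' :=
      IsLocalRing.map_maximalIdeal_of_surjective _ hs
    have h' : (maximalIdeal A).map (algebraMap A A) = maximalIdeal A := by simp
    rw [← hm]
    have E := (Excellent.CompletionFinite.completionEquiv (maximalIdeal A) A).toRingEquiv
    rw [h'] at E
    exact ⟨(E.symm.trans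
      (Algebra.TensorProduct.congr φ AlgEquiv.refl).toRingEquiv).trans
      (Excellent.CompletionFinite.completionEquiv (maximalIdeal A) A').toRingEquiv⟩
  obtain ⟨B, i1, i2, rs, h1, h2, ⟨f⟩⟩ := h
  exact ⟨B, i1, i2, rs, h1, h2, ⟨e.trans f⟩⟩

/-- Isomorphism invariance. -/
theorem iff {A A' : Type u} [CommRing A] [CommRing A'] [IsLocalRing A] [IsLocalRing A']
    [IsNoetherianRing A] (ψ : A ≃+* A') :
    Pi1.IsCompleteIntersection A' ↔ Pi1.IsCompleteIntersection A := by
  haveI : IsNoetherianRing A' := isNoetherianRing_of_ringEquiv A ψ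
  exact ⟨imp ψ, imp ψ.symm⟩

end Groth.Agent.H26.CICongr
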