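import Groth.Agent.H26.CIFlat
import Groth.Agent.H26.CICongr
import Groth.Agent.Lib.Synt92.CIPres
import Groth.Agent.Lib.Synt92.LocalQuot
import Mathlib.RingTheory.RingHom.Flat

/-!
# Complete intersection points and field extensions
-/

universe u

open IsLocalRing MvPolynomial
open scoped TensorProduct

namespace Groth.Agent.H26.CIFieldExt

variable {k K : Type u} [Field k] [Field K] [Algebra k K]

theorem flat_map {σ : Type u} : (MvPolynomial.map (σ := σ) (algebraMap k K)).Flat := by
  let := MvPolynomial.algebraMvPolynomial (R := k) (σ := σ) (S := K)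
  change Module.Flat (MvPolynomial σ k) (MvPolynomial σ K)
  exact Module.Flat.isBaseChange k (MvPolynomial σ k) K (MvPolynomial σ K)
    (Algebra.IsPushout.out (R := k) (S := MvPolynomial σ k) (R' := K))

theorem flat_map_fin (n : ℕ) : (MvPolynomial.map (σ := Fin n) (algebraMap k K)).Flat := by
  let := MvPolynomial.algebraMvPolynomial (R := k) (σ := Fin n) (S := K)
  change Module.Flat (MvPolynomial (Fin n) k) (MvPolynomial (Fin n) K)
  exact Module.Flat.isBaseChange k (MvPolynomial (Fin n) k) K (MvPolynomial (Fin n) K)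
    (Algebra.IsPushout.out (R := k) (S := MvPolynomial (Fin n) k) (R' := K))

theorem exists_hom {n : ℕ} {S : Type u} [CommRing S] [Algebra k S]
    (φ : MvPolynomial (Fin n) k →ₐ[k] S) (hφ : Function.Surjective φ) :
    ∃ φ' : MvPolynomial (Fin n) K →ₐ[K] K ⊗[k] S, Function.Surjective φ' ∧
      RingHom.ker φ'.toRingHom = (RingHom.ker φ.toRingHom).map (MvPolynomial.map (algebraMap k K)) ∧
      ∀ x, φ' (MvPolynomial.map (algebraMap k K) x) = 1 ⊗ₜ φ x := by
  let a : K ⊗[k] MvPolynomial (Fin n) k ≃ₐ[K] MvPolynomial (Fin n) K :=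
    MvPolynomial.algebraTensorAlgEquiv k K
  let T : K ⊗[k] MvPolynomial (Fin n) k →ₐ[K] K ⊗[k] S :=
    Algebra.TensorProduct.map (AlgHom.id K K) φ
  have hsymm : ∀ x, a.symm (MvPolynomial.map (algebraMap k K) x) = (1 : K) ⊗ₜ[k] x :=
    fun x => MvPolynomial.algebraTensorAlgEquiv_symm_map k K x
  refine ⟨T.comp a.symm.toAlgHom, ?_, ?_, fun x => ?_⟩
  · have hT : Function.Surjective T := fun t => by
      induction t using TensorProduct.induction_on with
      | zero => exact ⟨0, map_zero T⟩
      | tmul x y => obtain ⟨z, rfl⟩ := hφ y; exact ⟨x ⊗ₜ[k] z, rfl⟩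
      | add x y hx hy =>
        obtain ⟨x', rfl⟩ := hx
        obtain ⟨y', rfl⟩ := hy
        exact ⟨x' + y', map_add T x' y'⟩
    intro t
    obtain ⟨z, rfl⟩ := hT t
    exact ⟨a z, congrArg T (a.symm_apply_apply z)⟩
  · have hk := Algebra.TensorProduct.lTensor_ker (A := K) φ hφ
    have hk' : RingHom.ker T.toRingHom = (RingHom.ker φ.toRingHom).map
        (Algebra.TensorProduct.includeRight (R := k) (A := K) (B := MvPolynomial (Fin n) k)).toRingHom := hk
    have h1 : RingHom.ker (T.comp a.symm.toAlgHom).toRingHom =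
        (RingHom.ker T.toRingHom).comap a.symm.toAlgHom.toRingHom :=
      (RingHom.comap_ker _ _).symm
    rw [h1, hk', show (MvPolynomial.map (algebraMap k K) : MvPolynomial (Fin n) k →+* _) =
      a.toAlgHom.toRingHom.comp (Algebra.TensorProduct.includeRight (R := k) (A := K)).toRingHom from
        RingHom.ext fun x => by
          show MvPolynomial.map (algebraMap k K) x = a (1 ⊗ₜ[k] x)
          rw [← hsymm x, AlgEquiv.apply_symm_apply],
      ← Ideal.map_map]
    exact Ideal.comap_symm (a.toRingEquiv) 
  · show T (a.symm _) = _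
    rw [hsymm]
    rfl

/-- Complete intersection points are insensitive to field extensions. -/
theorem ci_iff (S : Type u) [CommRing S] [Algebra k S] [Algebra.FiniteType k S]
    (Q' : Ideal (K ⊗[k] S)) [Q'.IsPrime] (q : Ideal S) [q.IsPrime]
    (hq : Q'.comap (Algebra.TensorProduct.includeRight (R := k) (A := K) (B := S)).toRingHom = q) :
    Pi1.IsCompleteIntersection (Localization.AtPrime Q') ↔
      Pi1.IsCompleteIntersection (Localization.AtPrime q) := by
  obtain ⟨n, φ, hφ⟩ := Algebra.FiniteType.iff_quotient_mvPolynomial''.mp ‹Algebra.FiniteType k S›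
  obtain ⟨φ', hφ', hker', hcomm⟩ := exists_hom (K := K) φ hφ
  obtain ⟨π, hπ, hkπ, -⟩ := Groth.Agent.Lib.Synt92.LocalQuot.exists_hom φ hφ q (Localization.AtPrime q)
  obtain ⟨π', hπ', hkπ', -⟩ := Groth.Agent.Lib.Synt92.LocalQuot.exists_hom φ' hφ' Q' (Localization.AtPrime Q')
  let P := q.comap φ.toRingHom
  let P' := Q'.comap φ'.toRingHom
  have hPP' : P = P'.comap (MvPolynomial.map (algebraMap k K)) := by
    ext x
    subst hq
    show Algebra.TensorProduct.includeRight (R := k) (A := K) (φ x) ∈ Q' ↔ φ' _ ∈ Q'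
    rw [hcomm]
    rfl
  let j := Localization.localRingHom P P' (MvPolynomial.map (algebraMap k K)) hPP'
  letI : Algebra (Localization.AtPrime P) (Localization.AtPrime P') := j.toAlgebra
  haveI : IsLocalHom (algebraMap (Localization.AtPrime P) (Localization.AtPrime P')) :=
    Localization.isLocalHom_localRingHom P P' _ hPP'
  haveI : Module.Flat (Localization.AtPrime P) (Localization.AtPrime P') :=
    RingHom.flat_algebraMap_iff.mp ((flat_map_fin (k := k) (K := K) n).localRingHom P' P hPP')
  set I := RingHom.ker π.toRingHom with hI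
  haveI : IsLocalRing (Localization.AtPrime P ⧸ I) :=
    (RingHom.quotientKerEquivOfSurjective hπ).symm.isLocalRing
  have hmap : I.map (algebraMap (Localization.AtPrime P) (Localization.AtPrime P')) =
      RingHom.ker π'.toRingHom := by
    rw [hkπ, hkπ', hker', Ideal.map_map, Ideal.map_map]
    congr 1
    exact RingHom.ext fun x => Localization.localRingHom_to_map _ _ _ hPP' x
  haveI : IsLocalRing (Localization.AtPrime P' ⧸ I.map (algebraMap _ (Localization.AtPrime P'))) :=
    ((Ideal.quotEquivOfEq hmap).trans (RingHom.quotientKerEquivOfSurjective hπ')).symm.isLocalRing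
  rw [CICongr.iff (A := Localization.AtPrime P' ⧸ I.map (algebraMap _ (Localization.AtPrime P')))
      (A' := Localization.AtPrime Q')
      ((Ideal.quotEquivOfEq hmap).trans (RingHom.quotientKerEquivOfSurjective hπ')),
    CICongr.iff (A := Localization.AtPrime P ⧸ I) (A' := Localization.AtPrime q)
      (RingHom.quotientKerEquivOfSurjective hπ)]
  exact CIFlat.ci_iff I (IsLocalRing.le_maximalIdeal (RingHom.ker_ne_top _))

end Groth.Agent.H26.CIFieldExt
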