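import Groth.Agent.H26.CIChart
import Groth.Agent.H26.CIFieldExt
import Groth.Agent.H20.FibreDimBC
import Groth.Agent.Lib.FibreDim.Chart
import Mathlib.AlgebraicGeometry.Pullbacks

/-!
# Complete intersection points of fibres and base change
-/

universe u

open CategoryTheory Limits AlgebraicGeometry TensorProduct
open Groth.Agent.Lib.FibreDim Groth.Agent.H20.FibreDimBC

namespace Groth.Agent.H26.CIBaseChange

theorem ci_loc_congr {k A B : Type u} [Field k] [CommRing A] [CommRing B] [Algebra k A] [Algebra k B]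
    [Algebra.FiniteType k A] (e : A ≃ₐ[k] B) (P : Ideal B) [P.IsPrime]
    [(P.comap e.toAlgHom.toRingHom).IsPrime] :
    Pi1.IsCompleteIntersection (Localization.AtPrime P) ↔
      Pi1.IsCompleteIntersection (Localization.AtPrime (P.comap e.toAlgHom.toRingHom)) := by
  haveI : IsNoetherianRing A := Algebra.FiniteType.isNoetherianRing k A
  haveI : IsNoetherianRing (Localization.AtPrime (P.comap e.toAlgHom.toRingHom)) :=
    IsLocalization.isNoetherianRing (P.comap e.toAlgHom.toRingHom).primeCompl _ inferInstance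
  refine CICongr.iff (IsLocalization.algEquivOfAlgEquiv
    (M := (P.comap e.toAlgHom.toRingHom).primeCompl) (T := P.primeCompl)
    (Localization.AtPrime (P.comap e.toAlgHom.toRingHom)) (Localization.AtPrime P) e ?_).toRingEquiv
  ext x
  exact ⟨fun ⟨y, hy, h⟩ => h ▸ hy, fun hx => ⟨e.symm x, fun hm => hx (by
    have := Ideal.mem_comap.mp hm; simpa using this), e.apply_symm_apply x⟩⟩

theorem ci_field {R S : Type u} [CommRing R] [CommRing S] [Algebra R S] [Algebra.FiniteType R S]
    (q : Ideal S) [q.IsPrime] (K : Type u) [Field K]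
    [Algebra R K] (P : Ideal (K ⊗[R] S)) [P.IsPrime]
    (hker : RingHom.ker (algebraMap R K) = q.under R)
    (hP : P.comap (Algebra.TensorProduct.includeRight (R := R) (A := K) (B := S)).toRingHom = q) :
    Pi1.IsCompleteIntersection (Localization.AtPrime P) ↔
      Pi1.IsCompleteIntersection (Localization.AtPrime (fibrePoint R S q).asIdeal) := by
  let ι : (q.under R).ResidueField →+* K :=
    Ideal.ResidueField.lift (q.under R) (algebraMap R K) hker.ge (by
      intro x hx
      refine IsUnit.mem_submonoid_iff _ |>.mpr (Ne.isUnit ?_)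
      exact fun h => hx (hker.le h))
  let algκK : Algebra (q.under R).ResidueField K := ι.toAlgebra
  have : IsScalarTower R (q.under R).ResidueField K := IsScalarTower.of_algebraMap_eq fun x => by
    exact (Ideal.ResidueField.lift_algebraMap (q.under R) (algebraMap R K) _ _ x).symm
  let e : K ⊗[(q.under R).ResidueField] ((q.under R).Fiber S) ≃ₐ[K] K ⊗[R] S :=
    Algebra.TensorProduct.cancelBaseChange R (q.under R).ResidueField K K S
  let P₁ := P.comap e.toAlgHom.toRingHom
  haveI : P₁.IsPrime := Ideal.IsPrime.comap _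
  let P₂ := P₁.comap (Algebra.TensorProduct.includeRight (R := (q.under R).ResidueField)
    (A := K) (B := (q.under R).Fiber S)).toRingHom
  haveI : P₂.IsPrime := Ideal.IsPrime.comap _
  rw [ci_loc_congr (k := K) (A := K ⊗[(q.under R).ResidueField] ((q.under R).Fiber S)) (B := K ⊗[R] S) e P, CIFieldExt.ci_iff _ P₁ P₂ rfl]
  suffices h : (⟨P₂, inferInstance⟩ : PrimeSpectrum _) = fibrePoint R S q by
    rw [← h]
  refine eq_fibrePoint q _ (Eq.trans ?_ hP)
  ext s
  simp [P₁, P₂, e]

theorem ci_baseChange {R S : Type u} [CommRing R] [CommRing S] [Algebra R S] [Algebra.FiniteType R S]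
    (R' : Type u) [CommRing R'] [Algebra R R'] (q' : Ideal (R' ⊗[R] S)) [q'.IsPrime]
    (q : Ideal S) [q.IsPrime]
    (hq : q'.comap (Algebra.TensorProduct.includeRight (R := R) (A := R') (B := S)).toRingHom = q) :
    Pi1.IsCompleteIntersection (Localization.AtPrime (fibrePoint R' (R' ⊗[R] S) q').asIdeal) ↔
      Pi1.IsCompleteIntersection (Localization.AtPrime (fibrePoint R S q).asIdeal) := by
  subst hq
  let K := (q'.under R').ResidueField
  let e : K ⊗[R'] (R' ⊗[R] S) ≃ₐ[K] K ⊗[R] S :=
    Algebra.TensorProduct.cancelBaseChange R R' K K S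
  have hQ := comap_fibrePoint (R := R') q'
  haveI : ((fibrePoint R' (R' ⊗[R] S) q').asIdeal.comap e.symm.toAlgHom.toRingHom).IsPrime :=
    Ideal.IsPrime.comap _
  rw [ci_loc_congr (k := K) (A := K ⊗[R] S) (B := K ⊗[R'] (R' ⊗[R] S)) e.symm]
  refine ci_field _ K _ ?_ ?_
  · ext r
    rw [RingHom.mem_ker, IsScalarTower.algebraMap_apply R R' K,
      Ideal.algebraMap_residueField_eq_zero]
    simp [← Algebra.TensorProduct.tmul_one_eq_one_tmul, Algebra.TensorProduct.one_def]
  · ext s
    have := congr_arg (fun I => (1 : R') ⊗ₜ[R] s ∈ I) hQ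
    simpa [e] using this

theorem ci_fiberStalk_iff_fibrePoint {X Y : Scheme.{u}} {R A : Type u} [CommRing R] [CommRing A]
    [Algebra R A] [Algebra.FiniteType R A] (f : X ⟶ Y) (v : Spec (CommRingCat.of R) ⟶ Y)
    [IsOpenImmersion v] (w : Spec (CommRingCat.of A) ⟶ X) [IsOpenImmersion w]
    (hw : Spec.map (CommRingCat.ofHom (algebraMap R A)) ≫ v = w ≫ f) (P : PrimeSpectrum A) :
    Pi1.IsCompleteIntersection (CInt.fiberStalk f (w.base P)) ↔
      Pi1.IsCompleteIntersection (Localization.AtPrime (fibrePoint R A P.asIdeal).asIdeal) := by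
  rw [CIChart.ci_fiberStalk_iff f v w hw ⟨P.asIdeal.under R, inferInstance⟩
    (fibrePoint R A P.asIdeal).asIdeal P rfl (comap_fibrePoint P.asIdeal)]
  haveI : Algebra.EssFiniteType ((P.asIdeal.under R).Fiber A)
      (Localization.AtPrime (fibrePoint R A P.asIdeal).asIdeal) :=
    Algebra.EssFiniteType.of_isLocalization _ (fibrePoint R A P.asIdeal).asIdeal.primeCompl
  haveI : Algebra.EssFiniteType (P.asIdeal.under R).ResidueField
      (Localization.AtPrime (fibrePoint R A P.asIdeal).asIdeal) :=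
    Algebra.EssFiniteType.comp _ ((P.asIdeal.under R).Fiber A) _
  exact (CIBridge.isCompleteIntersection_iff_isCIOver _ _).symm

/-- Complete intersection points of fibres do not change under base change. -/
theorem ci_of_isPullback {X Y X' Y' : Scheme.{u}} {f : X ⟶ Y} {f' : X' ⟶ Y'} {a : X' ⟶ X}
    {b : Y' ⟶ Y} [LocallyOfFiniteType f] (h : IsPullback a f' f b) (x : X') :
    Pi1.IsCompleteIntersection (CInt.fiberStalk f' x) ↔
      Pi1.IsCompleteIntersection (CInt.fiberStalk f (a x)) := by
  obtain ⟨R, A, _, _, _, _, v, w, _, _, P, hw, hP, -⟩ := Chart.exists_chart f (a x) ⊤ trivial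
  have hx : f' x ∈ b ⁻¹ᵁ v.opensRange := by
    refine ⟨PrimeSpectrum.comap (algebraMap R A) P, ?_⟩
    show v _ = b (f' x)
    rw [← Scheme.Hom.comp_apply _ b, ← h.w, Scheme.Hom.comp_apply, ← hP]
    exact (Chart.apply_eq f v w hw P).symm
  obtain ⟨W, hW, hxW, hWle⟩ := exists_isAffineOpen_mem_and_subset hx
  let R' := Γ(Y', W)
  have hr : Set.range (hW.fromSpec ≫ b) ⊆ Set.range v := by
    rintro _ ⟨z, rfl⟩
    have : hW.fromSpec z ∈ W := hW.range_fromSpec.le ⟨z, rfl⟩
    exact hWle this
  let j : Spec R' ⟶ Spec (CommRingCat.of R) := IsOpenImmersion.lift v (hW.fromSpec ≫ b) hr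
  obtain ⟨ψ, hψ⟩ := Spec.map_surjective j
  letI : Algebra R R' := ψ.hom.toAlgebra
  have hj : Spec.map (CommRingCat.ofHom (algebraMap R R')) ≫ v = hW.fromSpec ≫ b := by
    rw [show Spec.map (CommRingCat.ofHom (algebraMap R R')) = j from hψ]
    exact IsOpenImmersion.lift_fac _ _ _
  let φA := Spec.map (CommRingCat.ofHom (algebraMap R A))
  let φR := Spec.map (CommRingCat.ofHom (algebraMap R R'))
  let e := pullbackSpecIso R R' A
  haveI := hW.isOpenImmersion_fromSpec
  let m : pullback φR φA ⟶ pullback b f := pullback.map φR φA b f hW.fromSpec w v hj hw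
  haveI : IsOpenImmersion m := inferInstanceAs (IsOpenImmersion (pullback.map _ _ _ _ _ _ _ _ _))
  let w' : Spec (CommRingCat.of (R' ⊗[R] A)) ⟶ X' := e.inv ≫ m ≫ h.flip.isoPullback.inv
  have hw' : Spec.map (CommRingCat.ofHom (algebraMap R' (R' ⊗[R] A))) ≫ hW.fromSpec = w' ≫ f' := by
    simp only [w', Category.assoc, h.flip.isoPullback_inv_fst, m, pullback.lift_fst, e, φR, φA,
      pullback.map, pullbackSpecIso_inv_fst'_assoc]
  have hwa : w' ≫ a = Spec.map (CommRingCat.ofHom
      (Algebra.TensorProduct.includeRight (R := R) (A := R') (B := A)).toRingHom) ≫ w := by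
    simp only [w', Category.assoc, h.flip.isoPullback_inv_snd, m, pullback.lift_snd, e, φR, φA,
      pullback.map, pullbackSpecIso_inv_snd_assoc]
    rfl
  -- the point
  obtain ⟨t, ht⟩ : ∃ t, hW.fromSpec t = f' x :=
    ⟨_, hW.fromSpec_primeIdealOf ⟨f' x, hxW⟩⟩
  have hmem : (h.flip.isoPullback.hom x) ∈ Set.range m := by
    rw [Scheme.Pullback.range_map]
    constructor
    · refine ⟨t, ?_⟩
      rw [← Scheme.Hom.comp_apply, h.flip.isoPullback_hom_fst, ht]
    · refine ⟨P, ?_⟩
      rw [← Scheme.Hom.comp_apply, h.flip.isoPullback_hom_snd, ← hP]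
  obtain ⟨z, hz⟩ := hmem
  let P' : PrimeSpectrum (R' ⊗[R] A) := e.hom z
  have hP' : w'.base P' = x := by
    show (e.inv ≫ m ≫ h.flip.isoPullback.inv) (e.hom z) = x
    rw [← Scheme.Hom.comp_apply, Iso.hom_inv_id_assoc, Scheme.Hom.comp_apply, hz,
      ← Scheme.Hom.comp_apply, Iso.hom_inv_id]
    rfl
  have hcomap : PrimeSpectrum.comap
      (Algebra.TensorProduct.includeRight (R := R) (A := R') (B := A)).toRingHom P' = P := by
    refine w.isOpenEmbedding.injective ?_
    rw [hP, ← hP']
    exact (congr($hwa P')).symm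
  rw [← hP', ci_fiberStalk_iff_fibrePoint f' hW.fromSpec w' hw' P', hP', ← hP,
    ci_fiberStalk_iff_fibrePoint f v w hw P]
  exact ci_baseChange R' P'.asIdeal P.asIdeal (congrArg PrimeSpectrum.asIdeal hcomap)

end Groth.Agent.H26.CIBaseChange
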