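import Groth.Agent.H18.SerreCrit
import Groth.Agent.H20.CMRegular
import Groth.Agent.Lib.Grass.GradedVertex
import Groth.Agent.Lib.JacCrit.FlatRegular
import Groth.Agent.Lib.FlatCI.Exist
import Mathlib.RingTheory.MvPolynomial.Homogeneous
import Mathlib.RingTheory.GradedAlgebra.Radical
import Mathlib.RingTheory.LocalProperties.IntegrallyClosed
import Mathlib.RingTheory.LocalProperties.Reduced
import Mathlib.RingTheory.KrullDimension.NonZeroDivisors

/-!
# Projective normality of complete intersections
-/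

universe u

open MvPolynomial LocCoh IsLocalRing
open Groth.Agent.Lib.Depth Groth.Agent.H18

set_option maxHeartbeats 800000
set_option linter.all false

noncomputable section

namespace Groth.Agent.H26.CIVertex

theorem ringKrullDim_quotient_add_le {R : Type*} [CommRing R] (J : Ideal R) (r : ℕ)
    (h : (r : ℕ∞) ≤ J.height) : ringKrullDim (R ⧸ J) + r ≤ ringKrullDim R := by
  rw [ringKrullDim_quotient]
  rcases isEmpty_or_nonempty (PrimeSpectrum.zeroLocus (J : Set R)) with he | hne
  · rw [Order.krullDim_eq_bot]; simp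
  · haveI : Nonempty (PrimeSpectrum R) := ⟨(Classical.arbitrary (PrimeSpectrum.zeroLocus (J : Set R))).1⟩
    rw [Order.krullDim_eq_iSup_coheight_of_nonempty, ringKrullDim,
      Order.krullDim_eq_iSup_height_add_coheight_of_nonempty]
    change (((⨆ a, Order.coheight a) + (r : ℕ∞) : ℕ∞) : WithBot ℕ∞) ≤ _
    rw [WithBot.coe_le_coe, ENat.iSup_add]
    refine iSup_le fun a => le_iSup_of_le a.1 ?_
    rw [add_comm (Order.height a.1)]
    refine add_le_add (Order.coheight_le_coheight_apply_of_strictMono (fun b => b.1) (fun _ _ hb => hb) a) ?_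
    rw [← PrimeSpectrum.height_eq_orderHeight]
    exact h.trans (Ideal.height_mono a.2)

theorem le_height_map {R S : Type*} [CommRing R] [CommRing S] [Algebra R S] (M : Submonoid R)
    [IsLocalization M S] (J : Ideal R) {r : ℕ∞} (h : r ≤ J.height) :
    r ≤ (J.map (algebraMap R S)).height := by
  rw [Ideal.height_eq_inf_minimalPrimes]
  refine le_iInf₂ fun P hP => ?_
  haveI := hP.1.1
  rw [← IsLocalization.height_comap M P]
  exact h.trans (Ideal.height_mono (Ideal.map_le_iff_le_comap.mp hP.1.2))

section Poly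

variable {k : Type u} [Field k] {n r : ℕ}

attribute [local instance] MvPolynomial.gradedAlgebra

theorem le_vars {σ : Type*} (Q : Ideal (MvPolynomial σ k))
    (hQ : Q.IsHomogeneous (homogeneousSubmodule σ k)) (hne : Q ≠ ⊤) :
    Q ≤ RingHom.ker (constantCoeff : MvPolynomial σ k →+* k) := by
  intro a ha
  have h0 := homogeneousComponent_mem_of_mem hQ ha 0
  rw [homogeneousComponent_zero] at h0
  rw [RingHom.mem_ker, constantCoeff_eq]
  by_contra hc
  exact hne (Ideal.eq_top_of_isUnit_mem _ h0 ((IsUnit.mk0 _ hc).map C))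

theorem minimal_le_vars {σ : Type*} (J : Ideal (MvPolynomial σ k))
    (hJ : J.IsHomogeneous (homogeneousSubmodule σ k)) (Q : Ideal (MvPolynomial σ k))
    (hQ : Q ∈ J.minimalPrimes) :
    Q ≤ RingHom.ker (constantCoeff : MvPolynomial σ k →+* k) := by
  haveI := hQ.1.1
  let C := (Q.homogeneousCore (homogeneousSubmodule σ k)).toIdeal
  have hle : C ≤ Q := Ideal.toIdeal_homogeneousCore_le _ Q
  have hJC : J ≤ C := hJ.toIdeal_homogeneousCore_eq_self.symm.trans_le
    (Ideal.homogeneousCore_mono _ hQ.1.2)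
  have hC : C.IsPrime := Ideal.IsPrime.homogeneousCore ‹Q.IsPrime›
  rw [← hle.antisymm (hQ.2 ⟨hC, hJC⟩ hle)]
  exact le_vars C (Q.homogeneousCore (homogeneousSubmodule σ k)).isHomogeneous hC.ne_top

theorem isHomogeneous_span {σ : Type*} (f : Fin r → MvPolynomial σ k) (d : Fin r → ℕ)
    (hf : ∀ i, (f i).IsHomogeneous (d i)) :
    (Ideal.span (Set.range f)).IsHomogeneous (homogeneousSubmodule σ k) :=
  Ideal.homogeneous_span _ _ (by rintro _ ⟨i, rfl⟩; exact ⟨d i, hf i⟩)

theorem ker_constantCoeff_le {σ : Type*} (P : Ideal (MvPolynomial σ k)) (h : ∀ i, X i ∈ P) :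
    RingHom.ker (constantCoeff : MvPolynomial σ k →+* k) ≤ P := by
  have key : ∀ g : MvPolynomial σ k, g - C (constantCoeff g) ∈ P := by
    intro g
    induction g using MvPolynomial.induction_on with
    | C a => simp
    | add p q hp hq =>
      rw [map_add, map_add, add_sub_add_comm]
      exact add_mem hp hq
    | mul_X p i _ => simpa using P.mul_mem_left p (h i)
  intro g hg
  have := key g
  rwa [RingHom.mem_ker.mp hg, map_zero, sub_zero] at this

/-- A complete intersection cone which is normal away from the vertex is a normal domain. -/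
theorem normal_of_off_vertex (hr : r < n) (f : Fin r → MvPolynomial (Fin (n + 1)) k) (d : Fin r → ℕ)
    (hf : ∀ i, (f i).IsHomogeneous (d i)) (hd : ∀ i, 0 < d i)
    (hJ : (r : ℕ∞) ≤ (Ideal.span (Set.range f)).height)
    (hnorm : ∀ (Q : Ideal (MvPolynomial (Fin (n + 1)) k ⧸ Ideal.span (Set.range f))) [Q.IsPrime],
      (∃ i, Ideal.Quotient.mk (Ideal.span (Set.range f)) (MvPolynomial.X i) ∉ Q) →
        IsDomain (Localization.AtPrime Q) ∧ IsIntegrallyClosed (Localization.AtPrime Q)) :
    IsDomain (MvPolynomial (Fin (n + 1)) k ⧸ Ideal.span (Set.range f)) ∧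
      IsIntegrallyClosed (MvPolynomial (Fin (n + 1)) k ⧸ Ideal.span (Set.range f)) := by
  classical
  set J := Ideal.span (Set.range f) with hJdef
  let m : Ideal (MvPolynomial (Fin (n + 1)) k) := RingHom.ker constantCoeff
  haveI hm : m.IsMaximal :=
    RingHom.ker_isMaximal_of_surjective _ fun a => ⟨C a, constantCoeff_C _ a⟩
  have hfm : ∀ i, f i ∈ m := fun i => by
    rw [RingHom.mem_ker, constantCoeff_eq]
    exact (hf i).coeff_eq_zero (by simpa using (hd i).ne)
  have hJm : J ≤ m := by
    rw [hJdef, Ideal.span_le]; rintro _ ⟨i, rfl⟩; exact hfm i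
  let N : Ideal (MvPolynomial (Fin (n + 1)) k ⧸ J) := m.map (Ideal.Quotient.mk J)
  have hNc : N.comap (Ideal.Quotient.mk J) = m := by
    rw [Ideal.comap_map_of_surjective _ Ideal.Quotient.mk_surjective]
    exact sup_eq_left.2 ((Ideal.mk_ker (I := J)).le.trans hJm)
  haveI hN : N.IsMaximal := (Ideal.map_eq_top_or_isMaximal_of_surjective _ Ideal.Quotient.mk_surjective
    hm).resolve_left fun h => hm.ne_top (by rw [← hNc]; exact (congrArg _ h).trans Ideal.comap_top)
  obtain ⟨e⟩ := Groth.Agent.Lib.Grass.GradedVertex.quotLocEquiv J m hJm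
  let R := Localization.AtPrime m
  let JR : Ideal R := J.map (algebraMap _ R)
  haveI : IsRegularLocalRing R := IsRegularRing.isRegularLocalRing_localization m
  haveI : IsCohenMacaulayLocalRing R := Groth.Agent.Lib.JacCrit.FlatRegular.isCohenMacaulayLocalRing R
  have hR : ringKrullDim R = ((n + 1 : ℕ) : WithBot ℕ∞) := by
    rw [IsLocalization.AtPrime.ringKrullDim_eq_height m]
    have h1 := Groth.Agent.Lib.Dim.Basic.height_add_dimQ k m
    rw [Groth.Agent.Lib.FlatCI.Exist.trdegNat_mvPolynomial,
      Groth.Agent.Lib.Dim.Basic.dimQ_eq_zero_of_isMaximal k m] at h1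
    simp only [Nat.cast_zero, add_zero] at h1
    rw [h1]; rfl
  let rs : List R := List.ofFn fun i => algebraMap _ R (f i)
  have hrs : Ideal.ofList rs = JR := by
    rw [show JR = Ideal.span (Set.range (algebraMap _ R ∘ f)) by
      rw [Set.range_comp, ← Ideal.map_span]]
    refine congrArg Ideal.span (Set.ext fun x => ?_)
    simp [rs, List.mem_ofFn', Function.comp_def]
  have hlen : rs.length = r := List.length_ofFn
  have hmem : ∀ x ∈ rs, x ∈ maximalIdeal R := by
    intro x hx
    obtain ⟨i, rfl⟩ := List.mem_ofFn.mp hx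
    rw [← Localization.AtPrime.map_eq_maximalIdeal]
    exact Ideal.mem_map_of_mem _ (hfm i)
  have hup : ringKrullDim (R ⧸ Ideal.ofList rs) + rs.length ≤ ringKrullDim R := by
    rw [hlen, hrs]
    exact ringKrullDim_quotient_add_le _ r (le_height_map m.primeCompl J hJ)
  have hreg := H20.CMRegular.isRegular_of_ringKrullDim_le rs hmem hup
  haveI : IsLocalRing (R ⧸ JR) := e.symm.isLocalRing
  have hCM : IsCohenMacaulayLocalRing (R ⧸ JR) := by
    rw [CM.isCohenMacaulayLocalRing_quotient_iff_module]
    exact (CM.isCohenMacaulayModule_congr (Submodule.quotEquivOfEq _ JR (by simp [hrs]))).mp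
      (H20.CMDim.isCohenMacaulayModule_quotient_ofList CM.isCohenMacaulayModule_self rs hmem
        hreg.toIsWeaklyRegular)
  haveI hCMN : IsCohenMacaulayLocalRing (Localization.AtPrime N) :=
    Groth.Agent.Lib.Excellent.Transport.isCohenMacaulayLocalRing_of_ringEquiv e
  have hdimN : ((2 : ℕ) : WithBot ℕ∞) ≤ ringKrullDim (Localization.AtPrime N) := by
    have h1 := H20.CMRegular.supportDim_le_quotient_add_length rs hmem R
    rw [Module.supportDim_self_eq_ringKrullDim, hR, hlen,
      Module.supportDim_eq_of_equiv (Submodule.quotEquivOfEq _ JR (by simp [hrs])),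
      Module.supportDim_quotient_eq_ringKrullDim, ringKrullDim_eq_of_ringEquiv e] at h1
    generalize ringKrullDim (Localization.AtPrime N) = x at h1 ⊢
    match x with
    | ⊥ =>
      rw [WithBot.bot_add, le_bot_iff] at h1
      exact absurd h1 (WithBot.coe_ne_bot (a := ((n + 1 : ℕ) : ℕ∞)))
    | (⊤ : ℕ∞) => exact le_top
    | ((x : ℕ) : ℕ∞) =>
      have h2 : n + 1 ≤ x + r := by exact_mod_cast h1
      exact WithBot.coe_le_coe.mpr (ENat.natCast_le_natCast.mpr (show 2 ≤ x by omega) : ((2 : ℕ) : ℕ∞) ≤ (x : ℕ∞))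
  -- vertex or normal
  have hcases : ∀ (p : Ideal (MvPolynomial (Fin (n + 1)) k ⧸ J)) [p.IsPrime],
      (∃ i, Ideal.Quotient.mk J (X i) ∉ p) ∨ p = N := by
    intro p hp
    by_cases h : ∃ i, Ideal.Quotient.mk J (X i) ∉ p
    · exact .inl h
    · push_neg at h
      refine .inr (hN.eq_of_le hp.ne_top ?_).symm
      exact Ideal.map_le_iff_le_comap.mpr (ker_constantCoeff_le (p.comap (Ideal.Quotient.mk J)) h)
  have hRk : HasRk 1 (MvPolynomial (Fin (n + 1)) k ⧸ J) := by
    rw [SerreCrit.hasRk_iff]
    intro p _ hdim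
    rcases hcases p with h | rfl
    · obtain ⟨_, _⟩ := hnorm p h
      exact SerreCrit.isRegularLocalRing_of_normal (by simpa using hdim)
    · exact absurd (hdimN.trans hdim) (by
        rw [not_le]; exact_mod_cast Nat.one_lt_two)
  have hSk : HasSk 2 (MvPolynomial (Fin (n + 1)) k ⧸ J) (MvPolynomial (Fin (n + 1)) k ⧸ J) := by
    rw [SerreCrit.hasSk_iff]
    intro p _ _ j hj hdim
    rcases hcases p with h | rfl
    · obtain ⟨_, _⟩ := hnorm p h
      interval_cases j
      · simp
      · simpa using SerreCrit.one_le_depth_of_reduced (A := Localization.AtPrime p) (by simpa using hdim)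
      · simpa using SerreCrit.two_le_depth_of_normal (A := Localization.AtPrime p) (by simpa using hdim)
    · rw [CM.ringKrullDim_eq_depth] at hdim
      exact WithBot.coe_le_coe.mp hdim
  have hall := SerreCrit.normal_iff.mpr ⟨hRk, hSk⟩
  haveI : IsReduced (MvPolynomial (Fin (n + 1)) k ⧸ J) :=
    isReduced_ofLocalizationMaximal _ fun p _ => by
      haveI := (hall p).1
      infer_instance
  haveI := (hall N).1
  let Q₀ : Ideal (MvPolynomial (Fin (n + 1)) k ⧸ J) :=
    RingHom.ker (algebraMap (MvPolynomial (Fin (n + 1)) k ⧸ J) (Localization.AtPrime N))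
  haveI : Q₀.IsPrime := RingHom.ker_isPrime _
  have hmin : ∀ P ∈ minimalPrimes (MvPolynomial (Fin (n + 1)) k ⧸ J), P = Q₀ := by
    intro P hP
    haveI := hP.1.1
    have hPm : P.comap (Ideal.Quotient.mk J) ∈ J.minimalPrimes := by
      rw [Ideal.minimalPrimes_eq_comap]
      exact ⟨P, hP, rfl⟩
    have hPN : P ≤ N := fun x hx => by
      obtain ⟨y, rfl⟩ := Ideal.Quotient.mk_surjective x
      exact Ideal.mem_map_of_mem _ (minimal_le_vars J (isHomogeneous_span f d hf) _ hPm hx)
    have hle : Q₀ ≤ P := by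
      intro x hx
      obtain ⟨t, ht⟩ := (IsLocalization.map_eq_zero_iff N.primeCompl (Localization.AtPrime N) x).mp hx
      exact (hP.1.1.mem_or_mem (ht ▸ P.zero_mem)).resolve_left fun h => t.2 (hPN h)
    exact le_antisymm (hP.2 ⟨inferInstance, bot_le⟩ hle) hle
  have hinj : Function.Injective
      (algebraMap (MvPolynomial (Fin (n + 1)) k ⧸ J) (Localization.AtPrime N)) := by
    rw [RingHom.injective_iff_ker_eq_bot, eq_bot_iff]
    intro x hx
    have : x ∈ nilradical (MvPolynomial (Fin (n + 1)) k ⧸ J) := by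
      rw [nilradical_eq_sInf, Ideal.mem_sInf]
      intro P hP
      haveI : P.IsPrime := hP
      obtain ⟨P', hP', hle⟩ := Ideal.exists_minimalPrimes_le (bot_le : ⊥ ≤ P)
      exact hle ((hmin P' hP').symm ▸ hx)
    rwa [nilradical_eq_zero] at this
  haveI : IsDomain (MvPolynomial (Fin (n + 1)) k ⧸ J) := hinj.isDomain _
  exact ⟨inferInstance, IsIntegrallyClosed.of_localization_maximal fun p _ _ => (hall p).2⟩

end Poly

end Groth.Agent.H26.CIVertex
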