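import Groth.Agent.H26.CIExist
import Groth.Agent.H26.CIVertex
import Groth.Agent.H4.CurveThrough
import Groth.Agent.Lib.ProjSpace.Charts
import Groth.Agent.Lib.Grass.GradedVertex
import Mathlib.AlgebraicGeometry.ProjectiveSpectrum.Basic
import Mathlib.AlgebraicGeometry.Morphisms.ClosedImmersion

/-!
# Bertini for hyperplane sections of nonsingular projective varieties
-/

universe u

open CategoryTheory AlgebraicGeometry TopologicalSpace MvPolynomial
open Groth.Agent.Lib.ProjSpace Groth.Agent.H26

set_option maxHeartbeats 800000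
set_option linter.all false

noncomputable section

namespace Groth.Agent.H26.BertiniProj

/-- Regular algebras of finite type over perfect fields are smooth. -/
theorem smooth_of_isRegularRing (k A : Type u) [Field k] [PerfectField k] [CommRing A] [Algebra k A]
    [Algebra.FiniteType k A] [IsRegularRing A] : Algebra.Smooth k A := by
  let f := Spec.map (CommRingCat.ofHom (algebraMap k A))
  haveI : LocallyOfFiniteType f := by
    rw [HasRingHomProperty.Spec_iff (P := @LocallyOfFiniteType)]
    exact (RingHom.finiteType_algebraMap).mpr inferInstance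
  have hs : Smooth f := Groth.Agent.H4.CurveThrough.smooth_of_regular_closed f fun x _ => by
    letI : Algebra A ((Spec (CommRingCat.of A)).presheaf.stalk x) :=
      StructureSheaf.stalkAlgebra A x
    haveI : IsLocalization.AtPrime ((Spec (CommRingCat.of A)).presheaf.stalk x) x.asIdeal :=
      StructureSheaf.IsLocalization.to_stalk (CommRingCat.of A) x
    haveI := IsRegularRing.isRegularLocalRing_localization (R := A) x.asIdeal
    exact IsRegularLocalRing.of_ringEquiv (R := Localization.AtPrime x.asIdeal)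
      (R' := (Spec (CommRingCat.of A)).presheaf.stalk x)
      (IsLocalization.algEquiv x.asIdeal.primeCompl _ _).toRingEquiv
  exact RingHom.smooth_algebraMap.mp ((HasRingHomProperty.Spec_iff (P := @Smooth)).mp hs)

/-- A regular domain of finite type over a perfect field is covered by standard smooth opens. -/
theorem exists_cover (k A : Type u) [Field k] [PerfectField k] [CommRing A] [Algebra k A]
    [Algebra.FiniteType k A] [IsRegularRing A] :
    ∃ s : Finset A, Ideal.span (s : Set A) = ⊤ ∧
      ∀ g ∈ s, Algebra.IsStandardSmooth k (Localization.Away g) := by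
  haveI := smooth_of_isRegularRing k A
  let S : Set A := {g | Algebra.IsStandardSmooth k (Localization.Away g)}
  have hS : Ideal.span S = ⊤ := by
    by_contra hne
    obtain ⟨M, hM, hle⟩ := Ideal.exists_le_maximal _ hne
    haveI := hM.isPrime
    obtain ⟨g, hg, hs⟩ := Algebra.IsSmoothAt.exists_notMem_isStandardSmooth k M
    exact hg (hle (Ideal.subset_span hs))
  obtain ⟨s, hs, hs'⟩ := (Ideal.span_eq_top_iff_finite S).mp hS
  exact ⟨s, hs', fun g hg => hs hg⟩

/-- Quotients of localisations at primes by principal ideals. -/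
theorem regular_quotient_localization {R S : Type u} [CommRing R] [CommRing S] [Algebra R S]
    (P : Ideal R) [P.IsPrime] [IsLocalization.AtPrime S P] (h : R) (hh : h ∈ P)
    [IsRegularRing (R ⧸ Ideal.span {h})] : IsRegularLocalRing (S ⧸ Ideal.span {algebraMap R S h}) := by
  have hJ : Ideal.span {h} ≤ P := (Ideal.span_singleton_le_iff_mem _).mpr hh
  haveI : (P.map (Ideal.Quotient.mk (Ideal.span {h}))).IsPrime :=
    Ideal.map_isPrime_of_surjective Ideal.Quotient.mk_surjective (Ideal.mk_ker.le.trans hJ)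
  obtain ⟨e⟩ := Groth.Agent.Lib.Grass.GradedVertex.quotLocEquiv (Ideal.span {h}) P hJ
  haveI := IsRegularRing.isRegularLocalRing_localization (P.map (Ideal.Quotient.mk (Ideal.span {h})))
  haveI := IsRegularLocalRing.of_ringEquiv e.symm
  let ε := IsLocalization.algEquiv P.primeCompl (Localization.AtPrime P) S
  refine IsRegularLocalRing.of_ringEquiv
    (Ideal.quotientEquiv ((Ideal.span {h}).map (algebraMap R (Localization.AtPrime P)))
      (Ideal.span {algebraMap R S h}) ε.toRingEquiv ?_)
  rw [Ideal.map_span, Set.image_singleton, Ideal.map_span, Set.image_singleton]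
  simp

section Chart

variable {k : Type u} [Field k] {n : ℕ} {X : Scheme.{u}} (ι : X ⟶ CohB1.ProjSpace n k)

/-- The `j`-th chart of `X`. -/
abbrev chartOpen (j : Fin (n + 1)) : X.Opens :=
  ι ⁻¹ᵁ Proj.basicOpen (CohB1.polyGrading n k) (MvPolynomial.X j : MvPolynomial (Fin (n + 1)) k)

/-- Restriction of the chart functions to `X`. -/
def chartHom (j : Fin (n + 1)) : Charts.AwayX k j →+* Γ(X, chartOpen ι j) :=
  (Proj.awayToSection (CohB1.polyGrading n k) (MvPolynomial.X j : MvPolynomial (Fin (n + 1)) k) ≫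
    ι.app (Proj.basicOpen (CohB1.polyGrading n k) (MvPolynomial.X j : MvPolynomial (Fin (n + 1)) k))).hom

/-- The fraction `h/X_j` of a linear form. -/
def frac (h : ↥(CohB1.polyGrading n k 1)) (j : Fin (n + 1)) : Charts.AwayX k j :=
  HomogeneousLocalization.mk (𝒜 := CohB1.polyGrading n k)
    (x := Submonoid.powers (MvPolynomial.X j : MvPolynomial (Fin (n + 1)) k))
    ⟨1, h, ⟨MvPolynomial.X j, MvPolynomial.isHomogeneous_X k j⟩, Submonoid.mem_powers _⟩

theorem eq_sum_coeff (h : ↥(CohB1.polyGrading n k 1)) :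
    (h : MvPolynomial (Fin (n + 1)) k) =
      ∑ i, MvPolynomial.C (coeff (Finsupp.single i 1) (h : MvPolynomial (Fin (n + 1)) k)) * MvPolynomial.X i := by
  have hh : (h : MvPolynomial (Fin (n + 1)) k).IsHomogeneous 1 := h.2
  classical
  refine MvPolynomial.ext _ _ fun v => ?_
  simp only [coeff_sum, coeff_C_mul, coeff_X']
  by_cases hv : ∃ i, Finsupp.single i 1 = v
  · obtain ⟨i, rfl⟩ := hv
    rw [Finset.sum_eq_single i]
    · simp
    · intro b _ hb
      rw [if_neg fun h => hb (Finsupp.single_left_injective one_ne_zero h), mul_zero]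
    · simp
  · rw [Finset.sum_eq_zero fun i _ => by rw [if_neg fun h => hv ⟨i, h⟩, mul_zero]]
    refine hh.coeff_eq_zero fun hdeg => hv ?_
    exact (Set.ext_iff.mp Finsupp.range_single_one v).mpr hdeg

theorem frac_eq (h : ↥(CohB1.polyGrading n k 1)) (j : Fin (n + 1)) :
    frac h j = ∑ i, Charts.constHom k j (coeff (Finsupp.single i 1) (h : MvPolynomial (Fin (n + 1)) k)) *
      Charts.coord k j i := by
  refine HomogeneousLocalization.val_injective _ ?_
  change Localization.mk (h : MvPolynomial (Fin (n + 1)) k) ⟨MvPolynomial.X j, _⟩ = _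
  rw [← HomogeneousLocalization.algebraMap_apply, map_sum]
  simp only [HomogeneousLocalization.algebraMap_apply, HomogeneousLocalization.val_mul,
    Charts.val_constHom, Charts.val_coord, Localization.mk_eq_mk', IsLocalization.mul_mk'_eq_mk'_of_mul]
  refine Eq.trans (IsLocalization.mk'_eq_mul_mk'_one _ _) (Eq.trans ?_
    (Finset.sum_congr rfl fun i _ => (IsLocalization.mk'_eq_mul_mk'_one _ _).symm))
  conv_lhs => rw [eq_sum_coeff h]
  rw [map_sum, Finset.sum_mul]

theorem germ_chartHom (h : ↥(CohB1.polyGrading n k 1)) (j : Fin (n + 1)) (x : X)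
    (hj : (MvPolynomial.X j : MvPolynomial (Fin (n + 1)) k) ∉ (ι.base x).asHomogeneousIdeal) :
    X.presheaf.germ (chartOpen ι j) x hj (chartHom ι j (frac h j)) =
      (ι.stalkMap x).hom ((Proj.stalkIso' (CohB1.polyGrading n k) (ι.base x)).symm
        (HomogeneousLocalization.mk
          ⟨1, h, ⟨MvPolynomial.X j, MvPolynomial.isHomogeneous_X k j⟩, hj⟩)) := by
  have h1 := congrArg (fun g => g.hom (frac h j))
    (ProjectiveSpectrum.Proj.awayToSection_germ (CohB1.polyGrading n k) (MvPolynomial.X j) (ι.base x) hj)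
  have h2 := Scheme.Hom.germ_stalkMap_apply ι
    (Proj.basicOpen (CohB1.polyGrading n k) (MvPolynomial.X j : MvPolynomial (Fin (n + 1)) k)) x hj
    ((Proj.awayToSection (CohB1.polyGrading n k) (MvPolynomial.X j)).hom (frac h j))
  refine Eq.trans ?_ (h2.symm.trans (congrArg (ι.stalkMap x).hom h1))
  rfl

end Chart

section Main

variable {k : Type u} [Field k] [Infinite k] [PerfectField k] {n : ℕ} {X : Scheme.{u}} [IsIntegral X]
  (ι : X ⟶ CohB1.ProjSpace n k) [IsClosedImmersion ι]

omit [Infinite k] [PerfectField k] [IsIntegral X] in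
theorem isAffineOpen_chartOpen (j : Fin (n + 1)) : IsAffineOpen (chartOpen ι j) :=
  IsAffineOpen.preimage (Y := CohB1.ProjSpace n k)
    (Proj.isAffineOpen_basicOpen (CohB1.polyGrading n k) _ (MvPolynomial.isHomogeneous_X k j) one_pos) ι

omit [Infinite k] [PerfectField k] [IsIntegral X] in
theorem chartHom_surjective (j : Fin (n + 1)) : Function.Surjective (chartHom ι j) := by
  have hU := Proj.isAffineOpen_basicOpen (CohB1.polyGrading n k) (MvPolynomial.X j : MvPolynomial (Fin (n + 1)) k)
    (MvPolynomial.isHomogeneous_X k j) one_pos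
  haveI : IsIso (Proj.awayToSection (CohB1.polyGrading n k) (MvPolynomial.X j : MvPolynomial (Fin (n + 1)) k)) :=
    (Proj.basicOpenIsoAway (CohB1.polyGrading n k) _ (MvPolynomial.isHomogeneous_X k j) one_pos).isIso_hom
  exact (ι.app_surjective _ hU).comp
    (asIso (Proj.awayToSection (CohB1.polyGrading n k) (MvPolynomial.X j : MvPolynomial (Fin (n + 1)) k))).commRingCatIsoToRingEquiv.surjective

theorem exists_poly_chart (hreg : ∀ x : X, IsRegularLocalRing (X.presheaf.stalk x)) (j : Fin (n + 1)) :
    ∃ G : MvPolynomial (Fin (n + 1)) k, G ≠ 0 ∧ ∀ h : ↥(CohB1.polyGrading n k 1),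
      eval (fun i => coeff (Finsupp.single i 1) (h : MvPolynomial (Fin (n + 1)) k)) G ≠ 0 →
        IsRegularRing (Γ(X, chartOpen ι j) ⧸ Ideal.span {chartHom ι j (frac h j)}) := by
  by_cases hne : Nonempty (chartOpen ι j)
  swap
  · refine ⟨1, one_ne_zero, fun h _ => ?_⟩
    have hbot : chartOpen ι j = ⊥ := by
      ext x; exact ⟨fun hx => (hne ⟨⟨x, hx⟩⟩).elim, fun hx => hx.elim⟩
    haveI : Subsingleton Γ(X, chartOpen ι j) := by
      rw [hbot]; infer_instance
    haveI : Subsingleton (Γ(X, chartOpen ι j) ⧸ Ideal.span {chartHom ι j (frac h j)}) :=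
      Ideal.Quotient.mk_surjective.subsingleton
    rw [isRegularRing_iff]
    exact fun p hp => (hp.ne_top (Subsingleton.elim p ⊤)).elim
  let R := Γ(X, chartOpen ι j)
  letI : Algebra k R := ((chartHom ι j).comp (Charts.constHom k j)).toAlgebra
  let c : Fin (n + 1) → R := fun i => chartHom ι j (Charts.coord k j i)
  have hc : Function.Surjective (aeval c : MvPolynomial (Fin (n + 1)) k →ₐ[k] R) := by
    intro b
    obtain ⟨z, rfl⟩ := chartHom_surjective ι j b
    obtain ⟨p, rfl⟩ := Charts.fromPoly_surjective j z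
    refine ⟨rename Subtype.val p, ?_⟩
    rw [aeval_rename]
    refine RingHom.congr_fun (?_ : (aeval (c ∘ Subtype.val)).toRingHom =
      (chartHom ι j).comp (Charts.fromPoly k j)) p
    refine MvPolynomial.ringHom_ext (fun a => ?_) fun i => ?_
    · simp [Charts.fromPoly_C]; rfl
    · simp [Charts.fromPoly_X, c]
  haveI : Algebra.FiniteType k R := Algebra.FiniteType.of_surjective (aeval c) hc
  haveI : IsNoetherianRing R := Algebra.FiniteType.isNoetherianRing k R
  haveI : IsDomain R := by
    haveI := hne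
    infer_instance
  have hU := isAffineOpen_chartOpen ι j
  haveI : IsRegularRing R := by
    rw [isRegularRing_iff]
    intro p hp
    let x : X := hU.fromSpec ⟨p, hp⟩
    have hx : x ∈ chartOpen ι j := by
      rw [← SetLike.mem_coe, ← hU.range_fromSpec]
      exact ⟨_, rfl⟩
    letI := TopCat.Presheaf.algebra_section_stalk X.presheaf ⟨x, hx⟩
    haveI : IsLocalization.AtPrime (X.presheaf.stalk x) p := hU.isLocalization_stalk' ⟨p, hp⟩ hx
    haveI := hreg x
    exact IsRegularLocalRing.of_ringEquiv (R := X.presheaf.stalk x) (R' := Localization.AtPrime p)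
      (IsLocalization.algEquiv p.primeCompl _ _).toRingEquiv
  obtain ⟨s, hs, hsm⟩ := exists_cover k R
  let m := Groth.Agent.Lib.Dim.Basic.dimQ k (⊥ : Ideal R)
  have hdim : ∀ P ∈ minimalPrimes R, ringKrullDim (R ⧸ P) = m := by
    intro P hP
    have hP0 : P = ⊥ := le_antisymm (hP.2 ⟨Ideal.isPrime_bot, le_rfl⟩ bot_le) bot_le
    subst hP0
    haveI : (⊥ : Ideal R).IsPrime := Ideal.isPrime_bot
    exact Groth.Agent.Lib.Dim.Basic.ringKrullDim_quotient_prime k ⊥
  obtain ⟨G, hG0, hG⟩ := CIExist.exists_poly_step' s hs hsm hdim c hc j (by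
    have : Charts.coord k j j = 1 := HomogeneousLocalization.val_injective _ (by
      rw [Charts.val_coord, HomogeneousLocalization.val_one]; exact Localization.mk_self (⟨MvPolynomial.X j, Submonoid.mem_powers _⟩ : Submonoid.powers (MvPolynomial.X j : MvPolynomial (Fin (n + 1)) k)))
    simp [c, this])
  refine ⟨G, hG0, fun h hh => ?_⟩
  have heq : ∑ i, algebraMap k R (coeff (Finsupp.single i 1) (h : MvPolynomial (Fin (n + 1)) k)) * c i =
      chartHom ι j (frac h j) := by
    rw [frac_eq, map_sum]
    exact Finset.sum_congr rfl fun i _ => by rw [map_mul]; rfl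
  have hI := hG _ hh
  rw [heq] at hI
  exact CIChart.isRegularRing_of_cover fun q hq => (hI q hq).imp fun g hg =>
    ⟨hg.1, by haveI := hg.2; exact Algebra.IsStandardSmoothOfRelativeDimension.isStandardSmooth (m - 1) (R := k)⟩

/-- Bertini's theorem for hyperplane sections. -/
theorem exists_poly (hreg : ∀ x : X, IsRegularLocalRing (X.presheaf.stalk x)) :
    ∃ g : MvPolynomial (Fin (n + 1)) k, g ≠ 0 ∧
      ∀ h : ↥(CohB1.polyGrading n k 1),
        eval (fun i => coeff (Finsupp.single i 1) (h : MvPolynomial (Fin (n + 1)) k)) g ≠ 0 →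
          (∃ x : ↥X, (h : MvPolynomial (Fin (n + 1)) k) ∉ (ι.base x).asHomogeneousIdeal) ∧
          ∀ x : ↥X, (h : MvPolynomial (Fin (n + 1)) k) ∈ (ι.base x).asHomogeneousIdeal →
            ∀ (j : Fin (n + 1))
              (hj : (MvPolynomial.X j : MvPolynomial (Fin (n + 1)) k) ∉ (ι.base x).asHomogeneousIdeal),
              IsRegularLocalRing (↑(X.presheaf.stalk x) ⧸ Ideal.span
                {(ι.stalkMap x).hom ((Proj.stalkIso' (CohB1.polyGrading n k) (ι.base x)).symm
                  (HomogeneousLocalization.mk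
                    ⟨1, h, ⟨MvPolynomial.X j, MvPolynomial.isHomogeneous_X k j⟩, hj⟩))}) := by
  classical
  choose G hG0 hG using exists_poly_chart ι hreg
  let P : Ideal (MvPolynomial (Fin (n + 1)) k) := (ι.base (genericPoint ↥X)).asHomogeneousIdeal.toIdeal
  haveI : P.IsPrime := (ι.base (genericPoint ↥X)).isPrime
  obtain ⟨j₀, hj₀⟩ : ∃ j, (MvPolynomial.X j : MvPolynomial (Fin (n + 1)) k) ∉ P := by
    by_contra hall
    push Not at hall
    exact (ι.base (genericPoint ↥X)).not_irrelevant_le fun a ha => by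
      refine CIVertex.ker_constantCoeff_le P hall ?_
      rw [RingHom.mem_ker, constantCoeff_eq]
      rw [HomogeneousIdeal.mem_irrelevant_iff, GradedRing.proj_apply] at ha
      have h0 : ((DirectSum.decompose (CohB1.polyGrading n k) a) 0 : MvPolynomial (Fin (n + 1)) k) =
          homogeneousComponent 0 a := MvPolynomial.decomposition.decompose'_apply a 0
      rw [h0, homogeneousComponent_zero, C_eq_zero] at ha
      exact ha
  have hne : Ideal.Quotient.mk P (MvPolynomial.X j₀) ≠ 0 := by
    rwa [Ne, Ideal.Quotient.eq_zero_iff_mem]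
  obtain ⟨φ, hφ⟩ : ∃ φ : Module.Dual k (MvPolynomial (Fin (n + 1)) k ⧸ P),
      φ (Ideal.Quotient.mk P (MvPolynomial.X j₀)) ≠ 0 := by
    by_contra h
    push Not at h
    exact hne ((Module.forall_dual_apply_eq_zero_iff k _).mp h)
  let H : MvPolynomial (Fin (n + 1)) k :=
    ∑ i, MvPolynomial.C (φ (Ideal.Quotient.mk P (MvPolynomial.X i))) * MvPolynomial.X i
  have hH : H ≠ 0 := fun h => hφ (by
    have := congrArg (coeff (Finsupp.single j₀ 1)) h
    simpa [H, coeff_sum, coeff_X', Finsupp.single_left_inj one_ne_zero] using this)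
  refine ⟨(∏ j, G j) * H, mul_ne_zero (Finset.prod_ne_zero_iff.mpr fun j _ => hG0 j) hH, fun h hh => ?_⟩
  rw [map_mul, map_prod, mul_ne_zero_iff, Finset.prod_ne_zero_iff] at hh
  refine ⟨⟨genericPoint ↥X, fun hmem => hh.2 ?_⟩, fun x hx j hj => ?_⟩
  · have h0 : φ (Ideal.Quotient.mk P (h : MvPolynomial (Fin (n + 1)) k)) = 0 := by
      rw [Ideal.Quotient.eq_zero_iff_mem.mpr hmem, map_zero]
    rw [eq_sum_coeff h] at h0
    simp only [map_sum, ← MvPolynomial.smul_eq_C_mul, ← Ideal.Quotient.mkₐ_eq_mk k, map_smul,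
      smul_eq_mul] at h0
    simp only [H, map_sum, map_mul, eval_C, eval_X]
    refine Eq.trans (Finset.sum_congr rfl fun i _ => ?_) h0
    rw [Ideal.Quotient.mkₐ_eq_mk, mul_comm]
  · have hU := isAffineOpen_chartOpen ι j
    have hxj : x ∈ chartOpen ι j := hj
    letI := TopCat.Presheaf.algebra_section_stalk X.presheaf ⟨x, hxj⟩
    haveI := hU.isLocalization_stalk ⟨x, hxj⟩
    haveI := hG j h (hh.1 j (Finset.mem_univ _))
    rw [← germ_chartHom ι h j x hj]
    refine regular_quotient_localization (R := Γ(X, chartOpen ι j)) (S := X.presheaf.stalk x)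
      (hU.primeIdealOf ⟨x, hxj⟩).asIdeal (chartHom ι j (frac h j)) ?_
    rw [← IsLocalization.AtPrime.to_map_mem_maximal_iff (X.presheaf.stalk x) (hU.primeIdealOf ⟨x, hxj⟩).asIdeal,
      IsLocalRing.mem_maximalIdeal]
    intro hu
    change IsUnit (X.presheaf.germ (chartOpen ι j) x hj (chartHom ι j (frac h j))) at hu
    rw [germ_chartHom ι h j x hj] at hu
    have hu1 := (isUnit_map_iff (ι.stalkMap x).hom _).mp hu
    have hu2 : IsUnit (HomogeneousLocalization.mk (𝒜 := CohB1.polyGrading n k)
        (x := (ι.base x).asHomogeneousIdeal.toIdeal.primeCompl)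
        ⟨1, h, ⟨MvPolynomial.X j, MvPolynomial.isHomogeneous_X k j⟩, hj⟩) :=
      (isUnit_map_iff (Proj.stalkIso' (CohB1.polyGrading n k) (ι.base x)).symm _).mp hu1
    rw [← HomogeneousLocalization.isUnit_iff_isUnit_val] at hu2
    rw [HomogeneousLocalization.val_mk, Localization.mk_eq_mk', IsLocalization.AtPrime.isUnit_mk'_iff] at hu2
    exact hu2 hx

end Main

end Groth.Agent.H26.BertiniProj
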