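import Groth.Agent.Lib.SchDense.Basic
import Groth.Agent.H87.SchDense
import Mathlib.AlgebraicGeometry.Noetherian
import Mathlib.AlgebraicGeometry.Morphisms.Flat

/-!
# Criteria for schematic density
-/

universe u

open CategoryTheory CategoryTheory.Limits AlgebraicGeometry TopologicalSpace Opposite

namespace Groth.Agent.H26.SchDense

variable {X : Scheme.{u}}

/-- It suffices to test on sections killed by restriction. -/
theorem of_forall_eq_zero {U : X.Opens}
    (h : ∀ (V : X.Opens) (s : Γ(X, V)),
      X.presheaf.map (homOfLE (inf_le_left : V ⊓ U ≤ V)).op s = 0 → s = 0) :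
    CInt.IsSchematicallyDense U := fun V => by
  refine (injective_iff_map_eq_zero _).mpr (h V)

/-- A larger open of a schematically dense open is schematically dense. -/
theorem mono {U U' : X.Opens} (hU : CInt.IsSchematicallyDense U) (hle : U ≤ U') :
    CInt.IsSchematicallyDense U' := fun V a b hab => hU V (by
  have e : ∀ z, X.presheaf.map (homOfLE (inf_le_inf_left V hle)).op
      (X.presheaf.map (homOfLE (inf_le_left : V ⊓ U' ≤ V)).op z) =
      X.presheaf.map (homOfLE (inf_le_left : V ⊓ U ≤ V)).op z := fun z => by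
    exact (ConcreteCategory.congr_hom (X.presheaf.map_comp _ _) z).symm
  exact (e a).symm.trans ((congrArg _ hab).trans (e b)))

/-- A quasi-compact scheme-theoretically dominant open is schematically dense. -/
theorem of_std (U : X.Opens) [QuasiCompact U.ι] [IsSchemeTheoreticallyDominant U.ι] :
    CInt.IsSchematicallyDense U := fun V a b hab => by
  apply U.ι.app_injective V
  rw [Scheme.Opens.ι_app]
  have hle : U.ι ''ᵁ U.ι ⁻¹ᵁ V ≤ V ⊓ U := by
    rw [Scheme.Hom.image_preimage_eq_opensRange_inf, Scheme.Opens.opensRange_ι]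
    exact le_of_eq (inf_comm _ _)
  have e : ∀ z, X.presheaf.map (homOfLE hle).op
      (X.presheaf.map (homOfLE (inf_le_left : V ⊓ U ≤ V)).op z) =
      X.presheaf.map (homOfLE (U.ι.image_preimage_le V)).op z := fun z => by
    exact (ConcreteCategory.congr_hom (X.presheaf.map_comp _ _) z).symm
  exact (e a).symm.trans ((congrArg _ hab).trans (e b))

instance quasiCompact_ι [IsLocallyNoetherian X] (U : X.Opens) : QuasiCompact U.ι := inferInstance

/-- Schematic density is inherited by flat preimages when the base is locally Noetherian. -/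
theorem preimage_of_flat {X' : Scheme.{u}} (f : X' ⟶ X) [Flat f] [IsLocallyNoetherian X]
    (V : X.Opens) (hV : CInt.IsSchematicallyDense V) : CInt.IsSchematicallyDense (f ⁻¹ᵁ V) := by
  have := Groth.Agent.Lib.SchDense.Basic.std_of_isSchematicallyDense hV
  have e : (pullbackRestrictIsoRestrict f V).inv ≫ pullback.fst f V.ι = (f ⁻¹ᵁ V).ι := by
    rw [Iso.inv_comp_eq, pullbackRestrictIsoRestrict_hom_ι]
  have : IsSchemeTheoreticallyDominant (f ⁻¹ᵁ V).ι := by
    rw [← e]; infer_instance
  have : QuasiCompact (f ⁻¹ᵁ V).ι := by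
    rw [← e]; infer_instance
  exact of_std _

/-- In a reduced scheme, dense opens are schematically dense. -/
theorem of_dense [IsReduced X] {U : X.Opens} (hU : Dense (U : Set X)) :
    CInt.IsSchematicallyDense U := by
  refine of_forall_eq_zero fun V s hs => ?_
  rw [← basicOpen_eq_bot_iff]
  by_contra hne
  obtain ⟨x, hx⟩ : ((X.basicOpen s : X.Opens) : Set X).Nonempty :=
    Set.nonempty_iff_ne_empty.mpr fun h => hne (Opens.ext h)
  obtain ⟨y, hys, hyU⟩ := hU.inter_open_nonempty _ (X.basicOpen s).2 ⟨x, hx⟩
  have hyV : y ∈ V := X.basicOpen_le s hys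
  have : X.presheaf.germ V y hyV s = 0 := by
    rw [← X.presheaf.germ_res_apply (homOfLE (inf_le_left : V ⊓ U ≤ V)) y ⟨hyV, hyU⟩ s, hs,
      map_zero]
  have hu := (X.mem_basicOpen s y hyV).mp hys
  rw [this] at hu
  exact not_isUnit_zero hu

/-- The locus where a section with regular germs is invertible is schematically dense. -/
theorem basicOpen_of_regular (s : Γ(X, ⊤))
    (hs : ∀ x, X.presheaf.germ ⊤ x trivial s ∈ nonZeroDivisors (X.presheaf.stalk x)) :
    CInt.IsSchematicallyDense (X.basicOpen s) := by
  refine of_forall_eq_zero fun V a ha => ?_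
  apply X.IsSheaf.section_ext
  intro x hx
  obtain ⟨_, ⟨W, hW, rfl⟩, hxW, hWV : W ≤ V⟩ :=
    X.isBasis_affineOpens.exists_subset_of_mem_open hx V.2
  refine ⟨W, hWV, hxW, ?_⟩
  let W : X.Opens := W
  have hle : X.basicOpen (X.presheaf.map (homOfLE (le_top : W ≤ ⊤)).op s) ≤ V ⊓ X.basicOpen s := by
    rw [Scheme.basicOpen_res]
    exact inf_le_inf_right _ hWV
  let t := X.presheaf.map (homOfLE (le_top : W ≤ ⊤)).op s
  let a' := X.presheaf.map (homOfLE hWV).op a
  have h0 : X.presheaf.map (homOfLE (X.basicOpen_le t)).op a' = 0 := by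
    have e : X.presheaf.map (homOfLE hle).op
        (X.presheaf.map (homOfLE (inf_le_left : V ⊓ X.basicOpen s ≤ V)).op a) =
        X.presheaf.map (homOfLE (X.basicOpen_le t)).op a' := by
      simp only [a', ← CommRingCat.comp_apply, ← Functor.map_comp]
      rfl
    rw [← e, ha, map_zero]
  have hloc := hW.isLocalization_basicOpen t
  let := (X.presheaf.map (homOfLE (X.basicOpen_le t)).op).hom.toAlgebra
  obtain ⟨⟨_, n, rfl⟩, hn⟩ :=
    (IsLocalization.map_eq_zero_iff (Submonoid.powers t) Γ(X, X.basicOpen t) a').mp h0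
  have ha'0 : a' = 0 := by
    apply X.IsSheaf.section_ext
    intro y hy
    have hg : X.presheaf.germ W y hy a' = 0 := by
      have h1 := congrArg (X.presheaf.germ W y hy) hn
      rw [map_mul, map_pow, map_zero, TopCat.Presheaf.germ_res_apply] at h1
      exact (mem_nonZeroDivisors_iff_right.mp (pow_mem (hs y) n)) _ ((mul_comm _ _).trans h1)
    obtain ⟨O, hyO, i, j, e⟩ := X.presheaf.germ_eq y hy hy a' 0 (by rw [hg, map_zero])
    exact ⟨O, i.le, hyO, e⟩
  simpa using ha'0

/-- A dense open contains the generic points of the components when these are locally finite. -/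
theorem mem_of_component (hfin : ∀ x : X, ∃ W : X.Opens, x ∈ W ∧
      {Z ∈ irreducibleComponents X | (Z ∩ (W : Set X)).Nonempty}.Finite)
    {V : X.Opens} (hV : Dense (V : Set X)) {η : X} (hη : closure {η} ∈ irreducibleComponents X) :
    η ∈ V := by
  obtain ⟨W, hηW, hW⟩ := hfin η
  let C : Set X := ⋃ Z ∈ {Z ∈ irreducibleComponents X | (Z ∩ (W : Set X)).Nonempty} \ {closure {η}}, Z
  have hC : IsClosed C :=
    (hW.sdiff).isClosed_biUnion fun Z hZ => isClosed_of_mem_irreducibleComponents Z hZ.1.1
  have hηC : η ∉ C := by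
    rintro h
    obtain ⟨Z, ⟨⟨hZ, -⟩, hne⟩, hηZ⟩ := Set.mem_iUnion₂.mp h
    refine hne ?_
    have hsub : closure {η} ⊆ Z :=
      closure_minimal (Set.singleton_subset_iff.mpr hηZ) (isClosed_of_mem_irreducibleComponents Z hZ)
    exact le_antisymm (hη.2 hZ.1 hsub) hsub
  obtain ⟨y, ⟨hyW, hyC⟩, hyV⟩ := hV.inter_open_nonempty ((W : Set X) ∩ Cᶜ)
    (W.2.inter hC.isOpen_compl) ⟨η, hηW, hηC⟩
  have hZy : irreducibleComponent y = closure {η} := by
    by_contra hne
    exact hyC (Set.mem_iUnion₂.mpr ⟨irreducibleComponent y,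
      ⟨⟨irreducibleComponent_mem_irreducibleComponents y, y, mem_irreducibleComponent, hyW⟩, hne⟩,
      mem_irreducibleComponent⟩)
  have : η ⤳ y := by
    rw [specializes_iff_mem_closure, ← hZy]
    exact mem_irreducibleComponent
  exact this.mem_open V.2 hyV

/-- Preimages of schematically dense opens under maps dominating components. -/
theorem preimage_of_dominate {X' : Scheme.{u}} (f : X' ⟶ X) [IsReduced X']
    (hfin : ∀ x : X, ∃ W : X.Opens, x ∈ W ∧
      {Z ∈ irreducibleComponents X | (Z ∩ (W : Set X)).Nonempty}.Finite)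
    (hdom : ∀ Z' ∈ irreducibleComponents X', closure (f '' Z') ∈ irreducibleComponents X)
    (V : X.Opens) (hV : CInt.IsSchematicallyDense V) : CInt.IsSchematicallyDense (f ⁻¹ᵁ V) := by
  refine of_dense fun x => ?_
  obtain ⟨η', hη'⟩ := QuasiSober.sober (isIrreducible_irreducibleComponent (x := x))
    (isClosed_irreducibleComponent)
  have h1 : closure (f '' closure {η'}) = closure {f η'} := by
    refine le_antisymm (closure_minimal ?_ isClosed_closure) (closure_mono ?_)
    · exact (image_closure_subset_closure_image f.continuous).trans (by rw [Set.image_singleton])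
    · rw [Set.singleton_subset_iff]; exact ⟨η', subset_closure rfl, rfl⟩
  have hc : closure {f η'} ∈ irreducibleComponents X := by
    rw [← h1, hη'.def]
    exact hdom _ (irreducibleComponent_mem_irreducibleComponents x)
  have : η' ∈ f ⁻¹ᵁ V := mem_of_component hfin (Groth.Agent.H87.SchDense.dense_of_schDense hV) hc
  exact (hη'.specializes mem_irreducibleComponent).mem_closed isClosed_closure
    (subset_closure this)

end Groth.Agent.H26.SchDense
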