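import Groth.Agent.Lib.FEt.DepthTwo
import Groth.Agent.H26.SchDense
import Groth.Agent.H26.SectionExtend
import Mathlib.AlgebraicGeometry.Noetherian
import Mathlib.AlgebraicGeometry.AffineScheme
import Mathlib.Topology.Sheaves.SheafCondition.UniqueGluing

/-!
# Extension of functions across points of depth at least two
-/

universe u

open CategoryTheory AlgebraicGeometry TopologicalSpace Opposite

namespace Groth.Agent.H26.DepthExtend

/-- A point of a closed subset is a specialization of a maximal point of it. -/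
theorem exists_maximal_of_isClosed {X : Type*} [TopologicalSpace X] [QuasiSober X] [T0Space X]
    {T : Set X} (hT : IsClosed T) {x : X} (hx : x ∈ T) :
    ∃ ξ ∈ T, ξ ⤳ x ∧ ∀ η ∈ T, η ⤳ ξ → η = ξ := by
  let Z := irreducibleComponent (⟨x, hx⟩ : T)
  have hZ : Z ∈ irreducibleComponents T := irreducibleComponent_mem_irreducibleComponents _
  have hZc : IsClosed (Subtype.val '' Z : Set X) :=
    hT.isClosedEmbedding_subtypeVal.isClosedMap _ (isClosed_of_mem_irreducibleComponents Z hZ)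
  obtain ⟨ξ, hξ⟩ := QuasiSober.sober (hZ.1.image _ continuous_subtype_val.continuousOn) hZc
  obtain ⟨ξ', hξZ, rfl⟩ := hξ.mem
  refine ⟨ξ'.1, ξ'.2, hξ.specializes ⟨_, mem_irreducibleComponent, rfl⟩, fun η hη hηξ => ?_⟩
  have hsub : Z ⊆ closure {(⟨η, hη⟩ : T)} := fun w hw => by
    rw [← specializes_iff_mem_closure, subtype_specializes_iff]
    exact hηξ.trans (hξ.specializes ⟨w, hw, rfl⟩)
  have h2 : closure {(⟨η, hη⟩ : T)} ⊆ Z := hZ.2 isIrreducible_singleton.closure hsub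
  exact (hηξ.antisymm (hξ.specializes ⟨⟨η, hη⟩, h2 (subset_closure rfl), rfl⟩)).eq

variable {X : Scheme.{u}}

lemma res_res {O₁ O₂ O₃ : X.Opens} (h₁₂ : O₁ ≤ O₂) (h₂₃ : O₂ ≤ O₃) (s : Γ(X, O₃)) :
    X.presheaf.map (homOfLE h₁₂).op (X.presheaf.map (homOfLE h₂₃).op s) =
      X.presheaf.map (homOfLE (h₁₂.trans h₂₃)).op s :=
  (ConcreteCategory.congr_hom (X.presheaf.map_comp _ _) s).symm

/-- A section killed on the basic open of a section with regular germs vanishes. -/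
theorem eq_zero_of_regular {V : X.Opens} (a : Γ(X, V))
    (ha : ∀ y (hy : y ∈ V), X.presheaf.germ V y hy a ∈ nonZeroDivisors (X.presheaf.stalk y))
    {O : X.Opens} (hOV : O ≤ V) (r : Γ(X, O))
    (h : X.presheaf.map (homOfLE (inf_le_left : O ⊓ X.basicOpen a ≤ O)).op r = 0) : r = 0 := by
  apply X.IsSheaf.section_ext
  intro y hy
  obtain ⟨_, ⟨W, hW, rfl⟩, hyW, hWO : W ≤ O⟩ :=
    X.isBasis_affineOpens.exists_subset_of_mem_open hy O.2
  let W : X.Opens := W
  let a' := X.presheaf.map (homOfLE (hWO.trans hOV)).op a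
  let r' := X.presheaf.map (homOfLE hWO).op r
  have hle : X.basicOpen a' ≤ O ⊓ X.basicOpen a := by
    rw [Scheme.basicOpen_res]
    exact inf_le_inf_right _ hWO
  have h0 : X.presheaf.map (homOfLE (X.basicOpen_le a')).op r' = 0 := by
    have := congrArg (X.presheaf.map (homOfLE hle).op) h
    rw [res_res, map_zero] at this
    simp only [r', res_res]
    exact this
  have hloc := hW.isLocalization_basicOpen a'
  let := (X.presheaf.map (homOfLE (X.basicOpen_le a')).op).hom.toAlgebra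
  obtain ⟨⟨_, n, rfl⟩, hn⟩ :=
    (IsLocalization.map_eq_zero_iff (Submonoid.powers a') Γ(X, X.basicOpen a') r').mp h0
  refine ⟨W, hWO, hyW, ?_⟩
  rw [map_zero]
  refine TopCat.Presheaf.section_ext X.sheaf _ _ _ fun z hz => ?_
  change X.presheaf.germ W z hz r' = X.presheaf.germ W z hz 0
  have h1 := congrArg (X.presheaf.germ W z hz) hn
  rw [map_mul, map_pow, map_zero] at h1
  simp only [a', TopCat.Presheaf.germ_res_apply] at h1
  rw [map_zero]
  exact (mem_nonZeroDivisors_iff_right.mp (pow_mem (ha z (hOV (hWO hz))) n)) _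
    ((mul_comm _ _).trans h1)

variable [IsLocallyNoetherian X] (U : X.Opens)
  (hU : ∀ x : X, x ∉ U → (2 : ℕ∞) ≤ LocCoh.depth (X.presheaf.stalk x) (X.presheaf.stalk x))

include hU in
theorem isSchematicallyDense : CInt.IsSchematicallyDense U := by
  refine SchDense.of_forall_eq_zero fun W s hs => ?_
  refine TopCat.Presheaf.section_ext X.sheaf _ _ _ fun x hx => ?_
  change X.presheaf.germ W x hx s = X.presheaf.germ W x hx 0
  rw [map_zero]
  by_contra hne
  let G : Set X := {y | ∃ hy : y ∈ W, X.presheaf.germ W y hy s = 0}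
  have hG : IsOpen G := by
    rw [isOpen_iff_forall_mem_open]
    rintro y ⟨hy, hy0⟩
    obtain ⟨O, hyO, i, j, e⟩ := X.presheaf.germ_eq y hy hy s 0 (by rw [hy0, map_zero])
    refine ⟨O, fun z hz => ⟨i.le hz, ?_⟩, O.2, hyO⟩
    rw [← X.presheaf.germ_res_apply i z hz s, e, map_zero, map_zero]
  obtain ⟨ξ, hξ, hξx, hmax⟩ :=
    exists_maximal_of_isClosed hG.isClosed_compl (show x ∈ Gᶜ from fun h => hne h.2)
  have hξW : ξ ∈ W := hξx.mem_open W.2 hx
  have hξU : ξ ∉ U := fun h => hξ ⟨hξW, by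
    rw [← X.presheaf.germ_res_apply (homOfLE (inf_le_left : W ⊓ U ≤ W)) ξ ⟨hξW, h⟩ s, hs,
      map_zero]⟩
  obtain ⟨a, ham, hareg⟩ := Groth.Agent.Lib.FEt.DepthTwo.exists_regular (hU ξ hξU)
  obtain ⟨O, hξO, a₀, rfl⟩ := TopCat.Presheaf.exists_germ_eq (F := X.presheaf) a
  obtain ⟨V, hξV, hV⟩ := SectionExtend.exists_nhd_subset (X.basicOpen a₀) G hG ξ fun w hw hwξ => by
    by_contra hwG
    obtain rfl := hmax w hwG hwξ
    exact ham ((X.mem_basicOpen a₀ w hξO).mp hw)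
  let Z : X.Opens := W ⊓ O ⊓ V
  have hξZ : ξ ∈ Z := ⟨⟨hξW, hξO⟩, hξV⟩
  obtain ⟨_, ⟨Z', hZ', rfl⟩, hξZ', hZ'Z : Z' ≤ Z⟩ :=
    X.isBasis_affineOpens.exists_subset_of_mem_open hξZ Z.2
  let Z' : X.Opens := Z'
  let s' := X.presheaf.map (homOfLE ((hZ'Z.trans inf_le_left).trans inf_le_left)).op s
  let a' := X.presheaf.map (homOfLE ((hZ'Z.trans inf_le_left).trans inf_le_right)).op a₀
  have h0 : X.presheaf.map (homOfLE (X.basicOpen_le a')).op s' = 0 := by
    refine TopCat.Presheaf.section_ext X.sheaf _ _ _ fun z hz => ?_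
    change X.presheaf.germ _ z hz _ = X.presheaf.germ _ z hz 0
    rw [map_zero, TopCat.Presheaf.germ_res_apply]
    simp only [s', TopCat.Presheaf.germ_res_apply]
    have hz' : z ∈ X.basicOpen a₀ := by
      rw [Scheme.basicOpen_res] at hz; exact hz.2
    exact (hV z hz' (hZ'Z (X.basicOpen_le a' hz)).2).2
  have hloc := hZ'.isLocalization_basicOpen a'
  let := (X.presheaf.map (homOfLE (X.basicOpen_le a')).op).hom.toAlgebra
  obtain ⟨⟨_, n, rfl⟩, hn⟩ :=
    (IsLocalization.map_eq_zero_iff (Submonoid.powers a') Γ(X, X.basicOpen a') s').mp h0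
  refine hξ ⟨hξW, (hareg.pow n) ?_⟩
  have h1 := congrArg (X.presheaf.germ Z' ξ hξZ') hn
  rw [map_mul, map_pow, map_zero] at h1
  simp only [a', s', TopCat.Presheaf.germ_res_apply] at h1
  simpa using h1

include hU in
theorem exists_extension {W : X.Opens} (s : Γ(X, W ⊓ U)) :
    ∃ t : Γ(X, W), X.presheaf.map (homOfLE (inf_le_left : W ⊓ U ≤ W)).op t = s := by
  classical
  have hd := isSchematicallyDense U hU
  -- opens on which an extension exists, and the maximal one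
  let ι := {O : X.Opens // ∃ (h₁ : O ≤ W) (h₂ : W ⊓ U ≤ O) (t : Γ(X, O)),
    X.presheaf.map (homOfLE h₂).op t = s}
  choose h₁ h₂ e he using fun i : ι => i.2
  let M : X.Opens := ⨆ i : ι, i.1
  have hagree : ∀ (O : X.Opens) (p q : Γ(X, O)) (hO : O ≤ W),
      X.presheaf.map (homOfLE (inf_le_left : O ⊓ U ≤ O)).op p =
      X.presheaf.map (homOfLE (inf_le_left : O ⊓ U ≤ O)).op q → p = q :=
    fun O p q _ h => hd O h
  obtain ⟨T₀, hT₀, -⟩ := X.sheaf.existsUnique_gluing' (fun i : ι => i.1) M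
    (fun i => homOfLE (le_iSup (fun i : ι => i.1) i)) le_rfl e (fun i j => by
      change X.presheaf.map (homOfLE (inf_le_left : i.1 ⊓ j.1 ≤ i.1)).op (e i) =
        X.presheaf.map (homOfLE (inf_le_right : i.1 ⊓ j.1 ≤ j.1)).op (e j)
      refine hagree _ _ _ (inf_le_left.trans (h₁ i)) ?_
      have hle : i.1 ⊓ j.1 ⊓ U ≤ W ⊓ U :=
        le_inf ((inf_le_left.trans inf_le_left).trans (h₁ i)) inf_le_right
      rw [res_res, res_res, ← res_res hle (h₂ i), ← res_res hle (h₂ j), he, he])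
  obtain ⟨T, hT⟩ : ∃ T : Γ(X, M), ∀ i : ι,
      X.presheaf.map (homOfLE (le_iSup (fun i : ι => i.1) i)).op T = e i := ⟨T₀, hT₀⟩
  let i₀ : ι := ⟨W ⊓ U, inf_le_left, le_rfl, s, by simp⟩
  have hMU : W ⊓ U ≤ M := (h₂ i₀).trans (le_iSup (fun i : ι => i.1) i₀)
  have hMW : M ≤ W := iSup_le h₁
  have hTs : X.presheaf.map (homOfLE hMU).op T = s := by
    have h := hT i₀
    rw [← res_res (h₂ i₀) (le_iSup (fun i : ι => i.1) i₀), h, he]
  rcases eq_or_ne M W with hMW' | hne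
  · refine ⟨X.presheaf.map (homOfLE hMW'.ge).op T, ?_⟩
    rw [res_res]
    exact hTs
  exfalso
  obtain ⟨x, hxW, hxM⟩ : ∃ x, x ∈ W ∧ x ∉ M := by
    by_contra h
    push Not at h
    exact hne (le_antisymm hMW h)
  obtain ⟨ξ, hξM, hξx, hmax⟩ := exists_maximal_of_isClosed M.2.isClosed_compl hxM
  have hξW : ξ ∈ W := hξx.mem_open W.2 hxW
  have hξU : ξ ∉ U := fun h => hξM (hMU ⟨hξW, h⟩)
  obtain ⟨a, ham, hareg⟩ := Groth.Agent.Lib.FEt.DepthTwo.exists_regular (hU ξ hξU)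
  obtain ⟨b, hbm, hbreg⟩ := Groth.Agent.Lib.FEt.DepthTwo.exists_regular_mod (hU ξ hξU) ham hareg
  obtain ⟨Oa, hξa, a₀, rfl⟩ := TopCat.Presheaf.exists_germ_eq (F := X.presheaf) a
  obtain ⟨Ob, hξb, b₀, rfl⟩ := TopCat.Presheaf.exists_germ_eq (F := X.presheaf) b
  obtain ⟨V₂, hξV₂, hV₂⟩ := SectionExtend.exists_nhd_subset (X.basicOpen a₀ ⊔ X.basicOpen b₀) M M.2 ξ
    fun w hw hwξ => by
      by_contra hwM
      obtain rfl := hmax w hwM hwξ
      rcases hw with hw | hw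
      · exact ham ((X.mem_basicOpen a₀ w hξa).mp hw)
      · exact hbm ((X.mem_basicOpen b₀ w hξb).mp hw)
  obtain ⟨_, ⟨Z, hZ, rfl⟩, hξZ, hZle : Z ≤ W ⊓ Oa ⊓ Ob ⊓ V₂⟩ :=
    X.isBasis_affineOpens.exists_subset_of_mem_open
      (show ξ ∈ W ⊓ Oa ⊓ Ob ⊓ V₂ from ⟨⟨⟨hξW, hξa⟩, hξb⟩, hξV₂⟩) (W ⊓ Oa ⊓ Ob ⊓ V₂).2
  let Z : X.Opens := Z
  have hZW : Z ≤ W := ((hZle.trans inf_le_left).trans inf_le_left).trans inf_le_left
  have hZa : Z ≤ Oa := ((hZle.trans inf_le_left).trans inf_le_left).trans inf_le_right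
  have hZb : Z ≤ Ob := (hZle.trans inf_le_left).trans inf_le_right
  let a₁ := X.presheaf.map (homOfLE hZa).op a₀
  let b₁ := X.presheaf.map (homOfLE hZb).op b₀
  have hDa : X.basicOpen a₁ ≤ M := fun z hz => by
    rw [Scheme.basicOpen_res] at hz
    exact hV₂ z (Or.inl hz.2) (hZle hz.1).2
  have hDb : X.basicOpen b₁ ≤ M := fun z hz => by
    rw [Scheme.basicOpen_res] at hz
    exact hV₂ z (Or.inr hz.2) (hZle hz.1).2
  have : IsNoetherianRing Γ(X, Z) := IsLocallyNoetherian.component_noetherian ⟨Z, hZ⟩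
  let := TopCat.Presheaf.algebra_section_stalk X.presheaf (⟨ξ, hξZ⟩ : Z)
  have hstalk := hZ.isLocalization_stalk ⟨ξ, hξZ⟩
  let P := (hZ.primeIdealOf ⟨ξ, hξZ⟩).asIdeal.primeCompl
  have halg : ∀ c : Γ(X, Z),
      algebraMap Γ(X, Z) (X.presheaf.stalk ξ) c = X.presheaf.germ Z ξ hξZ c := fun c => rfl
  have ga : X.presheaf.germ Z ξ hξZ a₁ = X.presheaf.germ Oa ξ hξa a₀ := X.presheaf.germ_res_apply _ _ _ _
  have gb : X.presheaf.germ Z ξ hξZ b₁ = X.presheaf.germ Ob ξ hξb b₀ := X.presheaf.germ_res_apply _ _ _ _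
  rw [← ga] at hareg hbreg
  rw [← gb] at hbreg
  -- the annihilator of `a₁` is killed away from `ξ`
  let K : Ideal Γ(X, Z) := LinearMap.ker (LinearMap.mulLeft Γ(X, Z) a₁)
  obtain ⟨gens, hgens⟩ := IsNoetherian.noetherian K
  have hk : ∀ g : Γ(X, Z), g ∈ K → ∃ m : P, (m : Γ(X, Z)) * g = 0 := fun g hg => by
    refine (IsLocalization.map_eq_zero_iff P (X.presheaf.stalk ξ) g).mp (hareg ?_)
    have : a₁ * g = 0 := hg
    show X.presheaf.germ Z ξ hξZ a₁ * X.presheaf.germ Z ξ hξZ g = X.presheaf.germ Z ξ hξZ a₁ * 0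
    rw [mul_zero, ← map_mul, this, map_zero]
  choose! m hm using hk
  let t₀ : Γ(X, Z) := ∏ g ∈ gens, (m g : Γ(X, Z))
  have ht₀ : t₀ ∈ P := Submonoid.prod_mem _ fun g _ => (m g).2
  have hann : ∀ p ∈ K, t₀ * p = 0 := by
    intro p hp
    rw [← hgens] at hp
    induction hp using Submodule.span_induction with
    | mem g hg =>
      obtain ⟨t', ht'⟩ := Finset.dvd_prod_of_mem (fun g => (m g : Γ(X, Z))) hg
      rw [show t₀ = (m g : Γ(X, Z)) * t' from ht', mul_right_comm,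
        hm g (hgens ▸ Submodule.subset_span hg), zero_mul]
    | zero => exact mul_zero _
    | add u v _ _ hu hv => rw [mul_add, hu, hv, add_zero]
    | smul c u _ hu => rw [smul_eq_mul, mul_left_comm, hu, mul_zero]
  -- the sections on the two basic opens
  let := (X.presheaf.map (homOfLE (X.basicOpen_le a₁)).op).hom.toAlgebra
  let := (X.presheaf.map (homOfLE (X.basicOpen_le b₁)).op).hom.toAlgebra
  have := hZ.isLocalization_basicOpen a₁
  have := hZ.isLocalization_basicOpen b₁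
  obtain ⟨⟨c, _, n, rfl⟩, hc⟩ :=
    IsLocalization.surj (Submonoid.powers a₁) (X.presheaf.map (homOfLE hDa).op T)
  obtain ⟨⟨d, _, k, rfl⟩, hd'⟩ :=
    IsLocalization.surj (Submonoid.powers b₁) (X.presheaf.map (homOfLE hDb).op T)
  change X.presheaf.map (homOfLE hDa).op T *
    X.presheaf.map (homOfLE (X.basicOpen_le a₁)).op (a₁ ^ n) =
    X.presheaf.map (homOfLE (X.basicOpen_le a₁)).op c at hc
  change X.presheaf.map (homOfLE hDb).op T *
    X.presheaf.map (homOfLE (X.basicOpen_le b₁)).op (b₁ ^ k) =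
    X.presheaf.map (homOfLE (X.basicOpen_le b₁)).op d at hd'
  obtain ⟨N, hN⟩ : ∃ N, (a₁ * b₁) ^ N * (c * b₁ ^ k - d * a₁ ^ n) = 0 := by
    let := (X.presheaf.map (homOfLE (X.basicOpen_le (a₁ * b₁))).op).hom.toAlgebra
    have := hZ.isLocalization_basicOpen (a₁ * b₁)
    have h0 : algebraMap Γ(X, Z) Γ(X, X.basicOpen (a₁ * b₁)) (c * b₁ ^ k - d * a₁ ^ n) = 0 := by
      have ea : X.basicOpen (a₁ * b₁) ≤ X.basicOpen a₁ := by
        rw [Scheme.basicOpen_mul]; exact inf_le_left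
      have eb : X.basicOpen (a₁ * b₁) ≤ X.basicOpen b₁ := by
        rw [Scheme.basicOpen_mul]; exact inf_le_right
      have hc' := congrArg (X.presheaf.map (homOfLE ea).op) hc
      have hd'' := congrArg (X.presheaf.map (homOfLE eb).op) hd'
      simp only [map_mul, res_res] at hc' hd''
      change X.presheaf.map (homOfLE (X.basicOpen_le (a₁ * b₁))).op _ = 0
      rw [map_sub, map_mul, map_mul, ← hc', ← hd'']
      ring
    obtain ⟨⟨_, N, rfl⟩, hN⟩ :=
      (IsLocalization.map_eq_zero_iff (Submonoid.powers (a₁ * b₁)) _ _).mp h0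
    exact ⟨N, hN⟩
  let α := X.presheaf.germ Z ξ hξZ a₁
  let β := X.presheaf.germ Z ξ hξZ b₁
  have hdvd : α ^ n ∣ X.presheaf.germ Z ξ hξZ c := by
    refine Groth.Agent.Lib.FEt.DepthTwo.dvd_of_dvd_pow_mul hareg hbreg n (N + k) _
      ⟨β ^ N * X.presheaf.germ Z ξ hξZ d, (hareg.pow N) ?_⟩
    have h1 := congrArg (X.presheaf.germ Z ξ hξZ) hN
    simp only [map_mul, map_pow, map_sub, map_zero] at h1
    change α ^ N * _ = α ^ N * _
    linear_combination h1
  obtain ⟨ε, hε⟩ := hdvd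
  obtain ⟨⟨e₀, σ⟩, hσ⟩ := IsLocalization.surj P ε
  obtain ⟨t₁, ht₁⟩ : ∃ t₁ : P, (t₁ : Γ(X, Z)) * ((σ : Γ(X, Z)) * c) = (t₁ : Γ(X, Z)) * (a₁ ^ n * e₀) := by
    refine IsLocalization.exists_of_eq (S := X.presheaf.stalk ξ) ?_
    rw [map_mul, map_mul, map_pow, halg c, hε, ← hσ, halg a₁]
    ring
  -- the new open
  let t : Γ(X, Z) := t₀ * (t₁ : Γ(X, Z)) * (σ : Γ(X, Z))
  let Z' := X.basicOpen t
  have hZ'Z : Z' ≤ Z := X.basicOpen_le t
  have hξZ' : ξ ∈ Z' := (X.mem_basicOpen t ξ hξZ).mpr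
    (IsLocalization.map_units (X.presheaf.stalk ξ) (⟨t, mul_mem (mul_mem ht₀ t₁.2) σ.2⟩ : P))
  let r := X.presheaf.map (homOfLE hZ'Z).op
  have hut : ∀ {v : Γ(X, Z)}, v ∣ t → IsUnit (r v) := fun {v} hv => by
    obtain ⟨v', hv'⟩ := hv
    have : IsUnit (r t) := RingedSpace.isUnit_res_basicOpen _ t
    rw [hv', map_mul] at this
    exact isUnit_of_mul_isUnit_left this
  have hu₀ : IsUnit (r t₀) := hut ⟨_, (mul_assoc _ _ _)⟩
  have hu₁ : IsUnit (r (t₁ : Γ(X, Z))) := hut ⟨t₀ * (σ : Γ(X, Z)), by simp only [t]; ring⟩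
  obtain ⟨uσ, huσ⟩ := hut (v := (σ : Γ(X, Z))) ⟨t₀ * (t₁ : Γ(X, Z)), by simp only [t]; ring⟩
  let a' := r a₁
  have hreg' : ∀ y (hy : y ∈ Z'), X.presheaf.germ Z' y hy a' ∈
      nonZeroDivisors (X.presheaf.stalk y) := by
    intro y hy
    rw [mem_nonZeroDivisors_iff_right]
    intro z hz
    let := TopCat.Presheaf.algebra_section_stalk X.presheaf (⟨y, hZ'Z hy⟩ : Z)
    have := hZ.isLocalization_stalk ⟨y, hZ'Z hy⟩
    let Py := (hZ.primeIdealOf ⟨y, hZ'Z hy⟩).asIdeal.primeCompl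
    obtain ⟨⟨z₀, τ⟩, hz₀⟩ := IsLocalization.surj Py z
    simp only [a', r, TopCat.Presheaf.germ_res_apply] at hz
    have h1 : algebraMap Γ(X, Z) (X.presheaf.stalk y) (z₀ * a₁) = 0 := by
      rw [map_mul, ← hz₀, mul_right_comm]
      refine mul_eq_zero_of_left ?_ _
      exact hz
    obtain ⟨τ', hτ'⟩ := (IsLocalization.map_eq_zero_iff Py (X.presheaf.stalk y) _).mp h1
    have h2 : t₀ * ((τ' : Γ(X, Z)) * z₀) = 0 := hann _ (by
      change a₁ * ((τ' : Γ(X, Z)) * z₀) = 0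
      linear_combination hτ')
    have h3 := congrArg (algebraMap Γ(X, Z) (X.presheaf.stalk y)) h2
    rw [map_mul, map_mul, map_zero, ← hz₀] at h3
    have hy₀ : IsUnit (algebraMap Γ(X, Z) (X.presheaf.stalk y) t₀) := by
      have := hu₀.map (X.presheaf.germ Z' y hy).hom
      simp only [r, TopCat.Presheaf.germ_res_apply] at this
      exact this
    rw [hy₀.mul_right_eq_zero, (IsLocalization.map_units (X.presheaf.stalk y) τ').mul_right_eq_zero,
      (IsLocalization.map_units (X.presheaf.stalk y) τ).mul_left_eq_zero] at h3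
    exact h3
  let E : Γ(X, Z') := r e₀ * ↑uσ⁻¹
  have hEc : a' ^ n * E = r c := by
    have h := congrArg r ht₁
    simp only [map_mul, map_pow] at h
    have h' := hu₁.mul_left_cancel h
    rw [← huσ] at h'
    simp only [E, a']
    rw [← mul_assoc, ← h', mul_comm (uσ : Γ(X, Z')) (r c), Units.mul_inv_cancel_right]
  -- compatibility with `T`
  have hcomp : X.presheaf.map (homOfLE (inf_le_left : M ⊓ Z' ≤ M)).op T =
      X.presheaf.map (homOfLE (inf_le_right : M ⊓ Z' ≤ Z')).op E := by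
    rw [← sub_eq_zero]
    refine eq_zero_of_regular a' hreg' inf_le_right _ ?_
    have hle : M ⊓ Z' ⊓ X.basicOpen a' ≤ X.basicOpen a₁ := by
      refine inf_le_right.trans ?_
      simp only [a', r, Scheme.basicOpen_res]
      exact inf_le_right
    have hc' := congrArg (X.presheaf.map (homOfLE hle).op) hc
    have hE' := congrArg (X.presheaf.map
      (homOfLE ((inf_le_left.trans inf_le_right : M ⊓ Z' ⊓ X.basicOpen a' ≤ Z'))).op) hEc
    simp only [map_mul, map_pow, a', r, res_res] at hc' hE'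
    rw [map_sub, res_res, res_res, sub_eq_zero]
    have hua : IsUnit (X.presheaf.map (homOfLE (hle.trans (X.basicOpen_le a₁))).op a₁ ^ n) := by
      refine IsUnit.pow n ?_
      rw [← res_res hle (X.basicOpen_le a₁)]
      exact (RingedSpace.isUnit_res_basicOpen _ a₁).map (X.presheaf.map (homOfLE hle).op).hom
    refine hua.mul_left_cancel ?_
    rw [mul_comm, hc', hE']
  obtain ⟨T₁, hT₁, -⟩ := X.sheaf.existsUnique_gluing'
    (fun p : ULift.{u} Bool => if p.down then M else Z') (M ⊔ Z')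
    (fun p => homOfLE (by rcases p with ⟨_ | _⟩ <;> simp)) (by
      intro y hy
      rcases hy with hy | hy
      · exact Opens.mem_iSup.mpr ⟨⟨true⟩, hy⟩
      · exact Opens.mem_iSup.mpr ⟨⟨false⟩, hy⟩)
    (fun | ⟨true⟩ => T | ⟨false⟩ => E) (by
      rintro ⟨_ | _⟩ ⟨_ | _⟩
      · rfl
      · change X.presheaf.map (homOfLE (inf_le_left : Z' ⊓ M ≤ Z')).op E =
          X.presheaf.map (homOfLE (inf_le_right : Z' ⊓ M ≤ M)).op T
        have := congrArg (X.presheaf.map (homOfLE (le_of_eq (inf_comm Z' M))).op) hcomp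
        rw [res_res, res_res] at this
        exact this.symm
      · exact hcomp
      · rfl)
  obtain ⟨T', hT'⟩ : ∃ T' : Γ(X, M ⊔ Z'),
      X.presheaf.map (homOfLE (le_sup_left : M ≤ M ⊔ Z')).op T' = T := ⟨T₁, hT₁ ⟨true⟩⟩
  have hext : ∃ (h₁ : M ⊔ Z' ≤ W) (h₂ : W ⊓ U ≤ M ⊔ Z') (t : Γ(X, M ⊔ Z')),
      X.presheaf.map (homOfLE h₂).op t = s := by
    refine ⟨sup_le hMW (hZ'Z.trans hZW), hMU.trans le_sup_left, T', ?_⟩
    rw [← res_res hMU le_sup_left, hT', hTs]
  exact hξM ((le_iSup (fun i : ι => i.1) ⟨M ⊔ Z', hext⟩) (Or.inr hξZ'))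

include hU in
theorem bijective_restrict (W : X.Opens) :
    Function.Bijective (X.presheaf.map (homOfLE (inf_le_left : W ⊓ U ≤ W)).op) :=
  ⟨isSchematicallyDense U hU W, exists_extension U hU⟩

include hU in
/-- Morphisms to affine schemes extend across points of depth at least two. -/
theorem existsUnique_extension {Y : Scheme.{u}} [IsAffine Y] (f : (U : Scheme.{u}) ⟶ Y) :
    ∃! g : X ⟶ Y, U.ι ≫ g = f := by
  have hbij : Function.Bijective U.ι.appTop := by
    change Function.Bijective (U.ι.app ⊤)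
    rw [Scheme.Opens.ι_app]
    have gen : ∀ (O : X.Opens) (i : O ≤ ⊤), O = ⊤ ⊓ U →
        Function.Bijective (X.presheaf.map (homOfLE i).op) := by
      intro O i he; subst he; exact bijective_restrict U hU ⊤
    refine gen _ _ ?_
    rw [Scheme.Hom.image_preimage_eq_opensRange_inf, Scheme.Opens.opensRange_ι, inf_comm]
  have : IsIso U.ι.appTop := (ConcreteCategory.isIso_iff_bijective _).mpr hbij
  let g : X ⟶ Y := X.toSpecΓ ≫ Spec.map (f.appTop ≫ inv U.ι.appTop) ≫ Y.isoSpec.inv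
  have e : Y.isoSpec.inv.appTop = (Scheme.ΓSpecIso _).inv := by
    have h : (Scheme.ΓSpecIso _).hom ≫ Y.isoSpec.inv.appTop = 𝟙 _ := by
      rw [← Scheme.toSpecΓ_appTop, ← Scheme.Hom.comp_appTop, Scheme.isoSpec_inv_toSpecΓ,
        Scheme.Hom.id_appTop]
    rw [← cancel_epi (Scheme.ΓSpecIso Γ(Y, ⊤)).hom, h, Iso.hom_inv_id]
  have hg : g.appTop = f.appTop ≫ inv U.ι.appTop := by
    simp only [g, Scheme.Hom.comp_appTop, e, Category.assoc,
      Scheme.toSpecΓ_appTop]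
    rw [Scheme.ΓSpecIso_naturality, Iso.inv_hom_id_assoc]
  refine ⟨g, ext_of_isAffine ?_, fun g' hg' => ext_of_isAffine ?_⟩
  · rw [Scheme.Hom.comp_appTop, hg, Category.assoc, IsIso.inv_hom_id, Category.comp_id]
  · rw [hg, ← hg', Scheme.Hom.comp_appTop, Category.assoc, IsIso.hom_inv_id, Category.comp_id]

end Groth.Agent.H26.DepthExtend
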