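import Groth.Agent.H26.FibreRegStalk
import Groth.Agent.S16428
import Groth.Agent.H26.DepthExtend
import Groth.Agent.H26.Purity
import Groth.Agent.Lib.Regular.Serre
import Groth.Agent.Lib.Regular.Quotient
import Groth.Agent.H21.SkDescent
import Groth.Agent.Lib.Depth.Local
import Groth.Agent.Lib.Flat55.SlicingScheme

/-!
# Extension across fibrewise big opens of a smooth morphism
-/

universe u

open CategoryTheory AlgebraicGeometry TopologicalSpace Opposite IsLocalRing LocCoh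
open RingTheory.Sequence
open scoped Pointwise

namespace Groth.Agent.H26.BigOpen

open Groth.Agent.Lib

theorem dvd_of_pow_mul {A : Type u} [CommRing A] {a b : A} (ha : IsSMulRegular A a)
    (hb : ∀ z, a ∣ b * z → a ∣ z) (n M : ℕ) {z : A} (h : a ^ n ∣ b ^ M * z) : a ^ n ∣ z := by
  induction M generalizing z with
  | zero => simpa using h
  | succ M ih =>
    have h1 : a ^ n ∣ b * z := ih (by rwa [pow_succ, mul_assoc] at h)
    clear h ih
    induction n generalizing z with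
    | zero => simp
    | succ n ihn =>
      obtain ⟨w, rfl⟩ := hb z ((dvd_pow_self a n.succ_ne_zero).trans h1)
      obtain ⟨v, hv⟩ := h1
      have h2 : a ^ n ∣ b * w :=
        ⟨v, ha (show a * (b * w) = a * (a ^ n * v) by
          rw [pow_succ'] at hv
          linear_combination hv)⟩
      rw [pow_succ']
      exact mul_dvd_mul_left a (ihn h2)

variable {X S : Scheme.{u}} (f : X ⟶ S) [Smooth f] (U : X.Opens)
  (hU : ∀ x : X, x ∉ U → (2 : WithBot ℕ∞) ≤ ringKrullDim (CInt.fiberStalk f x))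

theorem two_le_depth_localization {A : Type u} [CommRing A] [IsRegularLocalRing A] (q : Ideal A)
    [q.IsPrime] (h : (2 : WithBot ℕ∞) ≤ q.height) :
    (2 : ℕ∞) ≤ depth (Localization.AtPrime q) (LocalizedModule q.primeCompl A) := by
  have := Regular.Serre.isRegularLocalRing_localization (R := A) q
  have := JacCrit.FlatRegular.isCohenMacaulayLocalRing (Localization.AtPrime q)
  rw [(H21.SkDescent.depth_self_atPrime q).1]
  rw [← IsLocalization.AtPrime.ringKrullDim_eq_height q (Localization.AtPrime q),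
    Depth.CM.ringKrullDim_eq_depth] at h
  exact WithBot.coe_le_coe.mp h

include hU in
theorem exists_list_fiber {s₀ : S} (a : f.fiber s₀) {W : X.Opens} (hW : IsAffineOpen W)
    (haW : f.fiberι s₀ a ∈ W) (haU : f.fiberι s₀ a ∉ U) :
    ∃ c d : Γ(X, W), X.basicOpen c ≤ U ∧ X.basicOpen d ≤ U ∧
      IsWeaklyRegular (X.presheaf.stalk (f.fiberι s₀ a) ⧸
        (maximalIdeal (S.presheaf.stalk (f (f.fiberι s₀ a)))).map
          (f.stalkMap (f.fiberι s₀ a)).hom)
        [X.presheaf.germ W _ haW c, X.presheaf.germ W _ haW d] := by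
  set ι := f.fiberι s₀ with hι
  let O := X.presheaf.stalk (ι a)
  let A := (f.fiber s₀).presheaf.stalk a
  let := TopCat.Presheaf.algebra_section_stalk X.presheaf (⟨ι a, haW⟩ : W)
  have hlocW := hW.isLocalization_stalk ⟨ι a, haW⟩
  let P := (hW.primeIdealOf ⟨ι a, haW⟩).asIdeal
  let φ : O →+* A := (ι.stalkMap a).hom
  have hφs : Function.Surjective φ := ι.stalkMap_surjective a
  have hφk : RingHom.ker φ = (maximalIdeal (S.presheaf.stalk (f (ι a)))).map (f.stalkMap (ι a)).hom :=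
    H46.FiberStalk.ker_stalkMap_fiberι f s₀ a
  haveI : IsRegularLocalRing A := by
    have hs0 : f (ι a) = s₀ := by
      have : ι a ∈ f ⁻¹' {s₀} := by rw [← f.range_fiberι s₀]; exact ⟨a, rfl⟩
      exact this
    have : Smooth (f.fiberToSpecResidueField s₀) :=
      MorphismProperty.of_isPullback (P := @Smooth)
        (IsPullback.of_hasPullback f (S.fromSpecResidueField s₀)) ‹Smooth f›
    exact @Cyc.SmoothReg.isRegularLocalRing_stalk (f.fiber s₀) (S.residueField s₀) _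
      (f.fiberToSpecResidueField s₀) this _
  let I : Ideal Γ(X, W) := Ideal.span {h | X.basicOpen h ≤ U}
  have hI : ∀ h ∈ I, X.basicOpen h ≤ U := by
    intro h hh
    induction hh using Submodule.span_induction with
    | mem g hg => exact hg
    | zero => simp
    | add a b _ _ ha hb => exact (X.basicOpen_add_le a b).trans (sup_le ha hb)
    | smul r a _ ha => rw [smul_eq_mul, Scheme.basicOpen_mul]; exact inf_le_right.trans ha
  let J' : Ideal O := I.map (algebraMap Γ(X, W) O)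
  have hJ' : J' ≤ maximalIdeal O := Ideal.map_le_iff_le_comap.mpr fun h hh hu =>
    haU (hI h hh ((X.mem_basicOpen h (ι a) haW).mpr hu))
  let J : Ideal A := J'.map φ
  have hJ : J ≤ maximalIdeal A := (Ideal.map_mono hJ').trans
    (((local_hom_TFAE φ).out 0 2).mp (inferInstance : IsLocalHom (ι.stalkMap a).hom))
  -- every prime of the fibre above `J` has height at least two
  have hq : ∀ q : PrimeSpectrum A, J ≤ q.asIdeal → (2 : WithBot ℕ∞) ≤ q.asIdeal.height := by
    intro q hJq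
    let z := (f.fiber s₀).fromSpecStalk a q
    have hza : z ⤳ a := (Scheme.range_fromSpecStalk (X := f.fiber s₀) (x := a)).le ⟨_, rfl⟩
    have hzW : ι z ∈ W := (hza.map ι.continuous).mem_open W.2 haW
    have hz : ι z ∉ U := by
      intro hzU
      obtain ⟨h, hhU, hhz⟩ := hW.exists_basicOpen_le (⟨ι z, hzU⟩ : U) hzW
      have hmem : φ (algebraMap Γ(X, W) O h) ∈ q.asIdeal :=
        hJq (Ideal.mem_map_of_mem φ (Ideal.mem_map_of_mem _ (Ideal.subset_span hhU)))
      have hz' : z ∈ ι ⁻¹ᵁ X.basicOpen h := hhz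
      rw [Scheme.preimage_basicOpen] at hz'
      let h' := ι.app W h
      have hz2 : q ∈ ((f.fiber s₀).fromSpecStalk a) ⁻¹ᵁ (f.fiber s₀).basicOpen h' := hz'
      rw [Scheme.preimage_basicOpen, Scheme.fromSpecStalk_app (show a ∈ ι ⁻¹ᵁ W from haW),
        CommRingCat.comp_apply, CommRingCat.comp_apply] at hz2
      rw [Scheme.basicOpen_res _ _
        (homOfLE (le_top : (f.fiber s₀).fromSpecStalk a ⁻¹ᵁ (ι ⁻¹ᵁ W) ≤ ⊤)).op] at hz2
      rw [basicOpen_eq_of_affine] at hz2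
      refine hz2.2 ?_
      have e : φ (algebraMap Γ(X, W) O h) = (f.fiber s₀).presheaf.germ (ι ⁻¹ᵁ W) a haW (ι.app W h) :=
        Scheme.Hom.germ_stalkMap_apply ι W a haW h
      rw [e] at hmem
      exact hmem
    rw [← Purity.ringKrullDim_stalk_fromSpecStalk a q, FibreDim.dim_stalk_fiber_eq f z rfl]
    exact hU _ hz
  have hJne : J • (⊤ : Submodule A A) ≠ ⊤ :=
    Depth.Basic.smul_top_ne_top (ne_top_of_le_ne_top Ideal.IsPrime.ne_top' hJ)
  have hd : ((2 : ℕ) : ℕ∞) ≤ idealDepth J A := by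
    rw [Depth.Local.idealDepth_eq_iInf]
    exact le_iInf₂ fun q hJq => two_le_depth_localization q.asIdeal (hq q hJq)
  obtain ⟨rs, hl, hmem, hreg⟩ := (Depth.Basic.le_idealDepth_iff_of_ne_top hJne 2).mp hd
  obtain ⟨r₁, r₂, rfl⟩ := List.length_eq_two.mp hl
  obtain ⟨g₁, hg₁, rfl⟩ := (Ideal.mem_map_iff_of_surjective φ hφs).mp (hmem r₁ (by simp))
  obtain ⟨g₂, hg₂, rfl⟩ := (Ideal.mem_map_iff_of_surjective φ hφs).mp (hmem r₂ (by simp))
  have hex : ∀ g : O, ∃ (u : O) (c : Γ(X, W)), IsUnit u ∧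
      (g ∈ J' → c ∈ I ∧ algebraMap Γ(X, W) O c = u * g) := by
    intro g
    by_cases hg : g ∈ J'
    · obtain ⟨⟨c, t⟩, hct⟩ := (IsLocalization.mem_map_algebraMap_iff P.primeCompl O).mp hg
      exact ⟨algebraMap Γ(X, W) O t, c, IsLocalization.map_units O t, fun _ =>
        ⟨c.2, hct.symm.trans (mul_comm _ _)⟩⟩
    · exact ⟨1, 0, isUnit_one, fun h => absurd h hg⟩
  choose v c hv hc using hex
  letI : Algebra O A := φ.toAlgebra
  have h1 : IsWeaklyRegular A ([g₁, g₂].map (algebraMap O A)) := hreg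
  rw [isWeaklyRegular_map_algebraMap_iff, ← LinearEquiv.isWeaklyRegular_congr
    ((Algebra.linearMap O A).quotKerEquivOfSurjective hφs), LinearEquiv.isWeaklyRegular_congr
    (Submodule.quotEquivOfEq _ _ (show LinearMap.ker (Algebra.linearMap O A) =
      (maximalIdeal (S.presheaf.stalk (f (ι a)))).map (f.stalkMap (ι a)).hom from hφk)),
    ← FibreRegStalk.weaklyRegular_of_unit_mul _ [g₁, g₂] v hv] at h1
  refine ⟨c g₁, c g₂, hI _ (hc g₁ hg₁).1, hI _ (hc g₂ hg₂).1, ?_⟩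
  have e1 : X.presheaf.germ W (ι a) haW (c g₁) = v g₁ * g₁ := (hc g₁ hg₁).2
  have e2 : X.presheaf.germ W (ι a) haW (c g₂) = v g₂ * g₂ := (hc g₂ hg₂).2
  rw [e1, e2]
  exact h1

include hU in
/-- Two functions vanishing off `U` which form a regular sequence at `x`. -/
theorem exists_regular_pair {W : X.Opens} (hW : IsAffineOpen W) {x : X} (hxW : x ∈ W) (hxU : x ∉ U) :
    ∃ c d : Γ(X, W), X.basicOpen c ≤ U ∧ X.basicOpen d ≤ U ∧
      IsSMulRegular (X.presheaf.stalk x) (X.presheaf.germ W x hxW c) ∧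
      (∀ z, X.presheaf.germ W x hxW c ∣ X.presheaf.germ W x hxW d * z →
        X.presheaf.germ W x hxW c ∣ z) ∧
      IsSMulRegular (X.presheaf.stalk x ⧸
        (maximalIdeal (S.presheaf.stalk (f x))).map (f.stalkMap x).hom)
        (X.presheaf.germ W x hxW c) := by
  have key : ∀ y, y = x → ∀ (hyW : y ∈ W), ∃ c d : Γ(X, W), X.basicOpen c ≤ U ∧ X.basicOpen d ≤ U ∧
      IsWeaklyRegular (X.presheaf.stalk y ⧸
        (maximalIdeal (S.presheaf.stalk (f y))).map (f.stalkMap y).hom)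
        [X.presheaf.germ W _ hyW c, X.presheaf.germ W _ hyW d] := by
    intro y hy
    obtain ⟨a, rfl⟩ : ∃ a : f.fiber (f x), f.fiberι (f x) a = y :=
      ⟨f.asFiber x, (f.fiberι_asFiber x).trans hy.symm⟩
    exact fun hyW => exists_list_fiber f U hU a hW hyW (by rw [hy]; exact hxU)
  obtain ⟨c, d, hc, hd, hreg⟩ := key x rfl hxW
  have hmem : ∀ g ∈ [X.presheaf.germ W x hxW c, X.presheaf.germ W x hxW d],
      g ∈ maximalIdeal (X.presheaf.stalk x) := by
    simp only [List.mem_cons, List.not_mem_nil, or_false, forall_eq_or_imp, forall_eq]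
    exact ⟨fun hu => hxU (hc ((X.mem_basicOpen c x hxW).mpr hu)),
      fun hu => hxU (hd ((X.mem_basicOpen d x hxW).mpr hu))⟩
  have h2 := (isWeaklyRegular_cons_iff _ _ _).mp
    (FibreRegStalk.weaklyRegular_stalk f x (Flat.stalkMap f x) _ hmem hreg)
  refine ⟨c, d, hc, hd, h2.1, fun z hz => ?_, ((isWeaklyRegular_cons_iff _ _ _).mp hreg).1⟩
  obtain ⟨w, hw⟩ := hz
  have h3 : (Submodule.Quotient.mk z : QuotSMulTop (X.presheaf.germ W x hxW c) (X.presheaf.stalk x)) = 0 := by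
    refine ((isWeaklyRegular_singleton_iff _ _).mp h2.2).right_eq_zero_of_smul ?_
    rw [← Submodule.Quotient.mk_smul, Submodule.Quotient.mk_eq_zero]
    exact (Submodule.mem_smul_pointwise_iff_exists _ _ _).mpr ⟨w, trivial, hw.symm⟩
  obtain ⟨w', -, hw'⟩ :=
    (Submodule.mem_smul_pointwise_iff_exists _ _ _).mp ((Submodule.Quotient.mk_eq_zero _).mp h3)
  exact ⟨w', hw'.symm⟩

include hU in
theorem exists_local_extension {W : X.Opens} (s : Γ(X, W ⊓ U)) {x : X} (hxW : x ∈ W) (hxU : x ∉ U) :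
    ∃ (Z : X.Opens) (hZW : Z ≤ W) (E : Γ(X, Z)), x ∈ Z ∧
      X.presheaf.map (homOfLE (inf_le_left : Z ⊓ U ≤ Z)).op E =
        X.presheaf.map (homOfLE (inf_le_inf_right U hZW)).op s := by
  obtain ⟨W', hW', hxW', hW'W'⟩ := exists_isAffineOpen_mem_and_subset (X := X) (x := x) (U := W) hxW
  have hW'W : W' ≤ W := fun z hz => hW'W' hz
  obtain ⟨c, d, hcU, hdU, hcreg, hdvd, hcf⟩ := exists_regular_pair f U hU hW' hxW' hxU
  have hc' : X.basicOpen c ≤ W ⊓ U := le_inf ((X.basicOpen_le c).trans hW'W) hcU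
  have hd' : X.basicOpen d ≤ W ⊓ U := le_inf ((X.basicOpen_le d).trans hW'W) hdU
  let := (X.presheaf.map (homOfLE (X.basicOpen_le c)).op).hom.toAlgebra
  let := (X.presheaf.map (homOfLE (X.basicOpen_le d)).op).hom.toAlgebra
  have := hW'.isLocalization_basicOpen c
  have := hW'.isLocalization_basicOpen d
  obtain ⟨⟨a, _, n, rfl⟩, ha⟩ :=
    IsLocalization.surj (Submonoid.powers c) (X.presheaf.map (homOfLE hc').op s)
  obtain ⟨⟨b, _, m, rfl⟩, hb⟩ :=
    IsLocalization.surj (Submonoid.powers d) (X.presheaf.map (homOfLE hd').op s)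
  change X.presheaf.map (homOfLE hc').op s *
    X.presheaf.map (homOfLE (X.basicOpen_le c)).op (c ^ n) =
    X.presheaf.map (homOfLE (X.basicOpen_le c)).op a at ha
  change X.presheaf.map (homOfLE hd').op s *
    X.presheaf.map (homOfLE (X.basicOpen_le d)).op (d ^ m) =
    X.presheaf.map (homOfLE (X.basicOpen_le d)).op b at hb
  obtain ⟨N, hN⟩ : ∃ N, (c * d) ^ N * (a * d ^ m - b * c ^ n) = 0 := by
    let := (X.presheaf.map (homOfLE (X.basicOpen_le (c * d))).op).hom.toAlgebra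
    have := hW'.isLocalization_basicOpen (c * d)
    have h0 : algebraMap Γ(X, W') Γ(X, X.basicOpen (c * d)) (a * d ^ m - b * c ^ n) = 0 := by
      have ec : X.basicOpen (c * d) ≤ X.basicOpen c := by
        rw [Scheme.basicOpen_mul]; exact inf_le_left
      have ed : X.basicOpen (c * d) ≤ X.basicOpen d := by
        rw [Scheme.basicOpen_mul]; exact inf_le_right
      have ha' := congrArg (X.presheaf.map (homOfLE ec).op) ha
      have hb' := congrArg (X.presheaf.map (homOfLE ed).op) hb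
      simp only [map_mul, DepthExtend.res_res] at ha' hb'
      change X.presheaf.map (homOfLE (X.basicOpen_le (c * d))).op _ = 0
      rw [map_sub, map_mul, map_mul, ← ha', ← hb']
      ring
    obtain ⟨⟨_, N, rfl⟩, hN⟩ :=
      (IsLocalization.map_eq_zero_iff (Submonoid.powers (c * d)) _ _).mp h0
    exact ⟨N, hN⟩
  obtain ⟨ε, hε⟩ : X.presheaf.germ W' x hxW' c ^ n ∣ X.presheaf.germ W' x hxW' a := by
    refine dvd_of_pow_mul hcreg hdvd n (N + m)
      ⟨X.presheaf.germ W' x hxW' d ^ N * X.presheaf.germ W' x hxW' b, (hcreg.pow N) ?_⟩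
    have h1 := congrArg (X.presheaf.germ W' x hxW') hN
    simp only [map_mul, map_pow, map_sub, map_zero] at h1
    simp only [smul_eq_mul]
    linear_combination h1
  obtain ⟨O₀, hxO₀, E₀, rfl⟩ := TopCat.Presheaf.exists_germ_eq (F := X.presheaf) ε
  obtain ⟨Z₁, hxZ₁, i₁, j₁, he₁⟩ := X.presheaf.germ_eq x hxW' (show x ∈ W' ⊓ O₀ from ⟨hxW', hxO₀⟩) a
    (X.presheaf.map (homOfLE (inf_le_left : W' ⊓ O₀ ≤ W')).op (c ^ n) *
      X.presheaf.map (homOfLE (inf_le_right : W' ⊓ O₀ ≤ O₀)).op E₀) (by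
    rw [map_mul, TopCat.Presheaf.germ_res_apply, TopCat.Presheaf.germ_res_apply, map_pow, hε])
  obtain ⟨U₁, hU₁, hxU₁, h', hh', hnzd, -, -⟩ := Flat55.SlicingScheme.exists_slice f x
    (Flat.stalkMap f x) (X.presheaf.germ W' x hxW' c)
    (fun hu => hxU (hcU ((X.mem_basicOpen c x hxW').mpr hu))) (by
      rw [mem_nonZeroDivisors_iff_right]
      intro z hz
      refine hcf.right_eq_zero_of_smul ?_
      rw [Algebra.smul_def, Ideal.Quotient.algebraMap_eq, mul_comm]
      exact hz)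
  obtain ⟨Z₂, hxZ₂, i₂, j₂, he₂⟩ := X.presheaf.germ_eq x hxU₁ hxW' h' c hh'
  obtain ⟨g, hgle, hxg⟩ := hU₁.exists_basicOpen_le (⟨x, hxZ₁, hxZ₂⟩ : (Z₁ ⊓ Z₂ : X.Opens)) hxU₁
  let Z := X.basicOpen g
  have hZ1 : Z ≤ Z₁ := hgle.trans inf_le_left
  have hZ2 : Z ≤ Z₂ := hgle.trans inf_le_right
  have hZW' : Z ≤ W' := hZ1.trans i₁.le
  have hZO : Z ≤ O₀ := hZ1.trans (j₁.le.trans inf_le_right)
  let E := X.presheaf.map (homOfLE hZO).op E₀
  let cZ := X.presheaf.map (homOfLE hZW').op c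
  have hEa : X.presheaf.map (homOfLE hZW').op a = cZ ^ n * E := by
    have h := congrArg (X.presheaf.map (homOfLE hZ1).op) he₁
    rw [Subsingleton.elim i₁ (homOfLE i₁.le), Subsingleton.elim j₁ (homOfLE j₁.le)] at h
    simp only [map_mul, map_pow, DepthExtend.res_res] at h
    exact h
  have hcZ : X.presheaf.map (homOfLE (X.basicOpen_le g)).op h' = cZ := by
    have h := congrArg (X.presheaf.map (homOfLE hZ2).op) he₂
    rw [Subsingleton.elim i₂ (homOfLE i₂.le), Subsingleton.elim j₂ (homOfLE j₂.le)] at h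
    simp only [DepthExtend.res_res] at h
    exact h
  have hcnzd : ∀ y (hy : y ∈ Z), X.presheaf.germ Z y hy cZ ∈ nonZeroDivisors (X.presheaf.stalk y) := by
    intro y hy
    have hyU₁ : y ∈ U₁ := X.basicOpen_le g hy
    rw [← hcZ, TopCat.Presheaf.germ_res_apply]
    let := TopCat.Presheaf.algebra_section_stalk X.presheaf (⟨y, hyU₁⟩ : U₁)
    have := hU₁.isLocalization_stalk ⟨y, hyU₁⟩
    let Py := (hU₁.primeIdealOf ⟨y, hyU₁⟩).asIdeal.primeCompl
    rw [mem_nonZeroDivisors_iff_right]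
    intro z hz
    obtain ⟨⟨z₀, τ⟩, hz₀⟩ := IsLocalization.surj Py z
    have h1 : algebraMap Γ(X, U₁) (X.presheaf.stalk y) (z₀ * h') = 0 := by
      rw [map_mul, ← hz₀, mul_right_comm]
      exact mul_eq_zero_of_left hz _
    obtain ⟨τ', hτ'⟩ := (IsLocalization.map_eq_zero_iff Py (X.presheaf.stalk y) _).mp h1
    have h2 : (τ' : Γ(X, U₁)) * z₀ = 0 :=
      mem_nonZeroDivisors_iff_right.mp hnzd _ (by rw [mul_assoc]; exact hτ')
    have h3 := congrArg (algebraMap Γ(X, U₁) (X.presheaf.stalk y)) h2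
    rw [map_mul, map_zero, ← hz₀, (IsLocalization.map_units (X.presheaf.stalk y) τ').mul_right_eq_zero,
      (IsLocalization.map_units (X.presheaf.stalk y) τ).mul_left_eq_zero] at h3
    exact h3
  refine ⟨Z, hZW'.trans hW'W, E, hxg, ?_⟩
  rw [← sub_eq_zero]
  refine DepthExtend.eq_zero_of_regular cZ hcnzd inf_le_left _ ?_
  have hle : Z ⊓ U ⊓ X.basicOpen cZ ≤ X.basicOpen c := by
    refine inf_le_right.trans ?_
    simp only [cZ, Scheme.basicOpen_res]
    exact inf_le_right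
  have ha' := congrArg (X.presheaf.map (homOfLE hle).op) ha
  have hE' := congrArg (X.presheaf.map
    (homOfLE ((inf_le_left.trans inf_le_left : Z ⊓ U ⊓ X.basicOpen cZ ≤ Z))).op) hEa
  simp only [map_mul, map_pow, cZ, E, DepthExtend.res_res] at ha' hE'
  rw [map_sub, DepthExtend.res_res, DepthExtend.res_res, sub_eq_zero]
  have hu : IsUnit (X.presheaf.map (homOfLE (hle.trans (X.basicOpen_le c))).op c ^ n) := by
    refine IsUnit.pow n ?_
    rw [← DepthExtend.res_res hle (X.basicOpen_le c)]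
    exact (RingedSpace.isUnit_res_basicOpen _ c).map (X.presheaf.map (homOfLE hle).op).hom
  refine hu.mul_left_cancel ?_
  rw [← hE', ← ha', mul_comm, DepthExtend.res_res]

include hU in
theorem isSchematicallyDense : CInt.IsSchematicallyDense U := Groth.Agent.S16428.aux f U hU

include hU in
theorem exists_extension {W : X.Opens} (s : Γ(X, W ⊓ U)) :
    ∃ t : Γ(X, W), X.presheaf.map (homOfLE (inf_le_left : W ⊓ U ≤ W)).op t = s := by
  have hd := isSchematicallyDense f U hU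
  have hloc : ∀ x : W, ∃ (Z : X.Opens) (hZW : Z ≤ W) (E : Γ(X, Z)), (x : X) ∈ Z ∧
      X.presheaf.map (homOfLE (inf_le_left : Z ⊓ U ≤ Z)).op E =
        X.presheaf.map (homOfLE (inf_le_inf_right U hZW)).op s := fun x => by
    by_cases hxU : (x : X) ∈ U
    · exact ⟨W ⊓ U, inf_le_left, s, ⟨x.2, hxU⟩, rfl⟩
    · exact exists_local_extension f U hU s x.2 hxU
  choose Z hZW E hmem hE using hloc
  obtain ⟨t, ht, -⟩ := X.sheaf.existsUnique_gluing' Z W (fun i => homOfLE (hZW i))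
    (fun x hx => Opens.mem_iSup.mpr ⟨⟨x, hx⟩, hmem ⟨x, hx⟩⟩) E (fun i j => by
      change X.presheaf.map (homOfLE (inf_le_left : Z i ⊓ Z j ≤ Z i)).op (E i) =
        X.presheaf.map (homOfLE (inf_le_right : Z i ⊓ Z j ≤ Z j)).op (E j)
      refine hd _ ?_
      have h1 := congrArg (X.presheaf.map (homOfLE
        (inf_le_inf_right U (inf_le_left : Z i ⊓ Z j ≤ Z i))).op) (hE i)
      have h2 := congrArg (X.presheaf.map (homOfLE
        (inf_le_inf_right U (inf_le_right : Z i ⊓ Z j ≤ Z j))).op) (hE j)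
      simp only [DepthExtend.res_res] at h1 h2 ⊢
      exact h1.trans h2.symm)
  refine ⟨t, TopCat.Presheaf.section_ext X.sheaf _ _ _ fun x hx => ?_⟩
  change X.presheaf.germ (W ⊓ U) x hx _ = X.presheaf.germ (W ⊓ U) x hx s
  let i : W := ⟨x, hx.1⟩
  have h1 : X.presheaf.map (homOfLE (hZW i)).op t = E i := ht i
  have h2 := congrArg (X.presheaf.germ (Z i ⊓ U) x ⟨hmem i, hx.2⟩) (hE i)
  rw [← h1] at h2
  simp only [TopCat.Presheaf.germ_res_apply] at h2 ⊢
  exact h2

include hU in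
theorem bijective_restrict (W : X.Opens) :
    Function.Bijective (X.presheaf.map (homOfLE (inf_le_left : W ⊓ U ≤ W)).op) :=
  ⟨isSchematicallyDense f U hU W, exists_extension f U hU⟩

include hU in
/-- Morphisms from `O ⊓ U` to affine schemes extend uniquely to `O`. -/
theorem existsUnique_hom (O : X.Opens) {Y : Scheme.{u}} [IsAffine Y]
    (g₀ : (↑(O ⊓ U) : Scheme.{u}) ⟶ Y) :
    ∃! g : (O : Scheme.{u}) ⟶ Y, X.homOfLE (inf_le_left : O ⊓ U ≤ O) ≫ g = g₀ := by
  let j := X.homOfLE (inf_le_left : O ⊓ U ≤ O)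
  have hbij : Function.Bijective j.appTop := by
    rw [Scheme.homOfLE_appTop]
    have gen : ∀ (O₁ O₂ : X.Opens) (i : O₁ ≤ O₂), O₂ = O → O₁ = O ⊓ U →
        Function.Bijective (X.presheaf.map (homOfLE i).op) := by
      intro O₁ O₂ i e1 e2; subst e1 e2; exact bijective_restrict f U hU _
    exact gen _ _ _ (by simp) (by simp)
  have : IsIso j.appTop := (ConcreteCategory.isIso_iff_bijective _).mpr hbij
  let g : (O : Scheme.{u}) ⟶ Y :=
    (O : Scheme.{u}).toSpecΓ ≫ Spec.map (g₀.appTop ≫ inv j.appTop) ≫ Y.isoSpec.inv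
  have e : Y.isoSpec.inv.appTop = (Scheme.ΓSpecIso _).inv := by
    have h : (Scheme.ΓSpecIso _).hom ≫ Y.isoSpec.inv.appTop = 𝟙 _ := by
      rw [← Scheme.toSpecΓ_appTop, ← Scheme.Hom.comp_appTop, Scheme.isoSpec_inv_toSpecΓ,
        Scheme.Hom.id_appTop]
    rw [← cancel_epi (Scheme.ΓSpecIso Γ(Y, ⊤)).hom, h, Iso.hom_inv_id]
  have hg : g.appTop = g₀.appTop ≫ inv j.appTop := by
    simp only [g, Scheme.Hom.comp_appTop, e, Category.assoc,
      Scheme.toSpecΓ_appTop]
    rw [Scheme.ΓSpecIso_naturality, Iso.inv_hom_id_assoc]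
  refine ⟨g, ext_of_isAffine ?_, fun g' hg' => ext_of_isAffine ?_⟩
  · rw [Scheme.Hom.comp_appTop, hg, Category.assoc, IsIso.inv_hom_id, Category.comp_id]
  · rw [hg, ← hg', Scheme.Hom.comp_appTop, Category.assoc, IsIso.hom_inv_id, Category.comp_id]

include hU in
theorem eq_of_section {Y : Scheme.{u}} (p : Y ⟶ X) [IsAffineHom p] {A : X.Opens} (hA : IsAffineOpen A)
    {O : X.Opens} (hOA : O ≤ A) {g g' : (O : Scheme.{u}) ⟶ Y} (hg : g ≫ p = O.ι) (hg' : g' ≫ p = O.ι)
    (h : X.homOfLE (inf_le_left : O ⊓ U ≤ O) ≫ g = X.homOfLE inf_le_left ≫ g') : g = g' := by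
  have : IsAffine (p ⁻¹ᵁ A : Y.Opens) := hA.preimage p
  have hr : ∀ g : (O : Scheme.{u}) ⟶ Y, g ≫ p = O.ι →
      Set.range g ⊆ Set.range (p ⁻¹ᵁ A).ι := by
    rintro g hg _ ⟨w, rfl⟩
    rw [Scheme.Opens.range_ι]
    show p (g w) ∈ A
    rw [← Scheme.Hom.comp_apply, hg]
    exact hOA w.2
  have e := (existsUnique_hom f U hU O (X.homOfLE inf_le_left ≫
    IsOpenImmersion.lift (p ⁻¹ᵁ A).ι g (hr g hg))).unique
    (y₁ := IsOpenImmersion.lift (p ⁻¹ᵁ A).ι g (hr g hg))
    (y₂ := IsOpenImmersion.lift (p ⁻¹ᵁ A).ι g' (hr g' hg')) rfl (by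
      rw [← cancel_mono (p ⁻¹ᵁ A).ι, Category.assoc, Category.assoc, IsOpenImmersion.lift_fac,
        IsOpenImmersion.lift_fac, h])
  rw [← IsOpenImmersion.lift_fac (p ⁻¹ᵁ A).ι g (hr g hg), e, IsOpenImmersion.lift_fac]

include hU in
/-- A section of an affine morphism over `U` extends uniquely. -/
theorem existsUnique_section {Y : Scheme.{u}} (p : Y ⟶ X) [IsAffineHom p]
    (s : (U : Scheme.{u}) ⟶ Y) (hs : s ≫ p = U.ι) :
    ∃! t : X ⟶ Y, t ≫ p = 𝟙 X ∧ U.ι ≫ t = s := by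
  let O : X.affineOpens → X.Opens := fun i => i.1
  have hloc : ∀ i, ∃ t : (O i : Scheme.{u}) ⟶ Y, t ≫ p = (O i).ι ∧
      X.homOfLE (inf_le_left : O i ⊓ U ≤ O i) ≫ t = X.homOfLE inf_le_right ≫ s := by
    intro i
    have : IsAffine (O i) := i.2
    have : IsAffine (p ⁻¹ᵁ O i : Y.Opens) := i.2.preimage p
    obtain ⟨t, ht, -⟩ := existsUnique_hom f U hU (O i)
      (IsOpenImmersion.lift (p ⁻¹ᵁ O i).ι (X.homOfLE (inf_le_right : O i ⊓ U ≤ U) ≫ s) (by
        rintro _ ⟨w, rfl⟩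
        rw [Scheme.Opens.range_ι]
        show p ((X.homOfLE _ ≫ s) w) ∈ O i
        rw [← Scheme.Hom.comp_apply, Category.assoc, hs, Scheme.homOfLE_ι]
        exact w.2.1))
    refine ⟨t ≫ (p ⁻¹ᵁ O i).ι, ?_, by rw [reassoc_of% ht, IsOpenImmersion.lift_fac]⟩
    have h2 : t ≫ p ∣_ O i = 𝟙 _ := by
      refine (existsUnique_hom f U hU (O i) (X.homOfLE (inf_le_left : O i ⊓ U ≤ O i))).unique
        ?_ (Category.comp_id _)
      rw [← cancel_mono (O i).ι, Category.assoc, Category.assoc, morphismRestrict_ι,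
        reassoc_of% ht, IsOpenImmersion.lift_fac_assoc, Category.assoc, hs, Scheme.homOfLE_ι,
        Scheme.homOfLE_ι]
    rw [Category.assoc, ← morphismRestrict_ι, reassoc_of% h2]
  choose t ht htU using hloc
  obtain ⟨g, hg⟩ := SectionExtend.exists_glue O t fun i j => by
    refine eq_of_section f U hU p i.2 inf_le_left (by rw [Category.assoc, ht, Scheme.homOfLE_ι])
      (by rw [Category.assoc, ht, Scheme.homOfLE_ι]) ?_
    have h1 := congrArg (X.homOfLE (inf_le_inf_right U (inf_le_left : O i ⊓ O j ≤ O i)) ≫ ·) (htU i)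
    have h2 := congrArg (X.homOfLE (inf_le_inf_right U (inf_le_right : O i ⊓ O j ≤ O j)) ≫ ·) (htU j)
    simp only [Scheme.homOfLE_homOfLE_assoc] at h1 h2 ⊢
    exact h1.trans h2.symm
  have hsup : (⨆ i, O i) = ⊤ := iSup_affineOpens_eq_top X
  have htop : IsIso (⨆ i, O i : X.Opens).ι := by
    rw [hsup]; exact inferInstanceAs (IsIso X.topIso.hom)
  let e := asIso (⨆ i, O i : X.Opens).ι
  have hO : ∀ i, (O i).ι ≫ e.inv = X.homOfLE (le_iSup O i) := fun i => by
    rw [Iso.comp_inv_eq]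
    exact (Scheme.homOfLE_ι _ _).symm
  have hcov : ∀ {Z : Scheme.{u}} {g₁ g₂ : X ⟶ Z}, (∀ i, (O i).ι ≫ g₁ = (O i).ι ≫ g₂) → g₁ = g₂ :=
      fun {Z g₁ g₂} h => by
    rw [← cancel_epi e.hom]
    refine (Scheme.Opens.iSupOpenCover O).hom_ext _ _ fun i => ?_
    change X.homOfLE (le_iSup O i) ≫ (⨆ i, O i : X.Opens).ι ≫ g₁ =
      X.homOfLE (le_iSup O i) ≫ (⨆ i, O i : X.Opens).ι ≫ g₂
    rw [Scheme.homOfLE_ι_assoc, Scheme.homOfLE_ι_assoc, h i]
  have htp : (e.inv ≫ g) ≫ p = 𝟙 X := by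
    refine hcov fun i => ?_
    rw [Category.assoc, reassoc_of% (hO i), reassoc_of% (hg i), ht, Category.comp_id]
  refine ⟨e.inv ≫ g, ⟨htp, ?_⟩, fun t' ⟨ht'p, ht'U⟩ => ?_⟩
  · refine Scheme.Cover.hom_ext
      (U.toScheme.openCoverOfIsOpenCover (fun i : X.affineOpens => U.ι ⁻¹ᵁ O i) ?_) _ _ fun i => ?_
    · refine IsOpenCover.mk ?_
      rw [← Scheme.Hom.preimage_iSup, hsup]; rfl
    · have h := htU i
      change (U.ι ⁻¹ᵁ O i).ι ≫ U.ι ≫ e.inv ≫ g = (U.ι ⁻¹ᵁ O i).ι ≫ s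
      let l : (U.ι ⁻¹ᵁ O i : Scheme.{u}) ⟶ (↑(O i ⊓ U) : Scheme.{u}) :=
        IsOpenImmersion.lift (O i ⊓ U).ι ((U.ι ⁻¹ᵁ O i).ι ≫ U.ι) (by
          rintro _ ⟨w, rfl⟩
          rw [Scheme.Opens.range_ι]
          exact ⟨w.2, w.1.2⟩)
      have hl : l ≫ X.homOfLE inf_le_left ≫ (O i).ι = (U.ι ⁻¹ᵁ O i).ι ≫ U.ι := by
        rw [Scheme.homOfLE_ι, IsOpenImmersion.lift_fac]
      have hl' : l ≫ X.homOfLE inf_le_right = (U.ι ⁻¹ᵁ O i).ι := by
        rw [← cancel_mono U.ι, Category.assoc, Scheme.homOfLE_ι, IsOpenImmersion.lift_fac]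
      rw [← reassoc_of% hl, reassoc_of% (hO i), hg, h, ← Category.assoc, hl']
  · refine hcov fun i => ?_
    rw [reassoc_of% (hO i), hg]
    refine eq_of_section f U hU p i.2 le_rfl (by rw [Category.assoc, ht'p, Category.comp_id]) (ht i) ?_
    rw [htU, Scheme.homOfLE_ι_assoc, ← Scheme.homOfLE_ι X (inf_le_right : O i ⊓ U ≤ U),
      Category.assoc, ht'U]

end Groth.Agent.H26.BigOpen
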