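import Groth.Agent.Lib.BlowUpExists.Frac
import Groth.Prelude.Def_CAlgX
import Mathlib.RingTheory.RingHom.Smooth
import Mathlib.RingTheory.Smooth.Basic

/-!
# The exceptional part of a chart of the blow-up in a quasi-regular sequence
-/

universe u

open MvPolynomial CAlgX

set_option maxHeartbeats 1000000

namespace Groth.Agent.H26.BlowChart

open Groth.Agent.Lib.BlowUpExists

variable {A : Type u} [CommRing A] {c : ℕ} (a : Fin c → A) (j : Fin c)

theorem mem_span_range (i : Fin c) : a i ∈ Ideal.span (Set.range a) :=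
  Ideal.subset_span (Set.mem_range_self i)

/-- Setting the `j`-th variable equal to one. -/
noncomputable def dehom (R : Type u) [CommRing R] :
    MvPolynomial (Fin c) R →ₐ[R] MvPolynomial {i : Fin c // i ≠ j} R :=
  aeval fun i => if h : i = j then 1 else X ⟨i, h⟩

/-- Evaluation at the fractions. -/
noncomputable def evalFrac : MvPolynomial {i : Fin c // i ≠ j} A →ₐ[A] Localization.Away (a j) :=
  aeval fun i => IsLocalization.mk' (Localization.Away (a j)) (a i.1) ⟨a j, Submonoid.mem_powers (a j)⟩

theorem exists_homog (f : MvPolynomial {i : Fin c // i ≠ j} A) : ∃ N₀ : ℕ, ∀ N, N₀ ≤ N →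
    ∃ F : MvPolynomial (Fin c) A, F.IsHomogeneous N ∧ dehom j A F = f ∧
      eval a F ∈ Ideal.span (Set.range a) ^ N ∧
      algebraMap A (Localization.Away (a j)) (eval a F) =
        algebraMap A (Localization.Away (a j)) (a j) ^ N * evalFrac a j f := by
  induction f using MvPolynomial.induction_on with
  | C r =>
    refine ⟨0, fun N _ => ⟨C r * X j ^ N, ?_, ?_, ?_, ?_⟩⟩
    · simpa using (isHomogeneous_C (Fin c) r).mul (isHomogeneous_X_pow j N)
    · simp [dehom]
    · simp only [map_mul, eval_C, map_pow, eval_X]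
      exact Ideal.mul_mem_left _ _ (Ideal.pow_mem_pow (mem_span_range a j) N)
    · simp [evalFrac, mul_comm]
  | add f g hf hg =>
    obtain ⟨N₁, h₁⟩ := hf
    obtain ⟨N₂, h₂⟩ := hg
    refine ⟨max N₁ N₂, fun N hN => ?_⟩
    obtain ⟨F, hF, hFd, hFm, hFe⟩ := h₁ N (le_of_max_le_left hN)
    obtain ⟨G, hG, hGd, hGm, hGe⟩ := h₂ N (le_of_max_le_right hN)
    refine ⟨F + G, hF.add hG, by rw [map_add, hFd, hGd], ?_, ?_⟩
    · rw [map_add]; exact add_mem hFm hGm
    · rw [map_add, map_add, hFe, hGe, map_add, mul_add]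
  | mul_X f i hf =>
    obtain ⟨N₁, h₁⟩ := hf
    refine ⟨N₁ + 1, fun N hN => ?_⟩
    obtain ⟨M, rfl⟩ : ∃ M, N = M + 1 := ⟨N - 1, by omega⟩
    obtain ⟨F, hF, hFd, hFm, hFe⟩ := h₁ M (by omega)
    refine ⟨F * X i.1, hF.mul (isHomogeneous_X A i.1), ?_, ?_, ?_⟩
    · rw [map_mul, hFd]
      simp [dehom, dif_neg i.2]
    · rw [map_mul, eval_X, pow_succ]
      exact Ideal.mul_mem_mul hFm (mem_span_range a i.1)
    · rw [map_mul, map_mul, hFe, eval_X, map_mul, pow_succ,
        show evalFrac a j (X i) = IsLocalization.mk' (Localization.Away (a j)) (a i.1)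
          ⟨a j, Submonoid.mem_powers (a j)⟩ by simp [evalFrac],
        ← IsLocalization.mk'_spec (Localization.Away (a j)) (a i.1)
          (⟨a j, Submonoid.mem_powers (a j)⟩ : Submonoid.powers (a j))]
      ring

/-- Evaluation at the fractions in the chart. -/
noncomputable def evalChart :
    MvPolynomial {i : Fin c // i ≠ j} A →ₐ[A] BlowUp.affineAlgebra A (Ideal.span (Set.range a)) (a j) :=
  aeval fun i => afrac (mem_span_range a i.1)

theorem coe_evalChart (f : MvPolynomial {i : Fin c // i ≠ j} A) :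
    (evalChart a j f : Localization.Away (a j)) = evalFrac a j f := by
  refine DFunLike.congr_fun (?_ : (BlowUp.affineAlgebra A (Ideal.span (Set.range a)) (a j)).val.comp
    (evalChart a j) = evalFrac a j) f
  refine MvPolynomial.algHom_ext fun i => ?_
  simp [evalChart, evalFrac, afrac]

theorem evalChart_surjective : Function.Surjective (evalChart a j) := by
  refine fun b => (?_ : b ∈ (evalChart a j).toRingHom.range)
  rw [asubring_eq_top (algebraMap_gen_mem_nonZeroDivisors _ _) (evalChart a j).toRingHom.range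
    (fun x => ⟨C x, by simp⟩) (s := Set.range a) rfl ?_]
  · trivial
  rintro _ ⟨i, rfl⟩
  by_cases h : i = j
  · refine ⟨1, ?_⟩
    rw [map_one]
    refine (mul_cancel_right_mem_nonZeroDivisors
      (algebraMap_gen_mem_nonZeroDivisors (Ideal.span (Set.range a)) (a j))).mp ?_
    rw [one_mul, afrac_spec, h]
  · exact ⟨X ⟨i, h⟩, by simp [evalChart]⟩

variable {a j}

/-- A polynomial lands in the exceptional ideal only if its coefficients lie in the centre. -/
theorem map_eq_zero_of_mem (hq : IsQuasiRegular a) {A₁ : Type u} [CommRing A₁] (q : A →+* A₁)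
    (hI : ∀ x ∈ Ideal.span (Set.range a), q x = 0) (f : MvPolynomial {i : Fin c // i ≠ j} A)
    (hf : evalChart a j f ∈
      Ideal.span {algebraMap A (BlowUp.affineAlgebra A (Ideal.span (Set.range a)) (a j)) (a j)}) :
    MvPolynomial.map q f = 0 := by
  obtain ⟨b, hb⟩ := Ideal.mem_span_singleton'.mp hf
  obtain ⟨g, rfl⟩ := evalChart_surjective a j b
  have hb' : evalFrac a j g * algebraMap A _ (a j) = evalFrac a j f := by
    have := congrArg (fun r : BlowUp.affineAlgebra A (Ideal.span (Set.range a)) (a j) =>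
      (r : Localization.Away (a j))) hb
    simpa only [Subalgebra.coe_mul, Subalgebra.coe_algebraMap, coe_evalChart] using this
  obtain ⟨N₁, h₁⟩ := exists_homog a j f
  obtain ⟨N₂, h₂⟩ := exists_homog a j g
  obtain ⟨F, hF, hFd, -, hFe⟩ := h₁ (max N₁ N₂) (le_max_left _ _)
  obtain ⟨G, -, -, hGm, hGe⟩ := h₂ (max N₁ N₂) (le_max_right _ _)
  have h0 : algebraMap A (Localization.Away (a j)) (eval a F) =
      algebraMap A (Localization.Away (a j)) (eval a G * a j) := by
    rw [map_mul, hFe, hGe, ← hb', mul_assoc]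
  obtain ⟨⟨_, k, rfl⟩, hk⟩ := IsLocalization.exists_of_eq (M := Submonoid.powers (a j)) h0
  have hPm : eval a (X j ^ k * F) ∈ Ideal.span (Set.range a) ^ (k + max N₁ N₂ + 1) := by
    rw [map_mul, map_pow, eval_X, hk, add_assoc, pow_add, pow_succ]
    exact Ideal.mul_mem_mul (Ideal.pow_mem_pow (mem_span_range a j) k)
      (Ideal.mul_mem_mul hGm (mem_span_range a j))
  have hc := hq _ _ ((isHomogeneous_X_pow j k).mul hF) hPm
  have hF0 : MvPolynomial.map q F = 0 := by
    refine MvPolynomial.ext _ _ fun d => ?_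
    rw [coeff_map, coeff_zero]
    refine hI _ ?_
    have := hc (Finsupp.single j k + d)
    rwa [X_pow_eq_monomial, coeff_monomial_mul, one_mul] at this
  have hcomm : MvPolynomial.map q (dehom j A F) = dehom j A₁ (MvPolynomial.map q F) := by
    refine DFunLike.congr_fun (?_ : (MvPolynomial.map q).comp (dehom j A).toRingHom =
      (dehom j A₁).toRingHom.comp (MvPolynomial.map q)) F
    refine MvPolynomial.ringHom_ext (fun r => by simp [dehom]) fun i => ?_
    by_cases h : i = j <;> simp [dehom, h]
  rw [← hFd, hcomm, hF0, map_zero]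

/-- The exceptional part of a chart is smooth over the centre. -/
theorem smooth (hq : IsQuasiRegular a) {C A₁ C₁ : Type u} [CommRing C] [CommRing A₁] [CommRing C₁]
    (β : A →+* C) (e : BlowUp.affineAlgebra A (Ideal.span (Set.range a)) (a j) ≃+* C)
    (he : ∀ x, e (algebraMap A _ x) = β x)
    (q : A →+* A₁) (hqs : Function.Surjective q) (hqk : RingHom.ker q = Ideal.span (Set.range a))
    (ρ : C →+* C₁) (hρs : Function.Surjective ρ)
    (hρk : RingHom.ker ρ = (Ideal.span (Set.range a)).map β)
    (γ : A₁ →+* C₁) (hγ : ∀ x, γ (q x) = ρ (β x)) : γ.Smooth := by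
  let θ : MvPolynomial {i : Fin c // i ≠ j} A →+* C₁ :=
    (ρ.comp e.toRingHom).comp (evalChart a j).toRingHom
  have hqI : ∀ x ∈ Ideal.span (Set.range a), q x = 0 := fun x hx => by
    rwa [← RingHom.mem_ker, hqk]
  have hθ : ∀ f, θ f = 0 ↔ MvPolynomial.map q f = 0 := by
    intro f
    constructor
    · intro h
      refine map_eq_zero_of_mem hq q hqI f ?_
      have h2 : e (evalChart a j f) ∈ RingHom.ker ρ := h
      have h3 : e (evalChart a j f) ∈ ((Ideal.span (Set.range a)).map (algebraMap A
          (BlowUp.affineAlgebra A (Ideal.span (Set.range a)) (a j)))).map (e : _ →+* C) := by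
        rw [Ideal.map_map, show (e : BlowUp.affineAlgebra A (Ideal.span (Set.range a)) (a j) →+* C).comp
          (algebraMap A (BlowUp.affineAlgebra A (Ideal.span (Set.range a)) (a j))) = β from RingHom.ext he, ← hρk]
        exact h2
      rw [map_ideal_eq_span _ _ (mem_span_range a j)] at h3
      exact (Ideal.mem_map_iff_of_surjective _ e.surjective).mp h3 |>.elim fun y hy =>
        e.injective hy.2 ▸ hy.1
    · intro h
      have hmem : f ∈ RingHom.ker (MvPolynomial.map q) := h
      rw [MvPolynomial.ker_map, hqk] at hmem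
      refine (Ideal.map_le_iff_le_comap.mpr (fun x hx => ?_) hmem : f ∈ RingHom.ker θ)
      show θ (MvPolynomial.C x) = 0
      have : θ (MvPolynomial.C x) = ρ (β x) := by simp [θ, he]
      rw [this, ← RingHom.mem_ker, hρk]
      exact Ideal.mem_map_of_mem _ hx
  have hms : Function.Surjective (MvPolynomial.map q : MvPolynomial {i : Fin c // i ≠ j} A → _) :=
    MvPolynomial.map_surjective q hqs
  let ψ := RingHom.liftOfSurjective (MvPolynomial.map q) hms
    ⟨θ, fun f hf => (hθ f).mpr hf⟩
  have hψ : ∀ f, ψ (MvPolynomial.map q f) = θ f := fun f =>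
    RingHom.liftOfRightInverse_comp_apply _ _ _ _ f
  have hbij : Function.Bijective ψ := by
    refine ⟨(injective_iff_map_eq_zero ψ).mpr fun g hg => ?_, fun y => ?_⟩
    · obtain ⟨f, rfl⟩ := hms g
      exact (hθ f).mp ((hψ f).symm.trans hg)
    · obtain ⟨z, rfl⟩ := hρs y
      obtain ⟨f, hf⟩ := evalChart_surjective a j (e.symm z)
      exact ⟨MvPolynomial.map q f, by rw [hψ]; simp [θ, hf]⟩
  have hγ' : γ = ψ.comp (algebraMap A₁ (MvPolynomial {i : Fin c // i ≠ j} A₁)) := by
    refine RingHom.ext fun x => ?_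
    obtain ⟨x, rfl⟩ := hqs x
    rw [hγ, RingHom.comp_apply, MvPolynomial.algebraMap_eq, ← MvPolynomial.map_C q, hψ]
    simp [θ, he]
  rw [hγ']
  haveI : Algebra.Smooth A₁ (MvPolynomial {i : Fin c // i ≠ j} A₁) := ⟨inferInstance, inferInstance⟩
  exact RingHom.Smooth.comp (RingHom.smooth_algebraMap.mpr inferInstance)
    (RingHom.Smooth.of_bijective hbij)

end Groth.Agent.H26.BlowChart
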