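import Groth.Prelude.Def_MeroDiv
import Groth.Prelude.Def_BlowUp2
import Groth.Agent.S8898
import Groth.Agent.Lib.Cyc.C1Indep
import Groth.Agent.Lib.MeroK.RegMero
import Groth.Agent.Lib.Modules.ZeroLocus
import Groth.Agent.Lib.TensorMod.QCohInv
import Groth.Agent.Lib.TensorMod.LocFree
import Groth.Agent.Lib.TensorMod.HomGlue
import Groth.Agent.Lib.Ample.GenLocus
import Groth.Agent.Lib.ClSub.Cartier
import Groth.Agent.Lib.Ideal.EffCartier
import Groth.Agent.Lib.Ideal.Comap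
import Groth.Agent.H4.CartierSection

/-! The ideal of denominators of a regular meromorphic section and the twist on its blowing up. -/

set_option autoImplicit false
universe u

open CategoryTheory AlgebraicGeometry TopologicalSpace Opposite

namespace Groth.Agent.H26.BlowDenom

open Groth.Agent.Lib Groth.Agent.Lib.TensorMod Groth.Agent.Lib.TensorMod.Dual Groth.Agent.Lib.TensorMod.Gen
  Groth.Agent.Lib.TensorMod.Pullback Groth.Agent.Lib.Ample.GenLocus

variable {X : Scheme.{u}} {L : X.Modules}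

noncomputable abbrev mkL (L : X.Modules) (y : X) :
    L.presheaf.stalk y →ₗ[X.presheaf.stalk y] Mero.MStalk L y :=
  LocalizedModule.mkLinearMap (Mero.regStalk X y) (L.presheaf.stalk y)

theorem mkL_injective (hL : PicF.IsInvertible L) (y : X) : Function.Injective (mkL L y) := by
  rw [injective_iff_map_eq_zero]
  intro v hv
  obtain ⟨c, hc⟩ := (IsLocalizedModule.eq_zero_iff (Mero.regStalk X y) (mkL L y)).mp hv
  obtain ⟨t, ht, hfree⟩ := Groth.Agent.Lib.Cyc.C1Indep.exists_free_gen hL y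
  obtain ⟨a, rfl⟩ := Submodule.mem_span_singleton.mp
    (show v ∈ Submodule.span (X.presheaf.stalk y) {t} by rw [ht]; trivial)
  have h0 : c.1 * a = 0 := hfree _ (by rw [mul_smul]; exact hc)
  rw [(mul_left_mem_nonZeroDivisors_eq_zero_iff (Mero.regStalk_le_nonZeroDivisors y c.2)).mp h0, zero_smul]

variable (s : Γ(Mero.merMod L, ⊤))

abbrev val (y : X) : Mero.MStalk L y := s.1 ⟨y, Opens.mem_top y⟩

/-- `f` times the section is `g • e` on `W`. -/
def Rel (W : X.Opens) (e : Γ(L, W)) (f g : Γ(X, W)) : Prop :=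
  ∀ (y : X) (hy : y ∈ W), X.presheaf.germ W y hy f • val s y =
    mkL L y (X.presheaf.germ W y hy g • L.presheaf.germ W y hy e)

theorem exists_rep (hL : PicF.IsInvertible L) (hs : Mero.IsRegularMero L s) (x : X) :
    ∃ (W : X.affineOpens) (_ : x ∈ W.1) (e : Γ(L, W.1)) (c μ : Γ(X, W.1)), IsGen L W.1 e ∧
      c ∈ Mero.regSub X W.1 ∧ μ ∈ Mero.regSub X W.1 ∧ Rel s W.1 e c μ := by
  obtain ⟨O, e0, hxO, he0⟩ := isInvertible_iff.1 hL x
  obtain ⟨V, hxV, i, m, b, h⟩ := s.2 ⟨x, Opens.mem_top x⟩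
  obtain ⟨W, hW, hxW, hle⟩ := exists_isAffineOpen_mem_and_subset (show x ∈ V ⊓ O from ⟨hxV, hxO⟩)
  have hWV : W ≤ V := fun y hy => (hle hy).1
  have hWO : W ≤ O := fun y hy => (hle hy).2
  obtain ⟨μ, hμ⟩ := exists_coord (he0.res hWO) (rs L hWV m)
  have hc : rf hWV b.1 ∈ Mero.regSub X W := Mero.regSub_res _ b.2
  have hrel : Rel s W (rs L hWO e0) (rf hWV b.1) μ := by
    intro y hy
    have e1 := h ⟨y, hWV hy⟩
    dsimp only at e1
    rw [← Mero.germ_smul L W y hy, ← hμ, MeroK.RegMero.germ_rs, MeroK.RegMero.germ_rf]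
    change X.presheaf.germ V y (hWV hy) b.1 • s.1 (i ⟨y, hWV hy⟩) = _
    rw [e1, LocalizedModule.mkLinearMap_apply, LocalizedModule.smul'_mk, LocalizedModule.mk_eq]
    exact ⟨1, by simp [Submonoid.smul_def]⟩
  refine ⟨⟨W, hW⟩, hxW, rs L hWO e0, rf hWV b.1, μ, he0.res hWO, hc, fun y => ?_, hrel⟩
  refine Ideal.EffCartier.mem_nonZeroDivisors_of_eq_zero fun a ha => ?_
  have h1 := congrArg (fun z => a • z) (hrel y.1 y.2)
  simp only [← map_smul, smul_smul] at h1
  rw [show a * X.presheaf.germ W y.1 y.2 μ = 0 by rwa [mul_comm], zero_smul, map_zero,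
    ← algebraMap_smul (Mero.KStalk X y.1)] at h1
  have h2 := hs y.1 _ h1
  rw [map_eq_zero_iff _ (Mero.algebraMap_KStalk_injective y.1)] at h2
  exact (mul_right_mem_nonZeroDivisors_eq_zero_iff (hc y)).mp h2

theorem rel_of_mem {W : X.Opens} {e : Γ(L, W)} (he : IsGen L W e) {f : Γ(X, W)}
    (hf : f ∈ Mero.denomIdeal L s W) : ∃ g : Γ(X, W), Rel s W e f g := by
  obtain ⟨n, hn⟩ := hf
  obtain ⟨g, rfl⟩ := exists_coord he n
  exact ⟨g, fun y hy => by rw [← Mero.germ_smul L W y hy]; exact hn ⟨y, hy⟩⟩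

theorem rel_mul (hL : PicF.IsInvertible L) {W : X.Opens} {e : Γ(L, W)} (he : IsGen L W e)
    {c μ f g : Γ(X, W)} (h1 : Rel s W e c μ) (h2 : Rel s W e f g) : f * μ = g * c := by
  refine TopCat.Presheaf.section_ext X.sheaf W _ _ fun y hy => ?_
  change X.presheaf.germ W y hy (f * μ) = X.presheaf.germ W y hy (g * c)
  refine (MeroK.RegMero.stalk_gen he hy).1 (mkL_injective hL y ?_)
  have h1' := (h1 y hy).trans (map_smul (mkL L y) _ _)
  have h2' := (h2 y hy).trans (map_smul (mkL L y) _ _)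
  simp only [map_mul, mul_smul]
  rw [map_smul, map_smul, map_smul, map_smul, ← h1', smul_comm, h2', smul_comm]

theorem rel_cross (hL : PicF.IsInvertible L) {W₁ W₂ : X.Opens} {e₁ : Γ(L, W₁)} {e₂ : Γ(L, W₂)}
    {f₁ g₁ : Γ(X, W₁)} {f₂ g₂ : Γ(X, W₂)} (h1 : Rel s W₁ e₁ f₁ g₁) (h2 : Rel s W₂ e₂ f₂ g₂) :
    rf (inf_le_right : W₁ ⊓ W₂ ≤ W₂) f₂ • rf (inf_le_left : W₁ ⊓ W₂ ≤ W₁) g₁ •
        rs L (inf_le_left : W₁ ⊓ W₂ ≤ W₁) e₁ =
      rf (inf_le_left : W₁ ⊓ W₂ ≤ W₁) f₁ • rf (inf_le_right : W₁ ⊓ W₂ ≤ W₂) g₂ •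
        rs L (inf_le_right : W₁ ⊓ W₂ ≤ W₂) e₂ := by
  refine TopCat.Presheaf.section_ext (F := ⟨L.presheaf, L.isSheaf⟩) (W₁ ⊓ W₂) _ _ fun y hy => ?_
  change L.presheaf.germ _ y hy _ = L.presheaf.germ _ y hy _
  simp only [Mero.germ_smul, MeroK.RegMero.germ_rf, MeroK.RegMero.germ_rs]
  refine mkL_injective hL y ?_
  rw [map_smul, ← h1 y hy.1, map_smul, ← h2 y hy.2, smul_comm]

/-- The support of the ideal of denominators is the complement of the domain of definition. -/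
theorem support_compl (I : X.IdealSheafData) (hI : ∀ V : X.affineOpens, I.ideal V = Mero.denomIdeal L s V.1) :
    ((I.support.compl : X.Opens) : Set X) = Mero.domain L s := by
  ext x
  change x ∉ (I.support : Set X) ↔ _
  constructor
  · intro hx
    obtain ⟨U, hU, hxU, -⟩ := exists_isAffineOpen_mem_and_subset (U := ⊤) (x := x) trivial
    rw [SetLike.mem_coe, Scheme.IdealSheafData.mem_support_iff_of_mem (U := ⟨U, hU⟩) hxU,
      Scheme.mem_zeroLocus_iff] at hx
    push Not at hx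
    obtain ⟨f, hf, hxf⟩ := hx
    rw [SetLike.mem_coe, hI] at hf
    obtain ⟨n, hn⟩ := hf
    have hle : X.basicOpen f ≤ U := X.basicOpen_le f
    obtain ⟨v, hv⟩ := (RingedSpace.isUnit_res_basicOpen _ f : IsUnit (rf hle f)).exists_left_inv
    let v' : Γ(X, X.basicOpen f) := v
    have hv' : v' * rf hle f = 1 := hv
    refine ⟨X.basicOpen f, hxf, v' • rs L hle n, fun y => ?_⟩
    rw [Mero.toMerFun_apply, ← LocalizedModule.mkLinearMap_apply (R := X.presheaf.stalk y.1),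
      Mero.germ_smul, MeroK.RegMero.germ_rs, map_smul, ← hn ⟨y.1, hle y.2⟩, smul_smul,
      ← MeroK.RegMero.germ_rf hle y.2 f, ← map_mul, hv', map_one, one_smul]
  · rintro ⟨V, hxV, m, hm⟩ hx
    obtain ⟨U, hU, hxU, hle⟩ := exists_isAffineOpen_mem_and_subset hxV
    rw [SetLike.mem_coe, Scheme.IdealSheafData.mem_support_iff_of_mem (U := ⟨U, hU⟩) hxU,
      Scheme.mem_zeroLocus_iff] at hx
    have h1 : (1 : Γ(X, U)) ∈ I.ideal ⟨U, hU⟩ := by
      rw [hI]
      refine ⟨rs L hle m, fun y => ?_⟩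
      rw [map_one, one_smul, MeroK.RegMero.germ_rs]
      exact hm ⟨y.1, hle y.2⟩
    exact hx 1 h1 (by rw [Scheme.basicOpen_of_isUnit _ isUnit_one]; exact hxU)

section BlowUp

variable {X' : Scheme.{u}} (b : X' ⟶ X) (I : X.IdealSheafData)

structure Chart where
  V : X'.affineOpens
  W : X.affineOpens
  le : V.1 ≤ b ⁻¹ᵁ W.1
  e : Γ(L, W.1)
  gen : IsGen L W.1 e
  f : Γ(X, W.1)
  g : Γ(X, W.1)
  rel : Rel s W.1 e f g
  regF : b.appLE W.1 V.1 le f ∈ Mero.regSub X' V.1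
  regG : b.appLE W.1 V.1 le g ∈ Mero.regSub X' V.1
  ideal : (I.comap b).ideal V = Ideal.span {b.appLE W.1 V.1 le f}

variable {s} {I} {b}

theorem germ_appLE {W : X.Opens} {V : X'.Opens} (h : V ≤ b ⁻¹ᵁ W) {y : X'} (hy : y ∈ V) (a : Γ(X, W)) :
    X'.presheaf.germ V y hy (b.appLE W V h a) = X'.presheaf.germ (b ⁻¹ᵁ W) y (h hy) (b.app W a) :=
  TopCat.Presheaf.germ_res_apply _ _ _ _ _

theorem exists_chart (hL : PicF.IsInvertible L) (hs : Mero.IsRegularMero L s)
    (hI : ∀ V : X.affineOpens, I.ideal V = Mero.denomIdeal L s V.1) (hb : BlowUp.IsBlowUp b I) (x : X') :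
    ∃ C : Chart s b I, x ∈ C.V.1 := by
  obtain ⟨W, hxW, e, c, μ, he, hc, hμ, hrel⟩ := exists_rep s hL hs (b x)
  obtain ⟨V₀, hxV, hle, h, hh, hhE⟩ := Ideal.EffCartier.exists_gen hb.1 x (W := b ⁻¹ᵁ W.1) hxW
  have hmap := Ideal.Comap.ideal_comap b I W V₀ hle
  let φ := (b.appLE W.1 V₀.1 hle).hom
  let K : _root_.Ideal Γ(X', V₀.1) := _root_.Ideal.span {w : Γ(X', V₀.1) | ∃ f ∈ I.ideal W, φ f = w * h}
  have hKle : (I.comap b).ideal V₀ ≤ K * _root_.Ideal.span {h} := by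
    rw [hmap, _root_.Ideal.map_le_iff_le_comap]
    intro f hf
    have hm : φ f ∈ (I.comap b).ideal V₀ := hmap ▸ _root_.Ideal.mem_map_of_mem φ hf
    rw [hhE, _root_.Ideal.mem_span_singleton'] at hm
    obtain ⟨w, hw⟩ := hm
    show φ f ∈ K * _root_.Ideal.span {h}
    rw [← hw]
    exact _root_.Ideal.mul_mem_mul (_root_.Ideal.subset_span ⟨f, hf, hw.symm⟩)
      (_root_.Ideal.mem_span_singleton_self h)
  have hK : K = ⊤ := by
    obtain ⟨k, hk, hk'⟩ := _root_.Ideal.mem_mul_span_singleton.1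
      (hKle (hhE ▸ _root_.Ideal.mem_span_singleton_self h))
    have : k = 1 := (mul_cancel_right_mem_nonZeroDivisors hh).mp (hk'.trans (one_mul h).symm)
    exact (_root_.Ideal.eq_top_iff_one K).2 (this ▸ hk)
  obtain ⟨w, ⟨f, hfI, hfw⟩, hxw⟩ : ∃ w ∈ {w : Γ(X', V₀.1) | ∃ f ∈ I.ideal W, φ f = w * h}, x ∈ X'.basicOpen w := by
    by_contra hne
    push Not at hne
    refine (V₀.2.primeIdealOf ⟨x, hxV⟩).isPrime.ne_top (top_le_iff.1 (hK ▸ _root_.Ideal.span_le.2 fun w hw => ?_))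
    by_contra hw'
    exact hne w hw ((Ideal.EffCartier.mem_basicOpen_iff_notMem_prime V₀.2 hxV w).2 hw')
  obtain ⟨g, hg⟩ := rel_of_mem s he (hI W ▸ hfI)
  let V : X'.affineOpens := ⟨X'.basicOpen w, V₀.2.basicOpen w⟩
  have hV : V.1 ≤ V₀.1 := X'.basicOpen_le w
  have hVW : V.1 ≤ b ⁻¹ᵁ W.1 := hV.trans hle
  have hfV : b.appLE W.1 V.1 hVW f = rf hV w * rf hV h := by
    rw [← map_mul]
    change _ = X'.presheaf.map (homOfLE hV).op (w * h)
    rw [← hfw]
    exact (ConcreteCategory.congr_hom (Scheme.Hom.appLE_map b hle (homOfLE hV).op) f).symm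
  have hu : IsUnit (rf hV w) := RingedSpace.isUnit_res_basicOpen _ w
  have hregF : b.appLE W.1 V.1 hVW f ∈ Mero.regSub X' V.1 := fun y => by
    rw [hfV, map_mul, MeroK.RegMero.germ_rf hV y.2 h]
    exact mul_mem (hu.map _).mem_nonZeroDivisors
      (Ideal.EffCartier.germ_mem_nonZeroDivisors V₀.2 hh y.1 (hV y.2))
  have hregG : b.appLE W.1 V.1 hVW g ∈ Mero.regSub X' V.1 := fun y => by
    have hreg := (Groth.Agent.S8898.result I b hb).2
    have key := congrArg (fun z => X'.presheaf.germ V.1 y.1 y.2 (b.appLE W.1 V.1 hVW z))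
      (rel_mul s hL he hrel hg)
    simp only [map_mul] at key
    have hm : X'.presheaf.germ V.1 y.1 y.2 (b.appLE W.1 V.1 hVW f) *
        X'.presheaf.germ V.1 y.1 y.2 (b.appLE W.1 V.1 hVW μ) ∈ nonZeroDivisors _ := by
      refine mul_mem (hregF y) ?_
      rw [germ_appLE hVW y.2 μ]
      exact hreg W.1 μ hμ ⟨y.1, hVW y.2⟩
    rw [key, mul_mem_nonZeroDivisors] at hm
    exact hm.1
  refine ⟨⟨V, W, hVW, e, he, f, g, hg, hregF, hregG, ?_⟩, hxw⟩
  rw [Ideal.EffCartier.ideal_eq_span_of_le hV hhE, hfV]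
  exact (_root_.Ideal.span_singleton_mul_left_unit hu _).symm

namespace Chart

variable (C : Chart s b I)

noncomputable abbrev F : Γ(X', C.V.1) := b.appLE C.W.1 C.V.1 C.le C.f
noncomputable abbrev G : Γ(X', C.V.1) := b.appLE C.W.1 C.V.1 C.le C.g
noncomputable abbrev ε : Γ((Scheme.Modules.pullback b).obj L, C.V.1) :=
  rs ((pb b).obj L) C.le (unitSec b L C.e)

theorem gen_ε : IsGen ((Scheme.Modules.pullback b).obj L) C.V.1 C.ε := (isGen_unitSec b C.gen).res C.le

theorem cross (hL : PicF.IsInvertible L) (D : Chart s b I) {U : X'.Opens} (hC : U ≤ C.V.1) (hD : U ≤ D.V.1) :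
    rf hD D.F • rf hC C.G • rs ((Scheme.Modules.pullback b).obj L) hC C.ε =
      rf hC C.F • rf hD D.G • rs ((Scheme.Modules.pullback b).obj L) hD D.ε := by
  have h := rel_cross s hL C.rel D.rel
  have hU : U ≤ b ⁻¹ᵁ (C.W.1 ⊓ D.W.1) := le_inf (hC.trans C.le) (hD.trans D.le)
  have h2 := congrArg (fun z => rs ((pb b).obj L) hU (unitSec b L z)) h
  simp only [unitSec_smul, rs_smul, ← unitSec_rs, rs_rs] at h2
  have key : ∀ {W V : X.Opens} (hVW : V ≤ W) {U₀ : X'.Opens} (h₀ : U ≤ U₀) (h₁ : U₀ ≤ b ⁻¹ᵁ W)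
      (h₂ : U ≤ b ⁻¹ᵁ V) (a : Γ(X, W)), rf h₂ (b.app V (rf hVW a)) = rf h₀ (b.appLE W U₀ h₁ a) := by
    intro W V hVW U₀ h₀ h₁ h₂ a
    exact (ConcreteCategory.congr_hom (Scheme.Hom.map_appLE b h₂ (homOfLE hVW).op) a).trans
      (ConcreteCategory.congr_hom (Scheme.Hom.appLE_map b h₁ (homOfLE h₀).op) a).symm
  rw [key inf_le_right hD D.le hU, key inf_le_left hC C.le hU, key inf_le_left hC C.le hU,
    key inf_le_right hD D.le hU] at h2
  simpa only [rs_rs] using h2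

end Chart

theorem exists_twist (hL : PicF.IsInvertible L) (hs : Mero.IsRegularMero L s)
    (hI : ∀ V : X.affineOpens, I.ideal V = Mero.denomIdeal L s V.1) (hb : BlowUp.IsBlowUp b I) :
    ∃ 𝓓 : X'.IdealSheafData, BlowUp.IsEffCartierIdeal 𝓓 ∧
      Nonempty (CohB1.tensorMod ((Scheme.Modules.pullback b).obj L) (ClSub.idealMod 𝓓) ≅
        ClSub.idealMod (I.comap b)) := by
  classical
  choose C hC using exists_chart hL hs hI hb
  have hcov : ⨆ i, (C i).V.1 = ⊤ := top_le_iff.1 fun x _ => Opens.mem_iSup.2 ⟨x, hC x⟩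
  let P := (Scheme.Modules.pullback b).obj L
  let Q := ClSub.idealMod (I.comap b)
  have hPinv : PicF.IsInvertible P := isInvertible_iff.2 fun x => ⟨_, _, hC x, (C x).gen_ε⟩
  have hQinv : PicF.IsInvertible Q := ClSub.Cartier.isInvertible_idealMod hb.1
  have regF : ∀ i, (C i).F ∈ nonZeroDivisors Γ(X', (C i).V.1) := fun i =>
    Ideal.EffCartier.mem_nonZeroDivisors_of_germ fun y hy => (C i).regF ⟨y, hy⟩
  have regG : ∀ i, (C i).G ∈ nonZeroDivisors Γ(X', (C i).V.1) := fun i =>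
    Ideal.EffCartier.mem_nonZeroDivisors_of_germ fun y hy => (C i).regG ⟨y, hy⟩
  choose η hη using fun i => (ClSub.Sections.mem_range_idealModι_app_affine_iff (I.comap b) (C i).V (C i).F).2
    ((C i).ideal ▸ _root_.Ideal.mem_span_singleton_self _)
  have hηg : ∀ i, IsGen Q (C i).V.1 (η i) := fun i =>
    Groth.Agent.H4.CartierSection.isGen_idealMod _ _ _ (regF i) (C i).ideal _ (hη i)
  obtain ⟨φ, hφ⟩ := HomGlue.exists_hom_of_gen (L := Q) (M := P) hcov η hηg (fun i => (C i).G • (C i).ε)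
    fun i j U hi hj r hr => by
      have h1 := congrArg ((ClSub.idealModι (I.comap b)).app U) hr
      rw [Scheme.Modules.Hom.app_smul, ← HomGlue.rs_app, ← HomGlue.rs_app, hη, hη] at h1
      have h1' : rf hi (C i).F = r * rf hj (C j).F := h1
      have hF : rf hj (C j).F ∈ nonZeroDivisors Γ(X', U) :=
        Ideal.EffCartier.res_mem_nonZeroDivisors (C j).V.2 hj (regF j)
      obtain ⟨p, hp⟩ := ((C j).gen_ε U hj).2 (rs P hi (C i).ε)
      have h2 := (C i).cross hL (C j) hi hj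
      simp only at hp
      rw [← hp] at h2
      simp only [smul_smul] at h2
      have h3 := ((C j).gen_ε U hj).1 h2
      rw [h1'] at h3
      rw [rs_smul, rs_smul, ← hp, smul_smul, smul_smul]
      refine congrArg (· • rs P hj (C j).ε) ((mul_cancel_right_mem_nonZeroDivisors hF).mp ?_)
      linear_combination h3
  haveI : Q.IsQuasicoherent := QCohInv.isQCoh_of_isInvertible hQinv
  haveI : P.IsQuasicoherent := QCohInv.isQCoh_of_isInvertible hPinv
  let 𝓓 := Modules.ZeroLocus.idealSheaf φ (LocFree.of_rank (LocFree.of_isInvertible hPinv))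
  have hideal : ∀ i, 𝓓.ideal (C i).V = _root_.Ideal.span {(C i).G} := by
    intro i
    change _root_.Ideal.span (Modules.ZeroLocus.vals φ (C i).V.1) = _
    have hgen := (C i).gen_ε (C i).V.1 le_rfl
    simp only [rs_self] at hgen
    apply le_antisymm
    · rw [_root_.Ideal.span_le]
      rintro _ ⟨ψ, z, rfl⟩
      obtain ⟨t, rfl⟩ := exists_coord (hηg i) z
      rw [Scheme.Modules.Hom.app_smul, hφ, smul_smul, map_smul, smul_eq_mul]
      exact _root_.Ideal.mem_span_singleton'.2 ⟨t * ψ (C i).ε, by ring⟩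
    · rw [_root_.Ideal.span_le, Set.singleton_subset_iff]
      let T := LinearEquiv.ofBijective (LinearMap.toSpanSingleton Γ(X', (C i).V.1) Γ(P, (C i).V.1) (C i).ε) hgen
      refine _root_.Ideal.subset_span ⟨T.symm.toLinearMap, η i, ?_⟩
      rw [hφ]
      exact T.symm_apply_apply (C i).G
  have hD : BlowUp.IsEffCartierIdeal 𝓓 := fun x => ⟨_, hC x, _, regG x, hideal x⟩
  choose δ hδ using fun i => (ClSub.Sections.mem_range_idealModι_app_affine_iff 𝓓 (C i).V (C i).G).2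
    ((hideal i) ▸ _root_.Ideal.mem_span_singleton_self _)
  have hδg : ∀ i, IsGen (ClSub.idealMod 𝓓) (C i).V.1 (δ i) := fun i =>
    Groth.Agent.H4.CartierSection.isGen_idealMod _ _ _ (regG i) (hideal i) _ (hδ i)
  obtain ⟨e, -⟩ := HomGlue.exists_iso_of_gen (L := CohB1.tensorMod P (ClSub.idealMod 𝓓)) (M := Q) hcov
    (fun i => SecTwist.tmul P (ClSub.idealMod 𝓓) (C i).V.1 (C i).ε (δ i))
    (fun i => isGen_tmul (C i).gen_ε (hδg i)) η hηg fun i j U hi hj r hr => by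
      obtain ⟨p, hp⟩ := ((C j).gen_ε U hj).2 (rs P hi (C i).ε)
      obtain ⟨q, hq⟩ := (hδg j U hj).2 (rs (ClSub.idealMod 𝓓) hi (δ i))
      obtain ⟨w, hw⟩ := (hηg j U hj).2 (rs Q hi (η i))
      simp only at hp hq hw
      rw [rs_tmul, rs_tmul, ← hp, ← hq, tmul_smul] at hr
      have hgen := isGen_tmul ((C j).gen_ε.res hj) ((hδg j).res hj) U le_rfl
      simp only [rs_self] at hgen
      have hr' : p * q = r := hgen.1 hr
      have hq' := congrArg ((ClSub.idealModι 𝓓).app U) hq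
      rw [Scheme.Modules.Hom.app_smul, ← HomGlue.rs_app, ← HomGlue.rs_app, hδ, hδ] at hq'
      have hq'' : q * rf hj (C j).G = rf hi (C i).G := hq'
      have hw' := congrArg (φ.app U) hw
      rw [Scheme.Modules.Hom.app_smul, ← HomGlue.rs_app, ← HomGlue.rs_app, hφ, hφ, rs_smul, rs_smul,
        ← hp, smul_smul, smul_smul] at hw'
      have hw'' := ((C j).gen_ε U hj).1 hw'
      have hG : rf hj (C j).G ∈ nonZeroDivisors Γ(X', U) :=
        Ideal.EffCartier.res_mem_nonZeroDivisors (C j).V.2 hj (regG j)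
      rw [← hw]
      refine congrArg (· • rs Q hj (η j)) ((mul_cancel_right_mem_nonZeroDivisors hG).mp ?_)
      rw [← hr']
      linear_combination hw'' - p * hq''
  exact ⟨𝓓, hD, ⟨e⟩⟩

end BlowUp

end Groth.Agent.H26.BlowDenom
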