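import Groth.Agent.H26.BlowSmooth
import Groth.Agent.H54.KoszulPerf
import Groth.Agent.H54.PerfMor
import Groth.Agent.Lib.Synt92.KRGens
import Groth.Agent.Lib.Synt92.CubeBase
import Groth.Agent.Lib.Wiebe.AcycRegular
import Mathlib.RingTheory.MvPolynomial.Localization

/-!
# The blow-up of a regular immersion is perfect

The chart `A[I/x]` is `A[T]/(x Tᵢ - aᵢ)` and this presentation is Koszul-regular.
-/

set_option autoImplicit false
set_option linter.all false
set_option maxHeartbeats 1000000

universe u

open CategoryTheory CategoryTheory.Limits AlgebraicGeometry TopologicalSpace MvPolynomial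
open Groth.Agent.Lib.TorObstruction.Cube Groth.Agent.Lib.Wiebe.Exterior Groth.Agent.Lib.Wiebe.Link
open Groth.Agent.Lib Groth.Agent.H26

namespace Groth.Agent.H26.BlowPerfect

section Cube

variable {Q : Type u} [CommRing Q] {m : ℕ}

open Wiebe.AcycRegular (face_pair_false face_pair_true) in
/-- If `(x, g)` is acyclic, multiplication by `x` detects boundaries of `g`. -/
theorem mem_range_of_smul {x : Q} {g : Fin m → Q} (hf : Acyc (Fin.cons x g : Fin (m + 1) → Q))
    {z : V Q m} (hz : opI g z = 0) (h : x • z ∈ LinearMap.range (opI g)) :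
    z ∈ LinearMap.range (opI g) := by
  obtain ⟨w, hw⟩ := h
  let w' := w - P 0 w
  have hw' : opI g w' = x • z := by rw [map_sub, opI_P_zero, sub_zero, hw]
  have hwO : w' (O m) = 0 := by
    show (w - P 0 w) (O m) = 0
    rw [Pi.sub_apply, P_apply, if_pos (wt_O m), sub_self]
  let f : Fin (m + 1) → Q := Fin.cons x g
  have ht : Fin.tail f = g := Fin.tail_cons _ _
  have hf0 : f 0 = x := Fin.cons_zero _ _
  let p : V Q (m + 1) := glue (LinearMap.fst Q (V Q m) (V Q m)) (LinearMap.snd Q (V Q m) (V Q m)) (w', -z)
  have hp0 : face false p = w' := by simp [p, face_glue]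
  have hp1 : face true p = -z := by simp [p, face_glue]
  obtain ⟨v, hv⟩ := hf p (by
    refine ext_face ?_ ?_
    · refine (face_opI_false f p).trans ?_
      rw [ht, hf0, hp0, hp1, hw', smul_neg, add_neg_cancel, map_zero]
    · rw [face_opI_true, ht, hp1, map_neg, hz, neg_zero, neg_zero, map_zero]) (by
    have hc : p (O (m + 1)) = face false p (O m) := by
      change _ = p (Fin.cons false (O m))
      congr 1
      funext i
      refine Fin.cases ?_ (fun j => ?_) i <;> simp
    rw [hc, hp0]
    exact hwO)
  have h1 := face_opI_true f v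
  rw [hv, hp1, ht, neg_inj] at h1
  exact ⟨face true v, h1.symm⟩

/-- Acyclicity of `g` from acyclicity of `(x, g)` and of `g` after inverting `x`. -/
theorem acyc_of_cons {x : Q} {g : Fin m → Q} (hf : Acyc (Fin.cons x g : Fin (m + 1) → Q))
    {L : Type u} [CommRing L] [Algebra Q L] [IsLocalization.Away x L]
    (hL : Acyc fun i => algebraMap Q L (g i)) : Acyc g := by
  classical
  intro z hz hzO
  obtain ⟨w, hw⟩ := hL (algebraMap Q L ∘ z) (by
      rw [show (fun i => algebraMap Q L (g i)) = algebraMap Q L ∘ g from rfl,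
        Wiebe.Bridge.opI_map, hz]
      funext b
      simp)
    (by rw [Function.comp_apply, hzO, map_zero])
  obtain ⟨⟨s, N, rfl⟩, hs⟩ := IsLocalization.exist_integer_multiples_of_finite (Submonoid.powers x) w
  choose v hv using hs
  have hv' : (algebraMap Q L ∘ v : V L m) = algebraMap Q L (x ^ N) • w := funext fun b => by
    rw [Function.comp_apply, hv b, Pi.smul_apply, Algebra.smul_def, smul_eq_mul]
  have heq : algebraMap Q L ∘ opI g v = algebraMap Q L ∘ (x ^ N • z) := by
    rw [← Wiebe.Bridge.opI_map, hv', map_smul,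
      show (algebraMap Q L ∘ g) = fun i => algebraMap Q L (g i) from rfl, hw]
    funext b
    simp
  have hk : ∀ b, ∃ k, x ^ k * opI g v b = x ^ k * (x ^ N • z) b := fun b => by
    obtain ⟨⟨_, k, rfl⟩, hk⟩ := (IsLocalization.eq_iff_exists (Submonoid.powers x) L).mp (congrFun heq b)
    exact ⟨k, hk⟩
  choose k hk using hk
  let K := Finset.univ.sup k
  have hK : x ^ (K + N) • z ∈ LinearMap.range (opI g) := by
    refine ⟨x ^ K • v, ?_⟩
    funext b
    obtain ⟨d, hd⟩ := Nat.exists_eq_add_of_le (Finset.le_sup (f := k) (Finset.mem_univ b))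
    have hd' : K = k b + d := hd
    have h1 := hk b
    rw [Pi.smul_apply, smul_eq_mul] at h1
    rw [map_smul, Pi.smul_apply, Pi.smul_apply, smul_eq_mul, smul_eq_mul, hd']
    linear_combination x ^ d * h1
  have key : ∀ (n : ℕ), x ^ n • z ∈ LinearMap.range (opI g) → z ∈ LinearMap.range (opI g) := by
    intro n
    induction n with
    | zero => intro h; simpa using h
    | succ n ih =>
      intro h
      refine ih (mem_range_of_smul hf (by rw [map_smul, hz, smul_zero]) ?_)
      rwa [← mul_smul, ← pow_succ']
  exact key _ hK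

theorem mem_of_mul_mem (f : Fin (m + 1) → Q) (hf : Acyc f) {a : Q}
    (ha : f 0 * a ∈ Ideal.span (Set.range (Fin.tail f))) :
    a ∈ Ideal.span (Set.range (Fin.tail f)) := by
  obtain ⟨v, hv, hvO⟩ := exists_preimage_O (Fin.tail f) ha
  let p : V Q (m + 1) := glue (LinearMap.fst Q (V Q m) (V Q m)) (LinearMap.snd Q (V Q m) (V Q m))
    (v, -(a • delta Q m))
  have hp0 : face false p = v := by simp [p, face_glue]
  have hp1 : face true p = -(a • delta Q m) := by simp [p, face_glue]
  obtain ⟨w, hw⟩ := hf p (by
    refine ext_face ?_ ?_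
    · rw [face_opI_false, hp0, hp1, hv, smul_neg, smul_smul, add_neg_cancel, map_zero]
    · rw [face_opI_true, hp1, map_neg, map_smul, opI_delta, smul_zero, neg_zero, neg_zero,
        map_zero]) (by
    have hc : p (O (m + 1)) = face false p (O m) := by
      change _ = p (Fin.cons false (O m))
      congr 1
      funext i
      refine Fin.cases ?_ (fun j => ?_) i <;> simp
    rw [hc, hp0]
    exact hvO)
  have h := face_opI_true f w
  rw [hw, hp1, neg_inj] at h
  have h' := congrFun h (O m)
  rw [Pi.smul_apply, show delta Q m (O m) = 1 from if_pos rfl, smul_eq_mul, mul_one] at h'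
  rw [h']
  exact opI_mem _ _ _

end Cube

section Poly

variable {S : Type u} [CommRing S] {m : ℕ}

theorem eq_zero_of_X_sub_C_mul (j : Fin m) (c : S) {p : MvPolynomial (Fin m) S}
    (h : (X j - C c) * p = 0) : p = 0 := by
  classical
  let τ : MvPolynomial (Fin m) S →ₐ[S] MvPolynomial (Fin m) S :=
    aeval fun i => if i = j then X i + C c else X i
  let τ' : MvPolynomial (Fin m) S →ₐ[S] MvPolynomial (Fin m) S :=
    aeval fun i => if i = j then X i - C c else X i
  have hττ : ∀ q, τ' (τ q) = q := fun q => DFunLike.congr_fun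
    (MvPolynomial.algHom_ext (f := τ'.comp τ) (g := AlgHom.id S _) fun i => by
      by_cases hi : i = j <;> simp [τ, τ', hi]) q
  have h1 : X j * τ p = 0 := by
    have := congrArg τ h
    simpa [τ] using this
  have h2 : τ p = 0 := by
    refine MvPolynomial.ext _ _ fun d => ?_
    have := congrArg (coeff (Finsupp.single j 1 + d)) h1
    rwa [coeff_X_mul, coeff_zero] at this
  rw [← hττ p, h2, map_zero]

/-- Shifted variables form a weakly regular sequence over any ring. -/
theorem isWeaklyRegular_X_sub_C (c : Fin m → S) :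
    RingTheory.Sequence.IsWeaklyRegular (MvPolynomial (Fin m) S) (List.ofFn fun i => X i - C (c i)) := by
  classical
  rw [RingTheory.Sequence.isWeaklyRegular_iff_Fin]
  intro i
  have hi : i.val < m := lt_of_lt_of_eq i.isLt (List.length_ofFn)
  set φ : MvPolynomial (Fin m) S →ₐ[S] MvPolynomial (Fin m) S :=
    MvPolynomial.aeval fun j => if j.val < i.val then MvPolynomial.C (c j) else MvPolynomial.X j
  set I : Ideal (MvPolynomial (Fin m) S) :=
    Ideal.ofList ((List.ofFn fun j => MvPolynomial.X j - MvPolynomial.C (c j)).take i.val)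
  have hmem : ∀ j : Fin m, j.val < i.val → MvPolynomial.X j - MvPolynomial.C (c j) ∈ I := by
    intro j hj
    refine Ideal.subset_span ?_
    simp only [Set.mem_setOf_eq]
    rw [List.mem_take_iff_getElem]
    exact ⟨j.val, by simp [hj], by simp⟩
  have hker : ∀ p ∈ I, φ p = 0 := by
    intro p hp
    suffices I ≤ RingHom.ker φ.toRingHom from this hp
    rw [Ideal.span_le]
    intro r hr
    simp only [Set.mem_setOf_eq] at hr
    rw [List.mem_take_iff_getElem] at hr
    obtain ⟨j, hj, rfl⟩ := hr
    simp only [List.length_ofFn, lt_min_iff] at hj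
    simp [φ, hj.1]
  have hmod : ∀ p, p - φ p ∈ I := by
    intro p
    induction p using MvPolynomial.induction_on with
    | C a => simp [φ]
    | add p q hp hq =>
      rw [map_add, add_sub_add_comm]; exact add_mem hp hq
    | mul_X p j hp =>
      rw [map_mul]
      have hX : MvPolynomial.X j - φ (MvPolynomial.X j) ∈ I := by
        simp only [φ, MvPolynomial.aeval_X]
        split_ifs with h
        · exact hmem j h
        · simp
      have := add_mem (I.mul_mem_right (MvPolynomial.X j) hp) (I.mul_mem_left (φ p) hX)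
      convert this using 1
      ring
  rw [isSMulRegular_iff_right_eq_zero_of_smul]
  intro q hq
  obtain ⟨q, rfl⟩ := Submodule.Quotient.mk_surjective _ q
  have hI : (I • ⊤ : Submodule (MvPolynomial (Fin m) S) (MvPolynomial (Fin m) S)) = I := by
    rw [smul_eq_mul, Ideal.mul_top]
  rw [← Submodule.Quotient.mk_smul, Submodule.Quotient.mk_eq_zero, hI] at hq
  rw [Submodule.Quotient.mk_eq_zero, hI]
  have h0 := hker _ hq
  simp only [smul_eq_mul, Fin.getElem_fin, List.getElem_ofFn, map_mul, map_sub, φ,
    MvPolynomial.aeval_X, MvPolynomial.aeval_C, lt_irrefl, if_false] at h0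
  rw [MvPolynomial.algebraMap_eq] at h0
  have := hmod q
  rw [show φ q = 0 from eq_zero_of_X_sub_C_mul ⟨i.val, hi⟩ (c ⟨i.val, hi⟩) h0, sub_zero] at this
  exact this

theorem sub_C_eval_mem (b : Fin m → S) (p : MvPolynomial (Fin m) S) :
    p - C (eval b p) ∈ Ideal.span (Set.range fun i => X i - C (b i)) := by
  induction p using MvPolynomial.induction_on with
  | C c => simp
  | add p q hp hq => rw [map_add, map_add, add_sub_add_comm]; exact add_mem hp hq
  | mul_X p i hp =>
    rw [map_mul, eval_X, map_mul, show p * X i - C (eval b p) * C (b i) =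
      (p - C (eval b p)) * X i + C (eval b p) * (X i - C (b i)) by ring]
    exact add_mem (Ideal.mul_mem_right _ _ hp) (Ideal.mul_mem_left _ _ (Ideal.subset_span ⟨i, rfl⟩))

end Poly

section Chart

variable {A : Type u} [CommRing A] {m : ℕ} (a : Fin (m + 1) → A) (j : Fin (m + 1))

/-- The equations of the chart. -/
noncomputable def rel (i : Fin m) : MvPolynomial (Fin m) A := C (a j) * X i - C (a (j.succAbove i))

/-- The chart, presented by a polynomial ring. -/
noncomputable def pres : MvPolynomial (Fin m) A →ₐ[A] BlowUp.affineAlgebra A (Ideal.span (Set.range a)) (a j) :=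
  (BlowChart.evalChart a j).comp (rename fun i => ⟨j.succAbove i, Fin.succAbove_ne j i⟩)

theorem pres_surjective : Function.Surjective (pres a j) := by
  intro y
  obtain ⟨f, rfl⟩ := BlowChart.evalChart_surjective a j y
  have hs : Function.Surjective (fun i : Fin m => (⟨j.succAbove i, Fin.succAbove_ne j i⟩ : {i // i ≠ j})) :=
    fun ⟨i, hi⟩ => (Fin.exists_succAbove_eq hi).imp fun k hk => Subtype.ext hk
  obtain ⟨g, rfl⟩ := MvPolynomial.rename_surjective _ hs f
  exact ⟨g, rfl⟩

theorem coe_pres (f : MvPolynomial (Fin m) A) : (pres a j f : Localization.Away (a j)) =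
    aeval (fun i => IsLocalization.mk' (Localization.Away (a j)) (a (j.succAbove i))
      (⟨a j, Submonoid.mem_powers (a j)⟩ : Submonoid.powers (a j))) f := by
  rw [pres, AlgHom.comp_apply, BlowChart.coe_evalChart, BlowChart.evalFrac, aeval_rename]
  rfl

theorem acyc_rel (ha : Acyc a) :
    Acyc (rel a j) ∧ RingHom.ker (pres a j).toRingHom = Ideal.span (Set.range (rel a j)) := by
  classical
  let P := MvPolynomial (Fin m) A
  -- the sequence `(x, g)` is a change of generators of `(x, a)`
  have h1 : Acyc (fun i => algebraMap A P (a i)) := Wiebe.Bridge.acyc_flat a ha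
  let cc : Fin (m + 1) → Fin (m + 1) → P :=
    Fin.cons (Pi.single j 1) fun i => (X i : P) • Pi.single j 1 - Pi.single (j.succAbove i) 1
  let dd : Fin (m + 1) → Fin (m + 1) → P :=
    j.insertNth (Pi.single 0 1) fun i => (X i : P) • Pi.single 0 1 - Pi.single i.succ 1
  have hxg : Acyc (Fin.cons (C (a j)) (rel a j) : Fin (m + 1) → P) := by
    refine Synt92.CubeBase.acyc_matrix _ _ cc dd (fun i => ?_) (fun l => ?_) (fun i => ?_) h1
    · refine Fin.cases ?_ (fun i => ?_) i
      · simp [cc, P, Pi.single_apply, MvPolynomial.algebraMap_eq]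
      · simp [cc, P, rel, Pi.single_apply, MvPolynomial.algebraMap_eq, sub_mul, Finset.sum_sub_distrib, mul_comm]
    · rcases Fin.eq_self_or_eq_succAbove j l with rfl | ⟨i, rfl⟩
      · simp [dd, P, Pi.single_apply, MvPolynomial.algebraMap_eq]
      · simp [dd, P, rel, Pi.single_apply, MvPolynomial.algebraMap_eq, sub_mul, Finset.sum_sub_distrib, mul_comm]
    · refine Fin.cases ?_ (fun i => ?_) i
      · simp [cc, dd, Pi.single_apply]
      · simp [cc, dd, Pi.single_apply, sub_smul, Finset.sum_sub_distrib, smul_smul]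
  -- after inverting `x` the relations are shifted variables
  let S := Localization.Away (a j)
  let L := MvPolynomial (Fin m) S
  letI : Algebra P L := MvPolynomial.algebraMvPolynomial
  haveI : IsLocalization.Away (C (a j) : P) L := by
    have h := MvPolynomial.isLocalization (σ := Fin m) (Submonoid.powers (a j)) S
    rwa [Submonoid.map_powers] at h
  have hmap : ∀ q : P, algebraMap P L q = MvPolynomial.map (algebraMap A S) q := fun q => rfl
  let b : Fin m → S := fun i => IsLocalization.mk' S (a (j.succAbove i))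
    (⟨a j, Submonoid.mem_powers (a j)⟩ : Submonoid.powers (a j))
  have hu : IsUnit (algebraMap A S (a j)) := IsLocalization.Away.algebraMap_isUnit (a j)
  have hrel : (fun i => algebraMap P L (rel a j i)) =
      fun i => C (algebraMap A S (a j)) * (X i - C (b i)) := funext fun i => by
    rw [hmap, rel, map_sub, map_mul, map_C, map_C, map_X, mul_sub, ← C_mul]
    congr 2
    exact (IsLocalization.mk'_spec' S _ _).symm
  obtain ⟨hLa, hLs⟩ := Synt92.KRGens.acyc_and_span_of_units (fun _ => C (algebraMap A S (a j)))
    (fun _ => hu.map (C : S →+* L)) (fun i => X i - C (b i))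
    (Synt92.CubeBase.acyc_of_isWeaklyRegular _ (isWeaklyRegular_X_sub_C b))
  have hac : Acyc (rel a j) := acyc_of_cons hxg (L := L) (by rwa [hrel])
  refine ⟨hac, le_antisymm (fun f hf => ?_) (Ideal.span_le.mpr ?_)⟩
  · -- the kernel
    have h3 : (pres a j f : Localization.Away (a j)) = 0 := by
      rw [show pres a j f = 0 from hf]; rfl
    rw [coe_pres] at h3
    have h4 : algebraMap P L f ∈ (Ideal.span (Set.range (rel a j))).map (algebraMap P L) := by
      rw [Ideal.map_span, ← Set.range_comp, show algebraMap P L ∘ rel a j = _ from hrel, hLs]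
      have := sub_C_eval_mem b (algebraMap P L f)
      rwa [hmap, eval_map, ← aeval_def, h3, map_zero, sub_zero] at this
    obtain ⟨_, ⟨N, rfl⟩, hs⟩ := (IsLocalization.algebraMap_mem_map_algebraMap_iff
      (Submonoid.powers (C (a j) : P)) L _ f).mp h4
    have key : ∀ (n : ℕ), (C (a j) : P) ^ n * f ∈ Ideal.span (Set.range (rel a j)) →
        f ∈ Ideal.span (Set.range (rel a j)) := by
      intro n
      induction n with
      | zero => intro h; simpa using h
      | succ n ih =>
        intro h
        refine ih ?_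
        rw [pow_succ', mul_assoc] at h
        have := mem_of_mul_mem (Fin.cons (C (a j)) (rel a j) : Fin (m + 1) → P) hxg
          (a := (C (a j) : P) ^ n * f)
        simp only [Fin.tail_cons, Fin.cons_zero] at this
        exact this h
    exact key N hs
  · rintro _ ⟨i, rfl⟩
    refine Subtype.ext ?_
    change (pres a j (rel a j i) : Localization.Away (a j)) = 0
    rw [coe_pres, rel, map_sub, map_mul, aeval_C, aeval_C, aeval_X]
    exact sub_eq_zero.mpr (IsLocalization.mk'_spec' (M := Submonoid.powers (a j)) (Localization.Away (a j))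
      (a (j.succAbove i)) ⟨a j, Submonoid.mem_powers (a j)⟩)

/-- The chart of the blow-up in a Koszul-regular sequence is perfect. -/
theorem qp_chart (ha : Acyc a) {C' : Type u} [CommRing C'] (β : A →+* C')
    (e : BlowUp.affineAlgebra A (Ideal.span (Set.range a)) (a j) ≃+* C')
    (he : ∀ r, e (algebraMap A _ r) = β r) : Groth.Agent.H54.PerfMor.Qp β := by
  obtain ⟨hac, hker⟩ := acyc_rel a j ha
  let ψ : MvPolynomial (Fin m) A →+* C' := e.toRingHom.comp (pres a j).toRingHom
  have hψ : Function.Surjective ψ := e.surjective.comp (pres_surjective a j)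
  have hk : RingHom.ker ψ = Ideal.ofList (List.ofFn (rel a j)) := by
    rw [RingHom.ker_equiv_comp, hker, Ideal.ofList]
    congr 1
    ext x
    simp [List.mem_ofFn]
  have hβ : β = ψ.comp (algebraMap A (MvPolynomial (Fin m) A)) := RingHom.ext fun r => by
    simp [ψ, ← he]
  rw [hβ]
  exact Groth.Agent.H54.PerfMor.Qp_comp _ _ (Groth.Agent.H54.KoszulPerf.Qp_C A m)
    (Groth.Agent.H54.KoszulPerf.Qp_of_koszulRegular ψ hψ _
      (Synt92.CubeBase.isKoszulRegularSeq_of_acyc _ hac) hk)

end Chart

/-- Blowing up a regular closed immersion gives a perfect morphism. -/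
theorem isPerfectMor {Y X X' : Scheme.{u}} (i : Y ⟶ X) (hi : Mor2.IsRegularClosedImmersion i)
    (b : X' ⟶ X) (hb : BlowUp.IsBlowUp b i.ker) : MoreMor.IsPerfectMor b := by
  classical
  obtain ⟨hci, hreg⟩ := hi
  haveI := hci
  rw [Groth.Agent.H54.PerfMor.iff_exists]
  intro x
  obtain ⟨U, c, a, hxU, ha, hI⟩ : ∃ (U : X.affineOpens) (c : ℕ) (a : Fin c → Γ(X, U.1)),
      b x ∈ U.1 ∧ Acyc a ∧ i.ker.ideal U = Ideal.span (Set.range a) := by
    by_cases hx : b x ∈ Set.range i
    · obtain ⟨z, hz⟩ := hx
      obtain ⟨U, hU, hzU, rs, hrs, hker⟩ := hreg z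
      refine ⟨⟨U, hU⟩, rs.length, rs.get, hz ▸ hzU, ?_, ?_⟩
      · refine Synt92.CubeBase.acyc_of_isWeaklyRegular _ ?_
        rw [List.ofFn_get]
        exact hrs.toIsWeaklyRegular
      · rw [hker, Ideal.ofList]
        congr 1
        ext r
        simp [List.mem_iff_get]
    · have hopen : IsOpen ((Set.range i)ᶜ) := (i.isClosedEmbedding.isClosed_range).isOpen_compl
      obtain ⟨U, hU, hxU, hle⟩ := exists_isAffineOpen_mem_and_subset (X := X) (x := b x)
        (U := (⟨(Set.range i)ᶜ, hopen⟩ : X.Opens)) hx
      refine ⟨⟨U, hU⟩, 1, fun _ => 1, hxU, ?_, ?_⟩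
      · refine Synt92.CubeBase.acyc_of_isWeaklyRegular _ ?_
        rw [List.ofFn_succ, List.ofFn_zero, RingTheory.Sequence.isWeaklyRegular_singleton_iff]
        exact fun _ _ h => by simpa using h
      · rw [Set.range_const, Ideal.span_singleton_one, Scheme.Hom.ker_apply]
        have : i ⁻¹ᵁ U = ⊥ := by
          ext y
          exact ⟨fun hy => (hle hy ⟨y, rfl⟩).elim, fun hy => hy.elim⟩
        haveI : Subsingleton Γ(Y, i ⁻¹ᵁ U) := by rw [this]; infer_instance
        exact eq_top_iff.mpr fun r _ => Subsingleton.elim _ _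
  obtain ⟨j, D, hD, hDU, e, hxD, he⟩ := BlowSmooth.exists_chart hb x hxU a hI
  refine ⟨D, U.1, hDU, hD, U.2, hxD, ?_⟩
  cases c with
  | zero => exact j.elim0
  | succ m => exact qp_chart a j ha _ e fun r => he r

end Groth.Agent.H26.BlowPerfect
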