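import Mathlib.RingTheory.Regular.RegularSequence
import Mathlib.RingTheory.AdicCompletion.Basic
import Mathlib.RingTheory.Finiteness.Ideal
import Mathlib.RingTheory.Nakayama

/-!
# Relations of weakly regular sequences and vanishing of first Koszul homology
-/

universe u v

open Pointwise RingTheory.Sequence

namespace Groth.Agent.H26.Triv

variable {A : Type u} [CommRing A] {M : Type v} [AddCommGroup M] [Module A M]

/-- a family is a combination of the trivial relations of `f` -/
def IsTriv {n : ℕ} (f : Fin n → A) (m : Fin n → M) : Prop :=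
  ∃ a : Fin n → Fin n → M, ∀ i, m i = ∑ j, f j • (a i j - a j i)

theorem IsTriv.sum_eq_zero {n : ℕ} {f : Fin n → A} {m : Fin n → M} (h : IsTriv f m) :
    ∑ i, f i • m i = 0 := by
  obtain ⟨a, ha⟩ := h
  simp only [ha, smul_sub, Finset.sum_sub_distrib, Finset.smul_sum]
  rw [sub_eq_zero, Finset.sum_comm]
  exact Finset.sum_congr rfl fun i _ => Finset.sum_congr rfl fun j _ => smul_comm _ _ _

theorem mem_span_range {n : ℕ} {f : Fin n → A} {m : Fin n → M} (h : IsTriv f m) (i : Fin n) :
    m i ∈ Ideal.span (Set.range f) • (⊤ : Submodule A M) := by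
  obtain ⟨a, ha⟩ := h
  rw [ha]
  exact Submodule.sum_mem _ fun j _ => Submodule.smul_mem_smul (Ideal.subset_span ⟨j, rfl⟩) trivial

theorem ofList_ofFn {n : ℕ} (f : Fin n → A) : Ideal.ofList (List.ofFn f) = Ideal.span (Set.range f) :=
  congrArg Ideal.span (Set.ext fun a => List.mem_ofFn)

theorem mem_span_smul_top_iff {n : ℕ} (f : Fin n → A) (x : M) :
    x ∈ Ideal.span (Set.range f) • (⊤ : Submodule A M) ↔ ∃ m : Fin n → M, ∑ i, f i • m i = x := by
  constructor
  · intro h
    refine Submodule.smul_induction_on h (fun r hr m _ => ?_) ?_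
    · obtain ⟨c, rfl⟩ := Submodule.mem_span_range_iff_exists_fun A |>.mp hr
      exact ⟨fun i => c i • m, by
        rw [Finset.sum_smul]
        exact Finset.sum_congr rfl fun i _ => by rw [smul_comm, smul_assoc]⟩
    · rintro a b ⟨m, rfl⟩ ⟨k, rfl⟩
      exact ⟨m + k, by simp [Finset.sum_add_distrib]⟩
  · rintro ⟨m, rfl⟩
    exact Submodule.sum_mem _ fun i _ =>
      Submodule.smul_mem_smul (Ideal.subset_span ⟨i, rfl⟩) trivial

/-- trivial relations as the range of a linear map -/
def triv {n : ℕ} (f : Fin n → A) : Submodule A (Fin n → M) where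
  carrier := {m | IsTriv f m}
  add_mem' := by
    rintro m k ⟨a, ha⟩ ⟨b, hb⟩
    exact ⟨a + b, fun i => by
      simp only [Pi.add_apply, ha, hb, ← Finset.sum_add_distrib, ← smul_add]
      exact Finset.sum_congr rfl fun j _ => congrArg _ (by abel)⟩
  zero_mem' := ⟨0, fun i => by simp⟩
  smul_mem' := by
    rintro c m ⟨a, ha⟩
    exact ⟨c • a, fun i => by
      simp only [Pi.smul_apply, ha, Finset.smul_sum, ← smul_sub]
      exact Finset.sum_congr rfl fun j _ => smul_comm _ _ _⟩

theorem isTriv_generator {n : ℕ} (f : Fin n → A) (i j : Fin n) (x : M) :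
    IsTriv f (f j • (Pi.single i x : Fin n → M) - f i • (Pi.single j x : Fin n → M)) := by
  classical
  refine ⟨Pi.single i (Pi.single j x), fun k => ?_⟩
  simp only [smul_sub, Finset.sum_sub_distrib, Pi.sub_apply, Pi.smul_apply, Pi.single_apply,
    ite_apply, Pi.zero_apply, smul_ite, smul_zero]
  rcases eq_or_ne k i with rfl | hki <;> rcases eq_or_ne k j with rfl | hkj <;>
    simp_all [Finset.sum_ite_eq']

/-- Descent of a divisibility condition through a finite power of a separated module. -/
theorem le_of_le_sup_smul (I : Ideal A) {f : A} (hf : f ∈ I)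
    (hsep : ∀ (N : Submodule A M) (N' : Submodule A N), IsHausdorff I (N ⧸ N')) :
    ∀ (n : ℕ) (N' N : Submodule A (Fin n → M)), N' ≤ N →
      (∀ x ∈ N, ∃ y' ∈ N', ∃ y ∈ N, x = y' + f • y) → N ≤ N' := by
  intro n
  induction n with
  | zero => intro N' N _ _ x _; rw [Subsingleton.elim x 0]; exact N'.zero_mem
  | succ n ih =>
    intro N' N hle h x hx
    let π : (Fin (n + 1) → M) →ₗ[A] M := LinearMap.proj 0
    have hπ : ∀ z ∈ N, π z ∈ N'.map π := by
      intro z hz
      let P' : Submodule A (N.map π) := (N'.map π).comap (N.map π).subtype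
      have hk : ∀ (k : ℕ) (q : N.map π ⧸ P'), ∃ q', q = f ^ k • q' := by
        intro k
        induction k with
        | zero => exact fun q => ⟨q, by simp⟩
        | succ k ihk =>
          intro q
          obtain ⟨q', rfl⟩ := ihk q
          obtain ⟨⟨_, z', hz', rfl⟩, rfl⟩ := Submodule.Quotient.mk_surjective _ q'
          obtain ⟨y', hy', y, hy, rfl⟩ := h z' hz'
          refine ⟨Submodule.Quotient.mk ⟨π y, y, hy, rfl⟩, ?_⟩
          rw [pow_succ, mul_smul]
          congr 1
          rw [← Submodule.Quotient.mk_smul, Submodule.Quotient.eq]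
          exact ⟨y', hy', by simp [map_add, map_smul]⟩
      have h0 : (Submodule.Quotient.mk ⟨π z, z, hz, rfl⟩ : N.map π ⧸ P') = 0 :=
        (hsep (N.map π) P').haus _ fun k => by
          obtain ⟨q', hq'⟩ := hk k (Submodule.Quotient.mk ⟨π z, z, hz, rfl⟩)
          rw [SModEq.zero, hq']
          exact Submodule.smul_mem_smul (Ideal.pow_mem_pow hf k) trivial
      exact (Submodule.Quotient.mk_eq_zero P').mp h0
    let j : (Fin n → M) →ₗ[A] (Fin (n + 1) → M) :=
      { toFun := fun v => Fin.cons 0 v
        map_add' := fun a b => by ext i; refine Fin.cases ?_ ?_ i <;> simp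
        map_smul' := fun a b => by ext i; refine Fin.cases ?_ ?_ i <;> simp }
    have hsplit : ∀ z ∈ N, ∃ y' ∈ N', ∃ w ∈ N.comap j, z = y' + j w := by
      intro z hz
      obtain ⟨y', hy', hy0⟩ := hπ z hz
      have he : z - y' = j (Fin.tail (z - y')) := by
        ext i
        refine Fin.cases ?_ ?_ i
        · have : y' 0 = z 0 := hy0
          simp [j, this]
        · intro i; simp [j, Fin.tail]
      refine ⟨y', hy', Fin.tail (z - y'), ?_, by rw [← he]; abel⟩
      show j _ ∈ N
      rw [← he]
      exact N.sub_mem hz (hle hy')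
    obtain ⟨y', hy', w, hw, rfl⟩ := hsplit x hx
    refine N'.add_mem hy' (ih (N'.comap j) (N.comap j) (Submodule.comap_mono hle) ?_ hw)
    intro v hv
    obtain ⟨z', hz', z, hz, he⟩ := h (j v) hv
    obtain ⟨z'', hz'', v₁, hv₁, rfl⟩ := hsplit z hz
    refine ⟨v - f • v₁, ?_, v₁, hv₁, by abel⟩
    show j (v - f • v₁) ∈ N'
    rw [map_sub, map_smul, he, smul_add]
    rw [show z' + (f • z'' + f • j v₁) - f • j v₁ = z' + f • z'' by abel]
    exact N'.add_mem hz' (N'.smul_mem f hz'')

/-- Vanishing of first Koszul homology gives regularity over separated modules. -/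
theorem regular_of_triv (I : Ideal A)
    (hsep : ∀ (N : Submodule A M) (N' : Submodule A N), IsHausdorff I (N ⧸ N')) :
    ∀ (n : ℕ) (f : Fin n → A), (∀ i, f i ∈ I) →
      (∀ m : Fin n → M, ∑ i, f i • m i = 0 → IsTriv f m) →
      IsWeaklyRegular M (List.ofFn f) := by
  intro n
  induction n with
  | zero => intro f _ _; rw [List.ofFn_zero]; exact .nil A M
  | succ n ih =>
    intro f hf h
    let f' : Fin n → A := fun i => f i.castSucc
    rw [List.ofFn_succ', List.concat_eq_append, isWeaklyRegular_append_iff,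
      isWeaklyRegular_singleton_iff]
    refine ⟨ih f' (fun i => hf _) ?_, ?_⟩
    · let R : Submodule A (Fin n → M) := LinearMap.ker (∑ i, f' i • (LinearMap.proj i : (Fin n → M) →ₗ[A] M))
      have hR : ∀ m, m ∈ R ↔ ∑ i, f' i • m i = 0 := fun m => by simp [R]
      intro m hm
      refine le_of_le_sup_smul I (hf (Fin.last n)) hsep n (triv f') R
        (fun k hk => (hR k).mpr (IsTriv.sum_eq_zero hk)) ?_ ((hR m).mpr hm)
      intro k hk
      obtain ⟨a, ha⟩ := h (Fin.snoc k 0) (by
        rw [Fin.sum_univ_castSucc]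
        simpa using (hR k).mp hk)
      let c : Fin n → M := fun i => a i.castSucc (Fin.last n) - a (Fin.last n) i.castSucc
      refine ⟨fun i => ∑ j, f' j • (a i.castSucc j.castSucc - a j.castSucc i.castSucc),
        ⟨fun i j => a i.castSucc j.castSucc, fun i => rfl⟩, c, (hR c).mpr ?_, ?_⟩
      · have hL := ha (Fin.last n)
        rw [Fin.snoc_last, Fin.sum_univ_castSucc, sub_self, smul_zero, add_zero] at hL
        rw [← neg_eq_zero, ← Finset.sum_neg_distrib]
        exact (Finset.sum_congr rfl fun i _ => by rw [← smul_neg, neg_sub]).trans hL.symm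
      · ext i
        have hi := ha i.castSucc
        rw [Fin.snoc_castSucc, Fin.sum_univ_castSucc] at hi
        exact hi
    · rw [isSMulRegular_quotient_iff_mem_of_smul_mem]
      intro x hx
      rw [ofList_ofFn, mem_span_smul_top_iff] at hx
      obtain ⟨m, hm⟩ := hx
      rw [ofList_ofFn, mem_span_smul_top_iff]
      obtain ⟨a, ha⟩ := h (Fin.snoc (fun i => -m i) x) (by
        rw [Fin.sum_univ_castSucc]
        simp only [Fin.snoc_castSucc, Fin.snoc_last, smul_neg, Finset.sum_neg_distrib, hm,
          neg_add_cancel])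
      have hL := ha (Fin.last n)
      rw [Fin.snoc_last, Fin.sum_univ_castSucc, sub_self, smul_zero, add_zero] at hL
      exact ⟨_, hL.symm⟩

/-- Every relation of a weakly regular sequence is trivial. -/
theorem triv_of_regular :
    ∀ (n : ℕ) (f : Fin n → A), IsWeaklyRegular M (List.ofFn f) →
      ∀ m : Fin n → M, ∑ i, f i • m i = 0 → IsTriv f m := by
  intro n
  induction n with
  | zero => intro f _ m _; exact ⟨0, fun i => i.elim0⟩
  | succ n ih =>
    intro f hreg m hm
    let f' : Fin n → A := fun i => f i.castSucc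
    rw [List.ofFn_succ', List.concat_eq_append, isWeaklyRegular_append_iff,
      isWeaklyRegular_singleton_iff, isSMulRegular_quotient_iff_mem_of_smul_mem] at hreg
    rw [Fin.sum_univ_castSucc] at hm
    have hL : f (Fin.last n) • m (Fin.last n) ∈ Ideal.ofList (List.ofFn f') • (⊤ : Submodule A M) := by
      rw [eq_neg_of_add_eq_zero_right hm, ofList_ofFn, mem_span_smul_top_iff]
      exact ⟨fun i => -m i.castSucc, by simp [f', smul_neg]⟩
    have := hreg.2 _ hL
    rw [ofList_ofFn, mem_span_smul_top_iff] at this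
    obtain ⟨c, hc⟩ := this
    obtain ⟨b, hb⟩ := ih f' hreg.1 (fun i => m i.castSucc + f (Fin.last n) • c i) (by
      simp only [smul_add, Finset.sum_add_distrib, smul_comm (f' _) (f (Fin.last n)),
        ← Finset.smul_sum]
      rw [hc]
      exact hm)
    refine ⟨Fin.snoc (fun i => Fin.snoc (b i) 0) (Fin.snoc c 0), fun i => ?_⟩
    refine Fin.lastCases ?_ (fun i => ?_) i
    · rw [Fin.sum_univ_castSucc]
      simp only [Fin.snoc_last, Fin.snoc_castSucc, sub_zero, sub_self, smul_zero, add_zero]
      exact hc.symm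
    · rw [Fin.sum_univ_castSucc]
      simp only [Fin.snoc_last, Fin.snoc_castSucc, zero_sub, smul_neg]
      have := hb i
      rw [eq_add_neg_iff_add_eq]
      exact this

end Groth.Agent.H26.Triv
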