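import Groth.Agent.H26.H1Quasi
import Groth.Agent.Lib.Synt92.CubeBase
import Groth.Agent.Lib.Synt92.KoszulH1
import Groth.Prelude.Def_RegImm

/-!
# The implications between the four kinds of regular sequences
-/

universe u

namespace Groth.Agent.H26.RegKinds

open Groth.Agent.Lib.Synt92

variable {A : Type u} [CommRing A]

theorem koszul_of_regular (rs : List A) (h : RegImm.Kind.regular.Seq A rs) :
    RegImm.Kind.koszul.Seq A rs := by
  show LCI.IsKoszulRegularSeq A rs
  rw [← List.ofFn_get rs]
  refine CubeBase.isKoszulRegularSeq_of_acyc _ (CubeBase.acyc_of_isWeaklyRegular _ ?_)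
  rw [List.ofFn_get]
  exact (show RingTheory.Sequence.IsRegular A rs from h).toIsWeaklyRegular

theorem h1_of_koszul (rs : List A) (h : RegImm.Kind.koszul.Seq A rs) :
    RegImm.Kind.h1.Seq A rs := by
  show CAlgX.IsH1Regular rs.get
  rw [H1Quasi.isH1Regular_iff]
  intro a ha
  have h' : LCI.IsKoszulRegularSeq A (List.ofFn rs.get) := by rw [List.ofFn_get]; exact h
  exact KoszulH1.isTriv_of_acyc ((CubeBase.isKoszulRegularSeq_iff _).mp h') a
    (by simpa [mul_comm] using ha)

end Groth.Agent.H26.RegKinds
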