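import Groth.Agent.H26.BlowChart
import Groth.Agent.H26.H1Quasi
import Groth.Agent.H26.RegKinds
import Groth.Agent.Lib.BlowUpExists.Proper
import Groth.Agent.Lib.Synt92.KRImm
import Groth.Prelude.Def_Mor2
import Mathlib.AlgebraicGeometry.Morphisms.Smooth

/-!
# The exceptional divisor of the blow-up in a quasi-regular centre is smooth over the centre
-/

universe u

open CategoryTheory CategoryTheory.Limits AlgebraicGeometry Opposite
open Groth.Agent.Lib

set_option maxHeartbeats 1000000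

namespace Groth.Agent.H26.BlowSmooth

open BlowUpExists

variable {X X' : Scheme.{u}} {I : X.IdealSheafData}

theorem exists_iso_bl {b : X' ⟶ X} (hb : BlowUp.IsBlowUp b I) :
    ∃ e : bl I ≅ X', e.hom ≫ b = blProj I := by
  obtain ⟨h, hh⟩ := (localData I).exists_hom b hb.1
  have hQ : BlowUp.IsEffCartierIdeal (I.comap (blProj I)) := (localData I).Q_proj
  obtain ⟨k, hk, -⟩ := hb.2 (bl I) (blProj I) hQ
  have h1 : h ≫ k = 𝟙 X' := (hb.2 X' b hb.1).unique (by rw [Category.assoc, hk]; exact hh) (Category.id_comp _)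
  have h2 : k ≫ h = 𝟙 (bl I) := (localData I).hom_ext (blProj I) hQ
    ((Category.assoc _ _ _).trans ((congrArg (k ≫ ·) hh).trans hk)) (Category.id_comp _)
  exact ⟨⟨k, h, h2, h1⟩, hk⟩

/-- An affine open of the blow-up which is a chart. -/
theorem exists_chart {b : X' ⟶ X} (hb : BlowUp.IsBlowUp b I) (x : X') {U : X.affineOpens}
    (hxU : b x ∈ U.1) {c : ℕ} (a : Fin c → Γ(X, U.1)) (hI : I.ideal U = Ideal.span (Set.range a)) :
    ∃ (j : Fin c) (D : X'.Opens) (_ : IsAffineOpen D) (hDU : D ≤ b ⁻¹ᵁ U.1)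
      (e : BlowUp.affineAlgebra Γ(X, U.1) (Ideal.span (Set.range a)) (a j) ≃+* Γ(X', D)),
      x ∈ D ∧ ∀ r, e (algebraMap Γ(X, U.1) _ r) = b.appLE U.1 D hDU r := by
  obtain ⟨φ, hφ⟩ := exists_iso_bl hb
  obtain ⟨y, rfl⟩ : ∃ y, φ.hom y = x := (φ.hom.homeomorph.surjective x)
  have hy : blProj I y ∈ U.1 := by
    rw [← hφ]; exact hxU
  obtain ⟨a₀, ha₀, z, hz⟩ := exists_mem_range_incl y hy (s := Set.range a) hI.symm
  obtain ⟨j, rfl⟩ := ha₀
  let i : Idx I := ⟨U, a j, hI.ge (Ideal.subset_span ⟨j, rfl⟩)⟩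
  let k : chart i ⟶ X' := incl i ≫ φ.hom
  have hk : k ≫ b = chartMap i := by
    show (incl i ≫ φ.hom) ≫ b = _
    rw [Category.assoc, hφ, incl_proj]
  let D := k.opensRange
  have hD : IsAffineOpen D := isAffineOpen_opensRange k
  have hDU : D ≤ b ⁻¹ᵁ U.1 := by
    rintro _ ⟨w, rfl⟩
    show b (k w) ∈ U.1
    rw [← Scheme.Hom.comp_apply, hk]
    exact top_le_chartMap i (x := w) trivial
  have hkD : (⊤ : (chart i).Opens) ≤ k ⁻¹ᵁ D := fun w _ => ⟨w, rfl⟩
  haveI : IsIso (k.appLE D ⊤ hkD) := by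
    have h1 : k.appLE D ⊤ hkD = k.appLE D (k ⁻¹ᵁ D) le_rfl ≫
        (chart i).presheaf.map (homOfLE hkD).op := (Scheme.Hom.appLE_map _ _ _).symm
    rw [h1]
    haveI : IsIso (k.appLE D (k ⁻¹ᵁ D) le_rfl) := by
      rw [← Scheme.Hom.app_eq_appLE]
      exact k.isIso_app D le_rfl
    haveI : IsIso (homOfLE hkD) :=
      ⟨homOfLE le_top, Subsingleton.elim _ _, Subsingleton.elim _ _⟩
    infer_instance
  let ψ : chartRing i ≅ Γ(X', D) :=
    (Scheme.ΓSpecIso (chartRing i)).symm ≪≫ (asIso (k.appLE D ⊤ hkD)).symm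
  have key : chartRingMap i ≫ ψ.hom = b.appLE U.1 D hDU := by
    have h1 : b.appLE U.1 D hDU ≫ k.appLE D ⊤ hkD = chartRingMap i ≫ (Scheme.ΓSpecIso _).inv := by
      rw [Scheme.Hom.appLE_comp_appLE, ← appLE_chartMap]
      simp only [hk]; rfl
    show chartRingMap i ≫ (Scheme.ΓSpecIso (chartRing i)).inv ≫ inv (k.appLE D ⊤ hkD) = _
    rw [← Category.assoc, ← h1, Category.assoc, IsIso.hom_inv_id, Category.comp_id]
  have halg : BlowUp.affineAlgebra Γ(X, U.1) (Ideal.span (Set.range a)) (a j) =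
      BlowUp.affineAlgebra Γ(X, U.1) (I.ideal U) (a j) := by rw [hI]
  refine ⟨j, D, hD, hDU, (Subalgebra.equivOfEq _ _ halg).toRingEquiv.trans ψ.commRingCatIsoToRingEquiv,
    ⟨z, ?_⟩, fun r => ?_⟩
  · show φ.hom (incl i z) = φ.hom y
    rw [show incl i z = y from hz]
  · rw [← key]
    rfl

/-- The exceptional divisor is smooth over a quasi-regular centre. -/
theorem smooth {Y : Scheme.{u}} (i : Y ⟶ X) [IsClosedImmersion i]
    (hq : ∀ z : Y, ∃ (U : X.affineOpens) (c : ℕ) (a : Fin c → Γ(X, U.1)), i z ∈ U.1 ∧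
      CAlgX.IsQuasiRegular a ∧ i.ker.ideal U = Ideal.span (Set.range a))
    (b : X' ⟶ X) (hb : BlowUp.IsBlowUp b i.ker) (g : (BlowUp.exceptional b i.ker).subscheme ⟶ Y)
    (hg : g ≫ i = (BlowUp.exceptional b i.ker).subschemeι ≫ b) : Smooth g := by
  rw [HasRingHomProperty.iff_exists_appLE (P := @Smooth)
    (RingHom.Smooth.stableUnderComposition.stableUnderCompositionWithLocalizationAway
      RingHom.Smooth.holdsForLocalizationAway).left]
  intro y
  let J := BlowUp.exceptional b i.ker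
  let ι := J.subschemeι
  obtain ⟨U, c, a, hyU, ha, hI⟩ := hq (g y)
  have hxU : b (ι y) ∈ U.1 := by
    rw [← Scheme.Hom.comp_apply, ← hg, Scheme.Hom.comp_apply]
    exact hyU
  obtain ⟨j, D, hD, hDU, e, hyD, he⟩ := exists_chart hb (ι y) hxU a hI
  have hV : IsAffineOpen (i ⁻¹ᵁ U.1) := U.2.preimage i
  have hW : IsAffineOpen (ι ⁻¹ᵁ D) := hD.preimage ι
  have hle : ι ⁻¹ᵁ D ≤ g ⁻¹ᵁ (i ⁻¹ᵁ U.1) := fun w hw => by
    show i (g w) ∈ U.1
    rw [← Scheme.Hom.comp_apply, hg, Scheme.Hom.comp_apply]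
    exact hDU hw
  refine ⟨⟨_, hV⟩, ⟨_, hW⟩, hyD, hle, ?_⟩
  refine BlowChart.smooth (a := a) (j := j) ha (b.appLE U.1 D hDU).hom e he (i.app U.1).hom
    (i.app_surjective U.1 U.2) ?_ (ι.app D).hom (ι.app_surjective D hD) ?_
    (g.appLE _ _ hle).hom fun x => ?_
  · rw [← hI, Scheme.Hom.ker_apply]
  · show RingHom.ker (J.subschemeι.app D).hom = _
    rw [J.ker_subschemeι_app ⟨D, hD⟩, ← hI]
    exact Ideal.Comap.ideal_comap b i.ker U ⟨D, hD⟩ hDU
  · have h1 : i.app U.1 ≫ g.appLE (i ⁻¹ᵁ U.1) (ι ⁻¹ᵁ D) hle = b.appLE U.1 D hDU ≫ ι.app D := by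
      rw [Scheme.Hom.app_eq_appLE, Scheme.Hom.app_eq_appLE, Scheme.Hom.appLE_comp_appLE,
        Scheme.Hom.appLE_comp_appLE]
      simp only [hg, ι, J]
    exact congrArg (fun f => f.hom x) h1

end Groth.Agent.H26.BlowSmooth
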