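import Groth.Agent.H26.CIQuotient
import Groth.Agent.Lib.Synt92.CIPres

/-!
# Complete intersection local rings versus complete intersections over a field
-/

universe u

namespace Groth.Agent.H26.CIBridge

variable (k : Type u) [Field k] (S : Type u) [CommRing S] [IsLocalRing S] [Algebra k S]
  [Algebra.EssFiniteType k S]

/-- For local algebras essentially of finite type over a field the two notions agree. -/
theorem isCompleteIntersection_iff_isCIOver :
    Pi1.IsCompleteIntersection S ↔ Synt.IsCIOver k S := by
  obtain ⟨n, Q, hQ, π, hπ⟩ := Groth.Agent.Lib.Synt92.CIPres.exists_presentation (k := k) S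
  haveI : IsRegularLocalRing (Localization.AtPrime Q) := inferInstance
  rw [Groth.Agent.Lib.Synt92.CIPres.isCIOver_iff S _ π hπ]
  letI := π.toRingHom.toAlgebra
  rw [(Groth.Agent.H26.CIQuotient.isCompleteIntersection_iff_of_surjective
    (R := Localization.AtPrime Q) (A := S) hπ).1]
  exact ⟨fun ⟨rs, h, e⟩ => ⟨rs, h, e.symm⟩, fun ⟨rs, h, e⟩ => ⟨rs, h, e.symm⟩⟩

end Groth.Agent.H26.CIBridge
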