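import Groth.Agent.H26.CIFibreChart
import Groth.Agent.Lib.Cyc.SmoothReg
import Mathlib.RingTheory.MvPolynomial.Homogeneous
import Mathlib.RingTheory.RegularLocalRing.Polynomial
import Mathlib.RingTheory.Localization.LocalizationLocalization
import Mathlib.RingTheory.Localization.Away.Basic
import Mathlib.RingTheory.RingHom.StandardSmooth

/-!
# Regularity of a projective cone away from the vertex from its affine charts
-/

universe u

open MvPolynomial

set_option maxHeartbeats 800000
set_option linter.all false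

noncomputable section

namespace Groth.Agent.H26.CIChart

theorem aeval_mul_of_isHomogeneous {σ k R : Type*} [CommRing k] [CommRing R] [Algebra k R]
    {f : MvPolynomial σ k} {d : ℕ} (hf : f.IsHomogeneous d) (t : R) (v : σ → R) :
    aeval (fun i => t * v i) f = t ^ d * aeval v f := by
  rw [aeval_def, aeval_def, eval₂_eq, eval₂_eq, Finset.mul_sum]
  refine Finset.sum_congr rfl fun e he => ?_
  have hdeg : e.degree = d := by
    rw [Finsupp.degree_eq_weight_one]; exact hf (mem_support_iff.mp he)
  rw [← hdeg]
  simp only [mul_pow, Finset.prod_mul_distrib, Finset.prod_pow_eq_pow_sum, Finsupp.degree]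
  exact mul_left_comm _ _ _

/-- A localisation of a regular ring is regular. -/
theorem isRegularRing_localization {R : Type u} [CommRing R] [IsRegularRing R] (M : Submonoid R) :
    IsRegularRing (Localization M) := by
  haveI : IsNoetherianRing (Localization M) := IsLocalization.isNoetherianRing M _ inferInstance
  rw [isRegularRing_iff]
  intro p hp
  haveI : (p.comap (algebraMap R (Localization M))).IsPrime := Ideal.IsPrime.comap _
  haveI := IsRegularRing.isRegularLocalRing_localization (p.comap (algebraMap R (Localization M)))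
  exact IsRegularLocalRing.of_ringEquiv
    (IsLocalization.localizationLocalizationAtPrimeIsoLocalization M p).toRingEquiv

/-- Regularity of a local ring from that of an open neighbourhood. -/
theorem regular_atPrime_of_away {A : Type u} [CommRing A] (g : A) [IsRegularRing (Localization.Away g)]
    (q : Ideal A) [hq : q.IsPrime] (hg : g ∉ q) : IsRegularLocalRing (Localization.AtPrime q) := by
  have hd : Disjoint (Submonoid.powers g : Set A) (q : Set A) := by
    rwa [Ideal.disjoint_powers_iff_notMem_of_isPrime]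
  let P := q.map (algebraMap A (Localization.Away g))
  haveI : P.IsPrime := IsLocalization.isPrime_of_isPrime_disjoint (Submonoid.powers g) _ q hq hd
  have hP : P.comap (algebraMap A (Localization (Submonoid.powers g))) = q :=
    IsLocalization.under_map_of_isPrime_disjoint (Submonoid.powers g) _ hq hd
  haveI := IsRegularRing.isRegularLocalRing_localization P
  have h := IsRegularLocalRing.of_ringEquiv
    (IsLocalization.localizationLocalizationAtPrimeIsoLocalization (Submonoid.powers g) P).symm.toRingEquiv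
  have key : ∀ (q' : Ideal A) [q'.IsPrime], q' = q → IsRegularLocalRing (Localization.AtPrime q') →
      IsRegularLocalRing (Localization.AtPrime q) := by
    rintro q' _ rfl h'; exact h'
  exact key _ hP h

/-- A ring which is locally standard smooth over a field is regular. -/
theorem isRegularRing_of_cover {k A : Type u} [Field k] [CommRing A] [Algebra k A] [IsNoetherianRing A]
    (h : ∀ q : Ideal A, q.IsPrime → ∃ g ∉ q, Algebra.IsStandardSmooth k (Localization.Away g)) :
    IsRegularRing A := by
  rw [isRegularRing_iff]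
  intro q hq
  obtain ⟨g, hg, hs⟩ := h q hq
  haveI := Groth.Agent.Lib.Cyc.SmoothReg.isRegularRing_of_isStandardSmooth (algebraMap k (Localization.Away g))
    (RingHom.isStandardSmooth_algebraMap.2 hs)
  exact regular_atPrime_of_away g q hg

variable {k : Type u} [Field k] {n : ℕ} (j : Fin (n + 1))

/-- Setting the `j`-th coordinate to one. -/
def deh : MvPolynomial (Fin (n + 1)) k →ₐ[k] MvPolynomial (Fin n) k :=
  aeval (Fin.insertNth (α := fun _ => MvPolynomial (Fin n) k) j 1 X)

theorem deh_X_self : deh j (X j : MvPolynomial (Fin (n + 1)) k) = 1 := by simp [deh]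

theorem deh_X_succAbove (i : Fin n) :
    deh j (X (j.succAbove i) : MvPolynomial (Fin (n + 1)) k) = X i := by simp [deh]

/-- The cone is regular off the hyperplane `x_j = 0` if the chart is regular. -/
theorem regular_of_chart' {ι : Type*} (f : ι → MvPolynomial (Fin (n + 1)) k) (d : ι → ℕ)
    (hf : ∀ i, (f i).IsHomogeneous (d i)) (J : Ideal (MvPolynomial (Fin (n + 1)) k))
    (hJ : J = Ideal.span (Set.range f))
    {C : Type u} [CommRing C] [Algebra k C] [IsRegularRing C] (q : MvPolynomial (Fin n) k →ₐ[k] C)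
    (hq : Function.Surjective q) (hqk : RingHom.ker q = Ideal.span (Set.range (deh j ∘ f)))
    (Q : Ideal (MvPolynomial (Fin (n + 1)) k ⧸ J)) [Q.IsPrime] (hQ : Ideal.Quotient.mk J (X j) ∉ Q) :
    IsRegularLocalRing (Localization.AtPrime Q) := by
  let L := Localization.Away (Polynomial.X : Polynomial C)
  let M := Localization.Away (Ideal.Quotient.mk J (X j))
  let t : L := algebraMap (Polynomial C) L Polynomial.X
  let π : MvPolynomial (Fin n) k →ₐ[k] L :=
    (IsScalarTower.toAlgHom k C L).comp q
  let v : Fin (n + 1) → L := fun i => π (deh j (X i))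
  have hv : aeval v = π.comp (deh j) := MvPolynomial.algHom_ext fun i => by simp [v]
  let φ₀ : MvPolynomial (Fin (n + 1)) k →ₐ[k] L := aeval fun i => t * v i
  have hφJ : ∀ a ∈ J, φ₀ a = 0 := by
    refine fun a ha => RingHom.mem_ker.mp ((hJ.trans_le (Ideal.span_le.mpr ?_) : J ≤ RingHom.ker φ₀) ha)
    rintro _ ⟨i, rfl⟩
    have h0 : π (deh j (f i)) = 0 := by
      change algebraMap C L (q (deh j (f i))) = 0
      rw [RingHom.mem_ker.mp (hqk.symm ▸ Ideal.subset_span ⟨i, rfl⟩ : deh j (f i) ∈ RingHom.ker q), map_zero]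
    change φ₀ (f i) = 0
    rw [show φ₀ (f i) = t ^ d i * aeval v (f i) from aeval_mul_of_isHomogeneous (hf i) t v, hv,
      AlgHom.comp_apply, h0, mul_zero]
  let φ₁ : (MvPolynomial (Fin (n + 1)) k ⧸ J) →ₐ[k] L := Ideal.Quotient.liftₐ J φ₀ hφJ
  have hφj : φ₁ (Ideal.Quotient.mk J (X j)) = t := by
    change φ₀ (X j) = t
    simp [φ₀, v, deh_X_self]
  let φ : M →ₐ[k] L := IsLocalization.liftAlgHom (M := Submonoid.powers (Ideal.Quotient.mk J (X j)))
    (f := φ₁) fun y => by
      obtain ⟨_, m, rfl⟩ := y
      simp only [map_pow, hφj]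
      exact (IsLocalization.Away.algebraMap_isUnit (Polynomial.X : Polynomial C)).pow m
  let s : M := algebraMap _ M (Ideal.Quotient.mk J (X j))
  let w : M := IsLocalization.Away.invSelf (Ideal.Quotient.mk J (X j))
  have hsw : s * w = 1 := IsLocalization.Away.mul_invSelf _
  let x : Fin (n + 1) → M := fun i => algebraMap _ M (Ideal.Quotient.mk J (X i))
  have hx : aeval x = (IsScalarTower.toAlgHom k (MvPolynomial (Fin (n + 1)) k ⧸ J) M).comp
      (Ideal.Quotient.mkₐ k J) := MvPolynomial.algHom_ext fun i => by simp [x]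
  let ψ₀ : MvPolynomial (Fin n) k →ₐ[k] M := aeval fun i => w * x (j.succAbove i)
  have hψ : ψ₀.comp (deh j) = aeval fun i => w * x i := by
    refine MvPolynomial.algHom_ext fun i => ?_
    rw [AlgHom.comp_apply, aeval_X]
    rcases Fin.eq_self_or_eq_succAbove j i with rfl | ⟨i, rfl⟩
    · rw [deh_X_self, map_one, mul_comm]; exact hsw.symm
    · simp [deh_X_succAbove, ψ₀]
  have hψK : RingHom.ker q ≤ RingHom.ker ψ₀ := by
    rw [hqk, Ideal.span_le]
    rintro _ ⟨i, rfl⟩
    change (ψ₀.comp (deh j)) (f i) = 0
    have h0 : Ideal.Quotient.mk J (f i) = 0 :=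
      Ideal.Quotient.eq_zero_iff_mem.mpr (hJ.ge (Ideal.subset_span ⟨i, rfl⟩))
    rw [hψ, aeval_mul_of_isHomogeneous (hf i), hx, AlgHom.comp_apply]
    change w ^ d i * algebraMap _ M (Ideal.Quotient.mk J (f i)) = 0
    rw [h0, map_zero, mul_zero]
  let ψ₁ : C →ₐ[k] M := AlgHom.liftOfSurjective q hq ψ₀ hψK
  have hψ₁ : ∀ a, ψ₁ (q a) = ψ₀ a := fun a => AlgHom.liftOfSurjective_apply q hq _ hψK a
  let ψ₂ : Polynomial C →ₐ[k] M := Polynomial.eval₂AlgHom ψ₁ s fun _ => Commute.all _ _
  have hψX : ψ₂ Polynomial.X = s := Polynomial.eval₂_X _ _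
  have hψC : ∀ c, ψ₂ (algebraMap C (Polynomial C) c) = ψ₁ c := fun c => Polynomial.eval₂_C _ _
  let ψ : L →ₐ[k] M := IsLocalization.liftAlgHom (M := Submonoid.powers (Polynomial.X : Polynomial C))
    (f := ψ₂) fun y => by
      obtain ⟨_, m, rfl⟩ := y
      simp only [map_pow, hψX]
      exact (IsLocalization.Away.algebraMap_isUnit (Ideal.Quotient.mk J (X j))).pow m
  have hφalg : ∀ a, φ (algebraMap _ M a) = φ₁ a := fun a => by
    simp [φ, IsLocalization.liftAlgHom_apply, IsLocalization.lift_eq]
  have hψalg : ∀ a, ψ (algebraMap _ L a) = ψ₂ a := fun a => by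
    simp [ψ, IsLocalization.liftAlgHom_apply, IsLocalization.lift_eq]
  have hφx : ∀ i, φ (x i) = t * v i := fun i => by
    rw [show φ (x i) = φ₁ _ from hφalg _]
    exact aeval_X _ i
  have hφs : φ s = t := (hφalg _).trans hφj
  have hψπ : ∀ a, ψ (π a) = ψ₀ a := fun a => by
    change ψ (algebraMap C L (q a)) = _
    rw [IsScalarTower.algebraMap_apply C (Polynomial C) L, hψalg, hψC, hψ₁]
  have h1 : φ.comp ψ = AlgHom.id k L := by
    refine IsLocalization.algHom_ext (Submonoid.powers (Polynomial.X : Polynomial C)) ?_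
    refine Polynomial.algHom_ext' ?_ ?_
    · refine (AlgHom.cancel_right hq).mp (MvPolynomial.algHom_ext fun i => ?_)
      change φ (ψ (algebraMap (Polynomial C) L (algebraMap C (Polynomial C) (q (X i))))) =
        algebraMap (Polynomial C) L (algebraMap C (Polynomial C) (q (X i)))
      rw [hψalg, hψC, hψ₁,
        show ψ₀ (X i) = w * x (j.succAbove i) from aeval_X _ i, map_mul, hφx, ← mul_assoc, ← hφs,
        ← map_mul, mul_comm w, hsw, map_one, one_mul, ← IsScalarTower.algebraMap_apply]
      simp [v, deh_X_succAbove, π]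
    · change φ (ψ (algebraMap (Polynomial C) L Polynomial.X)) = algebraMap (Polynomial C) L Polynomial.X
      rw [hψalg, hψX, hφs]
  have h2 : ψ.comp φ = AlgHom.id k M := by
    refine IsLocalization.algHom_ext (Submonoid.powers (Ideal.Quotient.mk J (X j))) ?_
    refine Ideal.Quotient.algHom_ext k (MvPolynomial.algHom_ext fun i => ?_)
    change ψ (φ (x i)) = x i
    rw [hφx, map_mul, show ψ t = s from (hψalg _).trans hψX, hψπ, ← AlgHom.comp_apply, hψ, aeval_X,
      ← mul_assoc, hsw, one_mul]
  haveI : IsRegularRing L := isRegularRing_localization _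
  haveI : IsRegularRing M := IsRegularRing.of_ringEquiv (AlgEquiv.ofAlgHom ψ φ h2 h1).toRingEquiv
  exact regular_atPrime_of_away _ Q hQ

/-- The cone is regular off the hyperplane `x_j = 0` if the chart is regular. -/
theorem regular_of_chart {ι : Type*} (f : ι → MvPolynomial (Fin (n + 1)) k) (d : ι → ℕ)
    (hf : ∀ i, (f i).IsHomogeneous (d i)) (J : Ideal (MvPolynomial (Fin (n + 1)) k))
    (hJ : J = Ideal.span (Set.range f))
    (hC : IsRegularRing (MvPolynomial (Fin n) k ⧸ Ideal.span (Set.range (deh j ∘ f))))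
    (Q : Ideal (MvPolynomial (Fin (n + 1)) k ⧸ J)) [Q.IsPrime] (hQ : Ideal.Quotient.mk J (X j) ∉ Q) :
    IsRegularLocalRing (Localization.AtPrime Q) :=
  haveI := hC
  regular_of_chart' j f d hf J hJ (Ideal.Quotient.mkₐ k _) Ideal.Quotient.mk_surjective
    Ideal.mk_ker Q hQ

end Groth.Agent.H26.CIChart
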