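import Groth.Agent.H26.CIQuotient
import Groth.Agent.H26.CIResidual
import Groth.Agent.Lib.FSAdic.Completion
import Groth.Agent.Lib.Cohen.Presentation
import Groth.Agent.Lib.Goren.Flat
import Groth.Agent.Lib.JacCrit.SmoothLocal
import Mathlib.RingTheory.LocalRing.Length

/-!
# Complete intersections by the first Koszul homology, and flat local maps with regular fibre
-/

universe u

open IsLocalRing RingTheory.Sequence TensorProduct Pointwise

set_option maxHeartbeats 400000

namespace Groth.Agent.H26.CIDefect

open Groth.Agent.Lib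
open CIInvariant (h1 bd mem_bd)

/-- Right exactness of base change, for a submodule. -/
theorem ker_baseChange_mkQ {A B : Type u} [CommRing A] [CommRing B] [Algebra A B] {M : Type u}
    [AddCommGroup M] [Module A M] (D : Submodule A M) :
    LinearMap.ker (D.mkQ.baseChange B) = LinearMap.range (D.subtype.baseChange B) := by
  ext t
  rw [LinearMap.mem_ker, LinearMap.baseChange_eq_ltensor, LinearMap.mem_range]
  exact lTensor_exact B (LinearMap.exact_subtype_mkQ D) D.mkQ_surjective t

/-- The deficiency is unchanged by flat local maps with trivial fibre. -/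
theorem h1_baseChange {A B : Type u} [CommRing A] [CommRing B] [IsLocalRing A] [IsLocalRing B]
    [Algebra A B] [IsLocalHom (algebraMap A B)] [Module.Flat A B]
    (hm : (maximalIdeal A).map (algebraMap A B) = maximalIdeal B) {n : ℕ} (x : Fin n → A) :
    h1 (Fintype.linearCombination B fun i => algebraMap A B (x i)) =
      h1 (Fintype.linearCombination A x) := by
  let g := Fintype.linearCombination A x
  let f := Fintype.linearCombination B fun i => algebraMap A B (x i)
  let β : B ⊗[A] (Fin n → A) ≃ₗ[B] (Fin n → B) := TensorProduct.piScalarRight A B B (Fin n)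
  have hβ : ∀ c v, β (c ⊗ₜ v) = c • fun i => algebraMap A B (v i) := fun c v => by
    funext i
    simp [β, Algebra.smul_def, mul_comm]
  have hfP : ∀ v : Fin n → A, f (fun i => algebraMap A B (v i)) = algebraMap A B (g v) := fun v => by
    simp [f, g, Fintype.linearCombination_apply, map_sum]
  have hfβ : ∀ t, f (β t) = AlgebraTensorModule.rid A B B (g.baseChange B t) := by
    intro t
    induction t using TensorProduct.induction_on with
    | zero => simp
    | tmul c v => rw [hβ, map_smul, hfP]; simp [Algebra.smul_def, mul_comm]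
    | add a b ha hb => simp only [map_add, ha, hb]
  let K := LinearMap.ker g
  let D := (bd g).comap K.subtype
  let ι : B ⊗[A] K →ₗ[B] (Fin n → B) := β.toLinearMap ∘ₗ K.subtype.baseChange B
  have hι : Function.Injective ι :=
    β.injective.comp (Module.Flat.lTensor_preserves_injective_linearMap _ K.subtype_injective)
  have hex : Function.Exact (K.subtype.baseChange B) (g.baseChange B) :=
    Module.Flat.lTensor_exact B (LinearMap.exact_subtype_ker_map g)
  have hrange : LinearMap.range ι = LinearMap.ker f := by
    refine le_antisymm ?_ ?_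
    · rintro _ ⟨t, rfl⟩
      show f (β _) = 0
      rw [hfβ, (hex _).mpr ⟨t, rfl⟩, map_zero]
    · intro v hv
      obtain ⟨t, rfl⟩ := β.surjective v
      rw [LinearMap.mem_ker, hfβ, LinearEquiv.map_eq_zero_iff] at hv
      obtain ⟨s, rfl⟩ := (hex t).mp hv
      exact ⟨s, rfl⟩
  let J : B ⊗[A] D →ₗ[B] (Fin n → B) := ι ∘ₗ D.subtype.baseChange B
  have hJ1 : ∀ (c : B) (d : Fin n → A), d ∈ bd g →
      (c • fun i => algebraMap A B (d i)) ∈ LinearMap.range J := fun c d hd =>
    ⟨c ⊗ₜ ⟨⟨d, CIInvariant.bd_le_ker g hd⟩, hd⟩, hβ c d⟩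
  have hbd : bd f = LinearMap.range J := by
    refine le_antisymm ?_ ?_
    · rw [bd, Submodule.span_le]
      rintro _ ⟨⟨a, b⟩, rfl⟩
      obtain ⟨a, rfl⟩ := β.surjective a
      obtain ⟨b, rfl⟩ := β.surjective b
      show f (β a) • β b - f (β b) • β a ∈ LinearMap.range J
      induction a using TensorProduct.induction_on with
      | zero => simp
      | add a a' ha ha' =>
        simp only [map_add, add_smul, smul_add]
        rw [add_sub_add_comm]
        exact add_mem ha ha'
      | tmul c v =>
        induction b using TensorProduct.induction_on with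
        | zero => simp
        | add b b' hb hb' =>
          simp only [map_add, add_smul, smul_add]
          rw [add_sub_add_comm]
          exact add_mem hb hb'
        | tmul d w =>
          have h := hJ1 (c * d) _ (mem_bd g v w)
          convert h using 1
          funext i
          simp [hβ, hfP, map_smul]
          ring
    · rintro _ ⟨t, rfl⟩
      induction t using TensorProduct.induction_on with
      | zero => simp
      | add a b ha hb => rw [map_add]; exact add_mem ha hb
      | tmul c d =>
        show β (c ⊗ₜ d.1.1) ∈ bd f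
        rw [hβ]
        refine Submodule.smul_mem _ c ?_
        have h := d.2
        generalize hd : (d.1.1 : Fin n → A) = w
        replace h : w ∈ bd g := hd ▸ h
        clear hd
        induction h using Submodule.span_induction with
        | mem y hy =>
          obtain ⟨⟨a, b⟩, rfl⟩ := hy
          have e := mem_bd f (fun i => algebraMap A B (a i)) (fun i => algebraMap A B (b i))
          rw [hfP, hfP] at e
          convert e using 1
          funext i
          simp [g, Algebra.smul_def]
        | zero => simp [← Pi.zero_def]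
        | add a b _ _ ha hb =>
          convert add_mem ha hb using 1
          funext i
          simp
        | smul r a _ ha =>
          convert Submodule.smul_mem _ (algebraMap A B r) ha using 1
          funext i
          simp
  let Θ : B ⊗[A] K →ₗ[B] LinearMap.ker f ⧸ (bd f).comap (LinearMap.ker f).subtype :=
    Submodule.mkQ _ ∘ₗ LinearMap.codRestrict _ ι fun t => hrange.le ⟨t, rfl⟩
  have hΘ : Function.Surjective Θ := by
    intro z
    obtain ⟨⟨z, hz⟩, rfl⟩ := Submodule.mkQ_surjective _ z
    obtain ⟨t, ht⟩ := hrange.ge hz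
    exact ⟨t, congrArg (Submodule.mkQ _) (Subtype.ext ht)⟩
  have hker : LinearMap.ker Θ = LinearMap.ker (D.mkQ.baseChange B) := by
    ext t
    have h1 : t ∈ LinearMap.ker Θ ↔ ι t ∈ bd f := by
      simp only [Θ, LinearMap.mem_ker, LinearMap.comp_apply, Submodule.mkQ_apply,
        Submodule.Quotient.mk_eq_zero, Submodule.mem_comap]
      rfl
    have h2 : t ∈ LinearMap.ker (D.mkQ.baseChange B) ↔ t ∈ LinearMap.range (D.subtype.baseChange B) := by
      rw [ker_baseChange_mkQ]
    rw [h1, h2, hbd]
    exact ⟨fun ⟨s, hs⟩ => ⟨s, hι hs⟩, fun ⟨s, hs⟩ => ⟨s, congrArg ι hs⟩⟩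
  have hsurjD : Function.Surjective (D.mkQ.baseChange B) :=
    LinearMap.lTensor_surjective B (Submodule.mkQ_surjective D)
  show Module.length B _ = Module.length A _
  rw [← (Θ.quotKerEquivOfSurjective hΘ).length_eq, (Submodule.quotEquivOfEq _ _ hker).length_eq,
    ((D.mkQ.baseChange B).quotKerEquivOfSurjective hsurjD).length_eq, IsLocalRing.length_baseChange, hm]
  have : IsSimpleModule B (B ⧸ maximalIdeal B) :=
    isSimpleModule_iff_isCoatom.mpr (IsLocalRing.maximalIdeal.isMaximal B).out
  rw [Module.length_eq_one B (B ⧸ maximalIdeal B), mul_one]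

/-- Splitting off a regular element from the generators. -/
theorem h1_cons {A : Type u} [CommRing A] (y : A) (hy : IsSMulRegular A y) {n : ℕ} (x : Fin n → A) :
    h1 (Fintype.linearCombination A (Fin.cons y x)) =
      h1 (Fintype.linearCombination (A ⧸ Ideal.span {y}) fun i => Ideal.Quotient.mk (Ideal.span {y}) (x i)) := by
  let A' := A ⧸ Ideal.span {y}
  let π : A →+* A' := Ideal.Quotient.mk _
  let g := Fintype.linearCombination A (Fin.cons y x : Fin (n + 1) → A)
  let f := Fintype.linearCombination A' fun i => π (x i)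
  have hg : ∀ w : Fin (n + 1) → A, g w = w 0 * y + ∑ i : Fin n, w i.succ * x i := fun w => by
    simp [g, Fintype.linearCombination_apply, Fin.sum_univ_succ]
  let q : (Fin (n + 1) → A) →ₗ[A] (Fin n → A') :=
    LinearMap.pi fun i => Algebra.linearMap A A' ∘ₗ LinearMap.proj i.succ
  have hq : ∀ w i, q w i = π (w i.succ) := fun w i => rfl
  have hπy : π y = 0 := Ideal.Quotient.eq_zero_iff_mem.mpr (Ideal.mem_span_singleton_self y)
  have hfq : ∀ w, f (q w) = π (g w) := fun w => by
    rw [hg, map_add, map_mul, hπy, mul_zero, zero_add, map_sum]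
    simp [f, Fintype.linearCombination_apply, hq, map_mul]
  have hqsurj : Function.Surjective q := fun v => by
    choose v' hv' using fun i => Ideal.Quotient.mk_surjective (v i)
    exact ⟨Fin.cons 0 v', funext fun i => by rw [hq, Fin.cons_succ]; exact hv' i⟩
  have hqbd : ∀ w ∈ bd g, q w ∈ bd f := by
    intro w hw
    induction hw using Submodule.span_induction with
    | mem z hz =>
      obtain ⟨⟨a, b⟩, rfl⟩ := hz
      have e := mem_bd f (q a) (q b)
      rw [hfq, hfq] at e
      rw [map_sub, map_smul, map_smul]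
      exact e
    | zero => rw [map_zero]; exact zero_mem _
    | add a b _ _ ha hb => rw [map_add]; exact add_mem ha hb
    | smul c a _ ha => rw [map_smul]; exact Submodule.smul_mem _ (π c) ha
  have hbdq : ∀ v ∈ bd f, ∃ w ∈ bd g, q w = v := by
    intro v hv
    induction hv using Submodule.span_induction with
    | mem z hz =>
      obtain ⟨⟨a, b⟩, rfl⟩ := hz
      obtain ⟨a, rfl⟩ := hqsurj a
      obtain ⟨b, rfl⟩ := hqsurj b
      refine ⟨_, mem_bd g a b, ?_⟩
      rw [map_sub, map_smul, map_smul]
      simp only [hfq]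
      rfl
    | zero => exact ⟨0, zero_mem _, map_zero q⟩
    | add a b _ _ ha hb =>
      obtain ⟨v, hv, rfl⟩ := ha
      obtain ⟨w, hw, rfl⟩ := hb
      exact ⟨v + w, add_mem hv hw, map_add _ _ _⟩
    | smul c a _ ha =>
      obtain ⟨v, hv, rfl⟩ := ha
      obtain ⟨c, rfl⟩ := Ideal.Quotient.mk_surjective c
      exact ⟨c • v, Submodule.smul_mem _ c hv, by rw [map_smul]; rfl⟩
  let Φ : LinearMap.ker g →ₗ[A] LinearMap.ker f ⧸ (bd f).comap (LinearMap.ker f).subtype :=
    ((Submodule.mkQ ((bd f).comap (LinearMap.ker f).subtype)).restrictScalars A) ∘ₗ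
      LinearMap.codRestrict ((LinearMap.ker f).restrictScalars A) (q ∘ₗ (LinearMap.ker g).subtype)
        (fun w => show f (q w.1) = 0 by rw [hfq, LinearMap.mem_ker.mp w.2, map_zero])
  have hΦ : Function.Surjective Φ := by
    intro z
    obtain ⟨⟨z, hz⟩, rfl⟩ := Submodule.mkQ_surjective _ z
    obtain ⟨w, rfl⟩ := hqsurj z
    rw [LinearMap.mem_ker, hfq, Ideal.Quotient.eq_zero_iff_mem, Ideal.mem_span_singleton'] at hz
    obtain ⟨c, hc⟩ := hz
    refine ⟨⟨w - c • Pi.single 0 1, ?_⟩, congrArg (Submodule.mkQ _) (Subtype.ext ?_)⟩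
    · rw [LinearMap.mem_ker, map_sub, map_smul, ← hc]
      simp [g, Fintype.linearCombination_apply_single]
    · show q (w - c • Pi.single 0 1) = q w
      funext i
      simp [hq]
  have hker : LinearMap.ker Φ = (bd g).comap (LinearMap.ker g).subtype := by
    ext w
    have h0 : w ∈ LinearMap.ker Φ ↔ q w.1 ∈ bd f := by
      simp only [Φ, LinearMap.mem_ker, LinearMap.comp_apply, LinearMap.restrictScalars_apply,
        Submodule.mkQ_apply, Submodule.Quotient.mk_eq_zero, Submodule.mem_comap]
      rfl
    rw [h0]
    refine ⟨fun h => ?_, fun h => hqbd _ h⟩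
    obtain ⟨d, hd, hde⟩ := hbdq _ h
    have hdiff : ∀ i : Fin n, ∃ c, c * y = w.1 i.succ - d i.succ := fun i =>
      Ideal.mem_span_singleton'.mp (Ideal.Quotient.eq.mp (congrFun hde i).symm)
    choose c hc using hdiff
    let v : Fin (n + 1) → A := Fin.cons 0 c
    let k := g (Pi.single 0 1) • v - g v • Pi.single 0 1
    have hk : k ∈ bd g := mem_bd g _ _
    have hg0 : g (Pi.single 0 1) = y := by simp [g, Fintype.linearCombination_apply_single]
    have hrest : ∀ i : Fin n, (w.1 - d - k) i.succ = 0 := fun i => by
      simp [k, hg0, v, ← hc i, mul_comm]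
    have hz : g (w.1 - d - k) = 0 := by
      rw [map_sub, map_sub, LinearMap.mem_ker.mp w.2, LinearMap.mem_ker.mp (CIInvariant.bd_le_ker g hd),
        LinearMap.mem_ker.mp (CIInvariant.bd_le_ker g hk), sub_zero, sub_zero]
    rw [hg] at hz
    simp only [hrest, zero_mul, Finset.sum_const_zero, add_zero] at hz
    have h0' : (w.1 - d - k) 0 = 0 := hy.right_eq_zero_of_smul (by rw [smul_eq_mul, mul_comm]; exact hz)
    have heq : w.1 = d + k := funext fun i => sub_eq_zero.mp (by
      rw [Pi.add_apply, ← sub_sub]
      induction i using Fin.cases with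
      | zero => exact h0'
      | succ i => exact hrest i)
    show w.1 ∈ bd g
    rw [heq]
    exact add_mem hd hk
  show Module.length A _ = Module.length A' _
  rw [← (Submodule.quotEquivOfEq _ _ hker).length_eq, (Φ.quotKerEquivOfSurjective hΦ).length_eq,
    Module.length_eq_of_surjective (R := A') (S := A) Ideal.Quotient.mk_surjective]

/-- The numerical criterion for complete intersections. -/
theorem ci_iff_h1 {A : Type u} [CommRing A] [IsLocalRing A] [IsNoetherianRing A] {n : ℕ}
    (x : Fin n → A) (hx : Ideal.span (Set.range x) = maximalIdeal A) :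
    Pi1.IsCompleteIntersection A ↔
      ringKrullDim A + ((h1 (Fintype.linearCombination A x) : ℕ∞) : WithBot ℕ∞) ≤ n := by
  have hne : maximalIdeal A ≠ ⊤ := Ideal.IsPrime.ne_top'
  let Ah := AdicCompletion (maximalIdeal A) A
  haveI : IsLocalRing Ah := Regular.Completion.isLocalRing (maximalIdeal A) hne
  haveI : IsLocalHom (algebraMap A Ah) := Regular.Completion.isLocalHom (maximalIdeal A) hne
  haveI : Module.Flat A Ah := AdicCompletion.flat_of_isNoetherian _
  haveI : IsNoetherianRing Ah := inferInstance
  have hmh : (maximalIdeal A).map (algebraMap A Ah) = maximalIdeal Ah :=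
    Regular.Completion.map_maximalIdeal (maximalIdeal A) hne
  haveI : IsAdicComplete (maximalIdeal Ah) Ah := inferInstance
  obtain ⟨Λ, _, d, g, -, hreg, hg⟩ := Cohen.Presentation.exists_surjective_mvPowerSeries Ah
  haveI := hreg
  letI : Algebra (MvPowerSeries (Fin d) Λ) Ah := g.toAlgebra
  have hCI : Pi1.IsCompleteIntersection Ah ↔ Pi1.IsCompleteIntersection A := by
    refine CIResidual.ci_iff hmh fun b => ?_
    obtain ⟨a, ha⟩ := Ideal.Quotient.mk_surjective (AdicCompletion.evalₐ (maximalIdeal A) 1 b)
    refine ⟨a, ?_⟩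
    rw [← hmh, ← pow_one ((maximalIdeal A).map (algebraMap A Ah))]
    refine (Groth.Agent.Lib.FSAdic.Completion.evalₐ_eq_zero_iff (IsNoetherian.noetherian _) 1 _).mp ?_
    rw [map_sub, AlgHom.commutes, Ideal.Quotient.algebraMap_eq, ha, sub_self]
  rw [← hCI, (CIQuotient.isCompleteIntersection_iff_of_surjective (R := MvPowerSeries (Fin d) Λ) (A := Ah) hg).2,
    Regular.Completion.ringKrullDim_eq (maximalIdeal A) hne]
  obtain ⟨m, hm, -⟩ := Regular.Quotient.exists_dim_eq (R := MvPowerSeries (Fin d) Λ)
  set B := MvPowerSeries (Fin d) Λ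
  obtain ⟨ys, hys, hlen⟩ := CIQuotient.exists_list_spanFinrank (maximalIdeal B) (maximalIdeal B).fg_of_isNoetherianRing
  have hlen' : ys.length = m := by
    rw [hlen]
    have h := IsRegularLocalRing.spanFinrank_maximalIdeal (R := B)
    rw [hm] at h
    exact_mod_cast h
  let y : Fin ys.length → B := fun i => ys[i.1]
  have hyo : List.ofFn y = ys := List.ofFn_getElem
  have hyreg : IsWeaklyRegular B (List.ofFn y) :=
    (Regular.Quotient.isRegular_of_span_eq_maximalIdeal _ (by rw [hyo]; exact hys)
      (by rw [hyo, hlen])).toIsWeaklyRegular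
  have hyspan : Ideal.span (Set.range y) = maximalIdeal B := by
    rw [← hys]
    refine congrArg Ideal.span (Set.ext fun z => ?_)
    simp [y, List.mem_iff_getElem, Fin.exists_iff]
  set J := RingHom.ker (algebraMap B Ah)
  have hJ : J ≤ maximalIdeal B := IsLocalRing.le_maximalIdeal (RingHom.ker_ne_top _)
  have h2 := CIInvariant.h1_eq_spanFinrank y hyreg hyspan J hJ
  let e : (B ⧸ J) ≃+* Ah := RingHom.quotientKerEquivOfSurjective hg
  rw [← CIInvariant.h1_ringEquiv e (fun i => Ideal.Quotient.mk J (y i))] at h2
  have hgy : LinearMap.range (Fintype.linearCombination Ah fun i => e (Ideal.Quotient.mk J (y i))) = maximalIdeal Ah := by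
    rw [Fintype.range_linearCombination, ← Ideal.span]
    rw [show (fun i => e (Ideal.Quotient.mk J (y i))) = algebraMap B Ah ∘ y from rfl, Set.range_comp,
      ← Ideal.map_span, hyspan]
    exact IsLocalRing.map_maximalIdeal_of_surjective _ hg
  have hgx : LinearMap.range (Fintype.linearCombination Ah fun i => algebraMap A Ah (x i)) = maximalIdeal Ah := by
    rw [Fintype.range_linearCombination, ← Ideal.span, Set.range_comp' (algebraMap A Ah) x,
      ← Ideal.map_span, hx, hmh]
  have key := CIInvariant.h1_add_eq _ _ hgx hgy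
  rw [h1_baseChange hmh, h2, hlen'] at key
  have hk : h1 (Fintype.linearCombination A x) ≠ ⊤ := fun h => by
    rw [h, top_add] at key
    exact ENat.coe_ne_top (J.spanFinrank + n) (by push_cast; exact key.symm)
  obtain ⟨h, hh⟩ := ENat.ne_top_iff_exists.mp hk
  rw [← hh] at key ⊢
  have key' : h + m = J.spanFinrank + n := by exact_mod_cast key
  obtain ⟨a, ha⟩ : ∃ a : ℕ, ringKrullDim A = a := by
    obtain ⟨a, ha⟩ := Depth.CM.supportDim_eq_nat (R := A) A
    exact ⟨a, by rw [← Module.supportDim_self_eq_ringKrullDim]; exact ha⟩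
  rw [hm, ha]
  norm_cast
  omega

theorem exists_gens (A : Type u) [CommRing A] [IsLocalRing A] [IsNoetherianRing A] :
    ∃ (n : ℕ) (x : Fin n → A), Ideal.span (Set.range x) = maximalIdeal A :=
  Submodule.fg_iff_exists_fin_generating_family.1 (IsNoetherian.noetherian (maximalIdeal A))

/-- A non-zero-divisor in the maximal ideal does not affect complete intersection. -/
theorem ci_iff_quotient_singleton {A : Type u} [CommRing A] [IsLocalRing A] [IsNoetherianRing A]
    (y : A) (hy : IsSMulRegular A y) (hym : y ∈ maximalIdeal A) [IsLocalRing (A ⧸ Ideal.span {y})] :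
    Pi1.IsCompleteIntersection A ↔ Pi1.IsCompleteIntersection (A ⧸ Ideal.span {y}) := by
  obtain ⟨n, x, hx⟩ := exists_gens A
  have hx' : Ideal.span (Set.range (Fin.cons y x : Fin (n + 1) → A)) = maximalIdeal A := by
    rw [Fin.range_cons, Ideal.span_insert, hx, sup_eq_right]
    exact (Ideal.span_singleton_le_iff_mem _).mpr hym
  have hxq : Ideal.span (Set.range fun i => Ideal.Quotient.mk (Ideal.span {y}) (x i)) =
      maximalIdeal (A ⧸ Ideal.span {y}) := by
    rw [Set.range_comp' (Ideal.Quotient.mk (Ideal.span {y})) x, ← Ideal.map_span, hx,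
      IsLocalRing.map_maximalIdeal_of_surjective _ Ideal.Quotient.mk_surjective]
  have hnt := hy
  have hdim : ringKrullDim (A ⧸ Ideal.span {y}) + 1 = ringKrullDim A := by
    have h := ringKrullDim_add_length_eq_ringKrullDim_of_isRegular [y]
      (Depth.Basic.isRegular_of_mem (I := maximalIdeal A)
        (Depth.Basic.smul_top_ne_top Ideal.IsPrime.ne_top')
        ((isWeaklyRegular_cons_iff A y []).mpr ⟨hy, IsWeaklyRegular.nil _ _⟩) (by simpa using hym))
    rw [Ideal.ofList_singleton] at h
    exact_mod_cast h
  rw [ci_iff_h1 _ hx', ci_iff_h1 _ hxq, h1_cons y hy x, ← hdim]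
  generalize ((h1 (Fintype.linearCombination (A ⧸ Ideal.span {y})
    fun i => Ideal.Quotient.mk (Ideal.span {y}) (x i)) : ℕ∞) : WithBot ℕ∞) = h
  generalize ringKrullDim (A ⧸ Ideal.span {y}) = d
  push_cast
  rw [add_right_comm]
  exact (ENat.WithBot.add_le_add_natCast_right_iff (c := 1) (a := d + h) (b := (n : WithBot ℕ∞)))

/-- Complete intersection is unchanged by flat local maps with trivial closed fibre. -/
theorem ci_iff_of_map_eq {A B : Type u} [CommRing A] [CommRing B] [IsLocalRing A] [IsLocalRing B]
    [IsNoetherianRing A] [IsNoetherianRing B] [Algebra A B] [IsLocalHom (algebraMap A B)]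
    [Module.Flat A B] (hm : (maximalIdeal A).map (algebraMap A B) = maximalIdeal B) :
    Pi1.IsCompleteIntersection B ↔ Pi1.IsCompleteIntersection A := by
  obtain ⟨n, x, hx⟩ := exists_gens A
  have hx' : Ideal.span (Set.range fun i => algebraMap A B (x i)) = maximalIdeal B := by
    rw [Set.range_comp' (algebraMap A B) x, ← Ideal.map_span, hx, hm]
  rw [ci_iff_h1 _ hx', ci_iff_h1 _ hx, h1_baseChange hm,
    JacCrit.SmoothLocal.ringKrullDim_eq_of_flat (algebraMap A B) (RingHom.flat_algebraMap_iff.mpr inferInstance), hm]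
  letI : Field (B ⧸ maximalIdeal B) := Ideal.Quotient.field _
  rw [ringKrullDim_eq_zero_of_field, add_zero]

/-- Cutting down the fibre to a point. -/
theorem ci_iff_of_list {A : Type u} [CommRing A] [IsLocalRing A] [IsNoetherianRing A]
    {B : Type u} [CommRing B] [IsLocalRing B] [IsNoetherianRing B] [Algebra A B]
    [IsLocalHom (algebraMap A B)] [Module.Flat A B] (ys : List B)
    (hw : IsWeaklyRegular (B ⧸ (maximalIdeal A).map (algebraMap A B))
      (ys.map (Ideal.Quotient.mk ((maximalIdeal A).map (algebraMap A B)))))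
    (hmax : (Ideal.ofList ys ⊔ (maximalIdeal A).map (algebraMap A B)) = maximalIdeal B) :
    Pi1.IsCompleteIntersection B ↔ Pi1.IsCompleteIntersection A := by
  match ys, hw, hmax with
  | [], _, hmax =>
    rw [Ideal.ofList_nil, bot_sup_eq] at hmax
    exact ci_iff_of_map_eq hmax
  | y :: ys, hw, hmax =>
    rw [List.map_cons, isWeaklyRegular_cons_iff] at hw
    set M := (maximalIdeal A).map (algebraMap A B) with hM
    obtain ⟨hy, hflat⟩ := Goren.Flat.regular_flat_of_fibre (A := A) y hw.1
    have hym : y ∈ maximalIdeal B :=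
      hmax.le (Ideal.mem_sup_left (Ideal.subset_span (List.mem_cons_self ..)))
    let C := B ⧸ Ideal.span {y}
    haveI : Nontrivial C := Ideal.Quotient.nontrivial_iff.mpr
      (ne_top_of_le_ne_top Ideal.IsPrime.ne_top' ((Ideal.span_singleton_le_iff_mem _).mpr hym))
    haveI : IsLocalRing C := .of_surjective' (Ideal.Quotient.mk _) Ideal.Quotient.mk_surjective
    rw [ci_iff_quotient_singleton y hy hym]
    haveI : IsLocalHom (algebraMap A C) := by
      have : IsLocalHom (Ideal.Quotient.mk (Ideal.span {y})) :=
        IsLocalHom.of_surjective _ Ideal.Quotient.mk_surjective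
      exact RingHom.isLocalHom_comp (Ideal.Quotient.mk (Ideal.span {y})) (algebraMap A B)
    set N := (maximalIdeal A).map (algebraMap A C) with hN
    have hMC : N = M.map (Ideal.Quotient.mk (Ideal.span {y})) := by
      rw [hN, hM, Ideal.map_map]; rfl
    refine ci_iff_of_list (ys.map (Ideal.Quotient.mk (Ideal.span {y}))) ?_ ?_
    · have hMy : (Ideal.span {y}).map (Ideal.Quotient.mk M) = Ideal.span {Ideal.Quotient.mk M y} := by
        rw [Ideal.map_span, Set.image_singleton]
      let E : (B ⧸ M) ⧸ Ideal.span {Ideal.Quotient.mk M y} ≃+* C ⧸ N :=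
        ((Ideal.quotEquivOfEq hMy.symm).trans (DoubleQuot.quotQuotEquivComm M (Ideal.span {y}))).trans
          (Ideal.quotEquivOfEq hMC.symm)
      have e0 : Ideal.Quotient.mk M y • (⊤ : Submodule (B ⧸ M) (B ⧸ M)) =
          Ideal.span {Ideal.Quotient.mk M y} := by
        rw [← Submodule.ideal_span_singleton_smul, smul_eq_mul, Ideal.mul_top]
      let E' : (B ⧸ M) ⧸ (Ideal.Quotient.mk M y • (⊤ : Submodule (B ⧸ M) (B ⧸ M))) ≃+ C ⧸ N :=
        (Submodule.quotEquivOfEq _ _ e0).toAddEquiv.trans E.toAddEquiv
      refine (AddEquiv.isWeaklyRegular_congr (e := E') (as := ys.map (Ideal.Quotient.mk M))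
        (bs := (ys.map (Ideal.Quotient.mk (Ideal.span {y}))).map (Ideal.Quotient.mk N)) ?_).mp hw.2
      rw [List.map_map, List.forall₂_map_left_iff, List.forall₂_map_right_iff, List.forall₂_same]
      intro r _ z
      obtain ⟨z, rfl⟩ := Submodule.Quotient.mk_surjective _ z
      obtain ⟨b, rfl⟩ := Ideal.Quotient.mk_surjective z
      exact map_mul ((Ideal.Quotient.mk N).comp (Ideal.Quotient.mk (Ideal.span {y}))) r b
    · show _ ⊔ N = _
      rw [hMC, ← Ideal.map_ofList, ← Ideal.map_sup,
        ← IsLocalRing.map_maximalIdeal_of_surjective (Ideal.Quotient.mk (Ideal.span {y})) Ideal.Quotient.mk_surjective,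
        ← hmax, Ideal.ofList_cons, sup_assoc, Ideal.map_sup (I := Ideal.span {y}),
        Ideal.map_quotient_self, bot_sup_eq]
termination_by ys.length
decreasing_by all_goals simp

/-- Complete intersection ascends and descends along flat local maps with regular closed fibre. -/
theorem ci_iff_of_regular_fibre {A B : Type u} [CommRing A] [CommRing B] [IsLocalRing A]
    [IsLocalRing B] [IsNoetherianRing A] [IsNoetherianRing B] [Algebra A B]
    [IsLocalHom (algebraMap A B)] [Module.Flat A B]
    [IsRegularLocalRing (B ⧸ (maximalIdeal A).map (algebraMap A B))] :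
    Pi1.IsCompleteIntersection B ↔ Pi1.IsCompleteIntersection A := by
  let F := B ⧸ (maximalIdeal A).map (algebraMap A B)
  obtain ⟨zs, hzs, hlen⟩ := CIQuotient.exists_list_spanFinrank (maximalIdeal F) (maximalIdeal F).fg_of_isNoetherianRing
  have hreg : IsRegular F zs := Regular.Quotient.isRegular_of_span_eq_maximalIdeal zs hzs hlen
  obtain ⟨ys, rfl⟩ : ∃ ys : List B, ys.map (Ideal.Quotient.mk _) = zs := by
    choose l hl using fun z : F => Ideal.Quotient.mk_surjective z
    exact ⟨zs.map l, by rw [List.map_map]; exact (List.map_congr_left fun z _ => hl z).trans (List.map_id _)⟩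
  have hmax : (Ideal.ofList ys ⊔ (maximalIdeal A).map (algebraMap A B)) = maximalIdeal B := by
    rw [← Ideal.map_ofList] at hzs
    have h1 := congrArg (Ideal.comap (Ideal.Quotient.mk ((maximalIdeal A).map (algebraMap A B)))) hzs
    rw [Ideal.comap_map_of_surjective _ Ideal.Quotient.mk_surjective, ← RingHom.ker_eq_comap_bot,
      Ideal.mk_ker] at h1
    rw [h1]
    haveI : IsLocalHom (Ideal.Quotient.mk ((maximalIdeal A).map (algebraMap A B))) :=
      IsLocalHom.of_surjective _ Ideal.Quotient.mk_surjective
    exact IsLocalRing.maximalIdeal_comap _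
  exact ci_iff_of_list ys hreg.toIsWeaklyRegular hmax

end Groth.Agent.H26.CIDefect
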