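import Groth.Agent.H26.CIChart
import Groth.Agent.Lib.BertiniAff.Main
import Groth.Agent.Lib.GrassRep.Standard
import Mathlib.RingTheory.Ideal.MinimalPrime.Noetherian
import Mathlib.Algebra.Order.Antidiag.Finsupp
import Mathlib.Algebra.MvPolynomial.Funext
import Mathlib.RingTheory.Ideal.KrullsHeightTheorem

/-!
# Nonsingular complete intersections of given degrees
-/

universe u

open MvPolynomial Groth.Agent.H26.CIChart Groth.Agent.Lib.BertiniAff

set_option maxHeartbeats 800000
set_option linter.all false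

noncomputable section

namespace Groth.Agent.H26.CIExist

variable {k : Type u} [Field k]

/-- Locally standard smooth of relative dimension `m`. -/
def Inv (k : Type u) [Field k] (A : Type u) [CommRing A] [Algebra k A] (m : ℕ) : Prop :=
  ∀ q : Ideal A, q.IsPrime →
    ∃ g, g ∉ q ∧ Algebra.IsStandardSmoothOfRelativeDimension m k (Localization.Away g)

section Inv

variable {A : Type u} [CommRing A] [Algebra k A] {m : ℕ}

theorem Inv.of_algEquiv {B : Type u} [CommRing B] [Algebra k B] (e : A ≃ₐ[k] B) (h : Inv k A m) :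
    Inv k B m := by
  intro q hq
  haveI : (q.comap e.toRingHom).IsPrime := Ideal.IsPrime.comap _
  obtain ⟨g, hg, hs⟩ := h (q.comap e.toRingHom) inferInstance
  refine ⟨e g, fun hq' => hg (Ideal.mem_comap.mpr hq'), ?_⟩
  exact Algebra.IsStandardSmoothOfRelativeDimension.of_algEquiv (n := m)
    (IsLocalization.algEquivOfAlgEquiv (A := k) (Localization.Away g) (Localization.Away (e g)) e
      (Submonoid.map_powers _ g))

theorem Inv.cover (h : Inv k A m) : ∃ s : Finset A, Ideal.span (s : Set A) = ⊤ ∧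
    ∀ g ∈ s, Algebra.IsStandardSmoothOfRelativeDimension m k (Localization.Away g) := by
  let S : Set A := {g | Algebra.IsStandardSmoothOfRelativeDimension m k (Localization.Away g)}
  have hS : Ideal.span S = ⊤ := by
    by_contra hne
    obtain ⟨M, hM, hle⟩ := Ideal.exists_le_maximal _ hne
    obtain ⟨g, hg, hs⟩ := h M hM.isPrime
    exact hg (hle (Ideal.subset_span hs))
  obtain ⟨s, hs, hs'⟩ := (Ideal.span_eq_top_iff_finite S).mp hS
  exact ⟨s, hs', fun g hg => hs hg⟩

theorem Inv.dim [Algebra.FiniteType k A] (h : Inv k A m) :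
    ∀ P ∈ minimalPrimes A, ringKrullDim (A ⧸ P) = m := by
  intro P hP
  haveI hPp : P.IsPrime := hP.1.1
  obtain ⟨g, hg, hs⟩ := h P hPp
  haveI := hs
  haveI := Algebra.IsStandardSmoothOfRelativeDimension.isStandardSmooth m (R := k)
    (S := Localization.Away g)
  haveI : Algebra.FiniteType k (Localization.Away g) := inferInstance
  have hd : Disjoint (Submonoid.powers g : Set A) (P : Set A) := by
    rwa [Ideal.disjoint_powers_iff_notMem_of_isPrime]
  let P' := P.map (algebraMap A (Localization.Away g))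
  haveI : P'.IsPrime := IsLocalization.isPrime_of_isPrime_disjoint (Submonoid.powers g) _ P hPp hd
  have hP' : P'.comap (algebraMap A (Localization.Away g)) = P :=
    IsLocalization.under_map_of_isPrime_disjoint (Submonoid.powers g) _ hPp hd
  have hmin : P' ∈ minimalPrimes (Localization.Away g) := by
    refine ⟨⟨inferInstance, bot_le⟩, fun q hq hle => ?_⟩
    haveI := hq.1
    have h1 : P ≤ q.comap (algebraMap A (Localization.Away g)) :=
      hP.2 ⟨Ideal.IsPrime.comap _, bot_le⟩ ((Ideal.comap_mono hle).trans hP'.le)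
    exact Ideal.map_le_iff_le_comap.mpr h1
  rw [Groth.Agent.Lib.Dim.Basic.ringKrullDim_quotient_prime k P]
  have h2 := Groth.Agent.Lib.Kaehler.SmoothDim.dimQ_of_minimal k (n := m) hmin
  rw [← Main.dimQ_comap_away g P'] at h2
  have h3 : Groth.Agent.Lib.Dim.Basic.dimQ k P = m := by
    rw [← h2]; congr 1; exact hP'.symm
  rw [h3]

end Inv

theorem inv_poly (n : ℕ) : Inv k (MvPolynomial (Fin n) k) n := by
  intro q hq
  refine ⟨1, fun h => hq.ne_top ((Ideal.eq_top_iff_one q).mpr h), ?_⟩
  haveI := Groth.Agent.Lib.GrassRep.isStandardSmoothOfRelativeDimension_mvPolynomial k (ULift.{u} (Fin n))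
    (d := n) (by simp)
  haveI : Algebra.IsStandardSmoothOfRelativeDimension n k (MvPolynomial (Fin n) k) :=
    Algebra.IsStandardSmoothOfRelativeDimension.of_algEquiv (n := n)
      (S := MvPolynomial (ULift.{u} (Fin n)) k) (MvPolynomial.renameEquiv k Equiv.ulift)
  haveI : Algebra.IsStandardSmoothOfRelativeDimension 0 (MvPolynomial (Fin n) k)
      (Localization.Away (1 : MvPolynomial (Fin n) k)) := .localization_away 1
  have := Algebra.IsStandardSmoothOfRelativeDimension.trans n 0 k (MvPolynomial (Fin n) k)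
    (Localization.Away (1 : MvPolynomial (Fin n) k))
  simpa using this

section Forms

variable [Infinite k] {A : Type u} [CommRing A] [Algebra k A] [Algebra.FiniteType k A]

theorem exists_eval_ne_zero {σ : Type*} {g : MvPolynomial σ k} (hg : g ≠ 0) :
    ∃ a : σ → k, eval a g ≠ 0 := by
  by_contra h
  push Not at h
  exact hg (MvPolynomial.funext fun a => by rw [h a, map_zero])

/-- Bertini for the sections spanned by a generating family containing one. -/
theorem exists_poly_step' {m N : ℕ} (s : Finset A) (hs : Ideal.span (s : Set A) = ⊤)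
    (hsm : ∀ g ∈ s, Algebra.IsStandardSmooth k (Localization.Away g))
    (hdim : ∀ P ∈ minimalPrimes A, ringKrullDim (A ⧸ P) = m) (x : Fin N → A)
    (hx : Function.Surjective (aeval x : MvPolynomial (Fin N) k →ₐ[k] A)) (i₀ : Fin N)
    (hx₀ : x i₀ = 1) :
    ∃ G : MvPolynomial (Fin N) k, G ≠ 0 ∧ ∀ c : Fin N → k, eval c G ≠ 0 →
      Inv k (A ⧸ Ideal.span {∑ i, algebraMap k A (c i) * x i}) (m - 1) := by
  classical
  have key : ∀ g : s, ∃ G : MvPolynomial (Fin N) k, G ≠ 0 ∧ ∀ c : Fin N → k, eval c G ≠ 0 →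
      ∀ q : Ideal (A ⧸ Ideal.span {∑ i, algebraMap k A (c i) * x i}), q.IsPrime →
        g.1 ∉ q.comap (Ideal.Quotient.mk _) → ∃ f' : A ⧸ Ideal.span {∑ i, algebraMap k A (c i) * x i},
          f' ∉ q ∧ Algebra.IsStandardSmoothOfRelativeDimension (m - 1) k (Localization.Away f') := by
    intro g
    obtain ⟨G₀, hG₀, hG⟩ := Main.exists_poly_chart (r := m) x hx hdim g.1 (hsm g.1 g.2)
    obtain ⟨a, ha⟩ := exists_eval_ne_zero hG₀
    let sub : (Fin N → k) → (Fin (N + 1) → k) := fun c =>
      Fin.cons (a 0) fun i => if i = i₀ then c i - a 0 else c i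
    let G : MvPolynomial (Fin N) k := bind₁
      (Fin.cons (C (a 0)) fun i => if i = i₀ then X i - C (a 0) else X i) G₀
    have hev : ∀ c, eval c G = eval (sub c) G₀ := by
      intro c
      change eval₂Hom (RingHom.id k) c (bind₁ _ G₀) = eval₂Hom (RingHom.id k) (sub c) G₀
      rw [eval₂Hom_bind₁]
      refine congrArg (fun F => eval₂Hom (RingHom.id k) F G₀) (funext fun i => ?_)
      refine Fin.cases ?_ (fun i => ?_) i
      · simp [sub]
      · simp only [Fin.cons_succ, sub]
        split_ifs <;> simp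
    let c₀ : Fin N → k := fun i => if i = i₀ then a i.succ + a 0 else a i.succ
    have hc₀ : sub c₀ = a := funext fun i => by
      refine Fin.cases ?_ (fun i => ?_) i
      · simp [sub]
      · simp only [Fin.cons_succ, sub, c₀]
        split_ifs <;> simp
    refine ⟨G, fun h => ha (by rw [← hc₀, ← hev, h, map_zero]), fun c hc => ?_⟩
    have hh : Main.hyp x (sub c) = ∑ i, algebraMap k A (c i) * x i := by
      simp only [Main.hyp, sub, Fin.cons_zero, Fin.cons_succ]
      rw [← Finset.sum_erase_add _ _ (Finset.mem_univ i₀),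
        ← Finset.sum_erase_add (f := fun i => algebraMap k A (c i) * x i) _ (Finset.mem_univ i₀),
        Finset.sum_congr rfl fun i hi => by rw [if_neg (Finset.ne_of_mem_erase hi)]]
      simp only [if_true, hx₀, map_sub, mul_one]
      ring
    have h2 := hG (sub c) (hev c ▸ hc)
    rw [hh] at h2
    exact h2
  choose G hG0 hG using key
  refine ⟨∏ g : s, G g, Finset.prod_ne_zero_iff.mpr fun g _ => hG0 g, fun c hc q hq => ?_⟩
  rw [map_prod, Finset.prod_ne_zero_iff] at hc
  haveI := hq
  obtain ⟨g, hg, hgq⟩ : ∃ g ∈ s, g ∉ q.comap (Ideal.Quotient.mk _) := by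
    by_contra hne
    push Not at hne
    exact (Ideal.IsPrime.comap (Ideal.Quotient.mk _) (K := q)).ne_top
      (top_le_iff.mp (hs ▸ Ideal.span_le.mpr hne))
  exact hG ⟨g, hg⟩ c (hc _ (Finset.mem_univ _)) q hq hgq

/-- Bertini for locally standard smooth algebras of constant relative dimension. -/
theorem exists_poly_step {m N : ℕ} (hA : Inv k A m) (x : Fin N → A)
    (hx : Function.Surjective (aeval x : MvPolynomial (Fin N) k →ₐ[k] A)) (i₀ : Fin N)
    (hx₀ : x i₀ = 1) :
    ∃ G : MvPolynomial (Fin N) k, G ≠ 0 ∧ ∀ c : Fin N → k, eval c G ≠ 0 →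
      Inv k (A ⧸ Ideal.span {∑ i, algebraMap k A (c i) * x i}) (m - 1) := by
  obtain ⟨s, hs, hsm⟩ := hA.cover
  exact exists_poly_step' s hs (fun g hg => haveI := hsm g hg
    Algebra.IsStandardSmoothOfRelativeDimension.isStandardSmooth m) hA.dim x hx i₀ hx₀

end Forms

variable (k) in
/-- The exponents of degree `e`. -/
abbrev Mon (n e : ℕ) : Finset (Fin (n + 1) →₀ ℕ) := Finset.univ.finsuppAntidiag e

theorem mem_mon {n e : ℕ} {v : Fin (n + 1) →₀ ℕ} : v ∈ Mon n e ↔ v.degree = e := by
  simp [Mon, Finsupp.degree_eq_sum]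

variable {n e : ℕ}

/-- An enumeration of the exponents of degree `e`. -/
def idx (i : Fin (Mon n e).card) : Fin (n + 1) →₀ ℕ := ((Mon n e).equivFin.symm i).1

theorem exists_idx {v : Fin (n + 1) →₀ ℕ} (hv : v.degree = e) : ∃ i : Fin (Mon n e).card, idx i = v :=
  ⟨(Mon n e).equivFin ⟨v, mem_mon.mpr hv⟩, by simp [idx]⟩

/-- The form of degree `e` with coefficients `c`. -/
def form (c : Fin (Mon n e).card → k) : MvPolynomial (Fin (n + 1)) k :=
  ∑ i, C (c i) * monomial (idx i) 1

theorem form_isHomogeneous (c : Fin (Mon n e).card → k) : (form c).IsHomogeneous e := by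
  refine IsHomogeneous.sum _ _ _ fun i _ => ?_
  have h := (isHomogeneous_C (Fin (n + 1)) (c i)).mul
    (isHomogeneous_monomial (1 : k) (mem_mon.mp ((Mon n e).equivFin.symm i).2))
  rw [zero_add] at h
  exact h

theorem exists_poly_ideal [Infinite k] (he : 0 < e) (j : Fin (n + 1)) {m : ℕ}
    (K : Ideal (MvPolynomial (Fin n) k)) (hK : Inv k (MvPolynomial (Fin n) k ⧸ K) m) :
    ∃ G : MvPolynomial (Fin (Mon n e).card) k, G ≠ 0 ∧ ∀ c, eval c G ≠ 0 →
      Inv k (MvPolynomial (Fin n) k ⧸ (K ⊔ Ideal.span {deh j (form c)})) (m - 1) := by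
  let π := (Ideal.Quotient.mkₐ k K).comp (deh j)
  let x : Fin (Mon n e).card → MvPolynomial (Fin n) k ⧸ K := fun i => π (monomial (idx i) 1)
  obtain ⟨i₀, hi₀⟩ := exists_idx (n := n) (e := e) (v := Finsupp.single j e) (Finsupp.degree_single _ _)
  have hx₀ : x i₀ = 1 := by
    simp only [x, hi₀, π, ← X_pow_eq_monomial, AlgHom.comp_apply, map_pow, deh_X_self, map_one, one_pow]
  have hgen : ∀ l : Fin n, ∃ i : Fin (Mon n e).card, x i = Ideal.Quotient.mk K (X l) := by
    intro l
    obtain ⟨i, hi⟩ := exists_idx (n := n) (e := e)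
      (v := Finsupp.single (j.succAbove l) 1 + Finsupp.single j (e - 1))
      (by rw [map_add, Finsupp.degree_single, Finsupp.degree_single]; omega)
    refine ⟨i, ?_⟩
    simp only [x, hi, π, monomial_single_add, pow_one, ← X_pow_eq_monomial, AlgHom.comp_apply, map_mul,
      map_pow, deh_X_self, deh_X_succAbove, one_pow, mul_one, map_one, Ideal.Quotient.mkₐ_eq_mk]
  have hx : Function.Surjective (aeval x : MvPolynomial _ k →ₐ[k] MvPolynomial (Fin n) k ⧸ K) := by
    intro b
    obtain ⟨p, rfl⟩ := Ideal.Quotient.mk_surjective b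
    change Ideal.Quotient.mkₐ k K p ∈ (aeval x).range
    induction p using MvPolynomial.induction_on with
    | C a =>
      rw [← MvPolynomial.algebraMap_eq, AlgHom.commutes]
      exact Subalgebra.algebraMap_mem _ a
    | add p q hp hq => rw [map_add]; exact add_mem hp hq
    | mul_X p l hp =>
      rw [map_mul]
      obtain ⟨i, hi⟩ := hgen l
      exact mul_mem hp ⟨X i, by simp [hi]⟩
  obtain ⟨G, hG0, hG⟩ := exists_poly_step hK x hx i₀ hx₀
  refine ⟨G, hG0, fun c hc => ?_⟩
  have hsum : ∑ i, algebraMap k (MvPolynomial (Fin n) k ⧸ K) (c i) * x i =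
      Ideal.Quotient.mkₐ k K (deh j (form c)) := by
    simp only [form, map_sum, map_mul, x, π, AlgHom.comp_apply]
    refine Finset.sum_congr rfl fun i _ => ?_
    rw [← MvPolynomial.algebraMap_eq, AlgHom.commutes, AlgHom.commutes]
  refine (hG c hc).of_algEquiv ((Ideal.quotientEquivAlgOfEq k ?_).trans
    (DoubleQuot.quotQuotEquivQuotSupₐ k K (Ideal.span {deh j (form c)})))
  rw [hsum, Ideal.map_span, Set.image_singleton]

/-- The inductive invariant. -/
structure Good (s : ℕ) (f : Fin s → MvPolynomial (Fin (n + 1)) k) (d : Fin s → ℕ) : Prop where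
  homog : ∀ i, (f i).IsHomogeneous (d i)
  single : ∀ i j, Inv k (MvPolynomial (Fin n) k ⧸ Ideal.span {deh j (f i)}) (n - 1)
  full : ∀ j, Inv k (MvPolynomial (Fin n) k ⧸ Ideal.span (Set.range (deh j ∘ f))) (n - s)
  height_le : ∀ P : Ideal (MvPolynomial (Fin (n + 1)) k), P.IsPrime → Ideal.span (Set.range f) ≤ P →
    (∃ j, X j ∉ P) → (s : ℕ∞) ≤ P.height

theorem exists_avoid (he : 0 < e) (P : Ideal (MvPolynomial (Fin (n + 1)) k)) [P.IsPrime]
    (hP : ∃ j, X j ∉ P) :
    ∃ G : MvPolynomial (Fin (Mon n e).card) k, G ≠ 0 ∧ ∀ c, eval c G ≠ 0 → form c ∉ P := by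
  obtain ⟨j, hj⟩ := hP
  have hne : Ideal.Quotient.mk P (X j ^ e) ≠ 0 := by
    rw [Ne, Ideal.Quotient.eq_zero_iff_mem]
    exact fun h => hj (Ideal.IsPrime.mem_of_pow_mem ‹_› e h)
  obtain ⟨φ, hφ⟩ : ∃ φ : Module.Dual k (MvPolynomial (Fin (n + 1)) k ⧸ P),
      φ (Ideal.Quotient.mk P (X j ^ e)) ≠ 0 := by
    by_contra h
    push Not at h
    exact hne ((Module.forall_dual_apply_eq_zero_iff k _).mp h)
  let ψ : MvPolynomial (Fin (n + 1)) k →ₗ[k] k := φ.comp (Ideal.Quotient.mkₐ k P).toLinearMap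
  let G : MvPolynomial (Fin (Mon n e).card) k := ∑ i, C (ψ (monomial (idx i) 1)) * X i
  have hG : ∀ c, eval c G = ψ (form c) := by
    intro c
    simp only [G, form, map_sum, map_mul, eval_C, eval_X]
    refine Finset.sum_congr rfl fun i _ => ?_
    rw [← MvPolynomial.smul_eq_C_mul, map_smul, smul_eq_mul, mul_comm]
  refine ⟨G, fun h => ?_, fun c hc hmem => hc ?_⟩
  · obtain ⟨i, hi⟩ := exists_idx (n := n) (e := e) (v := Finsupp.single j e) (Finsupp.degree_single _ _)
    have h1 := hG (Pi.single i 1)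
    have h2 : form (Pi.single i (1 : k)) = monomial (idx i) (1 : k) := by
      rw [form, Finset.sum_eq_single i (fun b _ hb => by simp [hb]) (by simp)]
      simp
    rw [h, map_zero, h2, hi, ← X_pow_eq_monomial] at h1
    exact hφ h1.symm
  · rw [hG]
    change φ (Ideal.Quotient.mk P (form c)) = 0
    rw [Ideal.Quotient.eq_zero_iff_mem.mpr hmem, map_zero]

theorem exists_good [Infinite k] : ∀ s, s ≤ n → ∀ d : Fin s → ℕ, (∀ i, 0 < d i) →
    ∃ f : Fin s → MvPolynomial (Fin (n + 1)) k, Good s f d := by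
  classical
  intro s
  induction s with
  | zero =>
    refine fun _ d _ => ⟨Fin.elim0, fun i => i.elim0, fun i => i.elim0, fun j => ?_, fun P _ _ _ => ?_⟩
    · exact (inv_poly n).of_algEquiv ((AlgEquiv.quotientBot k _).symm.trans
        (Ideal.quotientEquivAlgOfEq k (by simp)))
    · simp
  | succ s ih =>
    intro hs d hd
    obtain ⟨f, hf⟩ := ih (Nat.le_of_succ_le hs) (Fin.init d) fun i => hd _
    let e := d (Fin.last s)
    have he : 0 < e := hd _
    have h1 : ∀ j : Fin (n + 1), ∃ G : MvPolynomial (Fin (Mon n e).card) k, G ≠ 0 ∧ ∀ c, eval c G ≠ 0 →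
        Inv k (MvPolynomial (Fin n) k ⧸ Ideal.span {deh j (form c)}) (n - 1) ∧
        Inv k (MvPolynomial (Fin n) k ⧸ (Ideal.span (Set.range (deh j ∘ f)) ⊔
          Ideal.span {deh j (form c)})) (n - (s + 1)) := by
      intro j
      obtain ⟨G₁, h₁, h₁'⟩ := exists_poly_ideal (e := e) he j ⊥
        ((inv_poly n).of_algEquiv (AlgEquiv.quotientBot k _).symm)
      obtain ⟨G₂, h₂, h₂'⟩ := exists_poly_ideal (e := e) he j _ (hf.full j)
      refine ⟨G₁ * G₂, mul_ne_zero h₁ h₂, fun c hc => ?_⟩
      rw [map_mul] at hc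
      refine ⟨(h₁' c (left_ne_zero_of_mul hc)).of_algEquiv (Ideal.quotientEquivAlgOfEq k (bot_sup_eq _)), ?_⟩
      rw [← Nat.sub_sub]
      exact h₂' c (right_ne_zero_of_mul hc)
    choose G hG0 hG using h1
    let bad : Set (Ideal (MvPolynomial (Fin (n + 1)) k)) :=
      {P ∈ (Ideal.span (Set.range f)).minimalPrimes | ∃ j, X j ∉ P}
    have hbad : bad.Finite :=
      (Ideal.finite_minimalPrimes_of_isNoetherianRing _ _).subset fun P hP => hP.1
    have h2 : ∀ P : hbad.toFinset, ∃ G : MvPolynomial (Fin (Mon n e).card) k, G ≠ 0 ∧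
        ∀ c, eval c G ≠ 0 → form c ∉ P.1 := fun P => by
      have hP := hbad.mem_toFinset.mp P.2
      haveI := hP.1.1.1
      exact exists_avoid he P.1 hP.2
    choose H hH0 hH using h2
    have hne : ((∏ j, G j) * ∏ P, H P) ≠ 0 :=
      mul_ne_zero (Finset.prod_ne_zero_iff.mpr fun j _ => hG0 j)
        (Finset.prod_ne_zero_iff.mpr fun P _ => hH0 P)
    obtain ⟨c, hc⟩ := exists_eval_ne_zero hne
    rw [map_mul, map_prod, map_prod, mul_ne_zero_iff, Finset.prod_ne_zero_iff, Finset.prod_ne_zero_iff] at hc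
    have hcomp : ∀ j : Fin (n + 1), Ideal.span (Set.range (deh j ∘ (Fin.snoc f (form c) : Fin (s + 1) → _))) =
        Ideal.span (Set.range (deh j ∘ f)) ⊔ Ideal.span {deh j (form c)} := by
      intro j
      rw [Set.range_comp, Fin.range_snoc, Set.image_insert_eq, ← Set.range_comp, Ideal.span_insert, sup_comm]
    refine ⟨Fin.snoc f (form c), ?_, ?_, fun j => ?_, fun P hP hle hX => ?_⟩
    · intro i
      refine Fin.lastCases ?_ (fun i => ?_) i
      · rw [Fin.snoc_last]; exact form_isHomogeneous c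
      · rw [Fin.snoc_castSucc]; exact hf.homog i
    · intro i
      refine Fin.lastCases ?_ (fun i => ?_) i
      · intro j; rw [Fin.snoc_last]; exact (hG j c (hc.1 j (Finset.mem_univ _))).1
      · intro j; rw [Fin.snoc_castSucc]; exact hf.single i j
    · rw [hcomp]
      exact (hG j c (hc.1 j (Finset.mem_univ _))).2
    · rw [Fin.range_snoc, Ideal.span_insert, sup_le_iff] at hle
      obtain ⟨P₀, hP₀, hP₀le⟩ := Ideal.exists_minimalPrimes_le hle.2
      haveI := hP₀.1.1
      obtain ⟨j, hj⟩ := hX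
      have hX₀ : ∃ j, X j ∉ P₀ := ⟨j, fun h => hj (hP₀le h)⟩
      have hnot := hH ⟨P₀, hbad.mem_toFinset.mpr ⟨hP₀, hX₀⟩⟩ c (hc.2 _ (Finset.mem_univ _))
      have hlt : P₀ < P := lt_of_le_of_ne hP₀le fun h =>
        hnot (h ▸ hle.1 (Ideal.mem_span_singleton_self _))
      haveI := hP
      rw [Nat.cast_add, Nat.cast_one]
      exact (add_le_add (hf.height_le P₀ inferInstance hP₀.1.2 hX₀) le_rfl).trans
        (Ideal.height_add_one_le_of_lt_of_isPrime hlt)

end Groth.Agent.H26.CIExist
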