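import Groth.Agent.H26.CIBridge
import Groth.Agent.H26.CICongr
import Groth.Agent.H26.FibreDim
import Groth.Agent.Lib.Unram.BranchFibre
import Groth.Agent.Lib.JacCrit.FlatRegular
import Groth.Prelude.Def_CInt

/-!
# Complete intersection points of fibres in an affine chart
-/

universe u

open CategoryTheory AlgebraicGeometry IsLocalRing TensorProduct

namespace Groth.Agent.H26.CIChart

open Groth.Agent.Lib

variable {X Y : Scheme.{u}} {R S : Type u} [CommRing R] [CommRing S] [Algebra R S] (f : X ⟶ Y)
  (v : Spec (CommRingCat.of R) ⟶ Y) [IsOpenImmersion v]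
  (w : Spec (CommRingCat.of S) ⟶ X) [IsOpenImmersion w]
  (hw : Spec.map (CommRingCat.ofHom (algebraMap R S)) ≫ v = w ≫ f)

theorem fibIdeal_openImmersion (p : PrimeSpectrum R) :
    Unram.BranchFibre.fibIdeal (R := CommRingCat.of R) v p = maximalIdeal _ := by
  rw [Unram.BranchFibre.fibIdeal, Flat55.FibrewiseStalk.mIdeal, Ideal.map_map]
  refine IsLocalRing.map_maximalIdeal_of_surjective _ ?_
  let e := (asIso (v.stalkMap p) ≪≫ AlgebraicGeometry.Spec.stalkIso (CommRingCat.of R) p).commRingCatIsoToRingEquiv
  exact e.surjective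

include hw in
/-- The local ring of the fibre in a chart. -/
theorem nonempty_fiberStalk_equiv (p : PrimeSpectrum R) (Q : Ideal (p.asIdeal.Fiber S)) [Q.IsPrime]
    (P : PrimeSpectrum S) (hp : PrimeSpectrum.comap (algebraMap R S) P = p)
    (hQ : Q.comap (Algebra.TensorProduct.includeRight (R := R) (A := p.asIdeal.ResidueField)) =
      P.asIdeal) :
    Nonempty (Localization.AtPrime Q ≃+* CInt.fiberStalk f (w P)) := by
  obtain ⟨q, hq, hk⟩ := Unram.BranchFibre.exists_quot f (R := CommRingCat.of S) w P
  obtain ⟨e⟩ := JacCrit.FlatRegular.nonempty_ringEquiv p.asIdeal P.asIdeal Q hQ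
  refine ⟨e.trans ((Ideal.quotEquivOfEq ?_).trans (RingHom.quotientKerEquivOfSurjective hq))⟩
  rw [hk, ← hw, Unram.BranchFibre.fibIdeal_map (R := CommRingCat.of R) (E := CommRingCat.of S) v
    (CommRingCat.ofHom (algebraMap R S)) P p hp, fibIdeal_openImmersion]
  rw [show (maximalIdeal (Localization.AtPrime p.asIdeal)).comap
    (algebraMap R (Localization.AtPrime p.asIdeal)) = p.asIdeal from
      IsLocalization.AtPrime.under_maximalIdeal _ p.asIdeal]
  rfl

include hw in
/-- The fibre is a complete intersection at a point of a chart iff the fibre ring is one over the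
residue field. -/
theorem ci_fiberStalk_iff [Algebra.FiniteType R S] (p : PrimeSpectrum R)
    (Q : Ideal (p.asIdeal.Fiber S)) [Q.IsPrime]
    (P : PrimeSpectrum S) (hp : PrimeSpectrum.comap (algebraMap R S) P = p)
    (hQ : Q.comap (Algebra.TensorProduct.includeRight (R := R) (A := p.asIdeal.ResidueField)) =
      P.asIdeal) :
    Pi1.IsCompleteIntersection (CInt.fiberStalk f (w P)) ↔
      Synt.IsCIOver p.asIdeal.ResidueField (Localization.AtPrime Q) := by
  obtain ⟨e⟩ := nonempty_fiberStalk_equiv f v w hw p Q P hp hQ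
  haveI : IsNoetherianRing (p.asIdeal.Fiber S) :=
    Algebra.FiniteType.isNoetherianRing p.asIdeal.ResidueField _
  haveI : IsNoetherianRing (Localization.AtPrime Q) :=
    IsLocalization.isNoetherianRing Q.primeCompl _ inferInstance
  haveI : Algebra.EssFiniteType (p.asIdeal.Fiber S) (Localization.AtPrime Q) :=
    Algebra.EssFiniteType.of_isLocalization _ Q.primeCompl
  haveI : Algebra.EssFiniteType p.asIdeal.ResidueField (Localization.AtPrime Q) :=
    Algebra.EssFiniteType.comp _ (p.asIdeal.Fiber S) _
  rw [CICongr.iff (A := Localization.AtPrime Q) (A' := ↑(CInt.fiberStalk f (w P))) e, CIBridge.isCompleteIntersection_iff_isCIOver p.asIdeal.ResidueField]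

end Groth.Agent.H26.CIChart
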