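import Groth.Agent.H26.CIBaseChange
import Groth.Agent.H26.CIBridge

/-!
# Complete intersection points of schemes over a field, with the field algebra on stalks
-/

universe u

open CategoryTheory AlgebraicGeometry

namespace Groth.Agent.H26.CIFieldStalk

variable {k : Type u} [Field k] {F : Scheme.{u}}

/-- Stalks of schemes locally of finite type over a field are essentially of finite type. -/
theorem essFiniteType_stalk (π : F ⟶ Spec (CommRingCat.of k)) [LocallyOfFiniteType π] (a : F) :
    ((Scheme.ΓSpecIso (CommRingCat.of k)).inv ≫ π.appLE ⊤ ⊤ le_top ≫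
      F.presheaf.germ ⊤ a trivial).hom.EssFiniteType := by
  obtain ⟨U, hU, haU, -⟩ := exists_isAffineOpen_mem_and_subset (X := F) (x := a) (U := ⊤) trivial
  have e : (Scheme.ΓSpecIso (CommRingCat.of k)).inv ≫ π.appLE ⊤ ⊤ le_top ≫
      F.presheaf.germ ⊤ a trivial =
      (Scheme.ΓSpecIso (CommRingCat.of k)).inv ≫ π.appLE ⊤ U le_top ≫ F.presheaf.germ U a haU := by
    congr 1
    rw [← Scheme.Hom.appLE_map π (le_top : (⊤ : F.Opens) ≤ π ⁻¹ᵁ ⊤) (homOfLE le_top : U ⟶ ⊤).op,
      Category.assoc, TopCat.Presheaf.germ_res]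
  rw [e]
  have hft : ((Scheme.ΓSpecIso (CommRingCat.of k)).inv ≫ π.appLE ⊤ U le_top).hom.FiniteType := by
    rw [CommRingCat.hom_comp]
    exact (π.finiteType_appLE (isAffineOpen_top _) hU le_top).comp
      (RingHom.FiniteType.of_surjective _
        (ConcreteCategory.bijective_of_isIso (Scheme.ΓSpecIso (CommRingCat.of k)).inv).2)
  letI := ((Scheme.ΓSpecIso (CommRingCat.of k)).inv ≫ π.appLE ⊤ U le_top).hom.toAlgebra
  letI := TopCat.Presheaf.algebra_section_stalk F.presheaf (⟨a, haU⟩ : U)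
  haveI := hU.isLocalization_stalk ⟨a, haU⟩
  letI : Algebra k (F.presheaf.stalk a) :=
    ((algebraMap Γ(F, U) (F.presheaf.stalk a)).comp (algebraMap k Γ(F, U))).toAlgebra
  haveI : IsScalarTower k Γ(F, U) (F.presheaf.stalk a) := IsScalarTower.of_algebraMap_eq' rfl
  haveI : Algebra.FiniteType k Γ(F, U) := hft
  haveI : Algebra.EssFiniteType Γ(F, U) (F.presheaf.stalk a) :=
    Algebra.EssFiniteType.of_isLocalization _ (hU.primeIdealOf ⟨a, haU⟩).asIdeal.primeCompl
  have h : Algebra.EssFiniteType k (F.presheaf.stalk a) :=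
    Algebra.EssFiniteType.comp k Γ(F, U) _
  exact h

/-- The two notions of complete intersection agree on stalks. -/
theorem ci_iff (π : F ⟶ Spec (CommRingCat.of k)) [LocallyOfFiniteType π] (a : F) :
    letI := ((Scheme.ΓSpecIso (CommRingCat.of k)).inv ≫ π.appLE ⊤ ⊤ le_top ≫
      F.presheaf.germ ⊤ a trivial).hom.toAlgebra
    Synt.IsCIOver k (F.presheaf.stalk a) ↔ Pi1.IsCompleteIntersection (F.presheaf.stalk a) := by
  let φ := ((Scheme.ΓSpecIso (CommRingCat.of k)).inv ≫ π.appLE ⊤ ⊤ le_top ≫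
      F.presheaf.germ ⊤ a trivial).hom
  letI : Algebra k (F.presheaf.stalk a) := φ.toAlgebra
  haveI : Algebra.EssFiniteType k (F.presheaf.stalk a) := essFiniteType_stalk π a
  exact (CIBridge.isCompleteIntersection_iff_isCIOver k (F.presheaf.stalk a)).symm

end Groth.Agent.H26.CIFieldStalk
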