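import Groth.Agent.H26.CIQuotient
import Groth.Agent.Lib.JacCrit.SmoothLocal

/-!
# Complete intersections under flat maps of regular local rings
-/

universe u

open IsLocalRing RingTheory.Sequence

namespace Groth.Agent.H26.CIFlat

open Groth.Agent.Lib

variable {R R' : Type u} [CommRing R] [CommRing R'] [IsRegularLocalRing R] [IsRegularLocalRing R']
  [Algebra R R'] [IsLocalHom (algebraMap R R')] [Module.Flat R R']

theorem ringKrullDim_quotient_eq (I : Ideal R) (hI : I ≤ maximalIdeal R) :
    ringKrullDim (R' ⧸ I.map (algebraMap R R')) = ringKrullDim (R ⧸ I) +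
      ringKrullDim (R' ⧸ (maximalIdeal R).map (algebraMap R R')) := by
  haveI : IsLocalRing (R ⧸ I) := by
    have : Nontrivial (R ⧸ I) :=
      Ideal.Quotient.nontrivial_iff.mpr (ne_top_of_le_ne_top Ideal.IsPrime.ne_top' hI)
    exact .of_surjective' (Ideal.Quotient.mk I) Ideal.Quotient.mk_surjective
  have hI' : I.map (algebraMap R R') ≤ maximalIdeal R' :=
    (Ideal.map_mono hI).trans (IsLocalRing.map_maximalIdeal_le (algebraMap R R'))
  haveI : IsLocalRing (R' ⧸ I.map (algebraMap R R')) := by
    have : Nontrivial (R' ⧸ I.map (algebraMap R R')) :=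
      Ideal.Quotient.nontrivial_iff.mpr (ne_top_of_le_ne_top Ideal.IsPrime.ne_top' hI')
    exact .of_surjective' (Ideal.Quotient.mk _) Ideal.Quotient.mk_surjective
  let φ : R ⧸ I →+* R' ⧸ I.map (algebraMap R R') :=
    Ideal.quotientMap _ (algebraMap R R') (Ideal.map_le_iff_le_comap.mp le_rfl)
  have hflat : φ.Flat := by
    refine (RingHom.flat_algebraMap_iff (R := R ⧸ I) (S := R' ⧸ I.map (algebraMap R R'))).mpr ?_
    exact Module.Flat.of_linearEquiv (M := TensorProduct R (R ⧸ I) R')
      ((Algebra.TensorProduct.quotIdealMapEquivQuotTensor R' I).toLinearEquiv)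
  haveI : IsLocalHom φ := by
    have : IsLocalHom (Ideal.Quotient.mk (I.map (algebraMap R R'))) :=
      IsLocalHom.of_surjective _ Ideal.Quotient.mk_surjective
    have h' : IsLocalHom (φ.comp (Ideal.Quotient.mk I)) :=
      RingHom.isLocalHom_comp (Ideal.Quotient.mk (I.map (algebraMap R R'))) (algebraMap R R')
    exact ⟨fun a ha => by
      obtain ⟨b, rfl⟩ := Ideal.Quotient.mk_surjective a
      exact (h'.map_nonunit b ha).map _⟩
  rw [JacCrit.SmoothLocal.ringKrullDim_eq_of_flat φ hflat]
  congr 1
  have hm : (maximalIdeal (R ⧸ I)).map φ = ((maximalIdeal R).map (algebraMap R R')).map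
      (Ideal.Quotient.mk (I.map (algebraMap R R'))) := by
    rw [← IsLocalRing.map_maximalIdeal_of_surjective (Ideal.Quotient.mk I) Ideal.Quotient.mk_surjective,
      Ideal.map_map, Ideal.map_map]
    rfl
  rw [hm]
  exact ringKrullDim_eq_of_ringEquiv
    (DoubleQuot.quotQuotEquivQuotOfLE (Ideal.map_mono hI))

/-- Complete intersections ascend and descend along flat maps of regular local rings. -/
theorem ci_iff (I : Ideal R) (hI : I ≤ maximalIdeal R) [IsLocalRing (R ⧸ I)]
    [IsLocalRing (R' ⧸ I.map (algebraMap R R'))] :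
    Pi1.IsCompleteIntersection (R' ⧸ I.map (algebraMap R R')) ↔
      Pi1.IsCompleteIntersection (R ⧸ I) := by
  haveI : Module.FaithfullyFlat R R' := Module.FaithfullyFlat.of_flat_of_isLocalHom
  have hI' : I.map (algebraMap R R') ≤ maximalIdeal R' :=
    (Ideal.map_mono hI).trans (IsLocalRing.map_maximalIdeal_le (algebraMap R R'))
  rw [(CIQuotient.isCompleteIntersection_iff_le _ hI').1,
    (CIQuotient.isCompleteIntersection_iff_le _ hI).1]
  have hμ : (I.map (algebraMap R R')).spanFinrank = I.spanFinrank := by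
    refine le_antisymm ?_ (CIQuotient.spanFinrank_le_map I)
    obtain ⟨rs, hrs, hlen⟩ := CIQuotient.exists_list_spanFinrank I I.fg_of_isNoetherianRing
    calc (I.map (algebraMap R R')).spanFinrank
        = (Ideal.ofList (rs.map (algebraMap R R'))).spanFinrank := by rw [← Ideal.map_ofList, hrs]
      _ ≤ _ := CIQuotient.spanFinrank_ofList_le _
      _ = _ := by rw [List.length_map, hlen]
  have e2 := JacCrit.SmoothLocal.ringKrullDim_eq_of_flat (algebraMap R R')
    (RingHom.flat_algebraMap_iff.mpr inferInstance)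
  rw [hμ, ringKrullDim_quotient_eq I hI, e2]
  haveI : IsLocalRing (R' ⧸ (maximalIdeal R).map (algebraMap R R')) :=
    have : Nontrivial (R' ⧸ (maximalIdeal R).map (algebraMap R R')) :=
      Ideal.Quotient.nontrivial_iff.mpr (ne_top_of_le_ne_top Ideal.IsPrime.ne_top'
        (IsLocalRing.map_maximalIdeal_le (algebraMap R R')))
    .of_surjective' (Ideal.Quotient.mk _) Ideal.Quotient.mk_surjective
  have hne := ringKrullDim_ne_top (R := R' ⧸ (maximalIdeal R).map (algebraMap R R'))
  have hnb := ringKrullDim_ne_bot (R := R' ⧸ (maximalIdeal R).map (algebraMap R R'))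
  generalize ringKrullDim (R' ⧸ (maximalIdeal R).map (algebraMap R R')) = e at hne hnb ⊢
  obtain ⟨e, rfl⟩ := WithBot.ne_bot_iff_exists.mp hnb
  obtain ⟨e, rfl⟩ := ENat.ne_top_iff_exists.mp (show e ≠ ⊤ from fun h => hne (by subst h; rfl))
  rw [show ∀ a b c : WithBot ℕ∞, a + c + b = a + b + c from fun a b c => add_right_comm a c b]
  exact ENat.WithBot.add_le_add_natCast_right_iff

end Groth.Agent.H26.CIFlat
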