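import Mathlib.RingTheory.Length
import Mathlib.RingTheory.Regular.RegularSequence
import Mathlib.Algebra.Module.SpanRankOperations
import Mathlib.RingTheory.LocalRing.ResidueField.Basic
import Groth.Agent.Lib.Regular.Quotient

/-!
# The deficiency of a Noetherian local ring

For a linear map `f : M → A` let `h1 f` be the length of the first Koszul homology
`ker f / ⟨f a • b - f b • a⟩`.  For generators `f` of the maximal ideal `h1 f - rank M` does not
depend on `f`; for `A = B/J` with `B` regular it is `μ(J) - dim B`.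
-/

universe u

open IsLocalRing RingTheory.Sequence

namespace Groth.Agent.H26.CIInvariant

variable {A : Type u} [CommRing A] {M N : Type u} [AddCommGroup M] [Module A M] [AddCommGroup N]
  [Module A N]

/-- The Koszul boundaries. -/
def bd (f : M →ₗ[A] A) : Submodule A M :=
  Submodule.span A (Set.range fun p : M × M => f p.1 • p.2 - f p.2 • p.1)

theorem mem_bd (f : M →ₗ[A] A) (a b : M) : f a • b - f b • a ∈ bd f :=
  Submodule.subset_span ⟨(a, b), rfl⟩

theorem bd_le_ker (f : M →ₗ[A] A) : bd f ≤ LinearMap.ker f := by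
  rw [bd, Submodule.span_le]
  rintro _ ⟨⟨a, b⟩, rfl⟩
  simp [LinearMap.mem_ker, mul_comm]

/-- The length of the first Koszul homology. -/
noncomputable def h1 (f : M →ₗ[A] A) : ℕ∞ :=
  Module.length A (LinearMap.ker f ⧸ (bd f).comap (LinearMap.ker f).subtype)

theorem bd_comp_equiv (f : M →ₗ[A] A) (e : N ≃ₗ[A] M) :
    bd (f ∘ₗ e.toLinearMap) = (bd f).comap e.toLinearMap := by
  refine le_antisymm ?_ ?_
  · rw [bd, Submodule.span_le]
    rintro _ ⟨⟨a, b⟩, rfl⟩
    simpa using mem_bd f (e a) (e b)
  · intro x hx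
    have hx' : e x ∈ bd f := hx
    obtain ⟨y, rfl⟩ : ∃ y, x = e.symm y := ⟨e x, (e.symm_apply_apply x).symm⟩
    rw [LinearEquiv.apply_symm_apply] at hx'
    clear hx
    induction hx' using Submodule.span_induction with
    | mem y hy =>
      obtain ⟨⟨a, b⟩, rfl⟩ := hy
      simpa using mem_bd (f ∘ₗ e.toLinearMap) (e.symm a) (e.symm b)
    | zero => simp
    | add a b _ _ ha hb => rw [map_add]; exact add_mem ha hb
    | smul c a _ ha => rw [map_smul]; exact Submodule.smul_mem _ c ha

theorem h1_comp_equiv (f : M →ₗ[A] A) (e : N ≃ₗ[A] M) : h1 (f ∘ₗ e.toLinearMap) = h1 f := by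
  let e' : LinearMap.ker (f ∘ₗ e.toLinearMap) ≃ₗ[A] LinearMap.ker f :=
    e.ofSubmodules _ _ (by
      ext y
      simp only [Submodule.mem_map, LinearMap.mem_ker]
      exact ⟨fun ⟨x, hx, h⟩ => h ▸ hx, fun h => ⟨e.symm y, by simpa using h, by simp⟩⟩)
  refine (Submodule.Quotient.equiv _ _ e' ?_).length_eq
  rw [Submodule.map_equiv_eq_comap_symm]
  ext y
  simp only [Submodule.mem_comap, bd_comp_equiv]
  change e (e.symm y.1) ∈ bd f ↔ _
  rw [LinearEquiv.apply_symm_apply]
  rfl

theorem bd_comp_fst (f : M →ₗ[A] A) :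
    bd (f ∘ₗ LinearMap.fst A M N) = (bd f).prod (LinearMap.range f • (⊤ : Submodule A N)) := by
  refine le_antisymm ?_ ?_
  · rw [bd, Submodule.span_le]
    rintro _ ⟨⟨a, b⟩, rfl⟩
    exact ⟨by simpa using mem_bd f a.1 b.1, sub_mem
      (Submodule.smul_mem_smul ⟨a.1, rfl⟩ trivial) (Submodule.smul_mem_smul ⟨b.1, rfl⟩ trivial)⟩
  · rintro ⟨v, w⟩ ⟨hv, hw⟩
    rw [show (v, w) = (v, (0 : N)) + (0, w) by simp]
    refine add_mem ?_ ?_
    · replace hv : v ∈ bd f := hv
      clear hw
      induction hv using Submodule.span_induction with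
      | mem y hy =>
        obtain ⟨⟨a, b⟩, rfl⟩ := hy
        simpa using mem_bd (f ∘ₗ LinearMap.fst A M N) (a, 0) (b, 0)
      | zero => exact zero_mem _
      | add a b _ _ ha hb =>
        rw [show (a + b, (0 : N)) = (a, 0) + (b, 0) by simp]; exact add_mem ha hb
      | smul c a _ ha =>
        rw [show (c • a, (0 : N)) = c • (a, (0 : N)) by simp]; exact Submodule.smul_mem _ c ha
    · refine Submodule.smul_induction_on (show w ∈ _ from hw)
        (p := fun w => ((0 : M), w) ∈ bd (f ∘ₗ LinearMap.fst A M N)) (fun r hr n _ => ?_)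
        fun a b ha hb => ?_
      · obtain ⟨a, rfl⟩ := hr
        simpa using mem_bd (f ∘ₗ LinearMap.fst A M N) (a, 0) (0, n)
      · rw [show ((0 : M), a + b) = (0, a) + (0, b) by simp]; exact add_mem ha hb

theorem h1_comp_fst (f : M →ₗ[A] A) :
    h1 (f ∘ₗ LinearMap.fst A M N) =
      h1 f + Module.length A (N ⧸ LinearMap.range f • (⊤ : Submodule A N)) := by
  let K := LinearMap.ker (f ∘ₗ LinearMap.fst A M N)
  let Φ : K →ₗ[A] (LinearMap.ker f ⧸ (bd f).comap (LinearMap.ker f).subtype) ×
      (N ⧸ LinearMap.range f • (⊤ : Submodule A N)) :=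
    LinearMap.prod (Submodule.mkQ _ ∘ₗ
        LinearMap.codRestrict _ (LinearMap.fst A M N ∘ₗ K.subtype) fun x => x.2)
      (Submodule.mkQ _ ∘ₗ LinearMap.snd A M N ∘ₗ K.subtype)
  have hΦ : Function.Surjective Φ := by
    rintro ⟨a, b⟩
    obtain ⟨a, rfl⟩ := Submodule.mkQ_surjective _ a
    obtain ⟨b, rfl⟩ := Submodule.mkQ_surjective _ b
    exact ⟨⟨(a.1, b), by simp [K]⟩, rfl⟩
  have hker : LinearMap.ker Φ = (bd (f ∘ₗ LinearMap.fst A M N)).comap K.subtype := by
    ext x
    simp only [Φ, bd_comp_fst, LinearMap.mem_ker, LinearMap.prod_apply, Function.prod_apply,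
      Prod.mk_eq_zero, LinearMap.comp_apply, Submodule.mkQ_apply, Submodule.Quotient.mk_eq_zero,
      Submodule.mem_comap, Submodule.mem_prod]
    rfl
  unfold h1
  rw [← (Submodule.quotEquivOfEq _ _ hker).length_eq,
    (Φ.quotKerEquivOfSurjective hΦ).length_eq, Module.length_prod]

/-- `h1` changes by the rank under a change of generators of the maximal ideal. -/
theorem h1_add_eq [IsLocalRing A] {p q : ℕ} (f : (Fin p → A) →ₗ[A] A) (g : (Fin q → A) →ₗ[A] A)
    (hf : LinearMap.range f = maximalIdeal A) (hg : LinearMap.range g = maximalIdeal A) :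
    h1 f + q = h1 g + p := by
  have hlen : ∀ n : ℕ, Module.length A
      ((Fin n → A) ⧸ maximalIdeal A • (⊤ : Submodule A (Fin n → A))) = n := by
    intro n
    let Φ : (Fin n → A) →ₗ[A] (Fin n → A ⧸ maximalIdeal A) :=
      LinearMap.pi fun i => Submodule.mkQ _ ∘ₗ LinearMap.proj i
    have hΦ : Function.Surjective Φ := fun v =>
      ⟨fun i => (Submodule.mkQ_surjective _ (v i)).choose,
        funext fun i => (Submodule.mkQ_surjective _ (v i)).choose_spec⟩
    have hker : LinearMap.ker Φ = maximalIdeal A • (⊤ : Submodule A (Fin n → A)) := by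
      ext v
      simp only [Φ, LinearMap.ker_pi, Submodule.mem_iInf, LinearMap.ker_comp, Submodule.ker_mkQ,
        Submodule.mem_comap, LinearMap.coe_proj, Function.eval]
      refine ⟨fun h => ?_, fun h i => ?_⟩
      · rw [← Finset.univ_sum_single v]
        refine Submodule.sum_mem _ fun i _ => ?_
        rw [show (Pi.single i (v i) : Fin n → A) = v i • Pi.single i 1 by
          rw [← Pi.single_smul, smul_eq_mul, mul_one]]
        exact Submodule.smul_mem_smul (h i) trivial
      · exact Submodule.smul_induction_on h (p := fun v : Fin n → A => v i ∈ maximalIdeal A)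
          (fun r hr w _ => Ideal.mul_mem_right _ _ hr) fun a b ha hb => add_mem ha hb
    rw [← (Submodule.quotEquivOfEq _ _ hker).length_eq, (Φ.quotKerEquivOfSurjective hΦ).length_eq,
      Module.length_pi, ENat.card_eq_coe_fintype_card, Fintype.card_fin]
    have : IsSimpleModule A (A ⧸ maximalIdeal A) :=
      isSimpleModule_iff_isCoatom.mpr (IsLocalRing.maximalIdeal.isMaximal A).out
    rw [Module.length_eq_one, mul_one]
  have key : ∀ {p q : ℕ} (f : (Fin p → A) →ₗ[A] A) (g : (Fin q → A) →ₗ[A] A),
      LinearMap.range f = maximalIdeal A → LinearMap.range g ≤ LinearMap.range f →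
      h1 (f.coprod g) = h1 f + q := by
    intro p q f g hf hle
    have hmem : ∀ i, g (Pi.single i 1) ∈ LinearMap.range f := fun i => hle ⟨_, rfl⟩
    choose c hc using hmem
    let φ : (Fin q → A) →ₗ[A] (Fin p → A) := Fintype.linearCombination A c
    have hφ : f ∘ₗ φ = g := LinearMap.pi_ext' fun i => LinearMap.ext_ring (by
      simp [φ, Fintype.linearCombination_apply_single, hc])
    let e : ((Fin p → A) × (Fin q → A)) ≃ₗ[A] ((Fin p → A) × (Fin q → A)) :=
      { toFun := fun x => (x.1 + φ x.2, x.2)
        map_add' := fun x y => by simp [add_add_add_comm]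
        map_smul' := fun r x => by simp
        invFun := fun x => (x.1 - φ x.2, x.2)
        left_inv := fun x => by simp
        right_inv := fun x => by simp }
    have he : f.coprod g = (f ∘ₗ LinearMap.fst A _ (Fin q → A)) ∘ₗ e.toLinearMap := by
      refine LinearMap.ext fun x => ?_
      simp [e, ← hφ]
    rw [he, h1_comp_equiv, h1_comp_fst, hf, hlen]
  rw [← key f g hf (hf ▸ hg.le), ← key g f hg (hg ▸ hf.le),
    show g.coprod f = f.coprod g ∘ₗ (LinearEquiv.prodComm A _ _).toLinearMap from
      LinearMap.ext fun x => by simp [add_comm], h1_comp_equiv]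

/-- The syzygies of a regular sequence are the Koszul relations. -/
theorem ker_le_bd {n : ℕ} {B : Type u} [CommRing B] (x : Fin n → B)
    (h : IsWeaklyRegular B (List.ofFn x)) :
    LinearMap.ker (Fintype.linearCombination B x) ≤ bd (Fintype.linearCombination B x) := by
  induction n generalizing B with
  | zero => intro v _; rw [Subsingleton.elim v 0]; exact zero_mem _
  | succ n ih =>
    rw [List.ofFn_succ, isWeaklyRegular_cons_iff] at h
    intro v hv
    let B' := B ⧸ Ideal.span {x 0}
    let π : B →+* B' := Ideal.Quotient.mk _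
    let f := Fintype.linearCombination B x
    let x' : Fin n → B' := fun i => π (x i.succ)
    have h' : IsWeaklyRegular B' (List.ofFn x') := by
      have hl : List.ofFn x' = (List.ofFn fun i => x i.succ).map (algebraMap B B') := by
        rw [List.map_ofFn]; rfl
      rw [hl, isWeaklyRegular_map_algebraMap_iff]
      refine (LinearEquiv.isWeaklyRegular_congr ?_ _).mp h.2
      exact Submodule.quotEquivOfEq _ _ (by
        rw [← Submodule.ideal_span_singleton_smul, smul_eq_mul, Ideal.mul_top])
    have hsum : ∀ w : Fin (n + 1) → B, f w = w 0 * x 0 + ∑ i : Fin n, w i.succ * x i.succ := fun w => by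
      simp [f, Fintype.linearCombination_apply, Fin.sum_univ_succ]
    have hv' : (fun i => π (v i.succ)) ∈ LinearMap.ker (Fintype.linearCombination B' x') := by
      have h0 : π (f v) = 0 := by rw [LinearMap.mem_ker.mp hv, map_zero]
      rw [hsum, map_add, map_mul, show π (x 0) = 0 from Ideal.Quotient.eq_zero_iff_mem.mpr
        (Ideal.mem_span_singleton_self _), mul_zero, zero_add, map_sum] at h0
      simpa [Fintype.linearCombination_apply, x', map_mul] using h0
    -- lift the boundary
    have hlift : ∀ w ∈ bd (Fintype.linearCombination B' x'), ∃ d ∈ bd f,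
        (fun i => π (d i.succ)) = w := by
      intro w hw
      induction hw using Submodule.span_induction with
      | mem y hy =>
        obtain ⟨⟨a, b⟩, rfl⟩ := hy
        choose a' ha using fun i => Ideal.Quotient.mk_surjective (I := Ideal.span {x 0}) (a i)
        choose b' hb using fun i => Ideal.Quotient.mk_surjective (I := Ideal.span {x 0}) (b i)
        refine ⟨_, mem_bd f (Fin.cons 0 a') (Fin.cons 0 b'), funext fun i => ?_⟩
        simp [hsum, Fintype.linearCombination_apply, x', π, map_sub, map_mul, map_sum, ha, hb]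
      | zero => exact ⟨0, zero_mem _, funext fun i => by simp⟩
      | add a b _ _ ha hb =>
        obtain ⟨d, hd, rfl⟩ := ha
        obtain ⟨d', hd', rfl⟩ := hb
        exact ⟨d + d', add_mem hd hd', funext fun i => by simp⟩
      | smul c a _ ha =>
        obtain ⟨d, hd, rfl⟩ := ha
        obtain ⟨c, rfl⟩ := Ideal.Quotient.mk_surjective c
        exact ⟨c • d, Submodule.smul_mem _ c hd, funext fun i => by simp [π]⟩
    obtain ⟨d, hd, hde⟩ := hlift _ (ih x' h' hv')
    have hdiff : ∀ i : Fin n, ∃ y, y * x 0 = v i.succ - d i.succ := fun i =>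
      Ideal.mem_span_singleton'.mp (Ideal.Quotient.eq.mp (congrFun hde i).symm)
    choose y hy using hdiff
    let w : Fin (n + 1) → B := Fin.cons 0 y
    let k := f (Pi.single 0 1) • w - f w • Pi.single 0 1
    have hk : k ∈ bd f := mem_bd f _ _
    have hf0 : f (Pi.single 0 1) = x 0 := by simp [f, Fintype.linearCombination_apply_single]
    have hrest : ∀ i : Fin n, (v - d - k) i.succ = 0 := fun i => by
      simp [k, hf0, w, ← hy i, mul_comm]
    have hz : f (v - d - k) = 0 := by
      rw [map_sub, map_sub, LinearMap.mem_ker.mp hv, LinearMap.mem_ker.mp (bd_le_ker f hd),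
        LinearMap.mem_ker.mp (bd_le_ker f hk), sub_zero, sub_zero]
    rw [hsum] at hz
    simp only [hrest, zero_mul, Finset.sum_const_zero, add_zero] at hz
    have h0 : (v - d - k) 0 = 0 := h.1.right_eq_zero_of_smul (by rw [smul_eq_mul, mul_comm]; exact hz)
    have heq : v = d + k := by
      funext i
      refine (sub_eq_zero.mp ?_)
      rw [Pi.add_apply, ← sub_sub]
      induction i using Fin.cases with
      | zero => exact h0
      | succ i => exact hrest i
    rw [heq]
    exact add_mem hd hk

/-- `h1` is invariant under ring isomorphisms. -/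
theorem h1_ringEquiv {A' : Type u} [CommRing A'] (ψ : A ≃+* A') {n : ℕ} (x : Fin n → A) :
    h1 (Fintype.linearCombination A' fun i => ψ (x i)) = h1 (Fintype.linearCombination A x) := by
  letI : Algebra A A' := ψ.toRingHom.toAlgebra
  let g := Fintype.linearCombination A x
  let f := Fintype.linearCombination A' fun i => ψ (x i)
  let q : (Fin n → A) ≃ₗ[A] (Fin n → A') := LinearEquiv.piCongrRight fun _ =>
    { ψ.toAddEquiv with map_smul' := fun r a => map_mul ψ r a }
  have hfq : ∀ v, f (q v) = ψ (g v) := fun v => by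
    simp [f, g, q, Fintype.linearCombination_apply, map_sum]
  have hbd : ∀ v, q v ∈ bd f ↔ v ∈ bd g := by
    intro v
    constructor
    · intro hv
      have : ∀ w ∈ bd f, q.symm w ∈ bd g := by
        intro w hw
        induction hw using Submodule.span_induction with
        | mem y hy =>
          obtain ⟨⟨a, b⟩, rfl⟩ := hy
          obtain ⟨a, rfl⟩ := q.surjective a
          obtain ⟨b, rfl⟩ := q.surjective b
          have e : f (q a) • q b - f (q b) • q a = q (g a • b - g b • a) := by
            rw [hfq, hfq, map_sub, map_smul, map_smul]; rfl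
          show q.symm (f (q a) • q b - f (q b) • q a) ∈ bd g
          rw [e, LinearEquiv.symm_apply_apply]
          exact mem_bd g a b
        | zero => simp
        | add a b _ _ ha hb => rw [map_add]; exact add_mem ha hb
        | smul c a _ ha =>
          obtain ⟨c, rfl⟩ := ψ.surjective c
          rw [show ψ c • a = c • a from rfl, map_smul]
          exact Submodule.smul_mem _ c ha
      simpa using this _ hv
    · intro hv
      induction hv using Submodule.span_induction with
      | mem y hy =>
        obtain ⟨⟨a, b⟩, rfl⟩ := hy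
        have e := mem_bd f (q a) (q b)
        rw [hfq, hfq] at e
        rw [map_sub, map_smul, map_smul]
        exact e
      | zero => rw [map_zero]; exact zero_mem _
      | add a b _ _ ha hb => rw [map_add]; exact add_mem ha hb
      | smul c a _ ha => rw [map_smul]; exact Submodule.smul_mem _ (ψ c) ha
  let K' := (LinearMap.ker f).restrictScalars A
  let e' : LinearMap.ker g ≃ₗ[A] K' := q.ofSubmodules _ _ (by
    ext y
    obtain ⟨v, rfl⟩ := q.surjective y
    constructor
    · rintro ⟨w, hw, hwe⟩
      show f (q v) = 0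
      obtain rfl := q.injective hwe
      rw [hfq, LinearMap.mem_ker.mp hw, map_zero]
    · intro hy
      have hy' : f (q v) = 0 := hy
      rw [hfq, EmbeddingLike.map_eq_zero_iff] at hy'
      exact ⟨v, hy', rfl⟩)
  let Φ : LinearMap.ker g →ₗ[A] LinearMap.ker f ⧸ (bd f).comap (LinearMap.ker f).subtype :=
    ((Submodule.mkQ ((bd f).comap (LinearMap.ker f).subtype)).restrictScalars A) ∘ₗ e'.toLinearMap
  have hΦ : Function.Surjective Φ := (Submodule.mkQ_surjective _).comp e'.surjective
  have hker : LinearMap.ker Φ = (bd g).comap (LinearMap.ker g).subtype := by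
    ext v
    have : v ∈ LinearMap.ker Φ ↔ q v.1 ∈ bd f := by
      simp only [Φ, LinearMap.mem_ker, LinearMap.comp_apply, LinearMap.restrictScalars_apply,
        Submodule.mkQ_apply, Submodule.Quotient.mk_eq_zero, Submodule.mem_comap]
      rfl
    rw [this, hbd]
    rfl
  show Module.length A' _ = Module.length A _
  rw [← (Submodule.quotEquivOfEq _ _ hker).length_eq, (Φ.quotKerEquivOfSurjective hΦ).length_eq,
    Module.length_eq_of_surjective (R := A') (S := A) ψ.surjective]

/-- For a quotient of a regular ring the deficiency is `μ(J) - dim`. -/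
theorem h1_eq_spanFinrank {B : Type u} [CommRing B] [IsLocalRing B] [IsNoetherianRing B] {n : ℕ}
    (x : Fin n → B) (hreg : IsWeaklyRegular B (List.ofFn x))
    (hx : Ideal.span (Set.range x) = maximalIdeal B) (J : Ideal B) (hJ : J ≤ maximalIdeal B) :
    h1 (Fintype.linearCombination (B ⧸ J) fun i => Ideal.Quotient.mk J (x i)) = J.spanFinrank := by
  let A' := B ⧸ J
  let g := Fintype.linearCombination B x
  let f := Fintype.linearCombination A' fun i => Ideal.Quotient.mk J (x i)
  let q : (Fin n → B) →ₗ[B] (Fin n → A') :=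
    LinearMap.pi fun i => Algebra.linearMap B A' ∘ₗ LinearMap.proj i
  have hq : Function.Surjective q := fun v =>
    ⟨fun i => (Ideal.Quotient.mk_surjective (v i)).choose,
      funext fun i => (Ideal.Quotient.mk_surjective (v i)).choose_spec⟩
  have hfq : ∀ v, f (q v) = Ideal.Quotient.mk J (g v) := fun v => by
    simp [f, g, q, Fintype.linearCombination_apply, map_sum, A']
  let K : Submodule B (Fin n → B) := Submodule.comap g J
  have hJm : ∀ j ∈ J, ∃ v, g v = j := fun j hj => by
    have := hJ hj
    rw [← hx, Ideal.span, ← Fintype.range_linearCombination] at this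
    exact this
  -- the map to `J / m J`
  let Φ : K →ₗ[B] J ⧸ (maximalIdeal B) • (⊤ : Submodule B J) :=
    Submodule.mkQ _ ∘ₗ LinearMap.codRestrict J (g ∘ₗ K.subtype) fun v => v.2
  have hΦ : Function.Surjective Φ := by
    intro z
    obtain ⟨z, rfl⟩ := Submodule.mkQ_surjective _ z
    obtain ⟨v, hv⟩ := hJm z.1 z.2
    exact ⟨⟨v, show g v ∈ J from hv ▸ z.2⟩, congrArg (Submodule.mkQ _) (Subtype.ext hv)⟩
  -- the map to the homology
  let H := LinearMap.ker f ⧸ (bd f).comap (LinearMap.ker f).subtype
  let Ψ : K →ₗ[B] H :=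
    ((Submodule.mkQ ((bd f).comap (LinearMap.ker f).subtype)).restrictScalars B) ∘ₗ
      LinearMap.codRestrict ((LinearMap.ker f).restrictScalars B) (q ∘ₗ K.subtype) fun v =>
        show f (q v.1) = 0 by rw [hfq, Ideal.Quotient.eq_zero_iff_mem]; exact v.2
  have hΨ : Function.Surjective Ψ := by
    intro z
    obtain ⟨z, rfl⟩ := Submodule.mkQ_surjective _ z
    obtain ⟨v, hv⟩ := hq z.1
    refine ⟨⟨v, show g v ∈ J from ?_⟩, congrArg (Submodule.mkQ _) (Subtype.ext hv)⟩
    rw [← Ideal.Quotient.eq_zero_iff_mem, ← hfq, hv]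
    exact z.2
  have hkerq : ∀ v, q v = 0 ↔ ∀ i, v i ∈ J := fun v => by
    simp [q, funext_iff, A', Ideal.Quotient.eq_zero_iff_mem]
  have hgJ : ∀ v, (∀ i, v i ∈ J) → g v ∈ maximalIdeal B * J := fun v hv => by
    simp only [g, Fintype.linearCombination_apply, smul_eq_mul]
    refine Ideal.sum_mem _ fun i _ => ?_
    rw [mul_comm (v i) (x i)]
    exact Ideal.mul_mem_mul (hx.le (Ideal.subset_span ⟨i, rfl⟩)) (hv i)
  have hbdq : ∀ z ∈ bd f, ∃ v ∈ bd g, q v = z := by
    intro z hz
    induction hz using Submodule.span_induction with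
    | mem y hy =>
      obtain ⟨⟨a, b⟩, rfl⟩ := hy
      obtain ⟨a, rfl⟩ := hq a
      obtain ⟨b, rfl⟩ := hq b
      refine ⟨_, mem_bd g a b, ?_⟩
      simp only [map_sub, map_smul, hfq]
      rfl
    | zero => exact ⟨0, zero_mem _, map_zero _⟩
    | add a b _ _ ha hb =>
      obtain ⟨v, hv, rfl⟩ := ha
      obtain ⟨w, hw, rfl⟩ := hb
      exact ⟨v + w, add_mem hv hw, map_add _ _ _⟩
    | smul c a _ ha =>
      obtain ⟨v, hv, rfl⟩ := ha
      obtain ⟨c, rfl⟩ := Ideal.Quotient.mk_surjective c
      exact ⟨c • v, Submodule.smul_mem _ c hv, by rw [map_smul]; rfl⟩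
  have hqbd : ∀ v ∈ bd g, q v ∈ bd f := by
    intro v hv
    induction hv using Submodule.span_induction with
    | mem y hy =>
      obtain ⟨⟨a, b⟩, rfl⟩ := hy
      have e := mem_bd f (q a) (q b)
      rw [hfq, hfq] at e
      rw [map_sub, map_smul, map_smul]
      exact e
    | zero => rw [map_zero]; exact zero_mem _
    | add a b _ _ ha hb => rw [map_add]; exact add_mem ha hb
    | smul c a _ ha => rw [map_smul]; exact Submodule.smul_mem _ (Ideal.Quotient.mk J c) ha
  have hker : LinearMap.ker Φ = LinearMap.ker Ψ := by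
    ext v
    have e1 : v ∈ LinearMap.ker Φ ↔ g v.1 ∈ maximalIdeal B * J := by
      simp only [Φ, LinearMap.mem_ker, LinearMap.comp_apply, Submodule.mkQ_apply,
        Submodule.Quotient.mk_eq_zero, Submodule.mem_smul_top_iff, smul_eq_mul]
      rfl
    have e2 : v ∈ LinearMap.ker Ψ ↔ q v.1 ∈ bd f := by
      simp only [Ψ, LinearMap.mem_ker, LinearMap.comp_apply, LinearMap.restrictScalars_apply,
        Submodule.mkQ_apply]
      exact Submodule.Quotient.mk_eq_zero _
    rw [e1, e2]
    constructor
    · intro h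
      obtain ⟨w, hw, hgw⟩ : ∃ w, (∀ i, w i ∈ J) ∧ g w = g v.1 := by
        revert h
        generalize g v.1 = y
        intro h
        induction h using Submodule.mul_induction_on' with
        | mem_mul_mem a ha b hb =>
          obtain ⟨c, rfl⟩ : a ∈ LinearMap.range g := by
            rw [Fintype.range_linearCombination, ← Ideal.span, hx]; exact ha
          exact ⟨b • c, fun i => J.mul_mem_right _ hb, by rw [map_smul, smul_eq_mul, mul_comm]⟩
        | add a _ b _ ha hb =>
          obtain ⟨w, hw, rfl⟩ := ha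
          obtain ⟨w', hw', rfl⟩ := hb
          exact ⟨w + w', fun i => add_mem (hw i) (hw' i), map_add _ _ _⟩
      have hd : v.1 - w ∈ bd g := ker_le_bd x hreg (by rw [LinearMap.mem_ker]; simp [g] at hgw ⊢; rw [hgw, sub_self])
      have := hqbd _ hd
      rwa [map_sub, (hkerq w).mpr hw, sub_zero] at this
    · intro h
      obtain ⟨w, hw, hqw⟩ := hbdq _ h
      have hJ' : ∀ i, (v.1 - w) i ∈ J := (hkerq _).mp (by rw [map_sub, hqw, sub_self])
      have := hgJ _ hJ'
      rwa [map_sub, LinearMap.mem_ker.mp (bd_le_ker g hw), sub_zero] at this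
  have hs : Function.Surjective (algebraMap B A') := Ideal.Quotient.mk_surjective
  show Module.length A' H = _
  rw [← Module.length_eq_of_surjective hs, ← (Ψ.quotKerEquivOfSurjective hΨ).length_eq,
    ← (Submodule.quotEquivOfEq _ _ hker).length_eq, (Φ.quotKerEquivOfSurjective hΦ).length_eq]
  let V := J ⧸ (maximalIdeal B) • (⊤ : Submodule B J)
  have : Module.Finite B V := inferInstance
  letI : Field (B ⧸ maximalIdeal B) := Ideal.Quotient.field _
  have : Module.Finite (B ⧸ maximalIdeal B) V := Module.Finite.of_restrictScalars_finite B _ _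
  rw [show Module.length B V = Module.length (B ⧸ maximalIdeal B) V from
    Module.length_eq_of_surjective Ideal.Quotient.mk_surjective, Module.length_eq_finrank,
    spanFinrank_eq_finrank_quotient J J.fg_of_isNoetherianRing]

/-- Two presentations of the same ring by regular rings have the same deficiency. -/
theorem spanFinrank_add_eq {B₁ B₂ : Type u} [CommRing B₁] [CommRing B₂] [IsRegularLocalRing B₁]
    [IsRegularLocalRing B₂] (J₁ : Ideal B₁) (J₂ : Ideal B₂) (h₁ : J₁ ≤ maximalIdeal B₁)
    (h₂ : J₂ ≤ maximalIdeal B₂) (e : B₁ ⧸ J₁ ≃+* B₂ ⧸ J₂) {n₁ n₂ : ℕ}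
    (hn₁ : ringKrullDim B₁ = n₁) (hn₂ : ringKrullDim B₂ = n₂) :
    J₁.spanFinrank + n₂ = J₂.spanFinrank + n₁ := by
  have hgens : ∀ (B : Type u) [CommRing B] [IsRegularLocalRing B] (n : ℕ), ringKrullDim B = n →
      ∃ x : Fin n → B, IsWeaklyRegular B (List.ofFn x) ∧
        Ideal.span (Set.range x) = maximalIdeal B := by
    intro B _ _ n hn
    obtain ⟨x, hx⟩ : ∃ x : Fin n → B, Ideal.span (Set.range x) = maximalIdeal B := by
      have h := IsRegularLocalRing.spanFinrank_maximalIdeal (R := B)
      rw [hn] at h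
      have h' : (maximalIdeal B).spanFinrank = n := by exact_mod_cast h
      have hfg : (maximalIdeal B).FG := (maximalIdeal B).fg_of_isNoetherianRing
      let s := (maximalIdeal B).generators
      have : Finite s := Submodule.FG.finite_generators hfg
      have hc : Nat.card s = n := by
        rw [Nat.card_coe_set_eq]
        exact (Submodule.FG.generators_ncard hfg).trans h'
      let e := (Finite.equivFinOfCardEq hc).symm
      refine ⟨fun i => (e i).1, ?_⟩
      rw [show Set.range (fun i => ((e i).1 : B)) = s from by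
        rw [Set.range_comp' Subtype.val e, e.surjective.range_eq, Set.image_univ, Subtype.range_coe]]
      exact Submodule.span_generators _
    refine ⟨x, (Groth.Agent.Lib.Regular.Quotient.isRegular_of_span_eq_maximalIdeal (List.ofFn x)
      ?_ ?_).toIsWeaklyRegular, hx⟩
    · rw [Ideal.ofList, ← hx]; congr 1; ext; simp [List.mem_ofFn]
    · have h := IsRegularLocalRing.spanFinrank_maximalIdeal (R := B)
      rw [hn] at h
      rw [List.length_ofFn]
      exact (WithBot.coe_injective.eq_iff.mp h |> fun e => by exact_mod_cast e.symm)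
  obtain ⟨x₁, hr₁, hx₁⟩ := hgens B₁ n₁ hn₁
  obtain ⟨x₂, hr₂, hx₂⟩ := hgens B₂ n₂ hn₂
  have : Nontrivial (B₁ ⧸ J₁) := Ideal.Quotient.nontrivial_iff.mpr
    fun h => Ideal.IsPrime.ne_top' (top_le_iff.mp (h ▸ h₁))
  have : IsLocalRing (B₁ ⧸ J₁) := .of_surjective' (Ideal.Quotient.mk J₁) Ideal.Quotient.mk_surjective
  let φ : B₂ →+* B₁ ⧸ J₁ := e.symm.toRingHom.comp (Ideal.Quotient.mk J₂)
  have hφ : Function.Surjective φ := e.symm.surjective.comp Ideal.Quotient.mk_surjective
  have hmap : ∀ {B : Type u} [CommRing B] [IsLocalRing B] (φ : B →+* B₁ ⧸ J₁),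
      Function.Surjective φ → ∀ {n : ℕ} (x : Fin n → B), Ideal.span (Set.range x) = maximalIdeal B →
      LinearMap.range (Fintype.linearCombination (B₁ ⧸ J₁) fun i => φ (x i)) =
        maximalIdeal (B₁ ⧸ J₁) := by
    intro B _ _ φ hφ n x hx
    rw [Fintype.range_linearCombination, ← Ideal.span, ← IsLocalRing.map_maximalIdeal_of_surjective φ hφ,
      ← hx, Ideal.map_span, ← Set.range_comp']
  have key := h1_add_eq (A := B₁ ⧸ J₁) _ _ (hmap (Ideal.Quotient.mk J₁) Ideal.Quotient.mk_surjective x₁ hx₁)
    (hmap φ hφ x₂ hx₂)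
  rw [h1_eq_spanFinrank x₁ hr₁ hx₁ J₁ h₁] at key
  -- transport along `e`
  have hker : RingHom.ker φ = J₂ := by
    rw [RingHom.ker_equiv_comp, Ideal.mk_ker]
  have h2 : h1 (Fintype.linearCombination (B₁ ⧸ J₁) fun i => φ (x₂ i)) = J₂.spanFinrank := by
    have gen : ∀ (A : Type u) [CommRing A] (φ : B₂ →+* A), Function.Surjective φ →
        RingHom.ker φ = J₂ → h1 (Fintype.linearCombination A fun i => φ (x₂ i)) = J₂.spanFinrank := by
      intro A _ φ hφ hker
      rw [← h1_eq_spanFinrank x₂ hr₂ hx₂ J₂ h₂]
      let ψ : B₂ ⧸ J₂ ≃+* A :=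
        (Ideal.quotEquivOfEq hker.symm).trans (RingHom.quotientKerEquivOfSurjective hφ)
      exact (h1_ringEquiv ψ fun i => Ideal.Quotient.mk J₂ (x₂ i)).trans (by rfl)
    exact gen _ φ hφ hker
  rw [h2] at key
  exact_mod_cast key

end Groth.Agent.H26.CIInvariant
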