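import Groth.Agent.H26.CIBridge
import Groth.Agent.Lib.Synt92.CIPoint
import Groth.Agent.Lib.Synt92.IsLCIOverBasic

/-!
# Complete intersection points of algebras of finite type over a field
-/

universe u

open Groth.Agent.Lib.Synt92

namespace Groth.Agent.H26.CILoc

variable (k : Type u) [Field k] {S : Type u} [CommRing S] [Algebra k S]

theorem exists_globalCI_of_quotient {n : ℕ} (I : Ideal (MvPolynomial (Fin n) k))
    (q : Ideal (MvPolynomial (Fin n) k ⧸ I)) [q.IsPrime]
    (h : Synt.IsCIOver k (Localization.AtPrime q)) :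
    ∃ g : MvPolynomial (Fin n) k ⧸ I, g ∉ q ∧ Synt.IsGlobalCI k (Localization.Away g) := by
  obtain ⟨π, hπ, hker⟩ : ∃ π : Localization.AtPrime (q.comap (Ideal.Quotient.mk I)) →ₐ[k]
      Localization.AtPrime q, Function.Surjective π ∧ RingHom.ker π.toRingHom =
        I.map (algebraMap _ (Localization.AtPrime (q.comap (Ideal.Quotient.mk I)))) := by
    obtain ⟨π, hπ, hker, -⟩ := LocalQuot.exists_hom (Ideal.Quotient.mkₐ k I)
      (Ideal.Quotient.mkₐ_surjective k I) q (Localization.AtPrime q)
    rw [show RingHom.ker (Ideal.Quotient.mkₐ k I).toRingHom = I from Ideal.Quotient.mkₐ_ker k I] at hker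
    exact ⟨π, hπ, hker⟩
  let Q := q.comap (Ideal.Quotient.mk I)
  haveI : Algebra.EssFiniteType (MvPolynomial (Fin n) k) (Localization.AtPrime Q) :=
    Algebra.EssFiniteType.of_isLocalization _ Q.primeCompl
  haveI : Algebra.EssFiniteType k (Localization.AtPrime Q) :=
    Algebra.EssFiniteType.comp k (MvPolynomial (Fin n) k) _
  obtain ⟨rs, hrs, hk⟩ := (CIPres.isCIOver_iff _ _ π hπ).1 h
  have hd := ringKrullDim_add_length_eq_ringKrullDim_of_isRegular rs hrs
  rw [ringKrullDim_eq_of_ringEquiv ((Ideal.quotEquivOfEq hk.symm).trans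
    (RingHom.quotientKerEquivOfSurjective hπ))] at hd
  have hcn : rs.length ≤ n := by
    have h1 := Groth.Agent.Lib.Dim.Basic.height_add_dimQ k Q
    have h2 : Groth.Agent.Lib.Dim.Basic.trdegNat k (MvPolynomial (Fin n) k) = n := by
      have := (Groth.Agent.Lib.Dim.Basic.ringKrullDim_eq_trdegNat k (MvPolynomial (Fin n) k)).symm.trans
        (Groth.Agent.Lib.Dim.Basic.ringKrullDim_mvPolynomial k (Fin n))
      simpa using this
    rw [h2, ← Groth.Agent.Lib.Dim.Local.coe_height_toNat k] at h1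
    rw [IsLocalization.AtPrime.ringKrullDim_eq_height Q (Localization.AtPrime Q),
      IsLocalization.AtPrime.ringKrullDim_eq_height q (Localization.AtPrime q),
      ← Groth.Agent.Lib.Dim.Local.coe_height_toNat k q,
      ← Groth.Agent.Lib.Dim.Local.coe_height_toNat k Q] at hd
    norm_cast at h1 hd
    omega
  refine CIPoint.exists_isGlobalCI_of_dim I q hcn (fun i => rs[i.1]) ?_ hd.le
  rw [← hker, hk]
  refine congrArg Ideal.span (Set.ext fun x => ?_)
  simp [List.mem_iff_getElem, Fin.exists_iff]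

/-- A complete intersection point has a global complete intersection neighbourhood. -/
theorem exists_globalCI_nhd [Algebra.FiniteType k S] (q : Ideal S) [q.IsPrime]
    (h : Synt.IsCIOver k (Localization.AtPrime q)) :
    ∃ g : S, g ∉ q ∧ Synt.IsGlobalCI k (Localization.Away g) := by
  obtain ⟨n, φ, hφ⟩ := Algebra.FiniteType.iff_quotient_mvPolynomial''.mp ‹Algebra.FiniteType k S›
  let e : (MvPolynomial (Fin n) k ⧸ RingHom.ker φ) ≃ₐ[k] S :=
    Ideal.quotientKerAlgEquivOfSurjective hφ
  let q' := q.comap e.toAlgHom.toRingHom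
  haveI : q'.IsPrime := Ideal.IsPrime.comap _
  have hq' : q'.primeCompl.map e.toAlgHom.toRingHom.toMonoidHom = q.primeCompl := by
    ext x
    exact ⟨fun ⟨y, hy, e⟩ => e ▸ hy, fun hx => ⟨e.symm x, fun hm => hx (by
      have := (Ideal.mem_comap.mp hm); simpa using this), e.apply_symm_apply x⟩⟩
  let e₁ : Localization.AtPrime q' ≃ₐ[k] Localization.AtPrime q :=
    IsLocalization.algEquivOfAlgEquiv (Localization.AtPrime q') (Localization.AtPrime q) e hq'
  obtain ⟨g, hg, hci⟩ := exists_globalCI_of_quotient k _ q' (CIPoint.isCIOver_congr e₁.symm h)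
  refine ⟨e g, hg, IsLCIOverBasic.isGlobalCI_congr k
    (IsLocalization.algEquivOfAlgEquiv (Localization.Away g) (Localization.Away (e g)) e
      (show (Submonoid.powers g).map _ = Submonoid.powers (e g) from ?_)) hci⟩
  rw [Submonoid.map_powers]

theorem isCIOver_iff_globalCI_nhd [Algebra.FiniteType k S] (q : Ideal S) [q.IsPrime] :
    Synt.IsCIOver k (Localization.AtPrime q) ↔
      ∃ g : S, g ∉ q ∧ Synt.IsGlobalCI k (Localization.Away g) :=
  ⟨exists_globalCI_nhd k q, fun ⟨g, hg, h⟩ => CIPoint.isCIOver_of_away g q hg h⟩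

theorem isLCIOver_iff [Algebra.FiniteType k S] :
    Synt.IsLCIOver k S ↔ ∀ p : PrimeSpectrum S, Synt.IsCIOver k (Localization.AtPrime p.asIdeal) :=
  ⟨fun h p => (isCIOver_iff_globalCI_nhd k p.asIdeal).2 (h.2 p),
    fun h => ⟨inferInstance, fun p => exists_globalCI_nhd k p.asIdeal (h p)⟩⟩

end Groth.Agent.H26.CILoc
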