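import Groth.Agent.H26.CIInvariant
import Groth.Agent.H20.CMRegular
import Groth.Agent.Lib.Regular.Completion
import Groth.Agent.Lib.Excellent.CompletionFinite
import Groth.Agent.H21.SkDescent
import Groth.Prelude.Def_Pi1
import Groth.Agent.Lib.JacCrit.FlatRegular
import Mathlib.RingTheory.Regular.Flat
import Mathlib.RingTheory.TensorProduct.Quotient
import Mathlib.RingTheory.Flat.FaithfullyFlat.Algebra

/-!
# Complete intersections as quotients of regular local rings
-/

universe u

open IsLocalRing RingTheory.Sequence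
open scoped TensorProduct

namespace Groth.Agent.H26.CIQuotient

open Groth.Agent.Lib

theorem ofList_eq_span {A : Type u} [CommRing A] (rs : List A) :
    Ideal.ofList rs = Ideal.span {r | r ∈ rs} := rfl

theorem exists_list_spanFinrank {A : Type u} [CommRing A] (I : Ideal A) (hI : I.FG) :
    ∃ rs : List A, Ideal.ofList rs = I ∧ rs.length = I.spanFinrank := by
  let s := I.generators
  have hs : s.Finite := Submodule.FG.finite_generators hI
  refine ⟨hs.toFinset.toList, ?_, ?_⟩
  · rw [ofList_eq_span]
    simp only [Finset.mem_toList, Set.Finite.mem_toFinset]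
    exact Submodule.span_generators I
  · rw [Finset.length_toList, ← Set.ncard_eq_toFinset_card s hs]
    exact Submodule.FG.generators_ncard hI

theorem spanFinrank_ofList_le {A : Type u} [CommRing A] (rs : List A) :
    (Ideal.ofList rs).spanFinrank ≤ rs.length := by
  classical
  rw [ofList_eq_span, show {r | r ∈ rs} = (rs.toFinset : Set A) by ext; simp]
  refine (Submodule.spanFinrank_span_le_ncard_of_finite (Finset.finite_toSet _)).trans ?_
  rw [Set.ncard_coe_finset]
  exact rs.toFinset_card_le

/-- The number of generators does not drop along faithfully flat local maps with trivial fibre. -/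
theorem spanFinrank_le_map {R S : Type u} [CommRing R] [CommRing S] [IsLocalRing S]
    [IsNoetherianRing R] [IsNoetherianRing S] [Algebra R S] [Module.FaithfullyFlat R S]
    (I : Ideal R) : I.spanFinrank ≤ (I.map (algebraMap R S)).spanFinrank := by
  classical
  let J := I.map (algebraMap R S)
  obtain ⟨s, hs⟩ := I.fg_of_isNoetherianRing
  let V := J ⧸ (maximalIdeal S) • (⊤ : Submodule S J)
  letI : Field (S ⧸ maximalIdeal S) := Ideal.Quotient.field _
  have : Module.Finite (S ⧸ maximalIdeal S) V := Module.Finite.of_restrictScalars_finite S _ _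
  have hsI : ∀ a ∈ s, a ∈ I := fun a ha => hs.le (Submodule.subset_span ha)
  let v : s → V := fun a =>
    Submodule.Quotient.mk ⟨algebraMap R S a.1, Ideal.mem_map_of_mem _ (hsI _ a.2)⟩
  have hspan : Submodule.span (S ⧸ maximalIdeal S) (Set.range v) = ⊤ := by
    have hmk : ∀ x (hx : x ∈ J), (Submodule.Quotient.mk ⟨x, hx⟩ : V) ∈
        Submodule.span (S ⧸ maximalIdeal S) (Set.range v) := by
      intro x hx
      have hx' : x ∈ Submodule.span S (algebraMap R S '' (s : Set R)) := by
        rw [← Ideal.span, ← Ideal.map_span]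
        exact (congrArg (Ideal.map (algebraMap R S)) hs).ge hx
      have hle : Submodule.span S (algebraMap R S '' (s : Set R)) ≤ J := Submodule.span_le.mpr (by
        rintro _ ⟨a, ha, rfl⟩; exact Ideal.mem_map_of_mem _ (hsI a ha))
      induction hx' using Submodule.span_induction with
      | mem y hy =>
        obtain ⟨a, ha, rfl⟩ := hy
        exact Submodule.subset_span ⟨⟨a, ha⟩, rfl⟩
      | zero => exact zero_mem _
      | add a b ha hb iha ihb =>
        rw [show (⟨a + b, hx⟩ : J) = ⟨a, hle ha⟩ + ⟨b, hle hb⟩ from rfl, Submodule.Quotient.mk_add]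
        exact add_mem (iha _) (ihb _)
      | smul c a ha iha =>
        rw [show (⟨c • a, hx⟩ : J) = c • ⟨a, hle ha⟩ from rfl, Submodule.Quotient.mk_smul]
        exact Submodule.smul_mem _ (Ideal.Quotient.mk _ c) (iha _)
    rw [eq_top_iff]
    rintro z -
    obtain ⟨⟨x, hx⟩, rfl⟩ := Submodule.mkQ_surjective _ z
    exact hmk x hx
  obtain ⟨κ, a, ha, hsp, hli⟩ := exists_linearIndependent' (S ⧸ maximalIdeal S) v
  have : Fintype κ := Fintype.ofInjective a ha
  rw [hspan] at hsp
  have hcard : Fintype.card κ = J.spanFinrank := by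
    rw [spanFinrank_eq_finrank_quotient J J.fg_of_isNoetherianRing,
      Module.finrank_eq_card_basis (Module.Basis.mk hli hsp.ge)]
  let t : κ → R := fun k => (a k).1
  have htJ : J ≤ Ideal.span (Set.range fun k => algebraMap R S (t k)) ⊔ maximalIdeal S • J := by
    intro x hx
    have hz : (Submodule.Quotient.mk ⟨x, hx⟩ : V) ∈
        Submodule.span (S ⧸ maximalIdeal S) (Set.range (v ∘ a)) := hsp.symm ▸ trivial
    rw [Submodule.mem_span_range_iff_exists_fun] at hz
    obtain ⟨c, hc⟩ := hz
    choose c' hc' using fun k => Ideal.Quotient.mk_surjective (c k)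
    have hc2 : (Submodule.Quotient.mk (∑ k, c' k •
        (⟨algebraMap R S (t k), Ideal.mem_map_of_mem _ (hsI _ (a k).2)⟩ : J)) : V) =
        Submodule.Quotient.mk ⟨x, hx⟩ := by
      rw [← hc]
      change (Submodule.mkQ _) (∑ k, _) = _
      rw [map_sum]
      exact Finset.sum_congr rfl fun k _ => by rw [map_smul, ← hc' k]; rfl
    rw [Submodule.Quotient.eq, Submodule.mem_smul_top_iff] at hc2
    simp only [AddSubgroupClass.coe_sub, AddSubmonoidClass.coe_finset_sum, SetLike.val_smul] at hc2
    rw [show x = (∑ k, c' k • algebraMap R S (t k)) - ((∑ k, c' k • algebraMap R S (t k)) - x) by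
      rw [sub_sub_cancel]]
    refine sub_mem (Ideal.mem_sup_left (Submodule.sum_mem _ fun k _ => ?_)) (Ideal.mem_sup_right hc2)
    exact Submodule.smul_mem _ _ (Ideal.subset_span ⟨k, rfl⟩)
  have hJt : J ≤ Ideal.span (Set.range fun k => algebraMap R S (t k)) :=
    Submodule.le_of_le_smul_of_le_jacobson_bot J.fg_of_isNoetherianRing
      (maximalIdeal_le_jacobson ⊥) htJ
  have hIt : I = Ideal.span (Set.range t) := by
    refine le_antisymm ?_ (Ideal.span_le.mpr (by rintro _ ⟨k, rfl⟩; exact hsI _ (a k).2))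
    rw [← Ideal.comap_map_eq_self_of_faithfullyFlat (B := S) (Ideal.span (Set.range t)),
      Ideal.map_span, ← Set.range_comp, ← Ideal.map_le_iff_le_comap]
    exact hJt
  rw [hIt, ← hIt]
  conv_lhs => rw [hIt]
  refine (Submodule.spanFinrank_span_le_ncard_of_finite (Set.finite_range t)).trans ?_
  rw [← hcard]
  exact (Set.ncard_image_le (s := Set.univ) (f := t) Set.finite_univ).trans_eq (by
    rw [Set.ncard_univ, Nat.card_eq_fintype_card]) |>.trans_eq' (by rw [Set.image_univ])

variable {R : Type u} [CommRing R] [IsRegularLocalRing R]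

local notation "R^" => AdicCompletion (maximalIdeal R) R

/-- The completion of a quotient. -/
theorem nonempty_completion_quotient (I : Ideal R) (hI : I ≤ maximalIdeal R) [IsLocalRing (R ⧸ I)] :
    Nonempty (AdicCompletion (maximalIdeal (R ⧸ I)) (R ⧸ I) ≃+*
      R^ ⧸ I.map (algebraMap R R^)) := by
  have hm : (maximalIdeal R).map (algebraMap R (R ⧸ I)) = maximalIdeal (R ⧸ I) :=
    IsLocalRing.map_maximalIdeal_of_surjective _ Ideal.Quotient.mk_surjective
  rw [← hm]
  exact ⟨(Excellent.CompletionFinite.completionEquiv (maximalIdeal R) (R ⧸ I)).toRingEquiv.symm.trans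
    ((Algebra.TensorProduct.comm R (R ⧸ I) R^).toRingEquiv.trans
      (Algebra.TensorProduct.quotIdealMapEquivTensorQuot R^ I).toRingEquiv.symm)⟩

/-- The numerical criterion. -/
theorem isCompleteIntersection_iff_le (I : Ideal R) (hI : I ≤ maximalIdeal R) [IsLocalRing (R ⧸ I)] :
    (Pi1.IsCompleteIntersection (R ⧸ I) ↔
      ringKrullDim (R ⧸ I) + (I.spanFinrank : WithBot ℕ∞) ≤ ringKrullDim R) ∧
    (Pi1.IsCompleteIntersection (R ⧸ I) ↔ ∃ rs : List R, IsRegular R rs ∧ Ideal.ofList rs = I) := by
  have hne : maximalIdeal R ≠ ⊤ := Ideal.IsPrime.ne_top'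
  have := Regular.Completion.isLocalRing (maximalIdeal R) hne
  have := Regular.Completion.isLocalHom (maximalIdeal R) hne
  have : IsRegularLocalRing R^ := (Regular.Completion.isRegularLocalRing_iff _ hne).mp inferInstance
  have hmap := Regular.Completion.map_maximalIdeal (maximalIdeal R) hne
  have : Module.Flat R R^ := AdicCompletion.flat_of_isNoetherian _
  have : Module.FaithfullyFlat R R^ := Module.FaithfullyFlat.of_flat_of_isLocalHom
  obtain ⟨e⟩ := nonempty_completion_quotient I hI
  set Iₕ := I.map (algebraMap R R^)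
  have hIh : Iₕ ≤ maximalIdeal R^ := hmap ▸ Ideal.map_mono hI
  have hdimA : ringKrullDim (R^ ⧸ Iₕ) = ringKrullDim (R ⧸ I) := by
    rw [← ringKrullDim_eq_of_ringEquiv e, Regular.Completion.ringKrullDim_eq _ Ideal.IsPrime.ne_top']
  have hdimR : ringKrullDim R^ = ringKrullDim R := Regular.Completion.ringKrullDim_eq _ hne
  have mem_of : ∀ (B : Type u) [CommRing B] [IsLocalRing B] (rs : List B) (J : Ideal B),
      Ideal.ofList rs = J → J ≤ maximalIdeal B → ∀ r ∈ rs, r ∈ maximalIdeal B :=
    fun B _ _ rs J h hJ r hr => hJ (h.le (Ideal.subset_span hr))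
  have h1 : Pi1.IsCompleteIntersection (R ⧸ I) →
      ringKrullDim (R ⧸ I) + (I.spanFinrank : WithBot ℕ∞) ≤ ringKrullDim R := by
    rintro ⟨B, _, _, rs, hmem, hreg, ⟨e'⟩⟩
    obtain ⟨dB, hdB, -⟩ := Regular.Quotient.exists_dim_eq (R := B)
    obtain ⟨dR, hdR, -⟩ := Regular.Quotient.exists_dim_eq (R := R^)
    have hinv := CIInvariant.spanFinrank_add_eq Iₕ (Ideal.ofList rs) hIh
      (Ideal.span_le.mpr hmem) (e.symm.trans e') hdR hdB
    have hlen := spanFinrank_ofList_le rs
    have hle : I.spanFinrank ≤ Iₕ.spanFinrank := spanFinrank_le_map (S := R^) I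
    have hB := ringKrullDim_add_length_eq_ringKrullDim_of_isRegular rs hreg
    rw [show ringKrullDim (B ⧸ Ideal.ofList rs) = ringKrullDim (R ⧸ I) by
      rw [← hdimA]; exact ringKrullDim_eq_of_ringEquiv (e'.symm.trans e), hdB] at hB
    rw [← hdimR, hdR]
    generalize ringKrullDim (R ⧸ I) = d at hB
    induction d using WithBot.recBotCoe with
    | bot => simp
    | coe d =>
      induction d with
      | top => exact absurd hB (by norm_cast; simp)
      | coe d =>
        norm_cast at hB ⊢
        omega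
  have h2 : ringKrullDim (R ⧸ I) + (I.spanFinrank : WithBot ℕ∞) ≤ ringKrullDim R →
      ∃ rs : List R, IsRegular R rs ∧ Ideal.ofList rs = I := by
    intro h
    obtain ⟨rs, hrs, hlen⟩ := exists_list_spanFinrank I I.fg_of_isNoetherianRing
    have := JacCrit.FlatRegular.isCohenMacaulayLocalRing R
    refine ⟨rs, H20.CMRegular.isRegular_of_ringKrullDim_le rs (mem_of R rs I hrs hI) ?_, hrs⟩
    rw [hrs, hlen]
    exact h
  have h3 : (∃ rs : List R, IsRegular R rs ∧ Ideal.ofList rs = I) →
      Pi1.IsCompleteIntersection (R ⧸ I) := by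
    rintro ⟨rs, hreg, hrs⟩
    let rs' := rs.map (algebraMap R R^)
    have hrs' : Ideal.ofList rs' = Iₕ := by
      rw [← Ideal.map_ofList, hrs]
    have hmem := mem_of _ rs' Iₕ hrs' hIh
    refine ⟨R^, inferInstance, inferInstance, rs', hmem, ?_,
      ⟨e.trans (Ideal.quotEquivOfEq hrs'.symm)⟩⟩
    refine Depth.Basic.isRegular_of_mem (I := maximalIdeal R^)
      (Depth.Basic.smul_top_ne_top Ideal.IsPrime.ne_top') ?_ hmem
    exact IsWeaklyRegular.of_flat hreg.toIsWeaklyRegular
  exact ⟨⟨h1, fun h => h3 (h2 h)⟩, fun h => h2 (h1 h), h3⟩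

/-- The criterion for an arbitrary surjection from a regular local ring. -/
theorem isCompleteIntersection_iff_of_surjective {A : Type u} [CommRing A] [IsLocalRing A]
    [Algebra R A] (hs : Function.Surjective (algebraMap R A)) :
    (Pi1.IsCompleteIntersection A ↔
      ∃ rs : List R, IsRegular R rs ∧ Ideal.ofList rs = RingHom.ker (algebraMap R A)) ∧
    (Pi1.IsCompleteIntersection A ↔
      ringKrullDim A + ((RingHom.ker (algebraMap R A)).spanFinrank : WithBot ℕ∞) ≤ ringKrullDim R) := by
  set I := RingHom.ker (algebraMap R A) with hIdef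
  have hI : I ≤ maximalIdeal R := IsLocalRing.le_maximalIdeal (RingHom.ker_ne_top _)
  have : IsLocalRing (R ⧸ I) := by
    have : Nontrivial (R ⧸ I) := Ideal.Quotient.nontrivial_iff.mpr (RingHom.ker_ne_top _)
    exact .of_surjective' (Ideal.Quotient.mk I) Ideal.Quotient.mk_surjective
  let ψ : (R ⧸ I) ≃ₐ[R] A := Ideal.quotientKerAlgEquivOfSurjective (f := Algebra.ofId R A) hs
  have hA : (maximalIdeal R).map (algebraMap R A) = maximalIdeal A :=
    IsLocalRing.map_maximalIdeal_of_surjective _ hs
  have hq : (maximalIdeal R).map (algebraMap R (R ⧸ I)) = maximalIdeal (R ⧸ I) :=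
    IsLocalRing.map_maximalIdeal_of_surjective _ Ideal.Quotient.mk_surjective
  have : Module.Finite R A := Module.Finite.equiv ψ.toLinearEquiv
  obtain ⟨e⟩ : Nonempty (AdicCompletion (maximalIdeal A) A ≃+*
      AdicCompletion (maximalIdeal (R ⧸ I)) (R ⧸ I)) := by
    rw [← hA, ← hq]
    exact ⟨((Excellent.CompletionFinite.completionEquiv (maximalIdeal R) A).toRingEquiv.symm.trans
      (Algebra.TensorProduct.congr ψ.symm AlgEquiv.refl).toRingEquiv).trans
      (Excellent.CompletionFinite.completionEquiv (maximalIdeal R) (R ⧸ I)).toRingEquiv⟩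
  have key : Pi1.IsCompleteIntersection A ↔ Pi1.IsCompleteIntersection (R ⧸ I) :=
    ⟨fun ⟨B, i1, i2, rs, h1, h2, ⟨f⟩⟩ => ⟨B, i1, i2, rs, h1, h2, ⟨e.symm.trans f⟩⟩,
      fun ⟨B, i1, i2, rs, h1, h2, ⟨f⟩⟩ => ⟨B, i1, i2, rs, h1, h2, ⟨e.trans f⟩⟩⟩
  have h := isCompleteIntersection_iff_le I hI
  exact ⟨key.trans h.2, by rw [key, h.1, ringKrullDim_eq_of_ringEquiv ψ.toRingEquiv]⟩

/-- A regular local ring is a complete intersection. -/
theorem isCompleteIntersection_of_regular (A : Type u) [CommRing A] [IsRegularLocalRing A] :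
    Pi1.IsCompleteIntersection A := by
  refine (isCompleteIntersection_iff_of_surjective (R := A) (A := A) Function.surjective_id).1.mpr
    ⟨[], Depth.Basic.isRegular_of_mem (I := maximalIdeal A)
      (Depth.Basic.smul_top_ne_top Ideal.IsPrime.ne_top') (IsWeaklyRegular.nil A A) (by simp), ?_⟩
  rw [Ideal.ofList_nil, RingHom.ker, Algebra.algebraMap_self]
  ext x; simp

end Groth.Agent.H26.CIQuotient
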