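import Groth.Agent.H26.CIQuotient
import Groth.Agent.H26.FibreRegStalk
import Mathlib.RingTheory.Localization.AtPrime.Basic
import Mathlib.RingTheory.Spectrum.Prime.Topology
import Mathlib.AlgebraicGeometry.StructureSheaf

/-!
# Openness of the complete intersection locus in quotients of regular rings
-/

universe u

open IsLocalRing RingTheory.Sequence

namespace Groth.Agent.H26.CISpread

variable {B : Type u} [CommRing B]

theorem mem_map_iff (q : Ideal B) [q.IsPrime] (J : Ideal B) (z : B) :
    algebraMap B (Localization.AtPrime q) z ∈ J.map (algebraMap B (Localization.AtPrime q)) ↔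
      ∃ t ∉ q, t * z ∈ J := by
  constructor
  · intro h
    obtain ⟨⟨a, s⟩, e⟩ := (IsLocalization.mem_map_algebraMap_iff q.primeCompl _).mp h
    rw [← map_mul] at e
    obtain ⟨c, hc⟩ := IsLocalization.exists_of_eq (M := q.primeCompl) e
    exact ⟨c * s, fun hm => (Ideal.IsPrime.mem_or_mem ‹_› hm).elim c.2 s.2, by
      rw [mul_assoc, mul_comm (s : B) z, hc]; exact J.mul_mem_left _ a.2⟩
  · rintro ⟨t, ht, htz⟩
    rw [← Ideal.unit_mul_mem_iff_mem _ (IsLocalization.map_units _ (⟨t, ht⟩ : q.primeCompl)),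
      ← map_mul]
    exact Ideal.mem_map_of_mem _ htz

theorem isSMulRegular_quotient_iff {C : Type u} [CommRing C] (J : Ideal C) (f : C) :
    IsSMulRegular (C ⧸ J • (⊤ : Submodule C C)) f ↔ ∀ z, f * z ∈ J → z ∈ J := by
  constructor
  · intro h z hz
    have : f • Submodule.Quotient.mk (p := J • (⊤ : Submodule C C)) z = 0 := by
      rw [← Submodule.Quotient.mk_smul, Submodule.Quotient.mk_eq_zero, smul_eq_mul, smul_eq_mul,
        Ideal.mul_top]
      exact hz
    have := h.right_eq_zero_of_smul this
    rwa [Submodule.Quotient.mk_eq_zero, smul_eq_mul, Ideal.mul_top] at this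
  · intro h
    refine IsSMulRegular.of_right_eq_zero_of_smul fun x hx => ?_
    obtain ⟨z, rfl⟩ := Submodule.mkQ_surjective _ x
    rw [Submodule.mkQ_apply, ← Submodule.Quotient.mk_smul, Submodule.Quotient.mk_eq_zero,
      smul_eq_mul, smul_eq_mul, Ideal.mul_top] at hx
    rw [Submodule.mkQ_apply, Submodule.Quotient.mk_eq_zero, smul_eq_mul, Ideal.mul_top]
    exact h z hx

/-- Weakly regular sequences spread to a neighbourhood. -/
theorem exists_weaklyRegular_nhd [IsNoetherianRing B] (p : Ideal B) [p.IsPrime] (fs : List B)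
    (h : IsWeaklyRegular (Localization.AtPrime p) (fs.map (algebraMap B (Localization.AtPrime p)))) :
    ∃ g ∉ p, ∀ (q : Ideal B) [q.IsPrime], g ∉ q →
      IsWeaklyRegular (Localization.AtPrime q) (fs.map (algebraMap B (Localization.AtPrime q))) := by
  classical
  have hstep : ∀ i : Fin fs.length, ∃ g ∉ p, ∀ z, fs[i.1] * z ∈ Ideal.ofList (fs.take i.1) →
      g * z ∈ Ideal.ofList (fs.take i.1) := by
    intro i
    let J := Ideal.ofList (fs.take i.1)
    let C := J.colon {fs[i.1]}
    obtain ⟨s, hs⟩ := C.fg_of_isNoetherianRing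
    have hex : ∀ z ∈ s, ∃ t ∉ p, t * z ∈ J := fun z hz => by
      have hz' : fs[i.1] * z ∈ J := by
        have := (hs.le (Submodule.subset_span hz) : z ∈ C)
        rwa [Submodule.mem_colon_singleton, smul_eq_mul, mul_comm] at this
      refine (mem_map_iff p J z).mp ?_
      have h2 := (isSMulRegular_quotient_iff _ _).mp
        (h.regular_mod_prev i.1 (by rw [List.length_map]; exact i.2)) (algebraMap B _ z)
      rw [← List.map_take, ← Ideal.map_ofList, List.getElem_map, ← map_mul] at h2
      exact h2 (Ideal.mem_map_of_mem _ hz')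
    choose! t ht htz using hex
    refine ⟨∏ z ∈ s, t z, fun hm => ?_, fun z hz => ?_⟩
    · obtain ⟨z, hz, hzp⟩ := Ideal.IsPrime.prod_mem_iff.mp hm
      exact ht z hz hzp
    · have hzC : z ∈ Submodule.span B (s : Set B) := hs.ge (by
        rw [Submodule.mem_colon_singleton, smul_eq_mul, mul_comm]; exact hz)
      induction hzC using Submodule.span_induction with
      | mem y hy => exact Ideal.mem_of_dvd _ (mul_dvd_mul_right (Finset.dvd_prod_of_mem t hy) _) (htz y hy)
      | zero => rw [mul_zero]; exact zero_mem _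
      | add a b ha hb iha ihb =>
        have ha' : fs[i.1] * a ∈ J := by
          have := (hs.le ha : a ∈ C)
          rwa [Submodule.mem_colon_singleton, smul_eq_mul, mul_comm] at this
        have hb' : fs[i.1] * b ∈ J := by
          have := (hs.le hb : b ∈ C)
          rwa [Submodule.mem_colon_singleton, smul_eq_mul, mul_comm] at this
        rw [mul_add]; exact add_mem (iha ha') (ihb hb')
      | smul c a ha iha =>
        have ha' : fs[i.1] * a ∈ J := by
          have := (hs.le ha : a ∈ C)
          rwa [Submodule.mem_colon_singleton, smul_eq_mul, mul_comm] at this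
        rw [smul_eq_mul, mul_left_comm]; exact J.mul_mem_left _ (iha ha')
  choose g hg hgz using hstep
  refine ⟨∏ i, g i, fun hm => ?_, fun q _ hq => ⟨fun i hi => ?_⟩⟩
  · obtain ⟨i, -, hi⟩ := Ideal.IsPrime.prod_mem_iff.mp hm
    exact hg i hi
  · rw [isSMulRegular_quotient_iff, ← List.map_take, ← Ideal.map_ofList, List.getElem_map]
    intro z hz
    obtain ⟨z₀, s, rfl⟩ := IsLocalization.exists_mk'_eq q.primeCompl z
    rw [← IsLocalization.mk'_one (M := q.primeCompl) (Localization.AtPrime q) (fs[i]'(by simpa using hi)),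
      ← IsLocalization.mk'_mul, one_mul, IsLocalization.mk'_mem_iff, mem_map_iff] at hz
    rw [IsLocalization.mk'_mem_iff, mem_map_iff]
    obtain ⟨t, ht, htz⟩ := hz
    have hi' : i < fs.length := by simpa using hi
    have hgq : g ⟨i, hi'⟩ ∉ q := fun hm =>
      hq (Ideal.mem_of_dvd _ (Finset.dvd_prod_of_mem g (Finset.mem_univ ⟨i, hi'⟩)) hm)
    refine ⟨g ⟨i, hi'⟩ * t, fun hm => (Ideal.IsPrime.mem_or_mem ‹_› hm).elim hgq ht, ?_⟩
    rw [mul_assoc]
    exact hgz ⟨i, hi'⟩ _ (by rw [mul_left_comm]; exact htz)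

/-- The kernel of the map of localizations of a quotient. -/
theorem exists_surjective_localization (I P : Ideal B) [P.IsPrime] {A : Type u} [CommRing A]
    [Algebra (B ⧸ I) A] [IsLocalization (P.primeCompl.map (Ideal.Quotient.mk I)) A] :
    ∃ φ : Localization.AtPrime P →+* A, Function.Surjective φ ∧
      RingHom.ker φ = I.map (algebraMap B (Localization.AtPrime P)) := by
  refine ⟨IsLocalization.map (M := P.primeCompl) (T := P.primeCompl.map (Ideal.Quotient.mk I)) A
      (Ideal.Quotient.mk I) P.primeCompl.le_comap_map,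
    IsLocalization.map_surjective_of_surjective P.primeCompl (Localization.AtPrime P) A
      Ideal.Quotient.mk_surjective, ?_⟩
  refine le_antisymm (fun z hz => ?_) ?_
  · obtain ⟨b, s, rfl⟩ := IsLocalization.exists_mk'_eq P.primeCompl z
    rw [RingHom.mem_ker, IsLocalization.map_mk', IsLocalization.mk'_eq_zero_iff] at hz
    obtain ⟨⟨_, m, hm, rfl⟩, he⟩ := hz
    rw [IsLocalization.mk'_mem_iff, mem_map_iff]
    exact ⟨m, hm, by
      rw [← Ideal.Quotient.eq_zero_iff_mem, map_mul]
      exact he⟩
  · rw [Ideal.map_le_iff_le_comap]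
    intro b hb
    rw [Ideal.mem_comap, RingHom.mem_ker, IsLocalization.map_eq,
      Ideal.Quotient.eq_zero_iff_mem.mpr hb, map_zero]

variable [IsRegularRing B] (I : Ideal B)

theorem ci_iff (x : PrimeSpectrum (B ⧸ I)) {A : Type u} [CommRing A] [IsLocalRing A] [Algebra (B ⧸ I) A]
    [IsLocalization.AtPrime A x.asIdeal] :
    Pi1.IsCompleteIntersection A ↔ ∃ rs : List (Localization.AtPrime
        (x.asIdeal.comap (Ideal.Quotient.mk I))),
        IsRegular (Localization.AtPrime (x.asIdeal.comap (Ideal.Quotient.mk I))) rs ∧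
      Ideal.ofList rs = I.map (algebraMap B _) := by
  let P := x.asIdeal.comap (Ideal.Quotient.mk I)
  have hM : P.primeCompl.map (Ideal.Quotient.mk I) = x.asIdeal.primeCompl := by
    ext z
    obtain ⟨b, rfl⟩ := Ideal.Quotient.mk_surjective z
    constructor
    · rintro ⟨c, hc, e⟩
      exact fun hz => hc (show Ideal.Quotient.mk I c ∈ x.asIdeal from e ▸ hz)
    · exact fun h => ⟨b, h, rfl⟩
  have : IsLocalization (P.primeCompl.map (Ideal.Quotient.mk I)) A := by rw [hM]; infer_instance
  obtain ⟨φ, hs, hk⟩ := exists_surjective_localization I P (A := A)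
  have : IsRegularLocalRing (Localization.AtPrime P) := inferInstance
  letI := φ.toAlgebra
  rw [(CIQuotient.isCompleteIntersection_iff_of_surjective (R := Localization.AtPrime P) (A := A) hs).1,
    show RingHom.ker (algebraMap (Localization.AtPrime P) A) = _ from hk]

theorem isOpen_ci : IsOpen {x : PrimeSpectrum (B ⧸ I) |
    Pi1.IsCompleteIntersection (Localization.AtPrime x.asIdeal)} := by
  classical
  rw [isOpen_iff_forall_mem_open]
  intro x hx
  obtain ⟨rs, hreg, hrs⟩ := (ci_iff I x).mp hx
  let P := x.asIdeal.comap (Ideal.Quotient.mk I)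
  have hnum : ∀ r ∈ rs, ∃ b : B, b ∈ I ∧ ∃ u : Localization.AtPrime P, IsUnit u ∧
      algebraMap B (Localization.AtPrime P) b = u * r := fun r hr => by
    have : r ∈ I.map (algebraMap B (Localization.AtPrime P)) := hrs ▸ Ideal.subset_span hr
    obtain ⟨⟨a, s⟩, e⟩ := (IsLocalization.mem_map_algebraMap_iff P.primeCompl _).mp this
    exact ⟨a, a.2, _, IsLocalization.map_units _ s, by rw [mul_comm]; exact e.symm⟩
  choose! b hbI u hu hbu using hnum
  let fs := rs.map b
  have hfs : fs.map (algebraMap B (Localization.AtPrime P)) = rs.map fun r => u r * r := by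
    rw [List.map_map]; exact List.map_congr_left hbu
  have hspan : Ideal.ofList (fs.map (algebraMap B (Localization.AtPrime P))) = Ideal.ofList rs := by
    rw [hfs]
    refine le_antisymm (Ideal.span_le.mpr fun z hz => ?_) (Ideal.span_le.mpr fun r hr => ?_)
    · obtain ⟨r, hr, rfl⟩ := List.mem_map.mp hz
      exact Ideal.mul_mem_left _ _ (Ideal.subset_span hr)
    · exact (Ideal.unit_mul_mem_iff_mem _ (hu r hr)).mp
        (Ideal.subset_span (List.mem_map.mpr ⟨r, hr, rfl⟩))
  have hreg' : IsWeaklyRegular (Localization.AtPrime P) (fs.map (algebraMap B (Localization.AtPrime P))) := by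
    let v : Localization.AtPrime P → Localization.AtPrime P := fun r => if r ∈ rs then u r else 1
    rw [hfs, show rs.map (fun r => u r * r) = rs.map (fun r => v r * r) from
      List.map_congr_left fun r hr => by simp [v, hr]]
    exact (Groth.Agent.H26.FibreRegStalk.weaklyRegular_of_unit_mul _ rs v (fun r => by
      by_cases hr : r ∈ rs <;> simp [v, hr, hu])).mpr hreg.toIsWeaklyRegular
  obtain ⟨g₁, hg₁, hg₁'⟩ := exists_weaklyRegular_nhd P fs hreg'
  -- equality of ideals spreads
  obtain ⟨s, hsI⟩ := I.fg_of_isNoetherianRing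
  have hex : ∀ z ∈ s, ∃ t ∉ P, t * z ∈ Ideal.ofList fs := fun z hz => by
    refine (mem_map_iff P _ z).mp ?_
    rw [Ideal.map_ofList, hspan, hrs]
    exact Ideal.mem_map_of_mem _ (hsI.le (Submodule.subset_span hz))
  choose! t ht htz using hex
  let g₂ := ∏ z ∈ s, t z
  have hg₂ : g₂ ∉ P := fun hm => by
    obtain ⟨z, hz, hzp⟩ := Ideal.IsPrime.prod_mem_iff.mp hm
    exact ht z hz hzp
  refine ⟨PrimeSpectrum.basicOpen (Ideal.Quotient.mk I (g₁ * g₂)), fun y hy => ?_,
    PrimeSpectrum.isOpen_basicOpen, fun hm => (Ideal.IsPrime.mem_or_mem (I := P) inferInstance hm).elim hg₁ hg₂⟩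
  let Q := y.asIdeal.comap (Ideal.Quotient.mk I)
  have hyQ : g₁ * g₂ ∉ Q := hy
  have hQeq : Ideal.ofList (fs.map (algebraMap B (Localization.AtPrime Q))) =
      I.map (algebraMap B (Localization.AtPrime Q)) := by
    rw [← Ideal.map_ofList]
    refine le_antisymm (Ideal.map_mono (Ideal.span_le.mpr fun z hz => ?_)) ?_
    · obtain ⟨r, hr, rfl⟩ := List.mem_map.mp hz
      exact hbI r hr
    · refine le_trans (Ideal.map_mono hsI.ge) ?_
      rw [Ideal.map_span, Ideal.span_le]
      rintro _ ⟨z, hz, rfl⟩
      exact (mem_map_iff Q _ z).mpr ⟨t z, fun hm => hyQ (Ideal.mul_mem_left _ _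
        (Ideal.mem_of_dvd _ (Finset.dvd_prod_of_mem t hz) hm)), htz z hz⟩
  have hle : I.map (algebraMap B (Localization.AtPrime Q)) ≤ maximalIdeal _ := by
    rw [← Localization.AtPrime.map_eq_maximalIdeal]
    exact Ideal.map_mono fun z hz => by
      show Ideal.Quotient.mk I z ∈ y.asIdeal
      rw [Ideal.Quotient.eq_zero_iff_mem.mpr hz]; exact zero_mem _
  refine (ci_iff I y).mpr ⟨fs.map (algebraMap B (Localization.AtPrime Q)),
    Groth.Agent.Lib.Depth.Basic.isRegular_of_mem (I := maximalIdeal _)
      (Groth.Agent.Lib.Depth.Basic.smul_top_ne_top Ideal.IsPrime.ne_top')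
      (hg₁' Q fun hm => hyQ (Ideal.mul_mem_right _ _ hm))
      fun z hz => hle (hQeq ▸ Ideal.subset_span hz), hQeq⟩

end Groth.Agent.H26.CISpread
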