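import Groth.Agent.H26.CITransversal
import Groth.Agent.H26.CICongr
import Groth.Agent.H26.FibreRegStalk
import Groth.Agent.Lib.Flat55.SliceSeq

/-!
# Regular sequences cutting out a flat family with complete intersection fibre
-/

universe u

open IsLocalRing RingTheory.Sequence
open Groth.Agent.Lib

namespace Groth.Agent.H26.CITransNhd

variable {A C : Type u} [CommRing A] [CommRing C] [Algebra A C] [IsLocalRing A] [IsLocalRing C]
  [IsLocalHom (algebraMap A C)]

/-- Complete intersection of the closed fibre of `C ⧸ I` in terms of the closed fibre of `C`. -/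
theorem ci_iff [IsRegularLocalRing (C ⧸ (maximalIdeal A).map (algebraMap A C))]
    (I : Ideal C) {B : Type u} [CommRing B] [IsLocalRing B]
    (ψ : C ⧸ (maximalIdeal A).map (algebraMap A C) →+* B) (hψ : Function.Surjective ψ)
    (hker : RingHom.ker ψ = I.map (Ideal.Quotient.mk ((maximalIdeal A).map (algebraMap A C)))) :
    Pi1.IsCompleteIntersection B ↔
      ∃ rs : List (C ⧸ (maximalIdeal A).map (algebraMap A C)),
        IsRegular (C ⧸ (maximalIdeal A).map (algebraMap A C)) rs ∧
        Ideal.ofList rs = I.map (Ideal.Quotient.mk ((maximalIdeal A).map (algebraMap A C))) := by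
  letI := ψ.toAlgebra
  rw [(CIQuotient.isCompleteIntersection_iff_of_surjective
    (R := C ⧸ (maximalIdeal A).map (algebraMap A C)) (A := B) hψ).1, ← hker]
  rfl

/-- The complete intersection property from a regular sequence cutting out a flat quotient. -/
theorem ci_of_weaklyRegular [IsRegularLocalRing (C ⧸ (maximalIdeal A).map (algebraMap A C))]
    (I : Ideal C) [Module.Flat A (C ⧸ I)] (hI : I ≤ maximalIdeal C)
    (fs : List C) (hw : IsWeaklyRegular C fs) (hfs : Ideal.ofList fs = I)
    {B : Type u} [CommRing B] [IsLocalRing B]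
    (ψ : C ⧸ (maximalIdeal A).map (algebraMap A C) →+* B) (hψ : Function.Surjective ψ)
    (hker : RingHom.ker ψ = I.map (Ideal.Quotient.mk ((maximalIdeal A).map (algebraMap A C)))) :
    Pi1.IsCompleteIntersection B := by
  refine (ci_iff I ψ hψ hker).mpr ⟨fs.map (Ideal.Quotient.mk _), ?_, ?_⟩
  · have hmem : ∀ r ∈ fs.map (Ideal.Quotient.mk ((maximalIdeal A).map (algebraMap A C))),
        r ∈ maximalIdeal _ := by
      intro r hr
      obtain ⟨c, hc, rfl⟩ := List.mem_map.mp hr
      exact IsLocalRing.le_maximalIdeal (RingHom.ker_ne_top ψ)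
        (hker ▸ Ideal.mem_map_of_mem _ (hfs.le (Ideal.subset_span hc)))
    exact Depth.Basic.isRegular_of_mem (I := maximalIdeal _)
      (Depth.Basic.smul_top_ne_top Ideal.IsPrime.ne_top')
      (CITransversal.weaklyRegular_fibre I fs hw hfs hI) hmem
  · rw [← Ideal.map_ofList, hfs]

/-- Spreading out equations which are regular on the closed fibre. -/
theorem exists_nhd_of_fibre {R S C' A' : Type u} [CommRing R] [CommRing S] [Algebra R S]
    [Algebra.FinitePresentation R S] (p : Ideal R) [p.IsPrime] (P : Ideal S) [P.IsPrime]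
    [CommRing A'] [IsLocalRing A'] [Algebra R A'] [IsLocalization.AtPrime A' p]
    [CommRing C'] [IsLocalRing C'] [Algebra S C'] [IsLocalization.AtPrime C' P]
    [Algebra A' C'] [IsLocalHom (algebraMap A' C')]
    (hcomm : ∀ r, algebraMap A' C' (algebraMap R A' r) = algebraMap S C' (algebraMap R S r))
    [Module.Flat A' C']
    (I : Ideal S) (hI : I.FG) [Module.Flat A' (C' ⧸ I.map (algebraMap S C'))]
    (hIP : I ≤ P) (rs : List (C' ⧸ (maximalIdeal A').map (algebraMap A' C')))
    (hreg : IsWeaklyRegular (C' ⧸ (maximalIdeal A').map (algebraMap A' C')) rs)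
    (hrs : Ideal.ofList rs = (I.map (algebraMap S C')).map
      (Ideal.Quotient.mk ((maximalIdeal A').map (algebraMap A' C')))) :
    ∃ a ∉ P, ∃ fs : List S, ∀ (Sa : Type u) [CommRing Sa] [Algebra S Sa] [IsLocalization.Away a Sa],
      IsWeaklyRegular Sa (fs.map (algebraMap S Sa)) ∧
        I.map (algebraMap S Sa) = Ideal.ofList (fs.map (algebraMap S Sa)) := by
  classical
  have hnum : ∀ r ∈ rs, ∃ b : S, b ∈ I ∧ ∃ u : C' ⧸ ((maximalIdeal A').map (algebraMap A' C')), IsUnit u ∧
      Ideal.Quotient.mk ((maximalIdeal A').map (algebraMap A' C')) (algebraMap S C' b) = u * r := fun r hr => by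
    obtain ⟨z, hz, rfl⟩ := (Ideal.mem_map_iff_of_surjective _ Ideal.Quotient.mk_surjective).mp
      (hrs ▸ Ideal.subset_span hr : r ∈ (I.map (algebraMap S C')).map (Ideal.Quotient.mk ((maximalIdeal A').map (algebraMap A' C'))))
    obtain ⟨⟨b, s⟩, e⟩ := (IsLocalization.mem_map_algebraMap_iff P.primeCompl C').mp hz
    exact ⟨b, b.2, _, (IsLocalization.map_units C' s).map (Ideal.Quotient.mk ((maximalIdeal A').map (algebraMap A' C'))), by
      rw [← map_mul, mul_comm, e]⟩
  choose! b hbI u hu hbu using hnum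
  let fs := rs.map b
  let hs := fs.map (algebraMap S C')
  have hhs : hs.map (Ideal.Quotient.mk ((maximalIdeal A').map (algebraMap A' C'))) = rs.map fun r => u r * r := by
    rw [List.map_map, List.map_map]; exact List.map_congr_left hbu
  let v : C' ⧸ ((maximalIdeal A').map (algebraMap A' C')) → C' ⧸ ((maximalIdeal A').map (algebraMap A' C')) := fun r => if r ∈ rs then u r else 1
  have hv : ∀ r, IsUnit (v r) := fun r => by by_cases hr : r ∈ rs <;> simp [v, hr, hu]
  have hhs' : hs.map (Ideal.Quotient.mk ((maximalIdeal A').map (algebraMap A' C'))) = rs.map fun r => v r * r := by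
    rw [hhs]; exact List.map_congr_left fun r hr => by simp [v, hr]
  have hwk : IsWeaklyRegular (C' ⧸ ((maximalIdeal A').map (algebraMap A' C'))) (hs.map (Ideal.Quotient.mk ((maximalIdeal A').map (algebraMap A' C')))) := by
    rw [hhs']
    exact (FibreRegStalk.weaklyRegular_of_unit_mul _ rs v hv).mpr hreg
  have hspan : (Ideal.ofList hs).map (Ideal.Quotient.mk ((maximalIdeal A').map (algebraMap A' C'))) =
      (I.map (algebraMap S C')).map (Ideal.Quotient.mk ((maximalIdeal A').map (algebraMap A' C'))) := by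
    rw [← hrs, Ideal.map_ofList, hhs']
    refine le_antisymm (Ideal.span_le.mpr fun z hz => ?_) (Ideal.span_le.mpr fun r hr => ?_)
    · obtain ⟨r, hr, rfl⟩ := List.mem_map.mp hz
      exact Ideal.mul_mem_left _ _ (Ideal.subset_span hr)
    · exact (Ideal.unit_mul_mem_iff_mem _ (hv r)).mp
        (Ideal.subset_span (List.mem_map.mpr ⟨r, hr, rfl⟩))
  have hfsI : ∀ z ∈ fs, z ∈ I := fun z hz => by
    obtain ⟨r, hr, rfl⟩ := List.mem_map.mp hz
    exact hbI r hr
  have heq : Ideal.ofList hs = I.map (algebraMap S C') :=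
    CITransversal.eq_of_fibre (A := A') (I.map (algebraMap S C')) (hI.map _) hs (fun z hz => by
      obtain ⟨w, hw, rfl⟩ := List.mem_map.mp hz
      exact Ideal.mem_map_of_mem _ (hfsI w hw)) hspan
  obtain ⟨a, ha, hsl⟩ := Flat55.SliceSeq.exists_slices (R' := A') (C' := C') p P hcomm fs
    (fun z hz => hIP (hfsI z hz)) (fun i hi y hy => by
      have hi' : i < (hs.map (Ideal.Quotient.mk ((maximalIdeal A').map (algebraMap A' C')))).length := by simpa [hs] using hi
      have h1 := (isSMulRegular_quotient_iff_mem_of_smul_mem _ _).1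
        (hwk.regular_mod_prev i hi') (Ideal.Quotient.mk _ y)
      rw [Ideal.smul_eq_mul, Ideal.mul_top, ← List.map_take, ← Ideal.map_ofList, List.getElem_map,
        smul_eq_mul, ← map_mul, Ideal.mem_quotient_iff_mem_sup, Ideal.mem_quotient_iff_mem_sup,
        ← List.map_take, ← Ideal.map_ofList, List.getElem_map] at h1
      exact h1 hy) fs.length le_rfl
  obtain ⟨gens, hgens⟩ := hI
  have hex : ∀ z ∈ gens, ∃ t ∉ P, t * z ∈ Ideal.ofList fs := fun z hz => by
    have h1 : algebraMap S C' z ∈ (Ideal.ofList fs).map (algebraMap S C') := by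
      rw [Ideal.map_ofList]
      exact heq.ge (Ideal.mem_map_of_mem _ (hgens.le (Submodule.subset_span hz)))
    obtain ⟨⟨w, s⟩, e⟩ := (IsLocalization.mem_map_algebraMap_iff P.primeCompl C').mp h1
    rw [← map_mul] at e
    obtain ⟨c, hc⟩ := IsLocalization.exists_of_eq (M := P.primeCompl) e
    exact ⟨c * s, fun hm => (Ideal.IsPrime.mem_or_mem ‹_› hm).elim c.2 s.2, by
      rw [mul_assoc, mul_comm (s : S) z, hc]; exact Ideal.mul_mem_left _ _ w.2⟩
  choose! t ht htz using hex
  let d := ∏ z ∈ gens, t z
  have hd : d ∉ P := fun hm => by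
    obtain ⟨z, hz, hzp⟩ := Ideal.IsPrime.prod_mem_iff.mp hm
    exact ht z hz hzp
  refine ⟨a * d, fun hm => (Ideal.IsPrime.mem_or_mem ‹_› hm).elim ha hd, fs, fun Sa _ _ _ => ⟨?_, ?_⟩⟩
  · obtain ⟨hfl, hsteps⟩ := hsl (Localization.Away a)
    let D := Localization.Away a
    haveI : Module.Flat R D := by
      rw [← RingHom.flat_algebraMap_iff, IsScalarTower.algebraMap_eq R S D]
      exact hfl
    have hwD := (Flat55.SliceSeq.steps_to_seq (R := R) (fs.map (algebraMap S D)) fun i hi => by
      have h := hsteps i (by simpa using hi)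
      rw [Ideal.map_ofList, List.map_take] at h
      rw [List.getElem_map, IsScalarTower.algebraMap_eq R S D]
      exact h).1
    obtain ⟨f, hf, hfc⟩ := Flat55.SliceSeq.awayMap (R := S) (Ca := Sa) a d D
    letI := f.toAlgebra
    haveI : Module.Flat D Sa := hf
    have hwS : IsWeaklyRegular Sa ((fs.map (algebraMap S D)).map (algebraMap D Sa)) :=
      IsWeaklyRegular.of_flat hwD
    rwa [List.map_map, show (algebraMap D Sa : D → Sa) ∘ (algebraMap S D : S → D) = algebraMap S Sa from
      funext fun z => DFunLike.congr_fun hfc z] at hwS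
  · rw [← Ideal.map_ofList]
    refine le_antisymm ?_ (Ideal.map_mono (Ideal.span_le.mpr hfsI))
    rw [← hgens, Ideal.map_span, Ideal.span_le]
    rintro _ ⟨z, hz, rfl⟩
    have hu : IsUnit (algebraMap S Sa (t z)) := by
      obtain ⟨w, hw⟩ := Finset.dvd_prod_of_mem t hz
      have := IsLocalization.Away.algebraMap_isUnit (S := Sa) (a * d)
      rw [show a * d = t z * (a * w) by rw [show d = t z * w from hw]; ring, map_mul] at this
      exact isUnit_of_mul_isUnit_left this
    refine (Ideal.unit_mul_mem_iff_mem _ hu).mp ?_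
    rw [← map_mul]
    exact Ideal.mem_map_of_mem _ (htz z hz)


/-- Spreading out regular equations. -/
theorem exists_nhd {R S C' A' : Type u} [CommRing R] [CommRing S] [Algebra R S]
    [Algebra.FinitePresentation R S] (p : Ideal R) [p.IsPrime] (P : Ideal S) [P.IsPrime]
    [CommRing A'] [IsLocalRing A'] [Algebra R A'] [IsLocalization.AtPrime A' p]
    [CommRing C'] [IsLocalRing C'] [Algebra S C'] [IsLocalization.AtPrime C' P]
    [Algebra A' C'] [IsLocalHom (algebraMap A' C')]
    (hcomm : ∀ r, algebraMap A' C' (algebraMap R A' r) = algebraMap S C' (algebraMap R S r))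
    [Module.Flat A' C'] [IsRegularLocalRing (C' ⧸ (maximalIdeal A').map (algebraMap A' C'))]
    (I : Ideal S) (hI : I.FG) [Module.Flat A' (C' ⧸ I.map (algebraMap S C'))]
    {B : Type u} [CommRing B] [IsLocalRing B]
    (ψ : C' ⧸ (maximalIdeal A').map (algebraMap A' C') →+* B) (hψ : Function.Surjective ψ)
    (hker : RingHom.ker ψ = (I.map (algebraMap S C')).map
      (Ideal.Quotient.mk ((maximalIdeal A').map (algebraMap A' C'))))
    (hIP : I ≤ P) (hCI : Pi1.IsCompleteIntersection B) :
    ∃ a ∉ P, ∃ fs : List S, ∀ (Sa : Type u) [CommRing Sa] [Algebra S Sa] [IsLocalization.Away a Sa],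
      IsWeaklyRegular Sa (fs.map (algebraMap S Sa)) ∧
        I.map (algebraMap S Sa) = Ideal.ofList (fs.map (algebraMap S Sa)) := by
  obtain ⟨rs, hreg, hrs⟩ := (ci_iff (I.map (algebraMap S C')) ψ hψ hker).mp hCI
  exact exists_nhd_of_fibre p P hcomm I hI hIP rs hreg.toIsWeaklyRegular hrs

end Groth.Agent.H26.CITransNhd
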