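import Groth.Agent.H26.CIQuotient
import Groth.Agent.S2868
import Groth.Agent.Lib.Synt92.CritLocal

/-!
# Fibre complete intersections and regular ideals for flat quotients
-/

universe u

open IsLocalRing RingTheory.Sequence

namespace Groth.Agent.H26.CITransversal

variable {A C : Type u} [CommRing A] [CommRing C] [Algebra A C] [IsLocalRing A] [IsLocalRing C]
  (I : Ideal C) [Module.Flat A (C ⧸ I)]

/-- Lifts of generators on the closed fibre generate. -/
theorem eq_of_fibre [IsLocalHom (algebraMap A C)] (hfg : I.FG)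
    (fs : List C) (hfs : ∀ x ∈ fs, x ∈ I)
    (h : (Ideal.ofList fs).map (Ideal.Quotient.mk ((maximalIdeal A).map (algebraMap A C))) =
      I.map (Ideal.Quotient.mk ((maximalIdeal A).map (algebraMap A C)))) :
    Ideal.ofList fs = I := by
  refine le_antisymm (Ideal.span_le.mpr hfs) ?_
  refine Submodule.le_of_le_smul_of_le_jacobson_bot (I := (maximalIdeal A).map (algebraMap A C)) hfg
    ((IsLocalRing.map_maximalIdeal_le (algebraMap A C)).trans
      (IsLocalRing.maximalIdeal_le_jacobson ⊥)) fun x hx => ?_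
  have h1 : Ideal.Quotient.mk _ x ∈ (Ideal.ofList fs).map
      (Ideal.Quotient.mk ((maximalIdeal A).map (algebraMap A C))) := h ▸ Ideal.mem_map_of_mem _ hx
  obtain ⟨c, hc, e⟩ := (Ideal.mem_map_iff_of_surjective _ Ideal.Quotient.mk_surjective).mp h1
  have hcI : c ∈ I := Ideal.span_le.mpr hfs hc
  have h2 := Groth.Agent.Lib.Synt92.CritLocal.mem_mul_of_flat I (maximalIdeal A) (sub_mem hx hcI)
    (Ideal.Quotient.eq.mp e.symm)
  rw [show x = c + (x - c) by ring]
  exact Submodule.add_mem_sup hc (by rw [smul_eq_mul]; exact h2)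

/-- A regular sequence cutting out a flat quotient stays regular on the closed fibre. -/
theorem weaklyRegular_fibre [IsLocalHom (algebraMap A C)]
    [IsNoetherianRing (C ⧸ (maximalIdeal A).map (algebraMap A C))]
    (fs : List C) (hw : IsWeaklyRegular C fs) (hI : Ideal.ofList fs = I) (hIm : I ≤ maximalIdeal C) :
    IsWeaklyRegular (C ⧸ (maximalIdeal A).map (algebraMap A C))
      (fs.map (Ideal.Quotient.mk ((maximalIdeal A).map (algebraMap A C)))) := by
  classical
  set 𝔪 := (maximalIdeal A).map (algebraMap A C)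
  haveI : Nontrivial (C ⧸ 𝔪) := Ideal.Quotient.nontrivial_iff.mpr
    (ne_top_of_le_ne_top Ideal.IsPrime.ne_top' (IsLocalRing.map_maximalIdeal_le (algebraMap A C)))
  haveI : IsLocalRing (C ⧸ 𝔪) := .of_surjective' (Ideal.Quotient.mk 𝔪) Ideal.Quotient.mk_surjective
  let x : Fin fs.length → C := fun i => fs[i.1]
  have hx : List.ofFn x = fs := List.ofFn_getElem
  have hspan : Ideal.span (Set.range x) = I := by
    rw [← hI]
    refine congrArg Ideal.span (Set.ext fun z => ?_)
    simp [x, List.mem_iff_getElem, Fin.exists_iff]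
  suffices H : CInt.KoszulH1Zero (fun i => Ideal.Quotient.mk 𝔪 (x i)) (C ⧸ 𝔪) by
    have := Groth.Agent.S2868.result (fun i => Ideal.Quotient.mk 𝔪 (x i)) (fun i => by
      rw [IsLocalRing.jacobson_eq_maximalIdeal ⊥ bot_ne_top]
      haveI : IsLocalHom (Ideal.Quotient.mk 𝔪) := IsLocalHom.of_surjective _ Ideal.Quotient.mk_surjective
      exact fun hu => hIm (hspan.le (Ideal.subset_span ⟨i, rfl⟩)) (isUnit_of_map_unit _ _ hu))
      (C ⧸ 𝔪) H
    rwa [show (fun i => Ideal.Quotient.mk 𝔪 (x i)) = Ideal.Quotient.mk 𝔪 ∘ x from rfl,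
      ← List.map_ofFn, hx] at this
  intro m hm
  choose m₀ hm₀ using fun i => Ideal.Quotient.mk_surjective (m i)
  have h1 : (∑ i, x i * m₀ i) ∈ 𝔪 := by
    rw [← Ideal.Quotient.eq_zero_iff_mem, map_sum, ← hm]
    simp only [map_mul, hm₀, smul_eq_mul]
  have h2 := Groth.Agent.Lib.Synt92.CritLocal.mem_mul_of_flat I (maximalIdeal A)
    (Ideal.sum_mem _ fun i _ => I.mul_mem_right _ (hspan.le (Ideal.subset_span ⟨i, rfl⟩))) h1
  rw [← smul_eq_mul, ← hspan, Ideal.span] at h2
  obtain ⟨a, ha, hsum⟩ := (Submodule.mem_ideal_smul_span_iff_exists_sum 𝔪 x _).mp h2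
  rw [Finsupp.sum_fintype _ _ (fun i => zero_smul C (x i))] at hsum
  simp only [smul_eq_mul] at hsum
  let d : Fin fs.length → C := fun i => m₀ i - a i
  have hd : d ∈ LinearMap.ker (Fintype.linearCombination C x) := by
    rw [LinearMap.mem_ker, Fintype.linearCombination_apply]
    simp only [smul_eq_mul, d, sub_mul, Finset.sum_sub_distrib, hsum]
    rw [sub_eq_zero]
    exact Finset.sum_congr rfl fun i _ => mul_comm _ _
  have hb := CIInvariant.ker_le_bd x (hx.symm ▸ hw) hd
  have hmd : m = fun i => Ideal.Quotient.mk 𝔪 (d i) := funext fun i => by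
    rw [← hm₀ i]
    exact (Ideal.Quotient.eq.mpr (by simpa [d] using neg_mem (ha i))).symm
  rw [hmd]
  let P := Submodule.span (C ⧸ 𝔪) {v : Fin fs.length → C ⧸ 𝔪 | ∃ (i j : Fin fs.length) (z : C ⧸ 𝔪),
    v = Ideal.Quotient.mk 𝔪 (x j) • (Pi.single i z : Fin fs.length → C ⧸ 𝔪) -
      Ideal.Quotient.mk 𝔪 (x i) • (Pi.single j z : Fin fs.length → C ⧸ 𝔪)}
  have key : ∀ w ∈ CIInvariant.bd (Fintype.linearCombination C x),
      (fun i => Ideal.Quotient.mk 𝔪 (w i)) ∈ P := by
    intro w hw
    induction hw using Submodule.span_induction with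
    | mem y hy =>
      obtain ⟨⟨p, q⟩, rfl⟩ := hy
      have e : (fun i => Ideal.Quotient.mk 𝔪
          ((Fintype.linearCombination C x p • q - Fintype.linearCombination C x q • p) i)) =
          ∑ l, ∑ k, (Ideal.Quotient.mk 𝔪 (p l * q k) • (Ideal.Quotient.mk 𝔪 (x l) •
              (Pi.single k 1 : Fin fs.length → C ⧸ 𝔪) -
            Ideal.Quotient.mk 𝔪 (x k) • (Pi.single l 1 : Fin fs.length → C ⧸ 𝔪))) := by
        funext i
        simp [Fintype.linearCombination_apply, Finset.sum_apply, Pi.single_apply, mul_sub,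
          Finset.sum_sub_distrib, Finset.sum_mul, map_sum, map_mul]
        congr 1 <;> exact Finset.sum_congr rfl fun l _ => by ring
      rw [e]
      exact Submodule.sum_mem _ fun l _ => Submodule.sum_mem _ fun k _ =>
        Submodule.smul_mem _ _ (Submodule.subset_span ⟨k, l, 1, rfl⟩)
    | zero => simp only [Pi.zero_apply, map_zero]; exact zero_mem P
    | add a b _ _ ha hb =>
      simp only [Pi.add_apply, map_add]
      exact add_mem ha hb
    | smul c a _ ha =>
      simp only [Pi.smul_apply, smul_eq_mul, map_mul]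
      exact P.smul_mem (Ideal.Quotient.mk 𝔪 c) ha
  exact key d hb

end Groth.Agent.H26.CITransversal
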