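import Groth.Agent.Lib.Ideal.Prime
import Groth.Agent.Lib.RelDiv.Diff
import Mathlib.Order.WellFounded
import Mathlib.Data.DFinsupp.WellFounded

/-!
# An effective Cartier divisor supported on integral Cartier divisors is a combination of them
-/

set_option linter.all false
set_option maxHeartbeats 1000000

universe u

open CategoryTheory AlgebraicGeometry TopologicalSpace

namespace Groth.Agent.H26.CartierFactor

open Groth.Agent.Lib.Ideal.Prime Groth.Agent.Lib.Ideal.EffCartier Groth.Agent.Lib.AssPt.Basic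

variable {X : Scheme.{u}}

theorem dim_stalk_le_one_of_maximal [IsLocallyNoetherian X] {D : X.IdealSheafData}
    (hD : BlowUp.IsEffCartierIdeal D) {z : X} (hz : z ∈ D.support)
    (hmax : ∀ w ∈ D.support, w ⤳ z → w = z) : ringKrullDim (X.presheaf.stalk z) ≤ 1 := by
  obtain ⟨U, hzU, f, hf, hDf⟩ := hD z
  have : IsNoetherianRing Γ(X, U.1) := IsLocallyNoetherian.component_noetherian U
  rw [ringKrullDim_stalk_eq_height U.2 hzU]
  refine WithBot.coe_le_coe.mpr ?_
  refine Ideal.height_le_one_of_isPrincipal_of_mem_minimalPrimes (Ideal.span {f}) _ ?_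
  refine ⟨⟨(U.2.primeIdealOf ⟨z, hzU⟩).2, hDf ▸ (mem_support_iff_le_prime D U hzU).mp hz⟩, ?_⟩
  rintro q ⟨hq, hfq⟩ hle
  obtain ⟨w, hw, rfl⟩ := exists_point_of_prime U.2 q
  have hwz : w ⤳ z := (specializes_iff_primeIdealOf U.2 hzU hw).mpr hle
  obtain rfl := hmax w ((mem_support_iff_le_prime D U hw).mpr (hDf ▸ hfq)) hwz
  exact le_rfl

theorem le_of_gen_mem (I : X.IdealSheafData) [IsIntegral I.subscheme] {D : X.IdealSheafData}
    (h : gen I ∈ D.support) : D ≤ I := fun U => by
  by_cases hU : ∃ x ∈ I.support, x ∈ U.1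
  · obtain ⟨x, hx, hxU⟩ := hU
    have hg : gen I ∈ U.1 := (gen_specializes I hx).mem_open U.1.isOpen hxU
    exact ((mem_support_iff_le_prime D U hg).mp h).trans_eq (primeIdealOf_gen I U hg)
  · by_cases htop : I.ideal U = ⊤
    · rw [htop]; exact le_top
    · obtain ⟨M, hM, hle⟩ := Ideal.exists_le_maximal _ htop
      have := hM.isPrime
      obtain ⟨y, hy, rfl⟩ := exists_point_of_prime U.2 M
      exact absurd ⟨y, (mem_support_iff_le_prime I U hy).mpr hle, hy⟩ hU

theorem wellFoundedGT_idealSheafData [IsNoetherian X] : WellFoundedGT X.IdealSheafData := by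
  classical
  obtain ⟨s, hs⟩ := isCompact_univ.elim_finite_subcover (fun U : X.affineOpens => (U.1 : Set X))
    (fun U => U.1.isOpen) (fun x _ => by
      obtain ⟨U, hU, hx, -⟩ := exists_isAffineOpen_mem_and_subset (show x ∈ (⊤ : X.Opens) from trivial)
      exact Set.mem_iUnion.mpr ⟨⟨U, hU⟩, hx⟩)
  let Φ : X.IdealSheafData → ∀ U : s, Ideal Γ(X, (U.1 : X.affineOpens).1) := fun I U => I.ideal U.1
  have hinj : Function.Injective Φ := fun I J h =>
    Scheme.IdealSheafData.ext_of_iSup_eq_top (fun U : s => U.1)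
      (eq_top_iff.mpr fun x _ => by
        obtain ⟨U, hU, hx⟩ := Set.mem_iUnion₂.mp (hs (Set.mem_univ x))
        exact Opens.mem_iSup.mpr ⟨⟨U, hU⟩, hx⟩)
      (fun U => congrFun h U)
  have hmono : Monotone Φ := fun I J h U => h U.1
  have : ∀ U : s, WellFoundedGT (Ideal Γ(X, (U.1 : X.affineOpens).1)) := fun U =>
    have := IsLocallyNoetherian.component_noetherian U.1
    inferInstance
  have : WellFoundedGT (∀ U : s, Ideal Γ(X, (U.1 : X.affineOpens).1)) :=
    (inferInstance : WellFoundedLT (∀ U : s, (Ideal Γ(X, (U.1 : X.affineOpens).1))ᵒᵈ))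
  exact (hmono.strictMono_of_injective hinj).wellFoundedGT

theorem exists_eq_prod [IsNoetherian X] {ι : Type*} [Fintype ι] (Ds : ι → X.IdealSheafData)
    (hDs : ∀ i, BlowUp.IsEffCartierIdeal (Ds i)) (hint : ∀ i, IsIntegral (Ds i).subscheme)
    (D : X.IdealSheafData) (hD : BlowUp.IsEffCartierIdeal D)
    (hsub : (D.support : Set X) ⊆ ⋃ i, ((Ds i).support : Set X)) :
    ∃ a : ι → ℕ, D = ∏ i, Ds i ^ a i := by
  classical
  have := wellFoundedGT_idealSheafData (X := X)
  induction D using WellFoundedGT.induction with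
  | _ D ih =>
    by_cases hne : D = ⊤
    · exact ⟨0, by simp only [Pi.zero_apply, pow_zero, Finset.prod_const_one]; rw [hne, Scheme.IdealSheafData.one_eq_top]⟩
    obtain ⟨x, hx⟩ : (D.support : Set X).Nonempty := by
      by_contra h
      exact hne ((Scheme.IdealSheafData.support_eq_bot_iff (I := D)).mp
        (SetLike.coe_injective (by simpa [Set.not_nonempty_iff_eq_empty] using h)))
    obtain ⟨z, hz, -, hmax⟩ := exists_maximal_generization D.support.isClosed hx
    obtain ⟨i, hi⟩ := Set.mem_iUnion.mp (hsub hz)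
    have := hint i
    have hgen : z = gen (Ds i) := by
      by_contra hne'
      have h2 := (two_le_dim_of_mem_support (Ds i) (hDs i) hi hne').trans
        (dim_stalk_le_one_of_maximal hD hz hmax)
      exact absurd h2 (by decide)
    have hle : D ≤ Ds i := le_of_gen_mem (Ds i) (hgen ▸ hz)
    obtain ⟨D', hmul⟩ : ∃ D', Ds i * D' = D :=
      ⟨_, Groth.Agent.Lib.RelDiv.Diff.mul_colon (hDs i) hle⟩
    have hD' : BlowUp.IsEffCartierIdeal D' := isEffCartier_factor_right (hmul ▸ hD)
    have hle' : D ≤ D' := fun U => by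
      rw [← hmul, Scheme.IdealSheafData.ideal_mul, Pi.mul_apply]
      exact Ideal.mul_le_right
    have hlt : D < D' := by
      refine lt_of_le_of_ne hle' fun he => ?_
      obtain ⟨U, hzU, f, hf, hDf⟩ := hD z
      have h := congrArg (fun E : X.IdealSheafData => E.ideal U) hmul
      simp only [Scheme.IdealSheafData.ideal_mul, Pi.mul_apply, ← he, hDf] at h
      obtain ⟨q, hq, hqf⟩ := Ideal.mem_mul_span_singleton.mp
        (h.symm ▸ Ideal.mem_span_singleton_self f)
      have h1 : q = 1 :=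
        (mul_cancel_right_mem_nonZeroDivisors hf).mp (hqf.trans (one_mul f).symm)
      exact (isPrime_ideal (Ds i) U ⟨z, hi, hzU⟩).ne_top ((Ideal.eq_top_iff_one _).mpr (h1 ▸ hq))
    obtain ⟨a, ha⟩ := ih D' hlt hD'
      (Set.Subset.trans (SetLike.coe_subset_coe.mpr (Scheme.IdealSheafData.support_antitone hle')) hsub)
    refine ⟨a + Pi.single i 1, ?_⟩
    have hsingle : ∏ j, Ds j ^ (Pi.single i 1 : ι → ℕ) j = Ds i := by
      rw [Finset.prod_eq_single i (fun j _ hj => by simp [hj]) (by simp)]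
      simp
    calc D = D' * Ds i := by rw [mul_comm, hmul]
      _ = (∏ j, Ds j ^ a j) * ∏ j, Ds j ^ (Pi.single i 1 : ι → ℕ) j := by rw [hsingle, ha]
      _ = _ := by rw [← Finset.prod_mul_distrib]; simp [pow_add]

end Groth.Agent.H26.CartierFactor
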