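import Groth.Agent.Lib.RefHull.ClosedPoint
import Groth.Agent.Lib.CartierDescent.Stalk
import Groth.Agent.Lib.Regular.Serre
import Groth.Agent.Lib.Depth.CM
import Groth.Agent.Lib.Excellent.Transport

/-!
# Local properties checked at closed points
-/

universe u

open CategoryTheory AlgebraicGeometry

namespace Groth.Agent.H26.ClosedPointsLocal

open Groth.Agent.Lib

variable {X : Scheme.{u}} [IsLocallyNoetherian X]

theorem regular_of_closedPoints (h : ∀ x : X, IsClosed ({x} : Set X) → IsRegularLocalRing (X.presheaf.stalk x))
    (x : X) : IsRegularLocalRing (X.presheaf.stalk x) := by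
  obtain ⟨y, hxy, hy⟩ := RefHull.ClosedPoint.exists_closed_specialization x
  haveI := h y hy
  letI := (X.presheaf.stalkSpecializes hxy).hom.toAlgebra
  haveI := CartierDescent.isLocalization_stalkSpecializes hxy
  exact Regular.Serre.isRegularLocalRing_of_isLocalization
    (Groth.Agent.Lib.CDivInt.Factorial.primeOf hxy) (X.presheaf.stalk x)

theorem cm_of_closedPoints
    (h : ∀ x : X, IsClosed ({x} : Set X) → LocCoh.IsCohenMacaulayLocalRing (X.presheaf.stalk x))
    (x : X) : LocCoh.IsCohenMacaulayLocalRing (X.presheaf.stalk x) := by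
  obtain ⟨y, hxy, hy⟩ := RefHull.ClosedPoint.exists_closed_specialization x
  haveI := h y hy
  letI := (X.presheaf.stalkSpecializes hxy).hom.toAlgebra
  haveI := CartierDescent.isLocalization_stalkSpecializes hxy
  haveI := Depth.CM.isCohenMacaulayLocalRing_localization (Groth.Agent.Lib.CDivInt.Factorial.primeOf hxy)
  exact Excellent.Transport.isCohenMacaulayLocalRing_of_ringEquiv
    (IsLocalization.algEquiv (Groth.Agent.Lib.CDivInt.Factorial.primeOf hxy).primeCompl
      (Localization.AtPrime (Groth.Agent.Lib.CDivInt.Factorial.primeOf hxy)) (X.presheaf.stalk x)).toRingEquiv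

end Groth.Agent.H26.ClosedPointsLocal
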