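import Groth.Agent.Lib.Modules.BasisHom
import Groth.Agent.Lib.Modules.ExtPowTwist
import Groth.Agent.Lib.Modules.TensorGen
import Groth.Agent.Lib.Modules.AffineSections
import Groth.Agent.Lib.Modules.LocalSections
import Groth.Agent.Lib.TensorMod.TensorInv
import Groth.Agent.Lib.Ample.GenLocus
import Groth.Agent.Lib.RefHull.SecHom
import Groth.Agent.Lib.ClSub.Basis
import Groth.Agent.H81.PushLocFree
import Groth.Prelude.Def_ExtPow2
import Groth.Prelude.Def_ClSub2
import Mathlib.LinearAlgebra.ExteriorPower.Basis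

/-!
# Duality for the direct image along a double cover
-/

set_option autoImplicit false
set_option linter.style.haveILetI false
set_option backward.isDefEq.respectTransparency false
set_option maxHeartbeats 1000000
universe u

open CategoryTheory CategoryTheory.Limits AlgebraicGeometry Opposite TopologicalSpace

namespace Groth.Agent.H26.DblDual

open Groth.Agent.Lib
open Groth.Agent.Lib.TensorMod.Dual (rs rf rs_smul rs_rs rf_rf rs_self rf_self)
open Groth.Agent.Lib.TensorMod.Gen (IsGen)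
open Groth.Agent.Lib.Modules.TensorGen (tg tg_apply rs_tg tg_bijective)
open Groth.Agent.H81.PushLocFree (push)

noncomputable section

/-- A form on a module, composed with a perfect form. -/
theorem existsUnique_lift {A B M : Type*} [CommRing A] [CommRing B] [AddCommGroup M] [Module B M]
    (f : A →+* B) (lam : B →+ A)
    (inj : ∀ c, (∀ y, lam (c * y) = 0) → c = 0)
    (surj : ∀ ψ : B →+ A, (∀ a y, ψ (f a * y) = a * ψ y) → ∃ c, ∀ y, lam (c * y) = ψ y)
    (ψ : M →+ A) (hψ : ∀ a m, ψ (f a • m) = a * ψ m) :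
    ∃! g : M →ₗ[B] B, ∀ m, lam (g m) = ψ m := by
  have hs : ∀ m : M, ∃ c, ∀ y, lam (c * y) = ψ (y • m) := fun m =>
    surj (AddMonoidHom.mk' (fun y => ψ (y • m)) fun y y' => by rw [add_smul, map_add]) fun a y => by
      show ψ ((f a * y) • m) = a * ψ (y • m)
      rw [mul_smul, hψ]
  choose c hc using hs
  have uniq : ∀ m c', (∀ y, lam (c' * y) = ψ (y • m)) → c' = c m := fun m c' h =>
    sub_eq_zero.1 (inj _ fun y => by rw [sub_mul, map_sub, h, hc, sub_self])
  let g : M →ₗ[B] B :=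
    { toFun := c
      map_add' := fun a b => (uniq _ _ fun y => by rw [add_mul, map_add, hc, hc, smul_add, map_add]).symm
      map_smul' := fun b m => (uniq _ _ fun y => by
        rw [RingHom.id_apply, smul_eq_mul, mul_comm b, mul_assoc, hc, smul_smul, mul_comm y b]).symm }
  refine ⟨g, fun m => ?_, fun g' hg' => LinearMap.ext fun m => uniq m _ fun y => ?_⟩
  · show lam (c m) = ψ m
    rw [← mul_one (c m), hc, one_smul]
  · rw [mul_comm, ← smul_eq_mul, ← map_smul, hg']

section TwoBasis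

variable {A B N : Type*} [CommRing A] [CommRing B] [Algebra A B] [AddCommGroup N] [Module A N]

theorem exists_basis_one (b : Module.Basis (Fin 2) A B) :
    ∃ b' : Module.Basis (Fin 2) A B, b' 0 = 1 := by
  obtain ⟨a, ha⟩ : ∃ a, b.repr 1 = a := ⟨_, rfl⟩
  have htop : Ideal.span ({a 0, a 1} : Set A) = ⊤ := by
    by_contra hne
    obtain ⟨m, hm, hle⟩ := Ideal.exists_le_maximal _ hne
    have hI : ∀ x : B, ∀ i, b.repr x i ∈ m := fun x i => by
      rw [← mul_one x, ← b.sum_repr (1 : B), ha, Fin.sum_univ_two, mul_add, Algebra.mul_smul_comm,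
        Algebra.mul_smul_comm, map_add, Finsupp.add_apply, map_smul, map_smul,
        Finsupp.smul_apply, Finsupp.smul_apply, smul_eq_mul, smul_eq_mul]
      exact m.add_mem (m.mul_mem_right _ (hle (Ideal.subset_span (by simp))))
        (m.mul_mem_right _ (hle (Ideal.subset_span (by simp))))
    have := hI (b 0) 0
    rw [b.repr_self, Finsupp.single_eq_same] at this
    exact hm.ne_top ((Ideal.eq_top_iff_one _).2 this)
  obtain ⟨u, v, huv⟩ := Ideal.mem_span_pair.1 ((Ideal.eq_top_iff_one _).1 htop)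
  let M : Matrix (Fin 2) (Fin 2) A := !![a 0, -v; a 1, u]
  have hM : IsUnit M.det := by
    rw [Matrix.det_fin_two_of, show a 0 * u - -v * a 1 = 1 from by rw [← huv]; ring]
    exact isUnit_one
  let e : B ≃ₗ[A] B := LinearEquiv.ofIsUnitDet (f := Matrix.toLin b b M) (v := b) (v' := b)
    (by rwa [LinearMap.toMatrix_toLin])
  refine ⟨b.map e, ?_⟩
  rw [Module.Basis.map_apply]
  show Matrix.toLin b b M (b 0) = 1
  rw [Matrix.toLin_self, Fin.sum_univ_two, ← b.sum_repr (1 : B), ha, Fin.sum_univ_two]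
  rfl

/-- The perfect form of a quadratic algebra into its second exterior power. -/
theorem exists_coord (b : Module.Basis (Fin 2) A B) (w : B →ₗ[A] B →ₗ[A] N)
    (halt : ∀ x, w x x = 0) (hb : ∀ n : N, ∃ x y, n = w x y) (l : N →ₗ[A] A) (hl : Function.Surjective l) :
    (∀ c, (∀ y, l (w 1 (c * y)) = 0) → c = 0) ∧
      ∀ ψ : B →+ A, (∀ a y, ψ (algebraMap A B a * y) = a * ψ y) → ∃ c, ∀ y, l (w 1 (c * y)) = ψ y := by
  obtain ⟨b', hb'⟩ := exists_basis_one b
  let t := b' 1
  have hdec : ∀ x : B, x = b'.repr x 0 • 1 + b'.repr x 1 • t := fun x => by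
    conv_lhs => rw [← b'.sum_repr x, Fin.sum_univ_two, hb']
  have hsw : ∀ x y, w x y = - w y x := fun x y => by
    have h := halt (x + y)
    simp only [map_add, LinearMap.add_apply, halt, zero_add, add_zero] at h
    exact eq_neg_of_add_eq_zero_right h
  let g := w 1 t
  have hw : ∀ x y, w x y = (b'.repr x 0 * b'.repr y 1 - b'.repr x 1 * b'.repr y 0) • g := fun x y => by
    conv_lhs => rw [hdec x, hdec y]
    simp only [map_add, map_smul, LinearMap.add_apply, LinearMap.smul_apply, halt, smul_zero, zero_add,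
      add_zero, hsw t 1, smul_neg, smul_smul, sub_smul, g]
    rw [mul_comm (b'.repr y 0), mul_comm (b'.repr y 1)]
    abel
  have hu : IsUnit (l g) := by
    obtain ⟨n, hn⟩ := hl 1
    obtain ⟨x, y, rfl⟩ := hb n
    rw [hw, map_smul, smul_eq_mul, mul_comm] at hn
    exact IsUnit.of_mul_eq_one _ hn
  have h1 : ∀ z, l (w 1 z) = b'.repr z 1 * l g := fun z => by
    rw [hw, map_smul, smul_eq_mul]
    congr 1
    rw [← hb', b'.repr_self, Finsupp.single_eq_same, Finsupp.single_eq_of_ne (by decide)]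
    ring
  have hr : ∀ z : B, b'.repr (z * 1) 1 = b'.repr z 1 := fun z => by rw [mul_one]
  refine ⟨fun c hc => ?_, fun ψ hψ => ?_⟩
  · have e : ∀ y, b'.repr (c * y) 1 = 0 := fun y =>
      (hu.mul_left_eq_zero).1 (by rw [← h1]; exact hc y)
    have h0 : b'.repr c 1 = 0 := by rw [← hr]; exact e 1
    have h2 := e t
    rw [hdec c, h0, zero_smul, add_zero, smul_one_mul, map_smul, Finsupp.smul_apply,
      b'.repr_self, Finsupp.single_eq_same, smul_eq_mul, mul_one] at h2
    rw [hdec c, h0, h2, zero_smul, zero_smul, add_zero]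
  · obtain ⟨r, hr'⟩ := hu.exists_right_inv
    let q := b'.repr (t * t) 1
    refine ⟨(r * ψ t - r * ψ 1 * q) • (1 : B) + (r * ψ 1) • t, fun y => ?_⟩
    rw [h1]
    have e : ψ y = b'.repr y 0 * ψ 1 + b'.repr y 1 * ψ t := by
      conv_lhs => rw [hdec y, map_add, Algebra.smul_def, Algebra.smul_def, hψ, hψ]
    have e1 : b'.repr (1 : B) 1 = 0 := by
      rw [← hb', b'.repr_self, Finsupp.single_eq_of_ne (by decide)]
    have e2 : b'.repr t 1 = 1 := by rw [b'.repr_self, Finsupp.single_eq_same]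
    rw [e]
    conv_lhs => rw [hdec y]
    simp only [add_mul, mul_add, smul_mul_smul_comm, one_mul, mul_one, map_add, map_smul, Finsupp.add_apply,
      Finsupp.smul_apply, smul_eq_mul, e1, e2]
    linear_combination (b'.repr y 0 * ψ 1 + b'.repr y 1 * ψ t) * hr'

end TwoBasis

variable {X : Scheme.{u}} {F G : X.Modules}

theorem app_rs_sec {U V : X.Opens} (h : V ≤ U) (g : Γ(RefHull.homSh F G, U)) (m : Γ(F, U)) :
    RefHull.SecHom.app (rs (RefHull.homSh F G) h g) le_rfl (rs F h m) =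
      rs G h (RefHull.SecHom.app g le_rfl m) := by
  refine RefHull.SecHom.sec_ext fun y hy => ?_
  rw [RefHull.SecHom.germ_app, RefHull.SecHom.germ_rs, RefHull.SecHom.germ_rs,
    RefHull.SecHom.germ_app]
  rfl

theorem app_smul_sec {U : X.Opens} (r : Γ(X, U)) (g : Γ(RefHull.homSh F G, U)) (m : Γ(F, U)) :
    RefHull.SecHom.app (r • g) le_rfl m = r • RefHull.SecHom.app g le_rfl m := by
  refine RefHull.SecHom.sec_ext fun y hy => ?_
  rw [RefHull.SecHom.germ_app, Mero.germ_smul, RefHull.SecHom.germ_app]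
  rfl

theorem app_add_sec {U : X.Opens} (g g' : Γ(RefHull.homSh F G, U)) (m : Γ(F, U)) :
    RefHull.SecHom.app (g + g') le_rfl m =
      RefHull.SecHom.app g le_rfl m + RefHull.SecHom.app g' le_rfl m := by
  refine RefHull.SecHom.sec_ext fun y hy => ?_
  rw [map_add, RefHull.SecHom.germ_app, RefHull.SecHom.germ_app, RefHull.SecHom.germ_app]
  rfl

theorem sec_ext' [F.IsQuasicoherent] {U : X.Opens} (hU : IsAffineOpen U) {g g' : Γ(RefHull.homSh F G, U)}
    (h : ∀ m, RefHull.SecHom.app g le_rfl m = RefHull.SecHom.app g' le_rfl m) : g = g' :=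
  RefHull.SecHom.sec_ext_of_affine hU le_rfl fun m => by rw [rs_self]; exact h m

theorem exists_sec [F.IsQuasicoherent] {U : X.Opens} (hU : IsAffineOpen U)
    (φ : Γ(F, U) →ₗ[Γ(X, U)] Γ(G, U)) : ∃ g : Γ(RefHull.homSh F G, U), ∀ m, RefHull.SecHom.app g le_rfl m = φ m := by
  obtain ⟨g, hg⟩ := RefHull.SecHom.exists_sec_of_linear hU (le_refl U) φ.toAddMonoidHom fun r m => by
    rw [rf_self]; exact φ.map_smul r m
  exact ⟨g, fun m => by simpa [rs_self] using hg m⟩

variable {Z H : Scheme.{u}} (p : Z ⟶ H)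

section Local

variable {E : H.Modules} (κ : push p ≅ E) {Λ D : H.Modules}
  (φ : ∀ U : H.affineOpens, Γ(Λ, U.1) ≃ₗ[Γ(H, U.1)] ↥(⋀[Γ(H, U.1)]^2 Γ(E, U.1)))
  (hφ : ∀ (U V : H.affineOpens) (h : V.1 ≤ U.1) (e : Fin 2 → Γ(E, U.1)),
    rs Λ h ((φ U).symm (exteriorPower.ιMulti _ 2 e)) =
      (φ V).symm (exteriorPower.ιMulti _ 2 fun j => rs _ h (e j)))
  (ε : CohB1.tensorMod D Λ ≅ Coh.structureModule H)

/-- The wedge product of two functions. -/
def wd (U : H.affineOpens) (x y : Γ(push p, U.1)) : Γ(Λ, U.1) :=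
  (φ U).symm (exteriorPower.ιMulti _ 2 ![κ.hom.app U.1 x, κ.hom.app U.1 y])

/-- The unit function. -/
def oneSec (U : H.Opens) : Γ(push p, U) := (1 : Γ(Z, p ⁻¹ᵁ U))

/-- The form `b ↦ ⟨d, 1 ∧ b⟩`. -/
def form (U : H.affineOpens) (d : Γ(D, U.1)) (b : Γ(push p, U.1)) : Γ(H, U.1) :=
  ε.hom.app U.1 (SecTwist.tmul D Λ U.1 d (wd p κ φ U (oneSec p U.1) b))

theorem tmul_add {M N : H.Modules} {U : H.Opens} (m : Γ(M, U)) (n n' : Γ(N, U)) :
    (SecTwist.tmul M N U m (n + n') : Γ(CohB1.tensorMod M N, U)) =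
      SecTwist.tmul M N U m n + SecTwist.tmul M N U m n' := by
  rw [← Ample.GenLocus.pairM_id, ← Ample.GenLocus.pairM_id, ← Ample.GenLocus.pairM_id]
  exact TensorMod.Pullback.pairM_add_right _ m n n'

theorem app_smul' {M N : H.Modules} (a : M ⟶ N) {U : H.Opens} (r : Γ(H, U)) (x : Γ(M, U)) :
    a.app U (r • x) = r • a.app U x :=
  Scheme.Modules.Hom.app_smul a r x

theorem update_pair {N : Type*} (a b c : N) : Function.update ![a, c] 1 b = ![a, b] :=
  funext fun i => by fin_cases i <;> simp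

theorem wd_add (U : H.affineOpens) (x y y' : Γ(push p, U.1)) :
    wd p κ φ U x (y + y') = wd p κ φ U x y + wd p κ φ U x y' := by
  have := (exteriorPower.ιMulti Γ(H, U.1) 2 (M := Γ(E, U.1))).map_update_add
    ![κ.hom.app U.1 x, 0] 1 (κ.hom.app U.1 y) (κ.hom.app U.1 y')
  rw [update_pair, update_pair, update_pair] at this
  show (φ U).symm _ = (φ U).symm _ + (φ U).symm _
  rw [map_add (κ.hom.app U.1).hom, this, map_add]

theorem wd_smul (U : H.affineOpens) (r : Γ(H, U.1)) (x y : Γ(push p, U.1)) :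
    wd p κ φ U x (r • y) = r • wd p κ φ U x y := by
  have := (exteriorPower.ιMulti Γ(H, U.1) 2 (M := Γ(E, U.1))).map_update_smul
    ![κ.hom.app U.1 x, 0] 1 r (κ.hom.app U.1 y)
  rw [update_pair, update_pair] at this
  show (φ U).symm _ = r • (φ U).symm _
  rw [show κ.hom.app U.1 (r • y) = r • κ.hom.app U.1 y from app_smul' κ.hom r y, this, map_smul]

theorem wd_swap (U : H.affineOpens) (x y : Γ(push p, U.1)) :
    wd p κ φ U y x = - wd p κ φ U x y := by
  have := (exteriorPower.ιMulti Γ(H, U.1) 2 (M := Γ(E, U.1))).map_swap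
    ![κ.hom.app U.1 x, κ.hom.app U.1 y] (show (0 : Fin 2) ≠ 1 by decide)
  simp only [wd]
  rw [← map_neg, ← this]
  congr 2

/-- The wedge product as a bilinear map. -/
def wdL (U : H.affineOpens) : Γ(push p, U.1) →ₗ[Γ(H, U.1)] Γ(push p, U.1) →ₗ[Γ(H, U.1)] Γ(Λ, U.1) :=
  LinearMap.mk₂ _ (wd p κ φ U)
    (fun x x' y => by rw [wd_swap p κ φ U y, wd_add, neg_add, ← wd_swap p κ φ U y x, ← wd_swap p κ φ U y x'])
    (fun r x y => by rw [wd_swap p κ φ U y, wd_smul, ← smul_neg, ← wd_swap p κ φ U y x])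
    (fun x y y' => wd_add p κ φ U x y y') (fun r x y => wd_smul p κ φ U r x y)

include hφ in
theorem rs_form (U V : H.affineOpens) (h : V.1 ≤ U.1) (d : Γ(D, U.1)) (b : Γ(push p, U.1)) :
    rf h (form p κ φ ε U d b) = form p κ φ ε V (rs D h d) (rs (push p) h b) := by
  refine (Modules.TensorSec.app_rs ε.hom h _).symm.trans ?_
  show ε.hom.app V.1 _ = ε.hom.app V.1 _
  rw [Ample.GenLocus.rs_tmul]
  refine congrArg (fun z => ε.hom.app V.1 (SecTwist.tmul D Λ V.1 (rs D h d) z)) ?_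
  refine (hφ U V h _).trans ?_
  refine congrArg (fun e => (φ V).symm (exteriorPower.ιMulti _ 2 e)) (funext fun j => ?_)
  have h1 : rs (push p) h (oneSec p U.1) = oneSec p V.1 := map_one (Z.presheaf.map _).hom
  fin_cases j
  · show rs E h (κ.hom.app U.1 _) = κ.hom.app V.1 _
    rw [← Modules.TensorSec.app_rs, h1]
  · exact (Modules.TensorSec.app_rs κ.hom h b).symm

theorem form_smul_left (U : H.affineOpens) (r : Γ(H, U.1)) (d : Γ(D, U.1)) (b : Γ(push p, U.1)) :
    form p κ φ ε U (r • d) b = r * form p κ φ ε U d b := by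
  have h := Ample.GenLocus.tmul_smul (M := D) (N := Λ) r 1 d (wd p κ φ U (oneSec p U.1) b)
  rw [one_smul, mul_one] at h
  refine (congrArg (ε.hom.app U.1) h).trans ?_
  exact app_smul' ε.hom r _

theorem form_smul (U : H.affineOpens) (r : Γ(H, U.1)) (d : Γ(D, U.1)) (b : Γ(push p, U.1)) :
    form p κ φ ε U d (r • b) = r * form p κ φ ε U d b := by
  have h := Ample.GenLocus.tmul_smul (M := D) (N := Λ) 1 r d (wd p κ φ U (oneSec p U.1) b)
  rw [one_smul, one_mul] at h
  unfold form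
  rw [wd_smul]
  refine (congrArg (ε.hom.app U.1) h).trans ?_
  exact app_smul' ε.hom r _

theorem form_add (U : H.affineOpens) (d : Γ(D, U.1)) (b b' : Γ(push p, U.1)) :
    form p κ φ ε U d (b + b') = form p κ φ ε U d b + form p κ φ ε U d b' := by
  unfold form
  rw [wd_add]
  exact (congrArg (ε.hom.app U.1) (tmul_add d _ _)).trans (map_add (ε.hom.app U.1).hom _ _)

/-- The form as an additive map on the functions of the preimage. -/
def formB (U : H.affineOpens) (d : Γ(D, U.1)) : Γ(Z, p ⁻¹ᵁ U.1) →+ Γ(H, U.1) :=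
  AddMonoidHom.mk' (fun b => form p κ φ ε U d b) fun b b' => form_add p κ φ ε U d b b'

theorem formB_smul (U : H.affineOpens) (d : Γ(D, U.1)) (a : Γ(H, U.1)) (b : Γ(Z, p ⁻¹ᵁ U.1)) :
    formB p κ φ ε U d (p.app U.1 a * b) = a * formB p κ φ ε U d b :=
  form_smul p κ φ ε U a d b

theorem perfect (U : H.affineOpens) {d : Γ(D, U.1)} (hd : IsGen D U.1 d) {g : Γ(Λ, U.1)} (hg : IsGen Λ U.1 g)
    (hb : letI := (p.app U.1).hom.toAlgebra; Nonempty (Module.Basis (Fin 2) Γ(H, U.1) Γ(Z, p ⁻¹ᵁ U.1))) :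
    (∀ c, (∀ y, formB p κ φ ε U d (c * y) = 0) → c = 0) ∧
      ∀ ψ : Γ(Z, p ⁻¹ᵁ U.1) →+ Γ(H, U.1), (∀ a y, ψ (p.app U.1 a * y) = a * ψ y) →
        ∃ c, ∀ y, formB p κ φ ε U d (c * y) = ψ y := by
  letI := (p.app U.1).hom.toAlgebra
  obtain ⟨b⟩ := hb
  let s := H81.PushLocFree.sectionsEquiv p U.1
  let w : Γ(Z, p ⁻¹ᵁ U.1) →ₗ[Γ(H, U.1)] Γ(Z, p ⁻¹ᵁ U.1) →ₗ[Γ(H, U.1)] Γ(Λ, U.1) :=
    (wdL p κ φ U).compl₁₂ s.toLinearMap s.toLinearMap
  let l : Γ(Λ, U.1) →ₗ[Γ(H, U.1)] Γ(H, U.1) :=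
    { toFun := fun n => ε.hom.app U.1 (SecTwist.tmul D Λ U.1 d n)
      map_add' := fun n n' =>
        (congrArg (ε.hom.app U.1) (tmul_add d n n')).trans (map_add (ε.hom.app U.1).hom _ _)
      map_smul' := fun r n => by
        have h := Ample.GenLocus.tmul_smul (M := D) (N := Λ) 1 r d n
        rw [one_smul, one_mul] at h
        exact (congrArg (ε.hom.app U.1) h).trans (app_smul' ε.hom r _) }
  refine exists_coord b w (fun x => ?_) (fun n => ?_) l (fun a => ?_)
  · show (φ U).symm _ = 0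
    rw [(exteriorPower.ιMulti Γ(H, U.1) 2).map_eq_zero_of_eq _ (i := 0) (j := 1) rfl (by decide), map_zero]
  · let bE : Module.Basis (Fin 2) Γ(H, U.1) Γ(E, U.1) :=
      b.map (s.trans (LinearEquiv.ofBijective
        ({ toFun := fun x => κ.hom.app U.1 x, map_add' := fun x y => map_add _ x y,
           map_smul' := fun r x => app_smul' κ.hom r x } : Γ(push p, U.1) →ₗ[Γ(H, U.1)] Γ(E, U.1))
        (ConcreteCategory.bijective_of_isIso (κ.hom.app U.1))))
    have hspan : φ U n ∈ Submodule.span Γ(H, U.1) {exteriorPower.ιMulti Γ(H, U.1) 2 bE} := by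
      have hmem : φ U n ∈ Submodule.span Γ(H, U.1)
          (Set.range (exteriorPower.ιMulti Γ(H, U.1) 2 (M := Γ(E, U.1)))) := by
        rw [exteriorPower.ιMulti_span]; trivial
      refine Submodule.span_le.2 ?_ hmem
      rintro _ ⟨v, rfl⟩
      refine Submodule.mem_span_singleton.2 ⟨bE.det v, ?_⟩
      refine congrArg (fun f : Γ(E, U.1) [⋀^Fin 2]→ₗ[Γ(H, U.1)] ↥(⋀[Γ(H, U.1)]^2 Γ(E, U.1)) => f v)
        (Module.Basis.ext_alternating bE fun i hi => ?_ :
        bE.det.smulRight (exteriorPower.ιMulti Γ(H, U.1) 2 bE) = exteriorPower.ιMulti Γ(H, U.1) 2)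
      have hσ : i = ⇑(Equiv.ofBijective i (Finite.injective_iff_bijective.1 hi)) := rfl
      rw [hσ]
      generalize Equiv.ofBijective i (Finite.injective_iff_bijective.1 hi) = σ
      show bE.det (⇑bE ∘ ⇑σ) • _ = exteriorPower.ιMulti Γ(H, U.1) 2 (⇑bE ∘ ⇑σ)
      rw [AlternatingMap.map_perm, AlternatingMap.map_perm, Module.Basis.det_self]
      simp
    obtain ⟨r, hr⟩ := Submodule.mem_span_singleton.1 hspan
    refine ⟨b 0, r • b 1, ?_⟩
    rw [map_smul]
    show n = r • wd p κ φ U (s (b 0)) (s (b 1))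
    apply (φ U).injective
    rw [map_smul, ← hr, wd, LinearEquiv.apply_symm_apply]
    congr 2
    funext i
    fin_cases i <;> rfl
  · obtain ⟨c, hc⟩ := (Ample.GenLocus.isGen_tmul hd hg U.1 le_rfl).2 (ε.inv.app U.1 a)
    refine ⟨c • g, ?_⟩
    rw [map_smul]
    show c • ε.hom.app U.1 (SecTwist.tmul D Λ U.1 d g) = a
    rw [← app_smul']
    rw [show c • (SecTwist.tmul D Λ U.1 d g : Γ(CohB1.tensorMod D Λ, U.1)) = ε.inv.app U.1 a from
      (congrArg (c • ·) (rs_self _ le_rfl _).symm).trans hc]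
    rw [← ConcreteCategory.comp_apply, ← Scheme.Modules.Hom.comp_app, Iso.inv_hom_id]
    rfl

end Local

/-- The dual of the direct image along a finite locally free double cover. -/
theorem nonempty_iso {Z H : Scheme.{u}} (p : Z ⟶ H) [IsFinite p] [Flat p] [LocallyOfFinitePresentation p]
    (hrk : ∀ y, p.finrank y = 2) {E Λ D : H.Modules} (κ : push p ≅ E) (hΛ : ExtPow.IsExtPow 2 E Λ)
    (hD : PicF.IsInvertible D) (hinv : ClSub.IsInverseOf D Λ) (M : Z.Modules) [M.IsQuasicoherent] :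
    Nonempty (RefHull.dual ((Scheme.Modules.pushforward p).obj M) ≅
      CohB1.tensorMod ((Scheme.Modules.pushforward p).obj (RefHull.dual M)) D) := by
  classical
  obtain ⟨φ, hφ⟩ := hΛ
  obtain ⟨ε⟩ := hinv
  haveI := QCoh.Pushforward.isQCoh_pushforward p (M := M)
  let T := (Scheme.Modules.pushforward p).obj M
  let T' := (Scheme.Modules.pushforward p).obj (RefHull.dual M)
  have hlamI : PicF.IsInvertible Λ :=
    TensorMod.TensorInv.isInvertible_of_tensor_iso (TensorMod.Basic.comm Λ D ≪≫ ε)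
  let P : H.affineOpens → Prop := fun U => ∃ (d : Γ(D, U.1)) (g : Γ(Λ, U.1)),
    IsGen D U.1 d ∧ IsGen Λ U.1 g ∧
      (letI := (p.app U.1).hom.toAlgebra; Nonempty (Module.Basis (Fin 2) Γ(H, U.1) Γ(Z, p ⁻¹ᵁ U.1)))
  have hP : ∀ {V : H.Opens} {x : H}, x ∈ V → ∃ U : H.affineOpens, P U ∧ U.1 ≤ V ∧ x ∈ U.1 := by
    intro V x hx
    obtain ⟨U₁, d, hx₁, hd⟩ := TensorMod.Gen.isInvertible_iff.1 hD x
    obtain ⟨U₂, g, hx₂, hg⟩ := TensorMod.Gen.isInvertible_iff.1 hlamI x
    obtain ⟨U₃, n, hx₃, ⟨i⟩⟩ := H81.PushLocFree.isFinLocFree_push p x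
    obtain rfl : n = 2 := (H81.PushLocFree.finrank_eq hx₃ i).symm.trans (hrk x)
    obtain ⟨U, hU, hxU⟩ := Modules.AffineHom.exists_affine
      (show x ∈ V ⊓ U₁ ⊓ U₂ ⊓ U₃ from ⟨⟨⟨hx, hx₁⟩, hx₂⟩, hx₃⟩)
    have h3 : U.1 ≤ U₃ := hU.trans inf_le_right
    have h2 : U.1 ≤ U₂ := hU.trans (inf_le_left.trans inf_le_right)
    have h1 : U.1 ≤ U₁ := hU.trans (inf_le_left.trans (inf_le_left.trans inf_le_right))
    exact ⟨U, ⟨_, _, hd.res h1, hg.res h2, H81.PushLocFree.nonempty_basis h3 i⟩,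
      hU.trans (inf_le_left.trans (inf_le_left.trans inf_le_left)), hxU⟩
  -- the value of the pairing
  have hval : ∀ (U : H.affineOpens) (d : Γ(D, U.1)) (f : Γ(RefHull.dual M, p ⁻¹ᵁ U.1)),
      ∃ s : Γ(RefHull.dual T, U.1), ∀ m : Γ(M, p ⁻¹ᵁ U.1),
        RefHull.SecHom.app s le_rfl (show Γ(T, U.1) from m) =
          formB p κ φ ε U d (RefHull.SecHom.app f le_rfl m) := fun U d f =>
    exists_sec U.2 (
      { toFun := fun m => formB p κ φ ε U d (RefHull.SecHom.app f le_rfl (show Γ(M, p ⁻¹ᵁ U.1) from m))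
        map_add' := fun m m' => (congrArg _ (map_add (RefHull.SecHom.app f le_rfl) _ _)).trans (map_add _ _ _)
        map_smul' := fun r m =>
          (congrArg (formB p κ φ ε U d) ((RefHull.SecHom.app f le_rfl).map_smul (p.app U.1 r) _)).trans
            (formB_smul p κ φ ε U d r _) } : Γ(T, U.1) →ₗ[Γ(H, U.1)] Γ(Coh.structureModule H, U.1))
  choose val hval using hval
  have huniq : ∀ (U : H.affineOpens) (s : Γ(RefHull.dual T, U.1)) (d : Γ(D, U.1))
      (f : Γ(RefHull.dual M, p ⁻¹ᵁ U.1)),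
      (∀ m : Γ(M, p ⁻¹ᵁ U.1), RefHull.SecHom.app s le_rfl (show Γ(T, U.1) from m) =
        formB p κ φ ε U d (RefHull.SecHom.app f le_rfl m)) → s = val U d f := fun U s d f h =>
    sec_ext' U.2 fun m => (h m).trans (hval U d f m).symm
  let L : ∀ (U : H.affineOpens), Γ(D, U.1) → (Γ(T', U.1) →ₗ[Γ(H, U.1)] Γ(RefHull.dual T, U.1)) := fun U d =>
    { toFun := fun f => val U d f
      map_add' := fun f f' => (huniq U _ d _ fun m => by
        rw [app_add_sec, app_add_sec, hval, hval, map_add]).symm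
      map_smul' := fun r f => (huniq U _ d _ fun m => by
        rw [RingHom.id_apply, app_smul_sec, hval]
        refine Eq.trans ?_ (congrArg (formB p κ φ ε U d) (app_smul_sec (p.app U.1 r) _ m)).symm
        exact (formB_smul p κ φ ε U d r _).symm).symm }
  have hLsmul : ∀ (U : H.affineOpens) (r : Γ(H, U.1)) (d : Γ(D, U.1)), L U (r • d) = r • L U d := fun U r d =>
    LinearMap.ext fun f => (huniq U _ _ _ fun m => by
      show RefHull.SecHom.app (r • val U d f) le_rfl _ = _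
      rw [app_smul_sec, hval]
      exact (form_smul_left p κ φ ε U r d _).symm).symm
  have hLrs : ∀ (U V : H.affineOpens) (h : V.1 ≤ U.1) (d : Γ(D, U.1)) (f : Γ(T', U.1)),
      rs _ h (L U d f) = L V (rs D h d) (rs T' h f) := by
    intro U V h d f
    have hUa : IsAffineOpen U.1 := U.2
    refine RefHull.SecHom.sec_ext_of_affine hUa h fun m => ?_
    show _ = RefHull.SecHom.app (val V (rs D h d) (rs T' h f)) le_rfl (rs T h m)
    rw [app_rs_sec]
    refine Eq.trans ?_ (hval V _ _ _).symm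
    show rf h (RefHull.SecHom.app (val U d f) le_rfl m) = _
    rw [hval]
    refine (rs_form p κ φ hφ ε U V h d _).trans ?_
    refine congrArg (formB p κ φ ε V (rs D h d)) ?_
    exact (app_rs_sec (fun z hz => h hz : p ⁻¹ᵁ V.1 ≤ p ⁻¹ᵁ U.1) f m).symm
  let Tg : ∀ (U : H.affineOpens) (hU : P U), Γ(T', U.1) ≃ₗ[Γ(H, U.1)] Γ(CohB1.tensorMod T' D, U.1) :=
    fun U hU => LinearEquiv.ofBijective (tg T' hU.choose) (tg_bijective hU.choose_spec.choose_spec.1)
  obtain ⟨ψ, hψ⟩ := Modules.BasisHom.exists_hom_of_basis (P := P) hP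
    (fun U hU => L U hU.choose ∘ₗ (Tg U hU).symm.toLinearMap) fun U V hU hV h m => by
      obtain ⟨f, rfl⟩ := (Tg U hU).surjective m
      simp only [LinearMap.comp_apply, LinearEquiv.coe_coe, LinearEquiv.symm_apply_apply]
      rw [hLrs U V h]
      obtain ⟨r, hr⟩ := Ample.GenLocus.exists_coord hV.choose_spec.choose_spec.1 (rs D h hU.choose)
      have : (Tg V hV).symm (rs _ h (Tg U hU f)) = r • rs T' h f := by
        rw [LinearEquiv.symm_apply_eq]
        show rs _ h (tg T' hU.choose f) = tg T' hV.choose (r • rs T' h f)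
        rw [rs_tg, hr, Modules.ExtPowTwist.tg_smul, LinearMap.smul_apply, map_smul]
      rw [this, hr, hLsmul, LinearMap.smul_apply, map_smul]
  have hbij : ∀ (U : H.affineOpens), P U → Function.Bijective (ψ.app U.1) := by
    intro U hU
    rw [show ⇑(ψ.app U.1) = ⇑(L U hU.choose ∘ₗ (Tg U hU).symm.toLinearMap) from funext (hψ U hU)]
    show Function.Bijective (⇑(L U hU.choose) ∘ ⇑(Tg U hU).symm)
    refine Function.Bijective.comp ?_ (Tg U hU).symm.bijective
    obtain ⟨g, hd, hg, hb⟩ := hU.choose_spec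
    obtain ⟨inj, surj⟩ := perfect p κ φ ε U hd hg hb
    have hW : IsAffineOpen (p ⁻¹ᵁ U.1) := U.2.preimage p
    have key := fun s : Γ(RefHull.dual T, U.1) => existsUnique_lift (M := Γ(M, p ⁻¹ᵁ U.1)) (p.app U.1).hom
      (formB p κ φ ε U hU.choose) inj surj
      (AddMonoidHom.mk' (fun m => (RefHull.SecHom.app s le_rfl (show Γ(T, U.1) from m) : Γ(H, U.1)))
        fun a b => map_add (RefHull.SecHom.app s le_rfl) _ _)
      (fun a m => (RefHull.SecHom.app s le_rfl).map_smul a (show Γ(T, U.1) from m))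
    constructor
    · intro f f' hff
      refine sec_ext' hW fun m => ?_
      have e := (key (L U hU.choose f)).unique (y₁ := RefHull.SecHom.app f le_rfl)
        (y₂ := RefHull.SecHom.app f' le_rfl) (fun m => (hval U _ f m).symm)
        (fun m => by rw [hff]; exact (hval U _ f' m).symm)
      exact LinearMap.congr_fun e m
    · intro s
      obtain ⟨g', hg', -⟩ := key s
      obtain ⟨f, hf⟩ := exists_sec (F := M) (G := Coh.structureModule Z) hW g'
      exact ⟨f, (huniq U s _ f fun m => by rw [hf]; exact (hg' m).symm).symm⟩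
  haveI : Mono ψ := Modules.LocalSections.mono_of_local fun V m hm x hx => by
    obtain ⟨U, hU, hUV, hxU⟩ := hP hx
    exact ⟨U.1, hUV, hxU, (hbij U hU).1 (by
      rw [Modules.TensorSec.app_rs, hm, Modules.TensorSec.rs_zero, map_zero])⟩
  haveI : Epi ψ := Modules.LocalSections.epi_of_local fun V m x hx => by
    obtain ⟨U, hU, hUV, hxU⟩ := hP hx
    obtain ⟨t, ht⟩ := (hbij U hU).2 (rs _ hUV m)
    exact ⟨U.1, hUV, t, hxU, ht⟩
  haveI := isIso_of_mono_of_epi ψ
  exact ⟨(asIso ψ).symm⟩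

end

end Groth.Agent.H26.DblDual
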