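import Groth.Agent.H26.DivisorialModel
import Mathlib.AlgebraicGeometry.Birational.Dominant
import Mathlib.RingTheory.DiscreteValuationRing.TFAE

/-!
# Making a rational map defined at a divisor with image of codimension at most one
-/

set_option linter.all false
set_option maxHeartbeats 1000000

universe u

open CategoryTheory CategoryTheory.Limits AlgebraicGeometry IsLocalRing
open Groth.Agent.Lib.PointDim.Basic Groth.Agent.H26.StalkTrdeg

noncomputable section

namespace Groth.Agent.H26.DivisorialExists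

theorem valuationRing_stalk {R : Type u} [CommRing R] [IsDomain R] [IsNoetherianRing R] [IsLocalRing R]
    [IsIntegrallyClosed R] (h : ringKrullDim R = 1) : ValuationRing R := by
  have hk : Ring.KrullDimLE 1 R := Ring.krullDimLE_iff.mpr (by simp [h])
  have : Ring.DimensionLEOne R :=
    ⟨fun hp hprime => Ring.krullDimLE_one_iff_of_noZeroDivisors.mp hk _ hp hprime⟩
  have : IsDedekindDomain R := {}
  have hF : ¬ IsField R := fun hF => by simp [ringKrullDim_eq_zero_of_isField hF] at h
  exact ((IsDiscreteValuationRing.TFAE R hF).out 2 1).mp this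

theorem fromSpecStalkOfMem_stalkSpecializes {X Y : Scheme.{u}} (g : X.PartialMap Y) {x y : X}
    (h : y ⤳ x) (hx : x ∈ g.domain) (hy : y ∈ g.domain) :
    g.fromSpecStalkOfMem hy = Spec.map (X.presheaf.stalkSpecializes h) ≫ g.fromSpecStalkOfMem hx := by
  simp only [Scheme.PartialMap.fromSpecStalkOfMem, ← Category.assoc]
  congr 1
  rw [← cancel_mono g.domain.ι, Category.assoc, Scheme.Opens.fromSpecStalkOfMem_ι,
    Scheme.Opens.fromSpecStalkOfMem_ι, Scheme.SpecMap_stalkSpecializes_fromSpecStalk]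

theorem fromSpecStalkOfMem_closedPoint {X Y : Scheme.{u}} (g : X.PartialMap Y) {x : X}
    (hx : x ∈ g.domain) : g.fromSpecStalkOfMem hx (closedPoint (X.presheaf.stalk x)) = g.hom ⟨x, hx⟩ := by
  rw [Scheme.PartialMap.fromSpecStalkOfMem, Scheme.Hom.comp_apply]
  congr 1
  apply Subtype.ext
  change (g.domain.fromSpecStalkOfMem x hx ≫ g.domain.ι) (closedPoint (X.presheaf.stalk x)) = x
  rw [Scheme.Opens.fromSpecStalkOfMem_ι]
  exact Scheme.fromSpecStalk_closedPoint

theorem fromFunctionField_closedPoint {X Y : Scheme.{u}} [IsIntegral X] [IsIntegral Y]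
    (f : X.PartialMap Y) [IsDominant f.hom] :
    f.fromFunctionField (closedPoint X.functionField) = genericPoint Y := by
  rw [Scheme.PartialMap.fromFunctionField, fromSpecStalkOfMem_closedPoint]
  refine ((genericPoint_spec Y).eq ?_).symm
  rw [isGenericPoint_def, ← Set.univ_subset_iff, ← f.hom.denseRange.closure_range]
  refine closure_minimal ?_ isClosed_closure
  rintro _ ⟨z, rfl⟩
  refine (specializes_iff_mem_closure.mp (Specializes.map ?_ f.hom.continuous))
  exact Topology.IsInducing.subtypeVal.specializes_iff.mp (genericPoint_specializes z.1)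

/-- The model attached to a valuation ring with residue field one dimension less. -/
theorem core {k : Type u} [Field k] {Y : Scheme.{u}} [IsIntegral Y]
    (sY : Y ⟶ Spec (CommRingCat.of k)) [IsProper sY] (O : CommRingCat.{u}) [IsDomain O]
    [ValuationRing O] {F : Type u} [Field F] [Algebra O F] [IsFractionRing O F]
    (kO : CommRingCat.of k ⟶ O) (ι : Y.functionField ⟶ CommRingCat.of F)
    (hι : kStalk sY (genericPoint Y) ≫ ι = kO ≫ CommRingCat.ofHom (algebraMap O F))
    (l : Spec O ⟶ Y) (hl : l ≫ sY = Spec.map kO)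
    (hlF : Spec.map (CommRingCat.ofHom (algebraMap O F)) ≫ l =
      Spec.map ι ≫ Y.fromSpecStalk (genericPoint Y))
    {e c : ℕ} (he : letI := ((algebraMap O F).comp kO.hom).toAlgebra; Algebra.trdeg k F = e)
    (hc : letI := kO.hom.toAlgebra; Algebra.trdeg k (ResidueField O) = c) (hce : c + 1 = e) :
    ∃ (Z : Scheme.{u}) (sZ : Z ⟶ Spec (CommRingCat.of k)) (_ : IsProper sZ) (_ : IsIntegral Z)
      (φ : Z ⟶ Y) (_ : φ ≫ sY = sZ) (P : Z.PartialIso Y)
      (_ : P.iso.hom ≫ P.target.ι = P.source.ι ≫ φ) (ψ : Spec O ⟶ Z),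
      ψ ≫ φ = l ∧ natTdeg sZ (genericPoint Z) - natTdeg sZ (ψ (closedPoint O)) ≤ 1 := by
  let : Algebra k O := kO.hom.toAlgebra
  let : Algebra k F := ((algebraMap O F).comp kO.hom).toAlgebra
  let : Algebra k Y.functionField := (kStalk sY (genericPoint Y)).hom.toAlgebra
  have : IsScalarTower k O F := IsScalarTower.of_algebraMap_eq fun r => rfl
  let ιa : Y.functionField →ₐ[k] F :=
    { ι.hom with commutes' := fun r => congr($(hι).hom r) }
  obtain ⟨m, a, o, hm, hao, hind⟩ := ResidueTrdeg.exists_independent (O := O) ιa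
    (trdeg_functionField sY) he hc hce
  obtain ⟨Z, sZ, hZp, hZi, φ, hφ, P, hP, ψ, hψ, hdZ, hmz⟩ := DivisorialModel.exists_model
    (O := O) (F := F) sY kO ι hι l hl hlF m a o hao hind
  exact ⟨Z, sZ, hZp, hZi, φ, hφ, P, hP, ψ, hψ, by omega⟩

theorem main {k : Type u} [Field k] {X Y : Scheme.{u}} (sX : X ⟶ Spec (CommRingCat.of k))
    (sY : Y ⟶ Spec (CommRingCat.of k)) [LocallyOfFiniteType sX] [IsIntegral X] [IsProper sY]
    [IsIntegral Y] (ξ : X) [IsIntegrallyClosed (X.presheaf.stalk ξ)]
    (hξ : ringKrullDim (X.presheaf.stalk ξ) = 1) (f : X.PartialMap Y)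
    (hf : f.hom ≫ sY = f.domain.ι ≫ sX) [IsDominant f.hom] :
    ∃ (Z : Scheme.{u}) (sZ : Z ⟶ Spec (CommRingCat.of k)) (_ : IsProper sZ) (_ : IsIntegral Z)
      (φ : Z ⟶ Y) (_ : φ ≫ sY = sZ) (P : Z.PartialIso Y)
      (_ : P.iso.hom ≫ P.target.ι = P.source.ι ≫ φ)
      (g : X.PartialMap Z) (_ : g.hom ≫ sZ = g.domain.ι ≫ sX)
      (_ : (g.compHom φ).toRationalMap = f.toRationalMap) (hξg : ξ ∈ g.domain),
      ringKrullDim (Z.presheaf.stalk (g.hom ⟨ξ, hξg⟩)) ≤ 1 := by
  have : IsLocallyNoetherian X := LocallyOfFiniteType.isLocallyNoetherian sX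
  have hdom : IsDomain (X.presheaf.stalk ξ) := inferInstance
  have : ValuationRing (X.presheaf.stalk ξ) := valuationRing_stalk hξ
  have hgen : f.fromFunctionField (closedPoint X.functionField) = genericPoint Y :=
    fromFunctionField_closedPoint f
  obtain ⟨ι, hι⟩ : ∃ ι : Y.functionField ⟶ X.functionField,
      Spec.map ι ≫ Y.fromSpecStalk (genericPoint Y) = f.fromFunctionField :=
    ⟨Y.presheaf.stalkSpecializes (specializes_of_eq hgen) ≫
      Scheme.stalkClosedPointTo f.fromFunctionField, by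
      rw [Spec.map_comp, Category.assoc, Scheme.SpecMap_stalkSpecializes_fromSpecStalk,
        Scheme.Spec_stalkClosedPointTo_fromSpecStalk]⟩
  have hfs : f.fromFunctionField ≫ sY = X.fromSpecStalk (genericPoint X) ≫ sX := by
    simp [Scheme.PartialMap.fromFunctionField, Scheme.PartialMap.fromSpecStalkOfMem, hf]
  let am : X.presheaf.stalk ξ ⟶ X.functionField :=
    CommRingCat.ofHom (algebraMap (X.presheaf.stalk ξ) X.functionField)
  have ham : X.presheaf.stalkSpecializes ((genericPoint_spec X).specializes trivial) = am := rfl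
  have hkO : kStalk sX ξ ≫ am = kStalk sX (genericPoint X) := by
    rw [← ham, kStalk_stalkSpecializes]
  have hkι : kStalk sY (genericPoint Y) ≫ ι = kStalk sX (genericPoint X) := by
    apply Spec.map_injective
    rw [Spec.map_comp, specMap_kStalk, specMap_kStalk, reassoc_of% hι, hfs]
  -- the valuative criterion
  obtain ⟨l, hlF, hl⟩ : ∃ l : Spec (X.presheaf.stalk ξ) ⟶ Y,
      Spec.map am ≫ l = f.fromFunctionField ∧ l ≫ sY = X.fromSpecStalk ξ ≫ sX := by
    have hv : ValuativeCriterion.Existence sY := by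
      have h : UniversallyClosed sY := inferInstance
      rw [UniversallyClosed.eq_valuativeCriterion] at h
      exact h.1
    have hsq : CommSq f.fromFunctionField (Spec.map am) sY (X.fromSpecStalk ξ ≫ sX) := ⟨by
      rw [hfs, ← Category.assoc, ← ham, Scheme.SpecMap_stalkSpecializes_fromSpecStalk]⟩
    let S : ValuativeCommSq sY :=
      { R := X.presheaf.stalk ξ
        commRing := (X.presheaf.stalk ξ).commRing
        domain := hdom
        valuationRing := ‹_›
        K := X.functionField
        i₁ := f.fromFunctionField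
        i₂ := X.fromSpecStalk ξ ≫ sX
        commSq := hsq }
    obtain ⟨⟨l⟩⟩ := hv S
    exact ⟨l.l, l.fac_left, l.fac_right⟩
  -- dimensions
  have hdim := ringKrullDim_stalk_eq sX ξ
  rw [hξ] at hdim
  have hdim' : natTdeg sX (genericPoint X) - natTdeg sX ξ = 1 := by exact_mod_cast hdim.symm
  have hF : ((algebraMap (X.presheaf.stalk ξ) X.functionField).comp (kStalk sX ξ).hom).toAlgebra =
      (kStalk sX (genericPoint X)).hom.toAlgebra :=
    congrArg RingHom.toAlgebra (congrArg CommRingCat.Hom.hom hkO)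
  obtain ⟨Z, sZ, hZp, hZi, φ, hφ, P, hP, ψ, hψ, hdZ⟩ := core (F := X.functionField) sY
    (X.presheaf.stalk ξ) (kStalk sX ξ) ι (hkι.trans hkO.symm) l
    (hl.trans (specMap_kStalk sX ξ).symm) (hlF.trans hι.symm)
    (e := natTdeg sX (genericPoint X)) (c := natTdeg sX ξ)
    (by rw [hF]; exact trdeg_functionField sX) (trdeg_residueField sX ξ) (by omega)
  have hψs : ψ ≫ sZ = X.fromSpecStalk ξ ≫ sX := by
    rw [← hφ, ← Category.assoc, hψ, hl]
  let g := Scheme.PartialMap.ofFromSpecStalk sX sZ ψ hψs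
  have hξg : ξ ∈ g.domain := Scheme.PartialMap.mem_domain_ofFromSpecStalk sX sZ ψ hψs
  have hgψ : g.fromSpecStalkOfMem hξg = ψ :=
    Scheme.PartialMap.fromSpecStalkOfMem_ofFromSpecStalk sX sZ ψ hψs
  refine ⟨Z, sZ, hZp, hZi, φ, hφ, P, hP, g, Scheme.PartialMap.ofFromSpecStalk_comp sX sZ ψ hψs,
    ?_, hξg, ?_⟩
  · apply Scheme.RationalMap.eq_of_fromFunctionField_eq
    rw [Scheme.RationalMap.fromFunctionField_toRationalMap,
      Scheme.RationalMap.fromFunctionField_toRationalMap, Scheme.PartialMap.fromFunctionField,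
      Scheme.PartialMap.fromSpecStalkOfMem_compHom,
      fromSpecStalkOfMem_stalkSpecializes g ((genericPoint_spec X).specializes trivial) hξg,
      hgψ, Category.assoc, hψ, ham, hlF]
  · rw [← fromSpecStalkOfMem_closedPoint g hξg, hgψ, ringKrullDim_stalk_eq sZ]
    exact_mod_cast hdZ

end Groth.Agent.H26.DivisorialExists
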