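import Mathlib.RingTheory.AlgebraicIndependent.TranscendenceBasis
import Mathlib.RingTheory.Valuation.ValuationRing
import Mathlib.RingTheory.LocalRing.ResidueField.Basic

/-!
# Transcendence degree of the residue field of a valuation restricted to a subfield
-/

set_option linter.all false
set_option maxHeartbeats 1000000

universe u

open MvPolynomial IsLocalRing Cardinal

namespace Groth.Agent.H26.ResidueTrdeg

variable {k L F O : Type u} [Field k] [Field L] [Field F] [CommRing O] [IsDomain O] [ValuationRing O]
  [Algebra O F] [IsFractionRing O F] [Algebra k L] [Algebra k O] [Algebra k F] [IsScalarTower k O F]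

/-- The elements of `O` which come from `L`. -/
def contraction (ι : L →ₐ[k] F) : Subalgebra k O :=
  ι.range.comap (IsScalarTower.toAlgHom k O F)

/-- The residues of the elements of `O` which come from `L`. -/
noncomputable def residues (ι : L →ₐ[k] F) : Subalgebra k (ResidueField O) :=
  (contraction (O := O) ι).map (IsScalarTower.toAlgHom k O (ResidueField O))

theorem mem_residues {ι : L →ₐ[k] F} {z : ResidueField O} :
    z ∈ residues ι ↔ ∃ (o : O) (a : L), ι a = algebraMap O F o ∧ residue O o = z := by
  simp only [residues, contraction, Subalgebra.mem_map, Subalgebra.mem_comap, AlgHom.mem_range]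
  constructor
  · rintro ⟨o, ⟨a, ha⟩, rfl⟩
    exact ⟨o, a, ha, rfl⟩
  · rintro ⟨o, a, ha, rfl⟩
    exact ⟨o, ⟨a, ha⟩, rfl⟩

/-- Lifts of elements independent over the residues are independent over `L`. -/
theorem algebraicIndependent_lift {σ : Type*} (ι : L →ₐ[k] F) (o : σ → O)
    (h : AlgebraicIndependent (residues (O := O) ι) fun i => residue O (o i)) :
    letI := ι.toRingHom.toAlgebra
    AlgebraicIndependent L fun i => algebraMap O F (o i) := by
  classical
  let : Algebra L F := ι.toRingHom.toAlgebra
  rw [algebraicIndependent_iff]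
  intro P hP
  by_contra hne
  have hsup : P.support.Nonempty := Finset.nonempty_iff_ne_empty.mpr (by simpa using hne)
  let v := ValuationRing.valuation O F
  obtain ⟨s₀, hs₀, hmax⟩ := P.support.exists_max_image (fun s => v (ι (P.coeff s))) hsup
  have hc : ι (P.coeff s₀) ≠ 0 :=
    (map_ne_zero_iff _ ι.toRingHom.injective).mpr (MvPolynomial.mem_support_iff.mp hs₀)
  have hq : ∀ s, ∃ q : O, algebraMap O F q = ι (P.coeff s / P.coeff s₀) := by
    intro s
    rw [← ValuationRing.mem_integer_iff, Valuation.mem_integer_iff]
    by_cases hs : s ∈ P.support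
    · rw [map_div₀, map_div₀]
      exact div_le_one_of_le₀ (hmax s hs) zero_le'
    · simp [MvPolynomial.notMem_support_iff.mp hs]
  choose q hq using hq
  have hmem : ∀ s, residue O (q s) ∈ residues ι := fun s =>
    mem_residues.mpr ⟨q s, _, (hq s).symm, rfl⟩
  let S := residues (O := O) ι
  let R : MvPolynomial σ S := ∑ s ∈ P.support, monomial s ⟨_, hmem s⟩
  have hR : R = 0 := by
    refine algebraicIndependent_iff.mp h R ?_
    have hsum : ∑ s ∈ P.support, q s * s.prod (fun i n => o i ^ n) = 0 := by
      apply IsFractionRing.injective O F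
      rw [map_sum, map_zero]
      have : ∀ s, algebraMap O F (q s * s.prod fun i n => o i ^ n) =
          (ι (P.coeff s₀))⁻¹ * (algebraMap L F (P.coeff s) *
            s.prod fun i n => algebraMap O F (o i) ^ n) := fun s => by
        rw [map_mul, hq, map_div₀, map_finsuppProd, div_eq_inv_mul, mul_assoc]
        simp only [map_pow]
        rfl
      simp only [this]
      rw [← Finset.mul_sum]
      have hP' := hP
      rw [MvPolynomial.as_sum P, map_sum] at hP'
      simp only [aeval_monomial] at hP'
      rw [hP', mul_zero]
    rw [map_sum]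
    simp only [aeval_monomial]
    have := congrArg (residue O) hsum
    rw [map_sum, map_zero] at this
    refine Eq.trans (Finset.sum_congr rfl fun s _ => ?_) this
    rw [map_mul, map_finsuppProd]
    simp only [map_pow]
    rfl
  have h1 : R.coeff s₀ = ⟨_, hmem s₀⟩ := by
    simp [R, coeff_sum, coeff_monomial, Finset.sum_ite_eq', hs₀]
  rw [hR, coeff_zero] at h1
  have hq1 : q s₀ = 1 := by
    apply IsFractionRing.injective O F
    rw [hq, div_self (MvPolynomial.mem_support_iff.mp hs₀), map_one, map_one]
  have := congrArg Subtype.val h1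
  simp [hq1] at this

/-- The transcendence degree over the residues is at most that over `L`. -/
theorem trdeg_residues_le (ι : L →ₐ[k] F) :
    Algebra.trdeg (residues (O := O) ι) (ResidueField O) ≤
      (letI := ι.toRingHom.toAlgebra; Algebra.trdeg L F) := by
  let : Algebra L F := ι.toRingHom.toAlgebra
  obtain ⟨T, hT⟩ := exists_isTranscendenceBasis (residues (O := O) ι) (ResidueField O)
  rw [← hT.cardinalMk_eq_trdeg]
  choose o ho using fun t : T => residue_surjective (R := O) t.1
  have h : AlgebraicIndependent (residues (O := O) ι) fun t => residue O (o t) := by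
    simpa only [ho] using hT.1
  exact (algebraicIndependent_lift ι o h).cardinalMk_le_trdeg

/-- A valuation of `F/k` whose residue field has transcendence degree one less than `F` restricts
on `L` to one with at least `trdeg L - 1` independent residues. -/
theorem exists_independent (ι : L →ₐ[k] F) {d e : ℕ} (hd : Algebra.trdeg k L = d)
    (he : Algebra.trdeg k F = e) {c : ℕ} (hc : Algebra.trdeg k (ResidueField O) = c)
    (hce : c + 1 = e) :
    ∃ (m : ℕ) (a : Fin m → L) (o : Fin m → O), d ≤ m + 1 ∧
      (∀ i, algebraMap O F (o i) = ι (a i)) ∧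
      AlgebraicIndependent k fun i => residue O (o i) := by
  classical
  let : Algebra L F := ι.toRingHom.toAlgebra
  have : IsScalarTower k L F := IsScalarTower.of_algebraMap_eq fun x => (ι.commutes x).symm
  let S := residues (O := O) ι
  have hLF := trdeg_add_eq k L (A := F)
  rw [hd, he] at hLF
  obtain ⟨r, hr⟩ := Cardinal.lt_aleph0.mp (show Algebra.trdeg L F < ℵ₀ from
    lt_of_le_of_lt (hLF ▸ self_le_add_left _ _) (Cardinal.natCast_lt_aleph0 (n := e)))
  rw [hr] at hLF
  have hdr : d + r = e := by exact_mod_cast hLF
  have hS := trdeg_add_eq k S (A := ResidueField O)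
  rw [hc] at hS
  obtain ⟨r', hr'⟩ := Cardinal.lt_aleph0.mp (show Algebra.trdeg S (ResidueField O) < ℵ₀ from
    lt_of_le_of_lt (hS ▸ self_le_add_left _ _) (Cardinal.natCast_lt_aleph0 (n := c)))
  obtain ⟨m, hm⟩ := Cardinal.lt_aleph0.mp (show Algebra.trdeg k S < ℵ₀ from
    lt_of_le_of_lt (hS ▸ self_le_add_right _ _) (Cardinal.natCast_lt_aleph0 (n := c)))
  rw [hr', hm] at hS
  have hmr : m + r' = c := by exact_mod_cast hS
  have hle : r' ≤ r := by
    have := trdeg_residues_le (O := O) ι
    rw [hr', hr] at this
    exact_mod_cast this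
  obtain ⟨T, hT⟩ := exists_isTranscendenceBasis k S
  have hTm : #T = m := by rw [hT.cardinalMk_eq_trdeg, hm]
  have : Finite T := Cardinal.lt_aleph0_iff_finite.mp (hTm ▸ Cardinal.natCast_lt_aleph0)
  have : Fintype T := Fintype.ofFinite T
  have hTc : Fintype.card T = m := by exact_mod_cast (Cardinal.mk_fintype T).symm.trans hTm
  let e' : Fin m ≃ T := (Fintype.equivFinOfCardEq hTc).symm
  choose o a ha ho using fun i => mem_residues.mp (e' i).1.2
  refine ⟨m, a, o, by omega, fun i => (ha i).symm, ?_⟩
  have h := (hT.1.comp e' e'.injective).map' (f := S.val) Subtype.val_injective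
  exact (funext ho : (fun i => residue O (o i)) = _) ▸ h

end Groth.Agent.H26.ResidueTrdeg
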