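import Groth.Agent.H26.StalkTrdeg
import Groth.Agent.H26.ResidueTrdeg
import Groth.Agent.H26.BirationalZMT
import Groth.Agent.Lib.SchImage.Integral
import Groth.Agent.S0384
import Mathlib.AlgebraicGeometry.Birational.Birational
import Mathlib.AlgebraicGeometry.ValuativeCriterion

/-!
# Models on which a divisorial valuation is centred at a divisor
-/

set_option linter.all false
set_option maxHeartbeats 1000000

universe u

open CategoryTheory CategoryTheory.Limits AlgebraicGeometry IsLocalRing
open Groth.Agent.Lib.PointDim.Basic Groth.Agent.H26.StalkTrdeg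

noncomputable section

namespace Groth.Agent.H26.DivisorialModel

variable {k : Type u} [Field k]

/-- A birational morphism with trivial extension at the generic point gives a partial isomorphism. -/
theorem exists_partialIso {Z Y : Scheme.{u}} [IsIntegral Z] [IsIntegral Y] (φ : Z ⟶ Y)
    [IsSeparated φ] [LocallyOfFiniteType φ] (hgen : φ (genericPoint Z) = genericPoint Y)
    (hbir : IsIso (φ.stalkMap (genericPoint Z))) :
    ∃ P : Z.PartialIso Y, P.iso.hom ≫ P.target.ι = P.source.ι ≫ φ := by
  have hn : IsIntegrallyClosed (Y.presheaf.stalk (φ (genericPoint Z))) := by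
    rw [hgen]
    exact inferInstanceAs (IsIntegrallyClosed Y.functionField)
  obtain ⟨U, hU, hiso⟩ := BirationalZMT.exists_isIso_morphismRestrict φ hgen hbir (genericPoint Z) hn
    (RingHom.QuasiFinite.of_finite (RingHom.Finite.of_surjective _
      (ConcreteCategory.bijective_of_isIso (φ.stalkMap (genericPoint Z))).2))
  exact ⟨⟨φ ⁻¹ᵁ U, (φ ⁻¹ᵁ U).2.dense ⟨_, hU⟩, U, U.2.dense ⟨_, hU⟩, asIso (φ ∣_ U)⟩,
    morphismRestrict_ι φ U⟩

/-- The point of affine space below a point with independent coordinates is the generic one. -/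
theorem natTdeg_le_of_injective {m : ℕ} {P : Scheme.{u}} (gP : P ⟶ Spec (CommRingCat.of k))
    [LocallyOfFiniteType gP] (j : Spec (CommRingCat.of (MvPolynomial (Fin m) k)) ⟶ P)
    [IsOpenImmersion j] (hj : j ≫ gP = Spec.map (CommRingCat.ofHom MvPolynomial.C))
    (p : PrimeSpectrum (MvPolynomial (Fin m) k)) (hp : p.asIdeal = ⊥) :
    natTdeg gP (j p) = m := by
  have h := tdeg_chart gP j (CommRingCat.ofHom MvPolynomial.C) (by
    have : Algebra.FiniteType k (MvPolynomial (Fin m) k) := inferInstance
    exact RingHom.finiteType_algebraMap.mpr this) hj p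
  have he : (CommRingCat.ofHom (MvPolynomial.C (σ := Fin m) (R := k))).hom.toAlgebra =
      (inferInstance : Algebra k (MvPolynomial (Fin m) k)) :=
    Algebra.algebra_ext _ _ fun r => rfl
  rw [he, hp, Groth.Agent.Lib.Dim.Basic.dimQ_bot] at h
  rw [natTdeg, h, Cardinal.toNat_natCast, Groth.Agent.Lib.Dim.Basic.trdegNat,
    MvPolynomial.trdeg_of_isDomain]
  simp

/-- The geometric part: a proper model on which the centre of a valuation has the prescribed
independent coordinates. -/
theorem exists_model {Y : Scheme.{u}} [IsIntegral Y] (sY : Y ⟶ Spec (CommRingCat.of k)) [IsProper sY]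
    {O F : Type u} [CommRing O] [IsDomain O] [ValuationRing O] [Field F] [Algebra O F]
    [IsFractionRing O F] (kO : CommRingCat.of k ⟶ CommRingCat.of O)
    (ι : Y.functionField ⟶ CommRingCat.of F)
    (hι : kStalk sY (genericPoint Y) ≫ ι = kO ≫ CommRingCat.ofHom (algebraMap O F))
    (l : Spec (CommRingCat.of O) ⟶ Y) (hl : l ≫ sY = Spec.map kO)
    (hlF : Spec.map (CommRingCat.ofHom (algebraMap O F)) ≫ l =
      Spec.map ι ≫ Y.fromSpecStalk (genericPoint Y))
    (m : ℕ) (a : Fin m → Y.functionField) (o : Fin m → O)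
    (hao : ∀ i, algebraMap O F (o i) = ι (a i))
    (hind : letI := kO.hom.toAlgebra; AlgebraicIndependent k fun i => residue O (o i)) :
    ∃ (Z : Scheme.{u}) (sZ : Z ⟶ Spec (CommRingCat.of k)) (_ : IsProper sZ) (_ : IsIntegral Z)
      (φ : Z ⟶ Y) (_ : φ ≫ sY = sZ) (P : Z.PartialIso Y)
      (_ : P.iso.hom ≫ P.target.ι = P.source.ι ≫ φ) (ψ : Spec (CommRingCat.of O) ⟶ Z),
      ψ ≫ φ = l ∧ natTdeg sZ (genericPoint Z) = natTdeg sY (genericPoint Y) ∧
        m ≤ natTdeg sZ (ψ (closedPoint O)) := by
  let A : CommRingCat.{u} := CommRingCat.of (MvPolynomial (Fin m) k)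
  let cA : CommRingCat.of k ⟶ A := CommRingCat.ofHom MvPolynomial.C
  let θ : A ⟶ Y.functionField :=
    CommRingCat.ofHom (MvPolynomial.eval₂Hom (kStalk sY (genericPoint Y)).hom a)
  let γ : A ⟶ CommRingCat.of O := CommRingCat.ofHom (MvPolynomial.eval₂Hom kO.hom o)
  have hθ : cA ≫ θ = kStalk sY (genericPoint Y) := by
    exact CommRingCat.hom_ext (RingHom.ext fun r => MvPolynomial.eval₂Hom_C _ _ r)
  have hγ : cA ≫ γ = kO := by
    exact CommRingCat.hom_ext (RingHom.ext fun r => MvPolynomial.eval₂Hom_C _ _ r)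
  have hθγ : γ ≫ CommRingCat.ofHom (algebraMap O F) = θ ≫ ι := by
    refine CommRingCat.hom_ext (MvPolynomial.ringHom_ext (fun r => ?_) fun i => ?_)
    · exact (congrArg (algebraMap O F) (MvPolynomial.eval₂Hom_C _ _ r)).trans
        (congr($(hι).hom r).symm.trans (congrArg ι (MvPolynomial.eval₂Hom_C _ _ r).symm))
    · exact (congrArg (algebraMap O F) (MvPolynomial.eval₂Hom_X' _ _ i)).trans
        ((hao i).trans (congrArg ι (MvPolynomial.eval₂Hom_X' _ _ i).symm))
  have : LocallyOfFiniteType (Spec.map cA) := by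
    rw [HasRingHomProperty.Spec_iff (P := @LocallyOfFiniteType)]
    exact RingHom.finiteType_algebraMap.mpr (inferInstanceAs (Algebra.FiniteType k (MvPolynomial (Fin m) k)))
  obtain ⟨P, j, gP, hj, -, hgP, hjg⟩ := Groth.Agent.S0384.result (Spec.map cA)
  let σ : Spec Y.functionField ⟶ pullback sY gP :=
    pullback.lift (Y.fromSpecStalk (genericPoint Y)) (Spec.map θ ≫ j) (by
      rw [Category.assoc, hjg, ← Spec.map_comp, hθ, specMap_kStalk])
  let G : Spec (CommRingCat.of O) ⟶ pullback sY gP :=
    pullback.lift l (Spec.map γ ≫ j) (by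
      rw [Category.assoc, hjg, ← Spec.map_comp, hγ, hl])
  have : IsSeparated (pullback.fst sY gP ≫ sY) := inferInstance
  have : Scheme.IsSeparated (pullback sY gP) :=
    ⟨by rw [← terminal.comp_from (pullback.fst sY gP ≫ sY)]; infer_instance⟩
  have hZi : IsIntegral σ.image := Groth.Agent.Lib.SchImage.Integral.isIntegral σ
  let φ : σ.image ⟶ Y := σ.imageι ≫ pullback.fst sY gP
  let sZ := φ ≫ sY
  have : IsDominant σ.toImage := inferInstance
  have hτ : σ.toImage ≫ φ = Y.fromSpecStalk (genericPoint Y) := by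
    simp only [φ, Scheme.Hom.toImage_imageι_assoc, σ, pullback.lift_fst]
  obtain ⟨hgen, hbir⟩ := birational_of_section φ σ.toImage hτ
  have hsq : (Spec.map ι ≫ σ.toImage) ≫ σ.imageι =
      Spec.map (CommRingCat.ofHom (algebraMap O F)) ≫ G := by
    rw [Category.assoc, Scheme.Hom.toImage_imageι]
    refine pullback.hom_ext ?_ ?_
    · simp only [σ, G, Category.assoc, pullback.lift_fst]
      exact hlF.symm
    · simp only [σ, G, Category.assoc, pullback.lift_snd]
      rw [← Spec.map_comp_assoc, ← Spec.map_comp_assoc, hθγ]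
  obtain ⟨ψ, hψ⟩ := exists_lift σ.imageι G _ hsq
  obtain ⟨Pi, hPi⟩ := exists_partialIso φ hgen hbir
  refine ⟨σ.image, sZ, inferInstance, hZi, φ, rfl, Pi, hPi, ψ, ?_, ?_, ?_⟩
  · simp only [φ, reassoc_of% hψ, G, pullback.lift_fst]
  · refine congrArg Cardinal.toNat ((tdeg_comp_of_finite φ sY sZ rfl _ ?_).trans ?_)
    · let := (φ.residueFieldMap (genericPoint σ.image)).hom.toAlgebra
      have hs : Function.Surjective (φ.residueFieldMap (genericPoint σ.image)) := fun z => by
        obtain ⟨s, rfl⟩ := residue_surjective z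
        obtain ⟨t, rfl⟩ := (ConcreteCategory.bijective_of_isIso (φ.stalkMap (genericPoint σ.image))).2 s
        exact ⟨Y.residue _ t, congr($(Scheme.residue_residueFieldMap φ _).hom t)⟩
      have : Algebra.IsIntegral (Y.residueField (φ (genericPoint σ.image)))
          (σ.image.residueField (genericPoint σ.image)) := Algebra.isIntegral_of_surjective hs
      exact Algebra.IsIntegral.isAlgebraic
    · rw [hgen]
  · let π : σ.image ⟶ P := σ.imageι ≫ pullback.snd sY gP
    have hπ : π ≫ gP = sZ := by
      simp only [π, sZ, φ, Category.assoc, pullback.condition]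
    have hψπ : ψ ≫ π = Spec.map γ ≫ j := by
      simp only [π, reassoc_of% hψ, G, pullback.lift_snd]
    have hle := natTdeg_apply_le π gP sZ hπ (ψ (closedPoint O))
    have hpt : π (ψ (closedPoint O)) = j (PrimeSpectrum.comap γ.hom (closedPoint O)) :=
      congr(($hψπ) (closedPoint O))
    rw [hpt] at hle
    refine le_trans (le_of_eq (natTdeg_le_of_injective gP j hjg _ ?_).symm) hle
    let := kO.hom.toAlgebra
    have hinj : Function.Injective ((residue O).comp γ.hom) := by
      have : ((residue O).comp γ.hom) =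
          (MvPolynomial.aeval fun i => residue O (o i)).toRingHom := by
        refine MvPolynomial.ringHom_ext (fun r => ?_) fun i => ?_
        · exact (congrArg (residue O) (MvPolynomial.eval₂Hom_C _ _ r)).trans
            (MvPolynomial.aeval_C _ r).symm
        · exact (congrArg (residue O) (MvPolynomial.eval₂Hom_X' _ _ i)).trans
            (MvPolynomial.aeval_X (fun i => residue O (o i)) i).symm
      rw [this]
      exact hind
    change Ideal.comap γ.hom (maximalIdeal O) = ⊥
    rw [← ker_residue, RingHom.comap_ker]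
    exact (RingHom.injective_iff_ker_eq_bot _).mp hinj

end Groth.Agent.H26.DivisorialModel
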