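import Groth.Agent.Lib.ExchangeFP29.CounitFibre
import Groth.Agent.Lib.Modules.GenStalk
import Mathlib.Topology.JacobsonSpace

/-!
# Surjectivity of a map of modules on a Jacobson scheme is seen on the closed points
-/

set_option autoImplicit false
set_option linter.style.haveILetI false
set_option backward.isDefEq.respectTransparency false
set_option backward.isDefEq.respectTransparency.types false

universe u

open CategoryTheory CategoryTheory.Limits AlgebraicGeometry TopologicalSpace Opposite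

namespace Groth.Agent.H26.EpiClosed

/-- Surjectivity on the closed points suffices. -/
theorem epi_of_closed {X : Scheme.{u}} [JacobsonSpace X] {F G : X.Modules}
    [SheafOfModules.IsFiniteType (R := X.ringCatSheaf) G] (w : F ⟶ G)
    (h : ∀ x : X, IsClosed ({x} : Set X) → ∃ (X' : Scheme.{u}) (a : X' ⟶ X) (x' : X'), a x' = x ∧
      Epi ((Scheme.Modules.pullback a).map w)) : Epi w := by
  refine (Groth.Agent.Lib.Modules.StalkModule.epi_iff_stalkMapₗ_surjective _).2 fun x => ?_
  obtain ⟨c, hc, hcc⟩ := nonempty_inter_closedPoints (Z := closure ({x} : Set X))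
    ⟨x, subset_closure rfl⟩ isClosed_closure.isLocallyClosed
  have hsp : x ⤳ c := specializes_iff_mem_closure.2 hc
  obtain ⟨U, hcU, n, s, hs⟩ := Groth.Agent.Lib.Modules.GenStalk.exists_span_stalk_of_isFiniteType G c
  have hxU : x ∈ U := hsp.mem_open U.2 hcU
  have hsurj : Function.Surjective (Groth.Agent.Lib.Modules.StalkModule.stalkMapₗ w c) := by
    obtain ⟨X', a, x', rfl, he⟩ := h c hcc
    let _ := (a.stalkMap x').hom.toAlgebra
    haveI : IsLocalHom (algebraMap (X.presheaf.stalk (a x')) (X'.presheaf.stalk x')) :=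
      inferInstanceAs (IsLocalHom (a.stalkMap x').hom)
    haveI := Groth.Agent.Lib.Modules.GenStalk.finite_stalk G (a x')
    obtain ⟨eF, eG, hF, hG, hu⟩ := Groth.Agent.Lib.Flat55.FlatFunSheaf.exists_stalk_pullback_map a w x'
    have hs := (Groth.Agent.Lib.Modules.StalkModule.epi_iff_stalkMapₗ_surjective _).1 he x'
    refine Groth.Agent.Lib.ExchangeFP29.CounitFibre.surjective_of_lTensor (S := X'.presheaf.stalk x') _ fun y => ?_
    obtain ⟨v, hv⟩ := hs (eG y)
    obtain ⟨z, rfl⟩ := hF.2 v
    rw [hu] at hv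
    exact ⟨z, hG.1 hv⟩
  rw [← LinearMap.range_eq_top, eq_top_iff, ← hs x hxU, Submodule.span_le]
  rintro _ ⟨i, rfl⟩
  obtain ⟨v, hv⟩ := hsurj (G.presheaf.germ U c hcU (s i))
  obtain ⟨W, hW, t, rfl⟩ := TopCat.Presheaf.exists_germ_eq _ v
  rw [Groth.Agent.Lib.Modules.StalkModule.stalkMapₗ_germ] at hv
  obtain ⟨W', hcW', i1, i2, heq⟩ := TopCat.Presheaf.germ_eq G.presheaf c hW hcU _ _ hv
  have hxW' : x ∈ W' := hsp.mem_open W'.2 hcW'
  refine ⟨F.presheaf.germ W x (leOfHom i1 hxW') t, ?_⟩
  show Groth.Agent.Lib.Modules.StalkModule.stalkMapₗ w x _ = _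
  rw [Groth.Agent.Lib.Modules.StalkModule.stalkMapₗ_germ,
    ← TopCat.Presheaf.germ_res_apply G.presheaf i1 x hxW']
  exact (congrArg _ heq).trans (TopCat.Presheaf.germ_res_apply G.presheaf i2 x hxW' (s i))

end Groth.Agent.H26.EpiClosed
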