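import Mathlib
import Groth.Agent.Lib.Henselian.Smooth
import Groth.Agent.Lib.Henselian.LocalRing

/-!
Equivariant sections of smooth algebras over henselian local rings (helpers for S18165).
-/

open scoped TensorProduct
open IsLocalRing

universe u

namespace Groth.Agent.H26.EquivSection

/-- The semilinear map induced on Kähler differentials. -/
theorem exists_kaehlerMap {A A₂ L L₂ : Type u} [CommRing A] [CommRing A₂] [CommRing L] [CommRing L₂]
    [Algebra A L] [Algebra A₂ L₂] (φ : A →+* A₂) (ψ : L →+* L₂)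
    (h : ∀ a, ψ (algebraMap A L a) = algebraMap A₂ L₂ (φ a)) :
    ∃ F : Ω[L⁄A] →+ Ω[L₂⁄A₂], (∀ (l : L) ω, F (l • ω) = ψ l • F ω) ∧
      ∀ l, F (KaehlerDifferential.D A L l) = KaehlerDifferential.D A₂ L₂ (ψ l) := by
  letI := φ.toAlgebra
  letI := ψ.toAlgebra
  letI : Algebra A L₂ := ((algebraMap A₂ L₂).comp φ).toAlgebra
  have : IsScalarTower A A₂ L₂ := .of_algebraMap_eq' rfl
  have : IsScalarTower A L L₂ := .of_algebraMap_eq fun a => (h a).symm
  refine ⟨(KaehlerDifferential.map A A₂ L L₂).toAddMonoidHom, fun l ω => ?_, fun l => ?_⟩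
  · change KaehlerDifferential.map A A₂ L L₂ (l • ω) = _
    rw [map_smul, algebra_compatible_smul L₂ l]
    rfl
  · exact KaehlerDifferential.map_D A A₂ L L₂ l

theorem kaehlerMap_ext {A L A₂ L₂ : Type u} [CommRing A] [CommRing A₂] [CommRing L] [CommRing L₂]
    [Algebra A L] [Algebra A₂ L₂] (ψ : L →+* L₂) (F F' : Ω[L⁄A] →+ Ω[L₂⁄A₂])
    (hF : ∀ (l : L) ω, F (l • ω) = ψ l • F ω) (hF' : ∀ (l : L) ω, F' (l • ω) = ψ l • F' ω)
    (h : ∀ l, F (KaehlerDifferential.D A L l) = F' (KaehlerDifferential.D A L l)) : F = F' := by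
  ext ω
  have hω : ω ∈ Submodule.span L (Set.range (KaehlerDifferential.D A L)) :=
    (KaehlerDifferential.span_range_derivation A L).ge trivial
  induction hω using Submodule.span_induction with
  | mem x hx => obtain ⟨l, rfl⟩ := hx; exact h l
  | zero => rw [map_zero, map_zero]
  | add x y _ _ hx hy => rw [map_add, map_add, hx, hy]
  | smul l x _ hx => rw [hF, hF', hx]

variable {A : Type u} [CommRing A]

/-- Two points of an unramified algebra with the same closed point agree. -/
theorem ext_of_unramified [IsLocalRing A] {S : Type u} [CommRing S] [Algebra A S]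
    [Algebra.EssFiniteType A S] [Algebra.FormallyUnramified A S] (s₁ s₂ : S →ₐ[A] A)
    (h : ∀ x, residue A (s₁ x) = residue A (s₂ x)) : s₁ = s₂ := by
  obtain ⟨t, ht, ht1⟩ := Algebra.FormallyUnramified.iff_exists_tensorProduct.mp
    (inferInstance : Algebra.FormallyUnramified A S)
  let φ : S ⊗[A] S →ₐ[A] A := Algebra.TensorProduct.lift s₁ s₂ fun _ _ => Commute.all _ _
  have hres : ∀ z, residue A (φ z) = residue A (s₁ (Algebra.TensorProduct.lmul' A z)) := by
    intro z
    induction z using TensorProduct.induction_on with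
    | zero => simp
    | add a b ha hb => simp only [map_add, ha, hb]
    | tmul a b => simp [φ, h b]
  have hu : IsUnit (φ t) := (residue_ne_zero_iff_isUnit _).mp (by
    rw [hres, ht1, map_one, map_one]; exact one_ne_zero)
  ext x
  have := congrArg φ (ht x)
  rw [map_mul, map_zero] at this
  have h0 := hu.mul_left_eq_zero.mp this
  simp only [φ, map_sub, Algebra.TensorProduct.lift_tmul, map_one, one_mul, mul_one, sub_eq_zero] at h0
  exact h0.symm

/-- Cutting a formally smooth local algebra by `n` elements whose differentials form a basis. -/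
theorem formallyEtale_quotient {L : Type u} [CommRing L] [Algebra A L] [Algebra.FormallySmooth A L]
    {ι : Type u} [Finite ι] (u : ι → L) (bs : Module.Basis ι L (Ω[L⁄A]))
    (hbs : ∀ i, bs i = KaehlerDifferential.D A L (u i)) :
    Algebra.FormallyEtale A (L ⧸ Ideal.span (Set.range u)) := by
  cases nonempty_fintype ι
  set J := Ideal.span (Set.range u)
  have hsurj : Function.Surjective (algebraMap L (L ⧸ J)) := Ideal.Quotient.mk_surjective
  have hker : RingHom.ker (algebraMap L (L ⧸ J)) = J := Ideal.mk_ker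
  have huker : ∀ i, u i ∈ RingHom.ker (algebraMap L (L ⧸ J)) := fun i =>
    hker.symm ▸ Ideal.subset_span ⟨i, rfl⟩
  rw [Algebra.FormallyEtale.iff_formallyUnramified_and_formallySmooth]
  constructor
  · rw [Algebra.formallyUnramified_iff]
    refine ⟨fun a b => ?_⟩
    have key : ∀ z : (L ⧸ J) ⊗[L] Ω[L⁄A], KaehlerDifferential.mapBaseChange A L (L ⧸ J) z = 0 := by
      intro z
      induction z using TensorProduct.induction_on with
      | zero => exact map_zero _
      | add a b ha hb => rw [map_add, ha, hb, add_zero]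
      | tmul a ω =>
        rw [KaehlerDifferential.mapBaseChange_tmul, ← bs.sum_repr ω, map_sum]
        simp only [map_smul, hbs, KaehlerDifferential.map_D]
        refine (smul_eq_zero_of_right _ (Finset.sum_eq_zero fun i _ => ?_))
        rw [RingHom.mem_ker.mp (huker i), map_zero, smul_zero]
    obtain ⟨a', rfl⟩ := KaehlerDifferential.mapBaseChange_surjective A L (L ⧸ J) hsurj a
    obtain ⟨b', rfl⟩ := KaehlerDifferential.mapBaseChange_surjective A L (L ⧸ J) hsurj b
    rw [key, key]
  · rw [Algebra.FormallySmooth.iff_split_injection hsurj]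
    let bM := bs.baseChange (L ⧸ J)
    let c : ι → (RingHom.ker (algebraMap L (L ⧸ J))).Cotangent := fun i =>
      Ideal.toCotangent _ ⟨u i, huker i⟩
    let l : (L ⧸ J) ⊗[L] Ω[L⁄A] →ₗ[L] (RingHom.ker (algebraMap L (L ⧸ J))).Cotangent :=
      TensorProduct.lift
        { toFun := fun a =>
            (Function.surjInv hsurj a) • (bs.constr L c)
          map_add' := fun a b => by
            refine LinearMap.ext fun ω => ?_
            simp only [LinearMap.add_apply, LinearMap.smul_apply]
            rw [← add_smul]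
            exact smul_eq_of_sub_mem _ _ (by
              rw [RingHom.mem_ker, map_sub, map_add]
              simp only [Function.surjInv_eq hsurj, sub_self]) _
          map_smul' := fun r a => by
            refine LinearMap.ext fun ω => ?_
            simp only [RingHom.id_apply, LinearMap.smul_apply, smul_smul]
            exact smul_eq_of_sub_mem _ _ (by
              rw [RingHom.mem_ker, map_sub, map_mul]
              simp only [Function.surjInv_eq hsurj, Algebra.smul_def, sub_self]) _ }
    refine ⟨l, LinearMap.ext fun z => ?_⟩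
    obtain ⟨⟨x, hx⟩, rfl⟩ := Ideal.toCotangent_surjective _ z
    have hxJ : x ∈ J := hker ▸ hx
    obtain ⟨co, rfl⟩ := (Submodule.mem_span_range_iff_exists_fun L).mp hxJ
    have hsplit : (⟨∑ i, co i • u i, hx⟩ : RingHom.ker (algebraMap L (L ⧸ J))) =
        ∑ i, co i • ⟨u i, huker i⟩ := Subtype.ext (by simp)
    rw [hsplit]
    simp only [map_sum, map_smul, LinearMap.comp_apply, LinearMap.id_apply]
    refine Finset.sum_congr rfl fun i _ => ?_
    congr 1
    rw [KaehlerDifferential.kerCotangentToTensor_toCotangent, ← hbs]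
    simp only [l, TensorProduct.lift.tmul, LinearMap.coe_mk, AddHom.coe_mk, LinearMap.smul_apply,
      Module.Basis.constr_basis]
    exact (smul_eq_of_sub_mem _ 1 (by
      rw [RingHom.mem_ker, map_sub, map_one, Function.surjInv_eq hsurj, sub_self]) _).trans
        (one_smul _ _)
where
  smul_eq_of_sub_mem {L : Type u} [CommRing L] {I : Ideal L} (a b : L) (h : a - b ∈ I)
      (m : I.Cotangent) : a • m = b • m := by
    obtain ⟨m, rfl⟩ := Ideal.toCotangent_surjective _ m
    rw [← map_smul, ← map_smul, Ideal.toCotangent_eq]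
    simp only [Submodule.coe_smul, smul_eq_mul, ← sub_mul, pow_two]
    exact Ideal.mul_mem_mul h m.2

variable [HenselianLocalRing A]

theorem exists_section {B L : Type u} [CommRing B] [Algebra A B] [Algebra.Smooth A B]
    (q : Ideal B) [q.IsPrime] [CommRing L] [IsLocalRing L] [Algebra B L] [Algebra A L]
    [IsScalarTower A B L] [IsLocalization q.primeCompl L]
    (π : L →+* ResidueField A) [IsLocalHom π] (hπ : ∀ a, π (algebraMap A L a) = residue A a)
    {G : Type u} [Group G] [Finite G] [MulSemiringAction G A]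
    (hG : IsUnit ((Nat.card G : ℕ) : ResidueField A))
    (htriv : ∀ (g : G) (a : A), g • a - a ∈ maximalIdeal A)
    (ψ : G → (L →+* L)) (hψ1 : ψ 1 = RingHom.id L)
    (hψmul : ∀ g h, ψ (g * h) = (ψ g).comp (ψ h))
    (hψa : ∀ (g : G) (a : A), ψ g (algebraMap A L a) = algebraMap A L (g • a))
    (hψπ : ∀ (g : G) (l : L), π (ψ g l) = π l) :
    ∃ s : L →ₐ[A] A, (∀ l, residue A (s l) = π l) ∧ ∀ (g : G) (l : L), s (ψ g l) = g • s l := by
  classical
  cases nonempty_fintype G
  have : Algebra.FormallyEtale B L := .of_isLocalization q.primeCompl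
  have : Algebra.FormallySmooth A L := Algebra.FormallySmooth.comp A B L
  have : Algebra.EssFiniteType B L := .of_isLocalization L q.primeCompl
  have : Algebra.EssFiniteType A L := Algebra.EssFiniteType.comp A B L
  have hker : ∀ l : L, l ∈ maximalIdeal L ↔ π l = 0 := by
    intro l
    rw [mem_maximalIdeal, mem_nonunits_iff]
    constructor
    · intro h
      by_contra h0
      exact h (isUnit_of_map_unit π l (isUnit_iff_ne_zero.mpr h0))
    · intro h hu
      exact not_isUnit_zero (h ▸ hu.map π)
  have hψm : ∀ g, ∀ l ∈ maximalIdeal L, ψ g l ∈ maximalIdeal L := fun g l hl => by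
    rw [hker, hψπ, ← hker]; exact hl
  choose F hFsmul hFD using fun g => exists_kaehlerMap (A := A) (A₂ := A)
    (MulSemiringAction.toRingHom G A g) (ψ g) (hψa g)
  have hFmul : ∀ g h, F (g * h) = (F g).comp (F h) := fun g h =>
    kaehlerMap_ext (ψ (g * h)) _ _ (hFsmul _)
      (fun l ω => by simp only [AddMonoidHom.comp_apply, hFsmul, hψmul, RingHom.comp_apply])
      (fun l => by simp only [AddMonoidHom.comp_apply, hFD, hψmul, RingHom.comp_apply])
  have hF1 : ∀ ω, F 1 ω = ω := fun ω => DFunLike.congr_fun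
    (kaehlerMap_ext (ψ 1) (F 1) (AddMonoidHom.id _) (hFsmul 1) (fun l ω => by simp [hψ1])
      (fun l => by simp [hFD, hψ1])) ω
  -- lifting classes modulo the maximal ideal
  let N : Submodule L (Ω[L⁄A]) := maximalIdeal L • ⊤
  have hFN : ∀ g, ∀ ω ∈ N, F g ω ∈ N := by
    intro g ω hω
    refine Submodule.smul_induction_on (p := fun ω => F g ω ∈ N) hω (fun r hr n _ => ?_)
      (fun x y hx hy => ?_)
    · rw [hFsmul]; exact Submodule.smul_mem_smul (hψm g r hr) trivial
    · rw [map_add]; exact add_mem hx hy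
  let D := KaehlerDifferential.D A L
  have hlift : ∀ ω, ∃ t ∈ maximalIdeal L, D t - ω ∈ N := by
    have hconst : ∀ l : L, ∃ a : A, l - algebraMap A L a ∈ maximalIdeal L := fun l => by
      obtain ⟨a, ha⟩ := residue_surjective (π l)
      exact ⟨a, by rw [hker, map_sub, hπ, ha, sub_self]⟩
    intro ω
    have hω : ω ∈ Submodule.span L (Set.range D) :=
      (KaehlerDifferential.span_range_derivation A L).ge trivial
    induction hω using Submodule.span_induction with
    | mem x hx =>
      obtain ⟨l, rfl⟩ := hx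
      obtain ⟨a, ha⟩ := hconst l
      exact ⟨l - algebraMap A L a, ha, by simp [D]⟩
    | zero => exact ⟨0, zero_mem _, by simp [D]⟩
    | add x y _ _ hx hy =>
      obtain ⟨t, ht, htx⟩ := hx
      obtain ⟨t', ht', hty⟩ := hy
      refine ⟨t + t', add_mem ht ht', ?_⟩
      rw [map_add, add_sub_add_comm]
      exact add_mem htx hty
    | smul l x _ hx =>
      obtain ⟨t, ht, htx⟩ := hx
      obtain ⟨a, ha⟩ := hconst l
      refine ⟨algebraMap A L a * t, Ideal.mul_mem_left _ _ ht, ?_⟩
      rw [Derivation.leibniz, Derivation.map_algebraMap, smul_zero, add_zero,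
        show algebraMap A L a • D t - l • x =
          algebraMap A L a • (D t - x) - (l - algebraMap A L a) • x by module]
      exact sub_mem (N.smul_mem _ htx) (Submodule.smul_mem_smul ha trivial)
  have : Module.Free L (Ω[L⁄A]) := Module.free_of_flat_of_isLocalRing
  let bs := Module.Free.chooseBasis L (Ω[L⁄A])
  choose t htm htd using fun i => hlift (bs i)
  let θ₀ : Ω[L⁄A] →ₗ[L] L := bs.constr L t
  have hθ₀m : ∀ ω, θ₀ ω ∈ maximalIdeal L := by
    intro ω
    rw [← bs.sum_repr ω, map_sum]
    exact Ideal.sum_mem _ fun i _ => by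
      rw [map_smul, show θ₀ (bs i) = t i from bs.constr_basis L t i]
      exact Ideal.mul_mem_left _ _ (htm i)
  have hθ₀d : ∀ ω, D (θ₀ ω) - ω ∈ N := by
    intro ω
    conv in D (θ₀ ω) - ω => rw [← bs.sum_repr ω]
    rw [map_sum θ₀, map_sum D, ← Finset.sum_sub_distrib]
    refine Submodule.sum_mem _ fun i _ => ?_
    rw [map_smul, show θ₀ (bs i) = t i from bs.constr_basis L t i, smul_eq_mul, Derivation.leibniz,
      show bs.repr ω i • D (t i) + t i • D (bs.repr ω i) - bs.repr ω i • bs i =
        bs.repr ω i • (D (t i) - bs i) + t i • D (bs.repr ω i) by module]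
    exact add_mem (N.smul_mem _ (htd i)) (Submodule.smul_mem_smul (htm i) trivial)
  have hcardA : IsUnit ((Nat.card G : ℕ) : A) :=
    (residue_ne_zero_iff_isUnit _).mp (by rw [map_natCast]; exact hG.ne_zero)
  obtain ⟨c, hc⟩ := hcardA.exists_left_inv
  have hcfix : ∀ g : G, g • c = c := fun g => by
    have h := congrArg (g • ·) hc
    simp only [smul_mul', smul_one] at h
    rw [show g • ((Nat.card G : ℕ) : A) = (Nat.card G : A) from
      map_natCast (MulSemiringAction.toRingHom G A g) _, ← hc] at h
    exact hcardA.mul_right_cancel h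
  have hψinv : ∀ g l, ψ g (ψ g⁻¹ l) = l := fun g l => by
    rw [← RingHom.comp_apply, ← hψmul, mul_inv_cancel, hψ1, RingHom.id_apply]
  let θ : Ω[L⁄A] →ₗ[L] L :=
    { toFun := fun ω => algebraMap A L c * ∑ g, ψ g (θ₀ (F g⁻¹ ω))
      map_add' := fun ω ω' => by simp [map_add, Finset.sum_add_distrib, mul_add]
      map_smul' := fun l ω => by
        simp only [hFsmul, map_smul, smul_eq_mul, map_mul, hψinv, RingHom.id_apply, ← Finset.mul_sum]
        ring }
  have hθeq : ∀ h ω, ψ h (θ ω) = θ (F h ω) := by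
    intro h ω
    simp only [θ, LinearMap.coe_mk, AddHom.coe_mk, map_mul, hψa, hcfix, map_sum]
    congr 1
    refine Fintype.sum_equiv (Equiv.mulLeft h) _ _ fun g => ?_
    simp only [Equiv.coe_mulLeft, ← AddMonoidHom.comp_apply, ← hFmul, mul_inv_rev]
    rw [hψmul, RingHom.comp_apply, mul_assoc, inv_mul_cancel, mul_one]
  have hθm : ∀ ω, θ ω ∈ maximalIdeal L := fun ω =>
    Ideal.mul_mem_left _ _ (Ideal.sum_mem _ fun g _ => hψm g _ (hθ₀m _))
  have hθd : ∀ ω, D (θ ω) - ω ∈ N := by
    intro ω
    simp only [θ, LinearMap.coe_mk, AddHom.coe_mk]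
    rw [Derivation.leibniz, Derivation.map_algebraMap, smul_zero, add_zero, map_sum]
    have h1 : algebraMap A L c * ((Nat.card G : ℕ) : L) = 1 := by
      rw [← map_natCast (algebraMap A L), ← map_mul, hc, map_one]
    have h2 : ω = algebraMap A L c • ∑ _g : G, ω := by
      rw [Finset.sum_const, Finset.card_univ, ← Nat.card_eq_fintype_card,
        ← Nat.cast_smul_eq_nsmul L, smul_smul, h1, one_smul]
    conv => arg 2; arg 2; rw [h2]
    rw [← smul_sub, ← Finset.sum_sub_distrib]
    refine N.smul_mem _ (Submodule.sum_mem _ fun g _ => ?_)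
    have := hFN g _ (hθ₀d (F g⁻¹ ω))
    rwa [map_sub, hFD, ← AddMonoidHom.comp_apply, ← hFmul, mul_inv_cancel, hF1] at this
  let u := fun i => θ (bs i)
  let v := fun i => D (u i)
  have hspan : Submodule.span L (Set.range v) = ⊤ := by
    rw [← IsLocalRing.map_mkQ_eq_top]
    rw [eq_top_iff]
    rintro z -
    obtain ⟨ω, rfl⟩ := Submodule.mkQ_surjective _ z
    rw [← bs.sum_repr ω, map_sum]
    refine Submodule.sum_mem _ fun i _ => ?_
    rw [map_smul]
    exact Submodule.smul_mem _ _ ⟨v i, Submodule.subset_span ⟨i, rfl⟩,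
      (Submodule.Quotient.eq _).mpr (hθd (bs i))⟩
  let bv : Module.Basis _ L (Ω[L⁄A]) := basisOfTopLeSpanOfCardEqFinrank v hspan.ge
    (Module.finrank_eq_card_chooseBasisIndex L (Ω[L⁄A])).symm
  have hbv : ∀ i, bv i = v i := fun i => by rw [coe_basisOfTopLeSpanOfCardEqFinrank]
  have hetale := formallyEtale_quotient u bv hbv
  set J : Ideal L := Ideal.span (Set.range u) with hJ
  have hJm : J ≤ maximalIdeal L := by
    rw [hJ, Ideal.span_le]
    rintro _ ⟨i, rfl⟩
    exact hθm _
  have hJψ : ∀ g, ∀ l ∈ J, ψ g l ∈ J := by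
    intro g l hl
    have hrange : ∀ ω, θ ω ∈ J := fun ω => by
      rw [← bs.sum_repr ω, map_sum]
      exact Ideal.sum_mem _ fun i _ => by
        rw [map_smul]; exact Ideal.mul_mem_left _ _ (Ideal.subset_span ⟨i, rfl⟩)
    have hle : J ≤ J.comap (ψ g) := by
      conv_lhs => rw [hJ]
      rw [Ideal.span_le]
      rintro _ ⟨i, rfl⟩
      rw [SetLike.mem_coe, Ideal.mem_comap, hθeq]
      exact hrange _
    exact hle hl
  -- existence
  choose bn bd hbd using fun i => IsLocalization.exists_mk'_eq q.primeCompl (u i)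
  let I : Ideal B := Ideal.span (Set.range bn)
  have hIJ : I.map (algebraMap B L) = J := by
    apply le_antisymm
    · rw [Ideal.map_span, Ideal.span_le]
      rintro _ ⟨_, ⟨i, rfl⟩, rfl⟩
      rw [← IsLocalization.mk'_spec L (bn i) (bd i), hbd]
      exact Ideal.mul_mem_right _ _ (Ideal.subset_span ⟨i, rfl⟩)
    · rw [hJ, Ideal.span_le]
      rintro _ ⟨i, rfl⟩
      rw [SetLike.mem_coe, ← hbd, IsLocalization.mk'_eq_mul_mk'_one]
      exact Ideal.mul_mem_right _ _ (Ideal.mem_map_of_mem _ (Ideal.subset_span ⟨i, rfl⟩))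
  have hIq : I ≤ q := by
    intro b hb
    by_contra h
    exact maximalIdeal.isMaximal L |>.ne_top (Ideal.eq_top_of_isUnit_mem _
      (hJm (hIJ ▸ Ideal.mem_map_of_mem _ hb)) (IsLocalization.map_units L (⟨b, h⟩ : q.primeCompl)))
  have hIJ' : Algebra.FormallyEtale A (L ⧸ I.map (algebraMap B L)) := hIJ ▸ hetale
  let q' : Ideal (B ⧸ I) := q.map (Ideal.Quotient.mk I)
  have : q'.IsPrime := Ideal.map_isPrime_of_surjective Ideal.Quotient.mk_surjective
    (by rwa [Ideal.mk_ker])
  have hq' : Algebra.algebraMapSubmonoid (B ⧸ I) q.primeCompl = q'.primeCompl := by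
    ext y
    obtain ⟨b, rfl⟩ := Ideal.Quotient.mk_surjective y
    have hmem : ∀ b, Ideal.Quotient.mk I b ∈ q' ↔ b ∈ q := fun b => by
      rw [← Ideal.mem_comap, Ideal.comap_map_of_surjective _ Ideal.Quotient.mk_surjective,
        ← RingHom.ker_eq_comap_bot, Ideal.mk_ker, sup_eq_left.mpr hIq]
    constructor
    · rintro ⟨z, hz, hzb⟩
      rw [← hzb]
      exact fun h => hz ((hmem z).mp h)
    · exact fun h => ⟨b, fun hb => h ((hmem b).mpr hb), rfl⟩
  have : IsScalarTower A (B ⧸ I) (L ⧸ I.map (algebraMap B L)) := .of_algebraMap_eq fun a => by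
    rw [IsScalarTower.algebraMap_apply A L (L ⧸ I.map (algebraMap B L)),
      IsScalarTower.algebraMap_apply A B L]
    rfl
  have : IsLocalization q'.primeCompl (L ⧸ I.map (algebraMap B L)) := hq' ▸ inferInstance
  have : Algebra.FinitePresentation A (B ⧸ I) :=
    Algebra.FinitePresentation.quotient (Submodule.fg_span (Set.finite_range bn))
  have : Algebra.IsEtaleAt A q' :=
    Algebra.FormallyEtale.of_equiv
      ((IsLocalization.algEquiv q'.primeCompl (L ⧸ I.map (algebraMap B L))
        (Localization.AtPrime q')).restrictScalars A)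
  obtain ⟨h, hh, _⟩ := Algebra.exists_etale_of_isEtaleAt (R := A) q'
  obtain ⟨h, rfl⟩ := Ideal.Quotient.mk_surjective h
  let πB : B →ₐ[A] ResidueField A :=
    { toRingHom := π.comp (algebraMap B L)
      commutes' := fun a => by
        simp only [RingHom.toMonoidHom_eq_coe, OneHom.toFun_eq_coe, MonoidHom.toOneHom_coe,
          MonoidHom.coe_coe, RingHom.comp_apply, ← IsScalarTower.algebraMap_apply, hπ]
        rfl }
  have hunit : ∀ b, b ∉ q → IsUnit (πB b) := fun b hb =>
    (IsLocalization.map_units L (⟨b, hb⟩ : q.primeCompl)).map π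
  let πC : B ⧸ I →ₐ[A] ResidueField A := Ideal.Quotient.liftₐ I πB fun b hb => by
    change π (algebraMap B L b) = 0
    rw [← hker]
    exact hJm (hIJ ▸ Ideal.mem_map_of_mem _ hb)
  have hhu : IsUnit (πC (Ideal.Quotient.mk I h)) :=
    hunit h fun h' => hh (Ideal.mem_map_of_mem _ h')
  let πh : Localization.Away (Ideal.Quotient.mk I h) →ₐ[A] A ⧸ maximalIdeal A :=
    IsLocalization.liftAlgHom (M := Submonoid.powers (Ideal.Quotient.mk I h)) (f := πC)
      (by rintro ⟨_, n, rfl⟩; rw [map_pow]; exact hhu.pow n)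
  obtain ⟨τ, hτ⟩ := Lib.Henselian.Smooth.exists_algHom_lift_smooth (maximalIdeal A) πh
  let τB : B →ₐ[A] A := (τ.comp (IsScalarTower.toAlgHom A (B ⧸ I) _)).comp (Ideal.Quotient.mkₐ A I)
  have hτB : ∀ b, residue A (τB b) = π (algebraMap B L b) := fun b => by
    refine (DFunLike.congr_fun hτ _).trans ?_
    exact IsLocalization.lift_eq _ _
  let s : L →ₐ[A] A := IsLocalization.liftAlgHom (M := q.primeCompl) (f := τB) fun b => by
    apply (residue_ne_zero_iff_isUnit _).mp
    rw [hτB]
    exact (hunit b b.2).ne_zero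
  have hs : ∀ b, s (algebraMap B L b) = τB b := fun b => IsLocalization.lift_eq _ _
  have hsπ : ∀ l, residue A (s l) = π l := by
    intro l
    have := IsLocalization.ringHom_ext q.primeCompl (j := (residue A).comp s.toRingHom) (k := π)
      (RingHom.ext fun b => (congrArg (residue A) (hs b)).trans (hτB b))
    exact DFunLike.congr_fun this l
  have hsJ : ∀ l ∈ J, s l = 0 := by
    have hle : J ≤ RingHom.ker s.toRingHom := by
      rw [← hIJ, Ideal.map_le_iff_le_comap]
      intro b hb
      rw [Ideal.mem_comap, RingHom.mem_ker]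
      refine (hs b).trans ?_
      simp [τB, Ideal.Quotient.eq_zero_iff_mem.mpr hb]
    exact fun l hl => hle hl
  refine ⟨s, hsπ, fun g l => ?_⟩
  let s' : L →ₐ[A] A :=
    { toRingHom := (MulSemiringAction.toRingHom G A g⁻¹).comp (s.toRingHom.comp (ψ g))
      commutes' := fun a => by
        simp [hψa] }
  have : Algebra.FormallyUnramified A (L ⧸ J) :=
    (Algebra.FormallyEtale.iff_formallyUnramified_and_formallySmooth.mp hetale).1
  have heq := ext_of_unramified (Ideal.Quotient.liftₐ J s' fun l hl => by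
      change g⁻¹ • s (ψ g l) = 0
      rw [hsJ _ (hJψ g l hl), smul_zero])
    (Ideal.Quotient.liftₐ J s hsJ) fun x => by
      obtain ⟨l, rfl⟩ := Ideal.Quotient.mk_surjective x
      change residue A (g⁻¹ • s (ψ g l)) = residue A (s l)
      rw [hsπ, ← hψπ g l, ← hsπ]
      exact Ideal.Quotient.eq.mpr (htriv _ _)
  have := DFunLike.congr_fun heq (Ideal.Quotient.mk J l)
  change g⁻¹ • s (ψ g l) = s l at this
  rw [← this, smul_inv_smul]

end Groth.Agent.H26.EquivSection
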