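import Groth.Agent.Lib.Unram.TowerCriterion
import Groth.Agent.Lib.Unram.AtPrime
import Mathlib.LinearAlgebra.Charpoly.BaseChange
import Mathlib.RingTheory.Smooth.StandardSmoothCotangent
import Mathlib.RingTheory.Ideal.KrullsHeightTheorem
import Mathlib.RingTheory.Flat.Localization

/-!
# A morphism of smooth schemes which is étale off codimension two is étale

The determinant of the map on differentials cuts out the non-étale locus; a minimal prime over it
has height at most one, and going down puts it over a point of codimension at most one.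
-/

set_option maxHeartbeats 1000000
set_option linter.all false

noncomputable section

universe u

open TensorProduct

namespace Groth.Agent.H26.EtaleCodim

/-- A map of free modules of equal rank over a Noetherian local ring whose cokernel vanishes at all
primes of height at most one is surjective. -/
theorem surjective_of_height_le_one {O : Type u} [CommRing O] [IsNoetherianRing O] [IsLocalRing O]
    {L₁ L₂ M : Type u} [AddCommGroup L₁] [Module O L₁] [Module.Free O L₁] [Module.Finite O L₁]
    [AddCommGroup L₂] [Module O L₂] [Module.Free O L₂] [Module.Finite O L₂] [AddCommGroup M] [Module O M]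
    (φ : L₁ →ₗ[O] L₂) (ψ : L₂ →ₗ[O] M) (hex : Function.Exact φ ψ)
    (hrank : Module.finrank O L₁ = Module.finrank O L₂)
    (h : ∀ (P : Ideal O) [P.IsPrime], P.height ≤ 1 → Subsingleton (Localization.AtPrime P ⊗[O] M)) :
    Function.Surjective φ := by
  obtain ⟨e⟩ := FiniteDimensional.nonempty_linearEquiv_of_finrank_eq hrank.symm
  let χ : L₁ →ₗ[O] L₁ := e.toLinearMap ∘ₗ φ
  suffices hdet : IsUnit (LinearMap.det χ) by
    intro y
    obtain ⟨x, hx⟩ := ((Module.End.isUnit_iff _).1 ((LinearMap.isUnit_iff_isUnit_det χ).2 hdet)).2 (e y)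
    exact ⟨x, e.injective hx⟩
  by_contra hd
  have hne : Ideal.span {LinearMap.det χ} ≠ ⊤ := fun h => hd (Ideal.span_singleton_eq_top.1 h)
  obtain ⟨P, hP⟩ := Ideal.nonempty_minimalPrimes hne
  haveI : P.IsPrime := hP.1.1
  have hsub := h P (Ideal.height_le_one_of_isPrincipal_of_mem_minimalPrimes _ P hP)
  have hsurj : Function.Surjective (φ.baseChange (Localization.AtPrime P)) := by
    intro y
    have hz : ψ.lTensor (Localization.AtPrime P) y = 0 := Subsingleton.elim _ _
    obtain ⟨x, hx⟩ : y ∈ Set.range (φ.lTensor (Localization.AtPrime P)) := by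
      obtain ⟨z, rfl⟩ : ∃ z, LinearMap.lTensor (Localization.AtPrime P) φ z = y := by
        have hr : Function.Exact φ (LinearMap.rangeRestrict ψ) := fun a => by
          rw [← hex a]; exact ⟨fun h => congrArg Subtype.val h, fun h => Subtype.ext h⟩
        refine (lTensor_exact (Localization.AtPrime P) hr (LinearMap.surjective_rangeRestrict ψ) y).1 ?_
        have hinj : Function.Injective (ψ.range.subtype.lTensor (Localization.AtPrime P)) :=
          Module.Flat.lTensor_preserves_injective_linearMap _ (Submodule.subtype_injective _)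
        apply hinj
        rw [map_zero, ← LinearMap.comp_apply, ← LinearMap.lTensor_comp, LinearMap.subtype_comp_codRestrict, hz]
      exact ⟨z, rfl⟩
    exact ⟨x, hx⟩
  have hχ : Function.Bijective (χ.baseChange (Localization.AtPrime P)) := by
    apply OrzechProperty.bijective_of_surjective_endomorphism
    rw [show χ = e.toLinearMap ∘ₗ φ from rfl, LinearMap.baseChange_comp, LinearMap.coe_comp]
    refine Function.Surjective.comp ?_ hsurj
    exact LinearMap.lTensor_surjective _ e.surjective
  have hu : IsUnit (algebraMap O (Localization.AtPrime P) (LinearMap.det χ)) := by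
    rw [← LinearMap.det_baseChange]
    exact LinearMap.isUnit_det _ ((Module.End.isUnit_iff _).2 hχ)
  exact (IsLocalization.AtPrime.isUnit_to_map_iff (Localization.AtPrime P) P _).1 hu
    (hP.1.2 (Ideal.subset_span rfl))

variable {R B C : Type u} [CommRing R] [CommRing B] [CommRing C] [Algebra R B] [Algebra R C]
  [Algebra B C] [IsScalarTower R B C]

/-- Ring form. -/
theorem etale_of_codim [IsNoetherianRing R] [Algebra.Smooth R B] [Algebra.Smooth R C]
    (Good : Set (PrimeSpectrum R))
    (hgood : ∀ P : PrimeSpectrum R, P ∉ Good → (2 : WithBot ℕ∞) ≤ ringKrullDim (Localization.AtPrime P.asIdeal))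
    (h : ∀ q : PrimeSpectrum C, PrimeSpectrum.comap (algebraMap R C) q ∈ Good →
      Algebra.IsEtaleAt B q.asIdeal) :
    Algebra.Etale B C := by
  haveI : Algebra.FinitePresentation B C := Algebra.FinitePresentation.of_restrict_scalars_finitePresentation R B C
  rw [← Algebra.etaleLocus_eq_univ_iff_etale, Set.eq_univ_iff_forall]
  intro q
  rw [Algebra.mem_etaleLocus_iff]
  show Algebra.FormallyEtale B (Localization.AtPrime q.asIdeal)
  haveI : IsNoetherianRing C := Algebra.FiniteType.isNoetherianRing R C
  let O := Localization.AtPrime q.asIdeal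
  haveI : IsNoetherianRing O := IsLocalization.isNoetherianRing q.asIdeal.primeCompl O inferInstance
  haveI : Algebra.FormallySmooth C O :=
    haveI := Algebra.FormallyEtale.of_isLocalization (R := C) (Rₘ := O) q.asIdeal.primeCompl
    inferInstance
  haveI : Algebra.FormallySmooth R O := Algebra.FormallySmooth.comp R C O
  haveI : Algebra.EssFiniteType R O := Algebra.EssFiniteType.comp R C O
  haveI : Algebra.EssFiniteType B O := Algebra.EssFiniteType.of_comp R B O
  haveI : Module.Free O (O ⊗[B] Ω[B⁄R]) := Module.free_of_flat_of_isLocalRing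
  haveI : Module.Free O Ω[O⁄R] := Module.free_of_flat_of_isLocalRing
  -- what happens at a prime of height at most one
  have key : ∀ (P : Ideal O) [P.IsPrime], P.height ≤ 1 →
      Subsingleton (Localization.AtPrime P ⊗[O] Ω[O⁄B]) ∧
      Module.finrank O (O ⊗[B] Ω[B⁄R]) = Module.finrank O Ω[O⁄R] := by
    intro P _ hP
    let q' : Ideal C := P.under C
    haveI : q'.IsPrime := Ideal.IsPrime.comap _
    have hq' : q'.height ≤ 1 := (IsLocalization.height_under q.asIdeal.primeCompl P).trans_le hP
    have hflat : Module.Flat R C := inferInstance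
    have hg : PrimeSpectrum.comap (algebraMap R C) ⟨q', inferInstance⟩ ∈ Good := by
      by_contra hbad
      have h2 := hgood _ hbad
      change (2 : WithBot ℕ∞) ≤ ringKrullDim (Localization.AtPrime (q'.under R)) at h2
      rw [IsLocalization.AtPrime.ringKrullDim_eq_height (q'.under R) (Localization.AtPrime (q'.under R))] at h2
      have hle : (q'.under R).height ≤ q'.height := by
        rw [Ideal.height_eq_height_add_of_liesOver_of_hasGoingDown (q'.under R) q']
        exact le_self_add
      have h21 : (2 : ℕ∞) ≤ 1 := (WithBot.coe_le_coe.1 h2).trans (hle.trans hq')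
      norm_num at h21
    haveI h1 : Algebra.FormallyEtale B (Localization.AtPrime q') := h ⟨q', inferInstance⟩ hg
    let O' := Localization.AtPrime P
    haveI : IsLocalization.AtPrime O' q' :=
      IsLocalization.isLocalization_isLocalization_atPrime_isLocalization q.asIdeal.primeCompl O' P
    haveI : IsScalarTower B C O' := IsScalarTower.of_algebraMap_eq fun b => by
      rw [IsScalarTower.algebraMap_apply B O O', IsScalarTower.algebraMap_apply B C O,
        ← IsScalarTower.algebraMap_apply C O O']
    haveI : Algebra.FormallyEtale B O' := Algebra.FormallyEtale.of_equiv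
      ((IsLocalization.algEquiv q'.primeCompl (Localization.AtPrime q') O').restrictScalars B)
    haveI : Algebra.FormallyEtale O O' := Algebra.FormallyEtale.of_isLocalization (Rₘ := O') P.primeCompl
    haveI : Algebra.FormallySmooth R O' := Algebra.FormallySmooth.comp R O O'
    refine ⟨((KaehlerDifferential.isBaseChange_of_formallyEtale B O O').equiv).toEquiv.subsingleton, ?_⟩
    have hb := (Groth.Agent.Lib.Unram.TowerCriterion.formallyEtale_iff_bijective R B O').1 inferInstance
    let e : O' ⊗[O] (O ⊗[B] Ω[B⁄R]) ≃ₗ[O'] O' ⊗[O] Ω[O⁄R] :=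
      (TensorProduct.AlgebraTensorModule.cancelBaseChange B O O' O' Ω[B⁄R]) ≪≫ₗ
        (LinearEquiv.ofBijective (KaehlerDifferential.mapBaseChange R B O') hb) ≪≫ₗ
        (KaehlerDifferential.isBaseChange_of_formallyEtale R O O').equiv.symm
    have he := e.finrank_eq
    rwa [Module.finrank_baseChange (R := O') (S := O) (M' := O ⊗[B] Ω[B⁄R]),
      Module.finrank_baseChange (R := O') (S := O) (M' := Ω[O⁄R])] at he
  have hrank : Module.finrank O (O ⊗[B] Ω[B⁄R]) = Module.finrank O Ω[O⁄R] := by
    obtain ⟨P, hP⟩ := Ideal.nonempty_minimalPrimes (I := (⊥ : Ideal O)) bot_ne_top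
    haveI : P.IsPrime := hP.1.1
    exact (key P (Ideal.height_le_one_of_isPrincipal_of_mem_minimalPrimes _ P hP)).2
  have hs : Function.Surjective (KaehlerDifferential.mapBaseChange R B O) :=
    surjective_of_height_le_one _ _ (KaehlerDifferential.exact_mapBaseChange_map R B O) hrank
      fun P _ hP => (key P hP).1
  refine (Groth.Agent.Lib.Unram.TowerCriterion.formallyEtale_iff_bijective R B O).2 ⟨?_, hs⟩
  obtain ⟨e⟩ := FiniteDimensional.nonempty_linearEquiv_of_finrank_eq hrank.symm
  exact Function.Injective.of_comp (f := ⇑e) (OrzechProperty.bijective_of_surjective_endomorphism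
    (e.toLinearMap ∘ₗ KaehlerDifferential.mapBaseChange R B O) (e.surjective.comp hs)).1

end Groth.Agent.H26.EtaleCodim

open CategoryTheory Limits AlgebraicGeometry

namespace Groth.Agent.H26.EtaleCodim

set_option backward.isDefEq.respectTransparency false

/-- Scheme form: a morphism of smooth schemes over a locally Noetherian base which is étale over an
open subset with complement of codimension at least two is étale. -/
theorem etale_of_codim_two {X Y S : Scheme.{u}} [IsLocallyNoetherian S] (f : X ⟶ Y) (g : Y ⟶ S)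
    [Smooth g] [Smooth (f ≫ g)] (S₁ : S.Opens)
    (hcodim : ∀ x : S, x ∉ S₁ → (2 : WithBot ℕ∞) ≤ ringKrullDim (S.presheaf.stalk x))
    (het : Etale (((f ≫ g) ⁻¹ᵁ S₁).ι ≫ f)) : Etale f := by
  haveI : IsLocallyNoetherian Y := LocallyOfFiniteType.isLocallyNoetherian g
  haveI : LocallyOfFiniteType f := locallyOfFiniteType_of_comp f g
  haveI : LocallyOfFinitePresentation f := LocallyOfFinitePresentation.iff_locallyOfFiniteType.2 inferInstance
  have haway : RingHom.HoldsForLocalizationAway RingHom.Etale := by
    introv R _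
    exact RingHom.etale_algebraMap.2 (Algebra.Etale.of_isLocalizationAway r)
  rw [HasRingHomProperty.iff_exists_appLE (P := @Etale)
    (RingHom.Etale.stableUnderComposition.stableUnderCompositionWithLocalizationAway haway).1]
  intro x
  obtain ⟨_, ⟨V, hV, rfl⟩, hxV, -⟩ :=
    S.isBasis_affineOpens.exists_subset_of_mem_open (Set.mem_univ (g (f x))) isOpen_univ
  obtain ⟨_, ⟨W, hW, rfl⟩, hxW, hWV⟩ :=
    Y.isBasis_affineOpens.exists_subset_of_mem_open hxV (V.2.preimage g.continuous)
  obtain ⟨_, ⟨U, hU, rfl⟩, hxU, hUW⟩ :=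
    X.isBasis_affineOpens.exists_subset_of_mem_open hxW (W.2.preimage f.continuous)
  refine ⟨⟨W, hW⟩, ⟨U, hU⟩, hxU, hUW, ?_⟩
  have hUV : U ≤ (f ≫ g) ⁻¹ᵁ V := fun y hy => hWV (hUW hy)
  have hsB := g.smooth_appLE hV hW hWV
  have hsC := (f ≫ g).smooth_appLE hV hU hUV
  have htower : (g.appLE V W hWV ≫ f.appLE W U hUW) = (f ≫ g).appLE V U hUV :=
    Scheme.Hom.appLE_comp_appLE _ _ _ _ _ _ _
  algebraize [(g.appLE V W hWV).hom, ((f ≫ g).appLE V U hUV).hom, (f.appLE W U hUW).hom]
  haveI : IsScalarTower Γ(S, V) Γ(Y, W) Γ(X, U) := IsScalarTower.of_algebraMap_eq' (by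
    show _ = RingHom.comp _ _
    exact congrArg CommRingCat.Hom.hom htower.symm)
  haveI : IsNoetherianRing Γ(S, V) := IsLocallyNoetherian.component_noetherian ⟨V, hV⟩
  suffices Algebra.Etale Γ(Y, W) Γ(X, U) from this
  refine etale_of_codim (R := Γ(S, V)) {P | hV.fromSpec P ∈ S₁} (fun P hP => ?_) fun q hq => ?_
  · have hmem : hV.fromSpec P ∈ V := by
      have : hV.fromSpec P ∈ Set.range hV.fromSpec := ⟨P, rfl⟩
      rwa [hV.range_fromSpec] at this
    letI := TopCat.Presheaf.algebra_section_stalk S.presheaf ⟨hV.fromSpec P, hmem⟩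
    haveI := hV.isLocalization_stalk' P hmem
    have h := hcodim _ hP
    rw [IsLocalization.AtPrime.ringKrullDim_eq_height P.asIdeal (S.presheaf.stalk (hV.fromSpec P))] at h
    rwa [IsLocalization.AtPrime.ringKrullDim_eq_height P.asIdeal (Localization.AtPrime P.asIdeal)]
  · have hyU : hU.fromSpec q ∈ U := by
      have : hU.fromSpec q ∈ Set.range hU.fromSpec := ⟨q, rfl⟩
      rwa [hU.range_fromSpec] at this
    have hys : (f ≫ g) (hU.fromSpec q) ∈ S₁ := by
      have e := IsAffineOpen.SpecMap_appLE_fromSpec (f ≫ g) hV hU hUV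
      have e' := congrArg (fun h => h q) e
      simp only [Scheme.Hom.comp_apply] at e' ⊢
      rw [← e']
      exact hq
    obtain ⟨hfl, hun⟩ := (Groth.Agent.Lib.Unram.AtPrime.exists_etale_nhd_iff f (hU.fromSpec q)).1
      ⟨(f ≫ g) ⁻¹ᵁ S₁, hys, het⟩
    let p := (hW.primeIdealOf ⟨f (hU.fromSpec q), hUW hyU⟩).asIdeal
    let q' := (hU.primeIdealOf ⟨hU.fromSpec q, hyU⟩).asIdeal
    have hqeq : hU.primeIdealOf ⟨hU.fromSpec q, hyU⟩ = q := by
      have := hU.fromSpec_primeIdealOf ⟨hU.fromSpec q, hyU⟩
      exact hU.fromSpec.isOpenEmbedding.injective this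
    haveI : q'.LiesOver p :=
      ⟨congr($(IsAffineOpen.comap_primeIdealOf_appLE W hW U hU hUW hyU).1).symm⟩
    letI := Localization.AtPrime.algebraOfLiesOver p q'
    have e := IsAffineOpen.arrowStalkMapIso f W hW U hU hUW hyU
    haveI : Module.Flat (Localization.AtPrime p) (Localization.AtPrime q') := by
      rw [← RingHom.flat_algebraMap_iff]
      exact (RingHom.Flat.respectsIso.arrow_mk_iso_iff e).mp hfl
    haveI : Algebra.FormallyUnramified (Localization.AtPrime p) (Localization.AtPrime q') := by
      rw [← RingHom.formallyUnramified_algebraMap]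
      exact (RingHom.FormallyUnramified.respectsIso.arrow_mk_iso_iff e).mp hun
    haveI : Algebra.FinitePresentation Γ(Y, W) Γ(X, U) := f.finitePresentation_appLE hW hU hUW
    have : Algebra.IsEtaleAt Γ(Y, W) q' := (Groth.Agent.Lib.Unram.AtPrime.isEtaleAt_iff _ _ q').2
      ⟨Module.Flat.trans _ (Localization.AtPrime p) _,
        (Groth.Agent.Lib.Unram.AtPrime.isUnramifiedAt_iff_formallyUnramified_localization _ _ p q').2 inferInstance⟩
    exact (congrArg (fun r : PrimeSpectrum Γ(X, U) => Algebra.IsEtaleAt Γ(Y, W) r.asIdeal) hqeq).mp this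

end Groth.Agent.H26.EtaleCodim
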