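import Groth.Agent.Lib.FEt.NormalCover
import Groth.Agent.Lib.FinCond.Components
import Groth.Agent.H26.NormalSection
import Groth.Agent.Lib.Henselian.DescendSection
import Mathlib.AlgebraicGeometry.Normalization
import Mathlib.AlgebraicGeometry.ZariskisMainTheorem
import Mathlib.RingTheory.Unramified.Field
import Mathlib.RingTheory.DedekindDomain.IntegralClosure

/-!
# Normalization of a normal noetherian scheme in an etale scheme over it
-/

set_option autoImplicit false
set_option maxHeartbeats 1000000
set_option linter.all false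

universe u

open CategoryTheory CategoryTheory.Limits AlgebraicGeometry TopologicalSpace

namespace Groth.Agent.H26.EtaleNormalization

/-- The integral closure in an integrally closed domain is integrally closed. -/
theorem isIntegrallyClosed_integralClosure (A B : Type u) [CommRing A] [CommRing B] [IsDomain B]
    [IsIntegrallyClosed B] [Algebra A B] : IsIntegrallyClosed (integralClosure A B) := by
  let C := integralClosure A B
  rw [isIntegrallyClosed_iff (FractionRing C)]
  intro x hx
  have hinj : Function.Injective (algebraMap C (FractionRing B)) :=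
    (IsFractionRing.injective B (FractionRing B)).comp (Subtype.val_injective : Function.Injective C.val)
  let ψ : FractionRing C →ₐ[C] FractionRing B := IsFractionRing.liftAlgHom (g := Algebra.ofId C _) hinj
  have h1 : IsIntegral C (ψ x) := hx.map ψ
  obtain ⟨b, hb⟩ := IsIntegrallyClosed.isIntegral_iff.1 (h1.tower_top (A := B))
  rw [← hb] at h1
  have h2 : IsIntegral C b :=
    (isIntegral_algHom_iff (IsScalarTower.toAlgHom C B (FractionRing B)) (IsFractionRing.injective B (FractionRing B))).1 h1
  exact ⟨⟨b, isIntegral_trans (R := A) (A := C) _ h2⟩,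
    ψ.toRingHom.injective ((ψ.commutes ⟨b, _⟩).trans hb)⟩

/-- Integral closures in etale domains over normal noetherian domains are finite. -/
theorem finite_integralClosure (A B D : Type u) [CommRing A] [IsNoetherianRing A] [IsDomain A] [IsIntegrallyClosed A]
    [CommRing B] [CommRing D] [IsDomain D] [Algebra A B] [Algebra A D] [Algebra.Etale A D]
    (ι : B →ₐ[A] D) (hι : Function.Injective ι) : Module.Finite A (integralClosure A B) := by
  let K := FractionRing A
  let L := FractionRing D
  have hAD : Function.Injective (algebraMap A D) := by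
    rw [injective_iff_map_eq_zero]
    intro a ha
    by_contra hne
    have hreg : IsSMulRegular A a := IsRegular.left (isRegular_of_ne_zero hne)
    have h1 : IsSMulRegular D (algebraMap A D a) := hreg.of_flat
    exact one_ne_zero (h1 (show algebraMap A D a • (1 : D) = algebraMap A D a • 0 by simp [ha]))
  haveI : FaithfulSMul A D := (faithfulSMul_iff_algebraMap_injective A D).2 hAD
  haveI : FaithfulSMul A L := (faithfulSMul_iff_algebraMap_injective A L).2 (by
    rw [IsScalarTower.algebraMap_eq A D L]
    exact (IsFractionRing.injective D L).comp hAD)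
  letI : Algebra K L := FractionRing.liftAlgebra A L
  haveI : IsScalarTower A K L := FractionRing.isScalarTower_liftAlgebra A L
  haveI : Algebra.EssFiniteType D L := Algebra.EssFiniteType.of_isLocalization L (nonZeroDivisors D)
  haveI : Algebra.EssFiniteType A L := Algebra.EssFiniteType.comp A D L
  haveI : Algebra.EssFiniteType K L := Algebra.EssFiniteType.of_comp A K L
  haveI : Algebra.FormallyUnramified D L := Algebra.FormallyUnramified.of_isLocalization (nonZeroDivisors D)
  haveI : Algebra.FormallyUnramified A L := Algebra.FormallyUnramified.comp A D L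
  haveI : Algebra.FormallyUnramified K L := Algebra.FormallyUnramified.of_restrictScalars A K L
  haveI : Module.Finite K L := Algebra.FormallyUnramified.finite_of_free K L
  haveI : Algebra.IsSeparable K L := (Algebra.FormallyUnramified.iff_isSeparable K L).1 inferInstance
  haveI : Module.Finite A (integralClosure A L) := IsIntegralClosure.finite A K L (integralClosure A L)
  let j : B →ₐ[A] L := (IsScalarTower.toAlgHom A D L).comp ι
  let g : integralClosure A B →ₗ[A] integralClosure A L :=
    { toFun := fun x => ⟨j x, x.2.map j⟩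
      map_add' := fun x y => Subtype.ext (map_add j (x : B) y)
      map_smul' := fun c x => Subtype.ext (map_smul j c (x : B)) }
  exact Module.Finite.of_injective g fun x y h => Subtype.ext (hι (IsFractionRing.injective D L (congrArg Subtype.val h)))

/-- The normalization of a normal scheme in an integral etale scheme over it. -/
theorem exists_of_isIntegral {N S : Scheme.{u}} (g : N ⟶ S) [Etale g] [IsSeparated g] [QuasiCompact g]
    [IsLocallyNoetherian S] [IsIntegral N] (hS : Pi1.IsNormalScheme S) :
    ∃ (T : Scheme.{u}) (π : T ⟶ S) (j : N ⟶ T), IsFinite π ∧ Pi1.IsNormalScheme T ∧ IsOpenImmersion j ∧ j ≫ π = g := by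
  haveI : LocallyQuasiFinite g := Lib.Henselian.DescendSection.locallyQuasiFinite_of_etale g
  have hN : Pi1.IsNormalScheme N := NormalSection.isNormalScheme_of_smooth g hS
  refine ⟨g.normalization, g.fromNormalization, g.toNormalization, ?_, fun y => ⟨inferInstance, ?_⟩, inferInstance,
    g.toNormalization_fromNormalization⟩
  · have hex : ∀ s : S, ∃ U : S.Opens, s ∈ U ∧ IsAffineOpen U ∧ IsIntegral (U : Scheme.{u}) := fun s => by
      haveI := (hS s).1
      obtain ⟨U₁, hs, hU₁⟩ := Lib.FinCond.exists_integral_nhd S s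
      obtain ⟨_, ⟨U, hU, rfl⟩, hsU, hUU₁⟩ := S.isBasis_affineOpens.exists_subset_of_mem_open
        (show s ∈ (U₁ : Set S) from hs) U₁.isOpen
      haveI : Nonempty U := ⟨⟨s, hsU⟩⟩
      haveI := hU₁
      haveI : Nonempty (U : Scheme.{u}) := ⟨⟨s, hsU⟩⟩
      exact ⟨U, hsU, hU, isIntegral_of_isOpenImmersion (S.homOfLE hUU₁)⟩
    choose U hsU hU hUint using hex
    refine (HasAffineProperty.iff_of_iSup_eq_top (P := @IsFinite) (fun s : S => ⟨U s, hU s⟩)
      (top_le_iff.1 fun s _ => Opens.mem_iSup.2 ⟨s, hsU s⟩)).mpr fun s => ⟨(hU s).preimage _, ?_⟩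
    haveI := hUint s
    let V := U s
    have hV : IsAffineOpen V := hU s
    haveI : IsNoetherianRing Γ(S, V) := IsLocallyNoetherian.component_noetherian ⟨V, hV⟩
    have hVn : Pi1.IsNormalScheme (V : Scheme.{u}) := NormalSection.isNormalScheme_of_smooth V.ι hS
    haveI : Nonempty (⊤ : (V : Scheme.{u}).Opens) := ⟨⟨⟨s, hsU s⟩, trivial⟩⟩
    haveI : IsDomain Γ(S, V) := V.topIso.commRingCatIsoToRingEquiv.toMulEquiv.isDomain_iff.1 inferInstance
    haveI : IsIntegrallyClosed Γ(S, V) := by
      have := Lib.FEt.NormalCover.isIntegrallyClosed_sections hVn (U := ⊤)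
      exact IsIntegrallyClosed.of_equiv V.topIso.commRingCatIsoToRingEquiv
    let := (g.app V).hom.toAlgebra
    have hfin : Module.Finite Γ(S, V) (integralClosure Γ(S, V) Γ(N, g ⁻¹ᵁ V)) := by
      rcases isEmpty_or_nonempty ↥(g ⁻¹ᵁ V) with hE | hE
      · have hbot : g ⁻¹ᵁ V = ⊥ := Opens.ext (Set.eq_empty_of_forall_notMem fun x hx => hE.false ⟨x, hx⟩)
        haveI : Subsingleton Γ(N, g ⁻¹ᵁ V) := by rw [hbot]; infer_instance
        haveI : Subsingleton (integralClosure Γ(S, V) Γ(N, g ⁻¹ᵁ V)) := Subtype.val_injective.subsingleton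
        exact inferInstance
      · obtain ⟨⟨x, hx⟩⟩ := hE
        obtain ⟨_, ⟨W, hW, rfl⟩, hxW, hWV⟩ := N.isBasis_affineOpens.exists_subset_of_mem_open
          (show x ∈ ((g ⁻¹ᵁ V : N.Opens) : Set N) from hx) (g ⁻¹ᵁ V).isOpen
        haveI : Nonempty W := ⟨⟨x, hxW⟩⟩
        letI := (g.appLE V W hWV).hom.toAlgebra
        haveI : Algebra.Etale Γ(S, V) Γ(N, W) := g.etale_appLE hV hW hWV
        refine finite_integralClosure Γ(S, V) Γ(N, g ⁻¹ᵁ V) Γ(N, W)
          { toRingHom := (N.presheaf.map (homOfLE hWV).op).hom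
            commutes' := fun a => rfl } ?_
        exact map_injective_of_isIntegral N _
    have hf : (g.fromNormalization.app V).hom.Finite := by
      rw [Scheme.Hom.fromNormalization_app _ hV]
      exact (RingHom.Finite.of_surjective _
        (ConcreteCategory.bijective_of_isIso (g.normalizationObjIso hV).inv).2).comp (RingHom.finite_algebraMap.2 hfin)
    rw [morphismRestrict_appTop]
    have hf' : ∀ W : S.Opens, W = V → (g.fromNormalization.app W).hom.Finite := fun W h => by subst h; exact hf
    refine RingHom.Finite.comp (RingHom.Finite.of_surjective _ ?_) (hf' _ V.ι_image_top)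
    rw [eqToHom_op, eqToHom_map]
    generalize_proofs at *
    exact (eqToIso (by assumption)).commRingCatIsoToRingEquiv.surjective
  · obtain ⟨_, ⟨U, hU, rfl⟩, hxU, -⟩ := S.isBasis_affineOpens.exists_subset_of_mem_open
      (Set.mem_univ (g.fromNormalization y)) isOpen_univ
    replace hU : IsAffineOpen U := hU
    let := (g.app U).hom.toAlgebra
    have hV : IsAffineOpen (g.fromNormalization ⁻¹ᵁ U) := hU.preimage _
    haveI : Nonempty (g.fromNormalization ⁻¹ᵁ U) := ⟨⟨y, hxU⟩⟩
    haveI : Nonempty (g ⁻¹ᵁ U) := by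
      by_contra hE
      rw [not_nonempty_iff] at hE
      have hbot : g ⁻¹ᵁ U = ⊥ := Opens.ext (Set.eq_empty_of_forall_notMem fun x hx => hE.false ⟨x, hx⟩)
      haveI : Subsingleton Γ(N, g ⁻¹ᵁ U) := by rw [hbot]; infer_instance
      have : Subsingleton Γ(g.normalization, g.fromNormalization ⁻¹ᵁ U) :=
        (g.normalizationObjIso hU).commRingCatIsoToRingEquiv.injective.subsingleton
      exact not_subsingleton _ this
    haveI := Lib.FEt.NormalCover.isIntegrallyClosed_sections hN (U := g ⁻¹ᵁ U)
    haveI := isIntegrallyClosed_integralClosure Γ(S, U) Γ(N, g ⁻¹ᵁ U)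
    haveI : IsIntegrallyClosed Γ(g.normalization, g.fromNormalization ⁻¹ᵁ U) :=
      IsIntegrallyClosed.of_equiv (g.normalizationObjIso hU).commRingCatIsoToRingEquiv.symm
    let := TopCat.Presheaf.algebra_section_stalk g.normalization.presheaf (⟨y, hxU⟩ : (g.fromNormalization ⁻¹ᵁ U))
    have hloc := hV.isLocalization_stalk ⟨y, hxU⟩
    exact isIntegrallyClosed_of_isLocalization _ _ ((hV.primeIdealOf ⟨y, hxU⟩).asIdeal.primeCompl_le_nonZeroDivisors)

theorem isFinite_coprodDesc {U Z C : Scheme.{u}} (f : Z ⟶ U) (g : C ⟶ U) [IsFinite f] [IsFinite g] :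
    IsFinite (coprod.desc f g) := by
  have : coprod.desc f g = coprod.map f g ≫ coprod.desc (𝟙 U) (𝟙 U) := by simp
  rw [this]
  have : IsFinite (coprod.map f g) :=
    IsZariskiLocalAtTarget.coprodMap (P := @IsFinite) f g inferInstance inferInstance
  have : IsFinite (coprod.desc (𝟙 U) (𝟙 U)) := inferInstance
  infer_instance

theorem exists_of_clopen {N S : Scheme.{u}} (g : N ⟶ S) [Etale g] [IsSeparated g] [QuasiCompact g]
    [IsNoetherian S] (hS : Pi1.IsNormalScheme S) (W : Closeds N) (hW : IsOpen (W : Set N)) :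
    ∃ (T : Scheme.{u}) (π : T ⟶ S) (j : ((⟨W, hW⟩ : N.Opens) : Scheme.{u}) ⟶ T), IsFinite π ∧ Pi1.IsNormalScheme T ∧
      IsOpenImmersion j ∧ j ≫ π = Scheme.Opens.ι (X := N) ⟨W, hW⟩ ≫ g := by
  haveI : IsLocallyNoetherian N := LocallyOfFiniteType.isLocallyNoetherian g
  haveI : CompactSpace N := QuasiCompact.compactSpace_of_compactSpace g
  haveI : IsNoetherian N := ⟨⟩
  induction W using (wellFounded_lt (α := Closeds N)).induction with
  | _ W ih =>
    let O : N.Opens := ⟨W, hW⟩
    haveI : IsSeparated (O.ι ≫ g) := inferInstance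
    haveI : QuasiCompact (O.ι ≫ g) := inferInstance
    haveI : IsLocallyNoetherian (O : Scheme.{u}) := LocallyOfFiniteType.isLocallyNoetherian O.ι
    have hOn : Pi1.IsNormalScheme (O : Scheme.{u}) := NormalSection.isNormalScheme_of_smooth (O.ι ≫ g) hS
    rcases isEmpty_or_nonempty (O : Scheme.{u}) with hE | hE
    · refine ⟨O, O.ι ≫ g, 𝟙 _, ?_, hOn, inferInstance, Category.id_comp _⟩
      infer_instance
    by_cases hc : PreconnectedSpace (O : Scheme.{u})
    · haveI : ConnectedSpace (O : Scheme.{u}) := { toNonempty := hE }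
      haveI := (Lib.FinCond.isIntegral_iff (O : Scheme.{u})).mpr ⟨inferInstance, fun x => (hOn x).1⟩
      exact exists_of_isIntegral (O.ι ≫ g) hS
    · obtain ⟨A, hA, hne, hne'⟩ : ∃ A : Set (O : Scheme.{u}), IsClopen A ∧ A.Nonempty ∧ Aᶜ.Nonempty := by
        by_contra h
        refine hc (preconnectedSpace_iff_clopen.mpr fun A hA => ?_)
        by_cases h1 : A.Nonempty
        · by_cases h2 : Aᶜ.Nonempty
          · exact (h ⟨A, hA, h1, h2⟩).elim
          · exact Or.inr (Set.compl_empty_iff.mp (Set.not_nonempty_iff_eq_empty.mp h2))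
        · exact Or.inl (Set.not_nonempty_iff_eq_empty.mp h1)
      have hsub : ∀ A : Set (O : Scheme.{u}), IsClopen A → Aᶜ.Nonempty →
          ∃ (V : (O : Scheme.{u}).Opens) (T : Scheme.{u}) (π : T ⟶ S) (j : (V : Scheme.{u}) ⟶ T),
            (V : Set (O : Scheme.{u})) = A ∧ IsFinite π ∧ Pi1.IsNormalScheme T ∧ IsOpenImmersion j ∧
              j ≫ π = V.ι ≫ O.ι ≫ g := by
        intro A hA hne
        have hcl : Topology.IsClosedEmbedding O.ι := ⟨O.ι.isOpenEmbedding.isEmbedding, by
          rw [Scheme.Opens.range_ι]; exact W.isClosed⟩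
        let W' : Closeds N := ⟨O.ι '' A, hcl.isClosedMap _ hA.1⟩
        have hlt : W' < W := by
          refine lt_of_le_of_ne ?_ ?_
          · rintro _ ⟨a, -, rfl⟩
            exact a.2
          · intro he
            obtain ⟨a, ha⟩ := hne
            have : O.ι a ∈ W' := he ▸ (a.2 : O.ι a ∈ (W : Set N))
            obtain ⟨b, hb, hb'⟩ := this
            exact ha (O.ι.isOpenEmbedding.injective hb' ▸ hb)
        obtain ⟨T, π, j, h1, h2, h3, h4⟩ := ih W' hlt (O.ι.isOpenEmbedding.isOpenMap _ hA.2)
        let V : (O : Scheme.{u}).Opens := ⟨A, hA.2⟩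
        let O' : N.Opens := ⟨W', O.ι.isOpenEmbedding.isOpenMap _ hA.2⟩
        have hr : Set.range (V.ι ≫ O.ι) = Set.range O'.ι := by
          rw [Scheme.Hom.comp_base, TopCat.coe_comp, Set.range_comp, Scheme.Opens.range_ι, Scheme.Opens.range_ι]
          rfl
        let e := IsOpenImmersion.isoOfRangeEq (V.ι ≫ O.ι) O'.ι hr
        haveI := h3
        refine ⟨V, T, π, e.hom ≫ j, rfl, h1, h2, inferInstance, ?_⟩
        rw [Category.assoc, h4, ← Category.assoc, IsOpenImmersion.isoOfRangeEq_hom_fac, Category.assoc]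
      obtain ⟨V₁, T₁, π₁, j₁, hV₁, hπ₁, hT₁, hj₁, he₁⟩ := hsub A hA hne'
      obtain ⟨V₂, T₂, π₂, j₂, hV₂, hπ₂, hT₂, hj₂, he₂⟩ := hsub Aᶜ hA.compl (by rwa [compl_compl])
      have hcompl : IsCompl V₁.ι.opensRange V₂.ι.opensRange := by
        rw [Scheme.Opens.opensRange_ι, Scheme.Opens.opensRange_ι]
        constructor
        · rw [disjoint_iff]
          ext x
          simp only [Opens.coe_inf, hV₁, hV₂, Set.inter_compl_self, Opens.coe_bot]
        · rw [codisjoint_iff]
          ext x
          simp only [Opens.coe_sup, hV₁, hV₂, Set.union_compl_self, Opens.coe_top]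
      obtain ⟨hcol⟩ := nonempty_isColimit_binaryCofanMk_of_isCompl V₁.ι V₂.ι hcompl
      let e : (O : Scheme.{u}) ≅ (V₁ : Scheme.{u}) ⨿ (V₂ : Scheme.{u}) :=
        hcol.coconePointUniqueUpToIso (colimit.isColimit _)
      have hl : V₁.ι ≫ e.hom = coprod.inl := hcol.comp_coconePointUniqueUpToIso_hom _ ⟨.left⟩
      have hr : V₂.ι ≫ e.hom = coprod.inr := hcol.comp_coconePointUniqueUpToIso_hom _ ⟨.right⟩
      haveI := hj₁
      haveI := hj₂
      refine ⟨T₁ ⨿ T₂, coprod.desc π₁ π₂, e.hom ≫ coprod.map j₁ j₂, isFinite_coprodDesc π₁ π₂, ?_, inferInstance, ?_⟩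
      · intro x
        obtain ⟨x, rfl⟩ := (coprodMk T₁ T₂).surjective x
        rcases x with x | x
        · rw [coprodMk_inl]
          let r := (asIso ((coprod.inl : T₁ ⟶ T₁ ⨿ T₂).stalkMap x)).commRingCatIsoToRingEquiv
          haveI := (hT₁ x).2
          exact ⟨r.toMulEquiv.isDomain_iff.mpr (hT₁ x).1, IsIntegrallyClosed.of_equiv r.symm⟩
        · rw [coprodMk_inr]
          let r := (asIso ((coprod.inr : T₂ ⟶ T₁ ⨿ T₂).stalkMap x)).commRingCatIsoToRingEquiv
          haveI := (hT₂ x).2
          exact ⟨r.toMulEquiv.isDomain_iff.mpr (hT₂ x).1, IsIntegrallyClosed.of_equiv r.symm⟩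
      · refine hcol.hom_ext ?_
        rintro (_ | _) <;> simp only [BinaryCofan.ι_app_left, BinaryCofan.ι_app_right, BinaryCofan.mk_inl, BinaryCofan.mk_inr]
        · rw [Category.assoc]
          erw [reassoc_of% hl]
          rw [coprod.inl_map_assoc, coprod.inl_desc, he₁]
          rfl
        · rw [Category.assoc]
          erw [reassoc_of% hr]
          rw [coprod.inr_map_assoc, coprod.inr_desc, he₂]
          rfl

/-- The normalization of a normal noetherian scheme in an etale scheme over it. -/
theorem exists_normal_finite {N S : Scheme.{u}} (g : N ⟶ S) [Etale g] [IsSeparated g] [QuasiCompact g]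
    [IsNoetherian S] (hS : Pi1.IsNormalScheme S) :
    ∃ (T : Scheme.{u}) (π : T ⟶ S) (j : N ⟶ T), IsFinite π ∧ Pi1.IsNormalScheme T ∧ IsOpenImmersion j ∧ j ≫ π = g := by
  obtain ⟨T, π, j, h1, h2, h3, h4⟩ := exists_of_clopen g hS ⊤ isOpen_univ
  let O : N.Opens := ⟨((⊤ : Closeds N) : Set N), isOpen_univ⟩
  haveI : IsIso O.ι := by
    have : O = ⊤ := Opens.ext rfl
    rw [this]
    exact (inferInstance : IsIso N.topIso.hom)
  haveI := h3
  exact ⟨T, π, CategoryTheory.inv O.ι ≫ j, h1, h2, inferInstance, by rw [Category.assoc, h4, IsIso.inv_hom_id_assoc]⟩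

end Groth.Agent.H26.EtaleNormalization
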