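import Groth.Agent.Lib.Henselian.Pointed
import Mathlib.FieldTheory.IsAlgClosed.AlgebraicClosure
import Mathlib.RingTheory.Etale.Basic
import Mathlib.RingTheory.Jacobson.Ring
import Mathlib.RingTheory.Spectrum.Prime.Jacobson
import Mathlib.RingTheory.LocalRing.ResidueField.Ideal
import Mathlib.RingTheory.Smooth.StandardSmoothOfFree
import Mathlib.RingTheory.RingHom.StandardSmooth

/-!
# Étale sections through geometric points of smooth algebras
-/

universe u

open TensorProduct
open Groth.Agent.Lib.Henselian.Pointed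

namespace Groth.Agent.H26.EtaleSection

variable {R : Type u} [CommRing R] (p : Ideal R) [p.IsPrime] (Ω : Type u) [Field Ω]
  [Algebra p.ResidueField Ω] [Algebra R Ω] [IsScalarTower R p.ResidueField Ω]

lemma residue_mem_range (a : p.ResidueField) :
    ∃ x, Lim.α R Ω x = algebraMap p.ResidueField Ω a := by
  obtain ⟨x, y, -, rfl⟩ := IsFractionRing.div_surjective (A := R ⧸ p) a
  obtain ⟨r, rfl⟩ := Ideal.Quotient.mk_surjective x
  obtain ⟨t, rfl⟩ := Ideal.Quotient.mk_surjective y
  have e : ∀ r, algebraMap p.ResidueField Ω (algebraMap (R ⧸ p) p.ResidueField (Ideal.Quotient.mk p r)) =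
      Lim.α R Ω (algebraMap R _ r) := fun r => by
    rw [AlgHom.commutes, IsScalarTower.algebraMap_apply R p.ResidueField Ω,
      IsScalarTower.algebraMap_apply R (R ⧸ p) p.ResidueField]
    rfl
  rw [map_div₀, e, e]
  by_cases h : Lim.α R Ω (algebraMap R _ t) = 0
  · exact ⟨0, by rw [h, div_zero, map_zero]⟩
  · obtain ⟨v, hv⟩ := (IsUnit.of_map (Lim.α R Ω : Lim R Ω →+* Ω) _ (isUnit_iff_ne_zero.mpr h))
    refine ⟨algebraMap R _ r * ↑v⁻¹, ?_⟩
    rw [eq_div_iff h, ← hv, ← map_mul, Units.inv_mul_cancel_right]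

variable [Algebra.IsSeparable p.ResidueField Ω]

include p in
lemma α_surjective : Function.Surjective (Lim.α R Ω) := by
  classical
  intro θ
  have hsep := Algebra.IsSeparable.isSeparable p.ResidueField θ
  set q := (minpoly p.ResidueField θ).map (algebraMap p.ResidueField Ω) with hq
  obtain ⟨F, hF, -, hFm⟩ := Polynomial.lifts_and_natDegree_eq_and_monic
    (f := (Lim.α R Ω : Lim R Ω →+* Ω)) (p := q) (by
      rw [Polynomial.lifts_iff_coeff_lifts]
      intro k
      rw [hq, Polynomial.coeff_map]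
      exact residue_mem_range p Ω _) ((minpoly.monic hsep.isIntegral).map _)
  obtain ⟨A', _, _, _, φ, hφ⟩ := Lim.exists_etale_range F.coeffs
  have hlift : F ∈ Polynomial.lifts (φ : A' →+* Lim R Ω) := by
    rw [Polynomial.lifts_iff_coeff_lifts]
    intro k
    by_cases hk : F.coeff k = 0
    · exact ⟨0, by rw [hk, map_zero]⟩
    · exact hφ (Polynomial.coeff_mem_coeffs hk)
  obtain ⟨g, hg, -, hgm⟩ := Polynomial.lifts_and_natDegree_eq_and_monic hlift hFm
  let P : StandardEtalePair A' := ⟨g, hgm, Polynomial.derivative g, ⟨1, 0, 1, by simp⟩⟩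
  let γ : A' →ₐ[R] Ω := (Lim.α R Ω).comp φ
  let : Algebra A' Ω := γ.toRingHom.toAlgebra
  have : IsScalarTower R A' Ω := IsScalarTower.of_algebraMap_eq fun a => (γ.commutes a).symm
  have hgq : g.map (algebraMap A' Ω) = q := by
    rw [show algebraMap A' Ω = (Lim.α R Ω : Lim R Ω →+* Ω).comp (φ : A' →+* Lim R Ω) from rfl,
      ← Polynomial.map_map, show g.map (φ : A' →+* Lim R Ω) = F from hg, hF]
  have hP : P.HasMap θ := by
    refine ⟨?_, isUnit_iff_ne_zero.mpr ?_⟩
    · rw [← Polynomial.aeval_map_algebraMap Ω, show P.f.map (algebraMap A' Ω) = q from hgq, hq,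
        Polynomial.aeval_map_algebraMap, minpoly.aeval]
    · rw [← Polynomial.aeval_map_algebraMap Ω, ← Polynomial.derivative_map, hgq, hq,
        Polynomial.derivative_map, Polynomial.aeval_map_algebraMap]
      exact hsep.aeval_derivative_ne_zero (minpoly.aeval _ _)
  let : Algebra R P.Ring := ((algebraMap A' P.Ring).comp (algebraMap R A')).toAlgebra
  have : IsScalarTower R A' P.Ring := IsScalarTower.of_algebraMap_eq fun _ => rfl
  have : Algebra.Etale R P.Ring := Algebra.Etale.comp R A' P.Ring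
  obtain ⟨ψ, hψ, -⟩ := Lim.existsUnique_map P.Ring ((P.lift _ hP).restrictScalars R)
  exact ⟨ψ P.X, (AlgHom.congr_fun hψ P.X).trans (StandardEtalePair.lift_X _ _ hP)⟩

include p in
/-- A geometric point of a standard smooth algebra factors through an étale algebra. -/
theorem exists_etale_factor {B : Type u} [CommRing B] [Algebra R B]
    (hB : (algebraMap R B).IsStandardSmooth) (σ : B →ₐ[R] Ω) :
    ∃ (C : Type u) (_ : CommRing C) (_ : Algebra R C) (_ : Algebra.Etale R C) (u : B →ₐ[R] C)
      (c : C →ₐ[R] Ω), c.comp u = σ := by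
  classical
  obtain ⟨n, g, hg, hge⟩ := hB.exists_etale_mvPolynomial
  let gA : MvPolynomial (Fin n) R →ₐ[R] B := ⟨g, fun r => RingHom.congr_fun hg r⟩
  choose x hx using fun i => α_surjective p Ω (σ (gA (MvPolynomial.X i)))
  obtain ⟨A', _, _, _, φ, hφ⟩ := Lim.exists_etale_range (Finset.univ.image x)
  choose y hy using fun i => hφ (Finset.mem_image_of_mem x (Finset.mem_univ i))
  let : Algebra (MvPolynomial (Fin n) R) B := gA.toRingHom.toAlgebra
  have : IsScalarTower R (MvPolynomial (Fin n) R) B :=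
    IsScalarTower.of_algebraMap_eq fun r => (gA.commutes r).symm
  have : Algebra.Etale (MvPolynomial (Fin n) R) B := RingHom.etale_algebraMap.mp hge
  let : Algebra (MvPolynomial (Fin n) R) A' := (MvPolynomial.aeval y).toRingHom.toAlgebra
  have : IsScalarTower R (MvPolynomial (Fin n) R) A' :=
    IsScalarTower.of_algebraMap_eq fun r => ((MvPolynomial.aeval y).commutes r).symm
  let : Algebra (MvPolynomial (Fin n) R) Ω := (σ.comp gA).toRingHom.toAlgebra
  let γ : A' →ₐ[MvPolynomial (Fin n) R] Ω := ⟨((Lim.α R Ω).comp φ).toRingHom, fun q => by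
    have : ((Lim.α R Ω).comp φ).comp (MvPolynomial.aeval y) = σ.comp gA :=
      MvPolynomial.algHom_ext fun i => by simp [hy, hx]
    exact AlgHom.congr_fun this q⟩
  let σ' : B →ₐ[MvPolynomial (Fin n) R] Ω := ⟨σ.toRingHom, fun q => rfl⟩
  have : IsScalarTower R (MvPolynomial (Fin n) R) Ω :=
    IsScalarTower.of_algebraMap_eq fun r => ((σ.comp gA).commutes r).symm
  refine ⟨A' ⊗[MvPolynomial (Fin n) R] B, inferInstance, inferInstance,
    Algebra.Etale.comp R A' _,
    (Algebra.TensorProduct.includeRight : B →ₐ[MvPolynomial (Fin n) R] _).restrictScalars R,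
    (Algebra.TensorProduct.lift γ σ' fun _ _ => Commute.all _ _).restrictScalars R, ?_⟩
  ext b
  change Algebra.TensorProduct.lift γ σ' (fun _ _ => Commute.all _ _) (1 ⊗ₜ b) = σ b
  rw [Algebra.TensorProduct.lift_tmul, map_one, one_mul]
  rfl

/-- A locally closed subset of the spectrum of a finite type algebra containing all geometric
closed points of the fibre contains the whole fibre. -/
theorem mem_of_isLocallyClosed {B : Type u} [CommRing B] [Algebra R B] [Algebra.FiniteType R B]
    (q : PrimeSpectrum B) (Ω : Type u) [Field Ω] [Algebra R Ω] [IsAlgClosed Ω]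
    (ι : Ω →+* AlgebraicClosure q.asIdeal.ResidueField)
    (hι : ι.comp (algebraMap R Ω) = algebraMap R _)
    {T : Set (PrimeSpectrum B)} (hT : IsLocallyClosed T)
    (h : ∀ σ : B →ₐ[R] Ω, PrimeSpectrum.comap σ.toRingHom ⊥ ∈ T) : q ∈ T := by
  by_contra hq
  let D := Ω ⊗[R] B
  let i : B →+* D := (Algebra.TensorProduct.includeRight : B →ₐ[R] D).toRingHom
  let ιA : Ω →ₐ[R] AlgebraicClosure q.asIdeal.ResidueField := ⟨ι, RingHom.congr_fun hι⟩
  let m : D →ₐ[R] AlgebraicClosure q.asIdeal.ResidueField :=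
    Algebra.TensorProduct.lift ιA (IsScalarTower.toAlgHom R B _) fun _ _ => Commute.all _ _
  let P : PrimeSpectrum D := PrimeSpectrum.comap m.toRingHom ⊥
  have hP : PrimeSpectrum.comap i P = q := by
    apply PrimeSpectrum.ext
    ext b
    change m (1 ⊗ₜ b) ∈ (⊥ : Ideal _) ↔ b ∈ q.asIdeal
    rw [Algebra.TensorProduct.lift_tmul, map_one, one_mul, Ideal.mem_bot,
      IsScalarTower.toAlgHom_apply,
      IsScalarTower.algebraMap_apply B q.asIdeal.ResidueField (AlgebraicClosure q.asIdeal.ResidueField),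
      map_eq_zero, Ideal.algebraMap_residueField_eq_zero]
  have : IsJacobsonRing D := isJacobsonRing_of_finiteType (A := Ω)
  obtain ⟨U, C, hU, hC, rfl⟩ := hT
  have hU' := hU.preimage (PrimeSpectrum.continuous_comap i)
  have hC' := hC.preimage (PrimeSpectrum.continuous_comap i)
  have key : ∀ T' : Set (PrimeSpectrum D), IsLocallyClosed T' → P ∈ T' →
      ∃ y ∈ T', PrimeSpectrum.comap i y ∈ U ∩ C := by
    intro T' hT' hPT'
    obtain ⟨y, hy, hyc⟩ := nonempty_inter_closedPoints ⟨P, hPT'⟩ hT'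
    refine ⟨y, hy, ?_⟩
    have : y.asIdeal.IsMaximal := (PrimeSpectrum.isClosed_singleton_iff_isMaximal y).mp hyc
    let := Ideal.Quotient.field y.asIdeal
    have : Algebra.FiniteType Ω (D ⧸ y.asIdeal) :=
      Algebra.FiniteType.of_surjective (Ideal.Quotient.mkₐ Ω y.asIdeal)
        Ideal.Quotient.mk_surjective
    have : Module.Finite Ω (D ⧸ y.asIdeal) := finite_of_finite_type_of_isJacobsonRing Ω _
    have : Algebra.IsIntegral Ω (D ⧸ y.asIdeal) := Algebra.IsIntegral.of_finite Ω _
    let e : Ω ≃ₐ[Ω] (D ⧸ y.asIdeal) := AlgEquiv.ofBijective (Algebra.ofId Ω _)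
      (IsAlgClosed.algebraMap_bijective_of_isIntegral (k := Ω) (K := D ⧸ y.asIdeal))
    let σ : B →ₐ[R] Ω := ((e.symm.toAlgHom.comp (Ideal.Quotient.mkₐ Ω y.asIdeal)).restrictScalars R).comp
      Algebra.TensorProduct.includeRight
    convert h σ using 1
    apply PrimeSpectrum.ext
    ext b
    change i b ∈ y.asIdeal ↔ e.symm (Ideal.Quotient.mk y.asIdeal (i b)) ∈ (⊥ : Ideal Ω)
    rw [Ideal.mem_bot, EmbeddingLike.map_eq_zero_iff, Ideal.Quotient.eq_zero_iff_mem]
  by_cases hqU : q ∈ U
  · obtain ⟨y, hy, hy'⟩ := key _ hC'.isOpen_compl.isLocallyClosed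
      (show PrimeSpectrum.comap i P ∉ C by rw [hP]; exact fun hc => hq ⟨hqU, hc⟩)
    exact hy hy'.2
  · obtain ⟨y, hy, hy'⟩ := key _ hU'.isClosed_compl.isLocallyClosed
      (show PrimeSpectrum.comap i P ∉ U by rw [hP]; exact hqU)
    exact hy hy'.1

end Groth.Agent.H26.EtaleSection
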