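import Mathlib

/-!
Splitting an integral algebra at a prime after an étale base change (helpers for S1380).
-/

open scoped TensorProduct
open Polynomial

universe u

namespace Groth.Agent.H26.EtaleSplit

variable {R S : Type u} [CommRing R] [CommRing S] [Algebra R S] (p : Ideal R) [p.IsPrime]

/-- A finite Galois extension of `κ(p)` splitting all the separable residue closures. -/
theorem exists_galois (hfin : {q : PrimeSpectrum S | q.asIdeal.comap (algebraMap R S) = p}.Finite)
    (hsep : ∀ (q : PrimeSpectrum S) (hq : q.asIdeal.comap (algebraMap R S) = p),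
      letI := (Ideal.ResidueField.map p q.asIdeal (algebraMap R S) hq.symm).toAlgebra
      Module.Finite p.ResidueField (separableClosure p.ResidueField q.asIdeal.ResidueField)) :
    ∃ (k : Type u) (_ : Field k) (_ : Algebra p.ResidueField k),
      FiniteDimensional p.ResidueField k ∧ Algebra.IsSeparable p.ResidueField k ∧
      ∀ (q : PrimeSpectrum S) (hq : q.asIdeal.comap (algebraMap R S) = p),
        letI := (Ideal.ResidueField.map p q.asIdeal (algebraMap R S) hq.symm).toAlgebra
        ∀ x : separableClosure p.ResidueField q.asIdeal.ResidueField,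
          ((minpoly p.ResidueField x).map (algebraMap p.ResidueField k)).Splits := by
  let Ω := SeparableClosure p.ResidueField
  have : Finite {q : PrimeSpectrum S | q.asIdeal.comap (algebraMap R S) = p} := hfin.to_subtype
  let alg (q : {q : PrimeSpectrum S | q.asIdeal.comap (algebraMap R S) = p}) :=
    (Ideal.ResidueField.map p q.1.asIdeal (algebraMap R S) q.2.symm).toAlgebra
  have hE : ∀ q : {q : PrimeSpectrum S | q.asIdeal.comap (algebraMap R S) = p},
      letI := alg q
      ∃ E : IntermediateField p.ResidueField Ω, FiniteDimensional p.ResidueField E ∧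
        Nonempty ((separableClosure p.ResidueField q.1.asIdeal.ResidueField) →ₐ[p.ResidueField] E) := by
    intro q
    letI := alg q
    have := hsep q.1 q.2
    let f : (separableClosure p.ResidueField q.1.asIdeal.ResidueField) →ₐ[p.ResidueField] Ω :=
      IsSepClosed.lift
    exact ⟨f.fieldRange, LinearEquiv.finiteDimensional f.equivFieldRange.toLinearEquiv,
      ⟨f.equivFieldRange.toAlgHom⟩⟩
  choose E hEfin hEmap using hE
  let E' : IntermediateField p.ResidueField Ω := ⨆ q, E q
  let k := IntermediateField.normalClosure p.ResidueField E' Ω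
  refine ⟨k, inferInstance, inferInstance, inferInstance, inferInstance, fun q hq => ?_⟩
  letI := alg ⟨q, hq⟩
  intro x
  obtain ⟨g⟩ := hEmap ⟨q, hq⟩
  let ι : separableClosure p.ResidueField q.asIdeal.ResidueField →ₐ[p.ResidueField] k :=
    ((IntermediateField.inclusion
        ((le_iSup E ⟨q, hq⟩).trans (IntermediateField.le_normalClosure E'))).comp g)
  rw [← minpoly.algHom_eq ι ι.injective x]
  exact Normal.splits inferInstance _

/-- The core field-theoretic step. -/
theorem exists_pow_mem_range [Algebra.IsIntegral R S] (k : Type u) [Field k] [Algebra p.ResidueField k]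
    (hk : ∀ (q : PrimeSpectrum S) (hq : q.asIdeal.comap (algebraMap R S) = p),
        letI := (Ideal.ResidueField.map p q.asIdeal (algebraMap R S) hq.symm).toAlgebra
        ∀ x : separableClosure p.ResidueField q.asIdeal.ResidueField,
          ((minpoly p.ResidueField x).map (algebraMap p.ResidueField k)).Splits)
    (F : Type u) [Field F] (ι : k →+* F) (ψ : S →+* F)
    (h : ∀ a : R, ψ (algebraMap R S a) =
      ι (algebraMap p.ResidueField k (algebraMap R p.ResidueField a))) (s : S) :
    ∃ n : ℕ, ψ s ^ ringExpChar p.ResidueField ^ n ∈ ι.range := by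
  obtain ⟨q, hqk⟩ : ∃ q : PrimeSpectrum S, q.asIdeal = RingHom.ker ψ :=
    ⟨⟨RingHom.ker ψ, RingHom.ker_isPrime ψ⟩, rfl⟩
  have hq : q.asIdeal.comap (algebraMap R S) = p := by
    ext a
    rw [Ideal.mem_comap, hqk, RingHom.mem_ker, h, map_eq_zero, map_eq_zero,
      Ideal.algebraMap_residueField_eq_zero]
  letI := (Ideal.ResidueField.map p q.asIdeal (algebraMap R S) hq.symm).toAlgebra
  let Ψ : q.asIdeal.ResidueField →+* F := Ideal.ResidueField.lift q.asIdeal ψ hqk.le
    (fun a ha => isUnit_iff_ne_zero.mpr fun h0 => ha (hqk ▸ h0))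
  have hΨ : ∀ a, Ψ (algebraMap S _ a) = ψ a := fun a => Ideal.ResidueField.lift_algebraMap ..
  have hcomm : Ψ.comp (algebraMap p.ResidueField q.asIdeal.ResidueField) =
      ι.comp (algebraMap p.ResidueField k) := by
    apply Ideal.ResidueField.ringHom_ext
    ext a
    simp only [RingHom.comp_apply, RingHom.algebraMap_toAlgebra,
      Ideal.ResidueField.map_algebraMap, hΨ, h]
  let L := separableClosure p.ResidueField q.asIdeal.ResidueField
  have : IsScalarTower R p.ResidueField q.asIdeal.ResidueField := by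
    refine IsScalarTower.of_algebraMap_eq fun a => ?_
    rw [RingHom.algebraMap_toAlgebra, Ideal.ResidueField.map_algebraMap,
      ← IsScalarTower.algebraMap_apply]
  have : Algebra.IsAlgebraic p.ResidueField q.asIdeal.ResidueField := by
    refine ⟨fun z => IsIntegral.isAlgebraic ?_⟩
    obtain ⟨a, b, hb, rfl⟩ := IsFractionRing.div_surjective (A := S ⧸ q.asIdeal) z
    have hint : ∀ c : S ⧸ q.asIdeal,
        IsIntegral p.ResidueField (algebraMap (S ⧸ q.asIdeal) q.asIdeal.ResidueField c) := by
      intro c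
      obtain ⟨c, rfl⟩ := Ideal.Quotient.mk_surjective c
      rw [← Ideal.Quotient.algebraMap_eq, ← IsScalarTower.algebraMap_apply]
      exact ((Algebra.IsIntegral.isIntegral (R := R) c).algebraMap).tower_top
    rw [div_eq_mul_inv]
    exact (hint a).mul (hint b).inv
  have : ExpChar L (ringExpChar p.ResidueField) :=
    expChar_of_injective_ringHom (algebraMap p.ResidueField L).injective _
  obtain ⟨n, x, hx⟩ := IsPurelyInseparable.pow_mem L (ringExpChar p.ResidueField)
    (algebraMap S q.asIdeal.ResidueField s)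
  refine ⟨n, ?_⟩
  rw [← hΨ, ← map_pow, ← hx]
  refine (hk q hq x).mem_range_of_isRoot
    (Polynomial.map_ne_zero (minpoly.ne_zero (Algebra.IsIntegral.isIntegral x))) ?_
  rw [Polynomial.map_map, ← hcomm, ← Polynomial.map_map, Polynomial.IsRoot, Polynomial.eval_map,
    Polynomial.eval₂_at_apply, Polynomial.eval_map_algebraMap]
  rw [Polynomial.aeval_algebraMap_apply, minpoly.aeval, map_zero, map_zero]

/-- An étale neighbourhood whose residue field is a given finite separable extension. -/
theorem exists_etale_residueField (k : Type u) [Field k] [Algebra p.ResidueField k]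
    (hev : ∀ z : p.ResidueField, ∃ a b, algebraMap R p.ResidueField b ≠ 0 ∧
      z * algebraMap R p.ResidueField b = algebraMap R p.ResidueField a)
    (R₁ : Type u) [CommRing R₁] [Algebra R R₁] (φ : R₁ →+* k)
    (hφ : φ.comp (algebraMap R R₁) =
      (algebraMap p.ResidueField k).comp (algebraMap R p.ResidueField))
    (hgen : ∀ T : Subfield k, (∀ a, φ a ∈ T) → T = ⊤) :
    ∃ (p₁ : Ideal R₁) (_ : p₁.IsPrime) (θ : k →+* p₁.ResidueField),
      p₁.comap (algebraMap R R₁) = p ∧ ∀ a : R, algebraMap R₁ p₁.ResidueField (algebraMap R R₁ a) =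
        θ (algebraMap p.ResidueField k (algebraMap R p.ResidueField a)) := by
  have := RingHom.ker_isPrime φ
  let e : (RingHom.ker φ).ResidueField →+* k := Ideal.ResidueField.lift _ φ le_rfl
    (fun a ha => isUnit_iff_ne_zero.mpr ha)
  have he : Function.Bijective e := by
    refine ⟨e.injective, fun y => ?_⟩
    have := hgen e.fieldRange fun a => ⟨_, Ideal.ResidueField.lift_algebraMap _ φ le_rfl _ a⟩
    exact (this ▸ Subfield.mem_top y : y ∈ e.fieldRange)
  refine ⟨RingHom.ker φ, this, (RingEquiv.ofBijective e he).symm.toRingHom, ?_, fun a => ?_⟩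
  · ext a
    rw [Ideal.mem_comap, RingHom.mem_ker, ← RingHom.comp_apply, hφ, RingHom.comp_apply,
      map_eq_zero, Ideal.algebraMap_residueField_eq_zero]
  · apply he.injective
    change e _ = e ((RingEquiv.ofBijective e he).symm _)
    rw [show ∀ z, e ((RingEquiv.ofBijective e he).symm z) = z from
      (RingEquiv.ofBijective e he).apply_symm_apply, Ideal.ResidueField.lift_algebraMap]
    exact congr($hφ a)

end Groth.Agent.H26.EtaleSplit

namespace Groth.Agent.H26.EtaleSplit

variable {R S : Type u} [CommRing R] [CommRing S] [Algebra R S]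

/-- Finitely many primes are separated by a finite subalgebra. -/
theorem exists_fg_separating [Algebra.IsIntegral R S] (s : Set (Ideal S)) (hs : s.Finite) :
    ∃ S₀ : Subalgebra R S, Module.Finite R S₀ ∧
      ∀ P ∈ s, ∀ Q ∈ s, P.comap S₀.val = Q.comap S₀.val → P = Q := by
  classical
  let c : Ideal S × Ideal S → S := fun PQ =>
    if h : ∃ x, ¬(x ∈ PQ.1 ↔ x ∈ PQ.2) then h.choose else 0
  let t : Set S := c '' (s ×ˢ s)
  have ht : t.Finite := (hs.prod hs).image c
  refine ⟨Algebra.adjoin R t, Module.Finite.iff_fg.mpr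
    (fg_adjoin_of_finite ht fun x _ => Algebra.IsIntegral.isIntegral x), fun P hP Q hQ h => ?_⟩
  by_contra hne
  have hex : ∃ x, ¬(x ∈ P ↔ x ∈ Q) := by
    by_contra hh
    push Not at hh
    exact hne (Ideal.ext hh)
  have hc : c (P, Q) = hex.choose := dif_pos hex
  have := SetLike.ext_iff.mp h ⟨c (P, Q), Algebra.subset_adjoin ⟨_, ⟨hP, hQ⟩, rfl⟩⟩
  simp only [Ideal.mem_comap, Subalgebra.coe_val, hc] at this
  exact hex.choose_spec this

theorem finite_primesOver_tensor (p : Ideal R) [p.IsPrime]
    (hfin : {q : PrimeSpectrum S | q.asIdeal.comap (algebraMap R S) = p}.Finite)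
    (R₁ : Type u) [CommRing R₁] [Algebra R R₁] [Algebra.Etale R R₁] (p₁ : Ideal R₁) [p₁.IsPrime]
    (hp₁ : p₁.comap (algebraMap R R₁) = p) : (p₁.primesOver (R₁ ⊗[R] S)).Finite := by
  let e : S ⊗[R] R₁ ≃ₐ[R] R₁ ⊗[R] S := Algebra.TensorProduct.comm R S R₁
  refine Set.Finite.of_finite_image (f := Ideal.comap e.toRingHom) ?_
    (Ideal.comap_injective_of_surjective _ e.surjective).injOn
  refine (hfin.biUnion (t := fun q => q.asIdeal.primesOver (S ⊗[R] R₁))
    fun q _ => Algebra.QuasiFinite.finite_primesOver q.asIdeal).subset ?_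
  rintro _ ⟨W, ⟨hW, hWo⟩, rfl⟩
  rw [Set.mem_iUnion₂]
  refine ⟨⟨W.comap Algebra.TensorProduct.includeRight.toRingHom, inferInstance⟩, ?_,
    inferInstance, ⟨?_⟩⟩
  · rw [Set.mem_ofPred_eq, Ideal.comap_comap, ← hp₁, hWo.over, Ideal.under, Ideal.comap_comap]
    congr 1
    ext r
    simp [Algebra.TensorProduct.algebraMap_apply]
  · rw [Ideal.under, Ideal.comap_comap]
    congr 1

/-- Merging the last member of a family of complete orthogonal idempotents into the first. -/
theorem merge_idempotents {T : Type u} [CommRing T] {n : ℕ} (e : Fin (n + 2) → T)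
    (he : CompleteOrthogonalIdempotents e) :
    CompleteOrthogonalIdempotents
      (fun i : Fin (n + 1) => e i.castSucc + if i = 0 then e (Fin.last _) else 0) := by
  classical
  have hlast : ∀ i : Fin (n + 1), e i.castSucc * e (Fin.last _) = 0 :=
    fun i => he.ortho (Fin.castSucc_ne_last i)
  refine ⟨⟨fun i => ?_, fun i j hij => ?_⟩, ?_⟩
  · split_ifs with h
    · show _ * _ = _
      linear_combination (he.idem i.castSucc).eq + (he.idem (Fin.last _)).eq + 2 * hlast i
    · simpa using he.idem i.castSucc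
  · simp only
    have hij' : e i.castSucc * e j.castSucc = 0 :=
      he.ortho fun h => hij (Fin.castSucc_injective _ h)
    split_ifs with hi hj hj
    · exact absurd (hi.trans hj.symm) hij
    · linear_combination hij' + hlast j
    · linear_combination hij' + hlast i
    · linear_combination hij'
  · rw [Finset.sum_add_distrib, Finset.sum_ite_eq' Finset.univ (0 : Fin (n + 1))]
    simp [← he.complete, Fin.sum_univ_castSucc]

/-- The splitting of `S₁` after the étale neighbourhood of `S₀`. -/
theorem exists_split {R₁ S₁ : Type u} [CommRing R₁] [CommRing S₁] [Algebra R₁ S₁]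
    [Algebra.IsIntegral R₁ S₁] (p₁ : Ideal R₁) [p₁.IsPrime]
    (hfin : (p₁.primesOver S₁).Finite) (hne : (p₁.primesOver S₁).Nonempty) :
    ∃ (R' : Type u) (_ : CommRing R') (_ : Algebra R₁ R') (_ : Algebra.Etale R₁ R') (P : Ideal R')
      (_ : P.IsPrime) (_ : P.LiesOver p₁),
      ∃ (m : ℕ) (g : Fin m → R' ⊗[R₁] S₁), CompleteOrthogonalIdempotents g ∧
        ∀ i, ∃! W : Ideal (R' ⊗[R₁] S₁), W.IsPrime ∧ W.LiesOver P ∧ g i ∉ W := by
  classical
  obtain ⟨S₀, hS₀, hsepS₀⟩ := exists_fg_separating (R := R₁) _ hfin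
  obtain ⟨R', _, _, hR', P, _, _, n, e, he, P', hP', hP'o, hbij, hnot, hall⟩ :=
    Algebra.exists_etale_completeOrthogonalIdempotents_forall_liesOver_eq (S := S₀) p₁
  refine ⟨R', inferInstance, inferInstance, hR', P, inferInstance, inferInstance, ?_⟩
  let η : R' ⊗[R₁] S₀ →ₐ[R'] R' ⊗[R₁] S₁ :=
    Algebra.TensorProduct.map (AlgHom.id R' R') S₀.val
  have hηinj : Function.Injective η :=
    Module.Flat.lTensor_preserves_injective_linearMap (M := R') S₀.val.toLinearMap
      Subtype.val_injective
  have hηinc : ∀ W : Ideal (R' ⊗[R₁] S₁),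
      (W.comap η.toRingHom).comap Algebra.TensorProduct.includeRight.toRingHom =
        (W.comap Algebra.TensorProduct.includeRight.toRingHom).comap S₀.val := by
    intro W
    ext x
    simp [η]
  have inj : ∀ W W' : Ideal (R' ⊗[R₁] S₁), W.IsPrime → W.LiesOver P → W'.IsPrime → W'.LiesOver P →
      W.comap η.toRingHom = W'.comap η.toRingHom → W = W' := by
    intro W W' _ hWo _ hWo' h
    refine Ideal.eq_of_comap_eq_comap_of_bijective_residueFieldMap hbij W W' ?_
    have hmem : ∀ V : Ideal (R' ⊗[R₁] S₁), V.IsPrime → V.LiesOver P →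
        V.comap Algebra.TensorProduct.includeRight.toRingHom ∈ p₁.primesOver S₁ := by
      intro V _ hV
      refine ⟨inferInstance, ⟨?_⟩⟩
      rw [P.over_def p₁, V.over_def P, Ideal.under, Ideal.under, Ideal.under, Ideal.comap_comap,
        Ideal.comap_comap]
      congr 1
      exact (Algebra.TensorProduct.includeRight.comp_algebraMap).symm
    refine hsepS₀ _ (hmem W ‹_› hWo) _ (hmem W' ‹_› hWo') ?_
    rw [← hηinc, ← hηinc, h]
  have lift : ∀ i, ∃ W : Ideal (R' ⊗[R₁] S₁), W.IsPrime ∧ W.LiesOver P ∧
      W.comap η.toRingHom = P' i := by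
    intro i
    letI := η.toRingHom.toAlgebra
    have : IsScalarTower R' (R' ⊗[R₁] S₀) (R' ⊗[R₁] S₁) :=
      IsScalarTower.of_algebraMap_eq fun r => (η.commutes r).symm
    have : Algebra.IsIntegral (R' ⊗[R₁] S₀) (R' ⊗[R₁] S₁) :=
      Algebra.IsIntegral.tower_top R'
    obtain ⟨W, -, hW, hWc⟩ := Ideal.exists_ideal_over_prime_of_isIntegral (P' i)
      (⊥ : Ideal (R' ⊗[R₁] S₁)) (by
        intro x hx
        rw [Ideal.mem_comap, Ideal.mem_bot] at hx
        rw [hηinj (hx.trans (map_zero η).symm)]
        exact (P' i).zero_mem)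
    refine ⟨W, hW, ⟨?_⟩, hWc⟩
    rw [(P' i).over_def P, ← hWc, Ideal.under, Ideal.under, Ideal.comap_comap]
    congr 1
  have step : ∀ W : Ideal (R' ⊗[R₁] S₁), W.IsPrime → W.LiesOver P →
      η (e (Fin.last n)) ∈ W ∧
        ∀ i, η (e i.castSucc) ∉ W → W.comap η.toRingHom = P' i := by
    intro W _ hWo
    have : (W.comap η.toRingHom).LiesOver P := ⟨by
      rw [W.over_def P, Ideal.under, Ideal.under, Ideal.comap_comap]
      congr 1⟩
    exact hall (W.comap η.toRingHom) inferInstance inferInstance
  cases n with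
  | zero =>
    exfalso
    obtain ⟨W₁, hW₁, hW₁o⟩ := hne
    let W := (Ideal.fiberIsoOfBijectiveResidueField (S := S₁) hbij).symm ⟨W₁, hW₁, hW₁o⟩
    have h1 := (step W.1 W.2.1 W.2.2).1
    rw [show e (Fin.last 0) = 1 by simpa using he.complete, map_one] at h1
    exact W.2.1.ne_top ((Ideal.eq_top_iff_one _).mpr h1)
  | succ n =>
    refine ⟨n + 1, fun i => η (e i.castSucc + if i = 0 then e (Fin.last _) else 0),
      (merge_idempotents e he).map η.toRingHom, fun i => ?_⟩
    have key : ∀ W : Ideal (R' ⊗[R₁] S₁), W.IsPrime → W.LiesOver P →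
        (η (e i.castSucc + if i = 0 then e (Fin.last _) else 0) ∈ W ↔ η (e i.castSucc) ∈ W) := by
      intro W hW hWo
      rw [map_add]
      split_ifs
      · exact (Ideal.add_mem_iff_left W (step W hW hWo).1)
      · simp
    obtain ⟨W, hW, hWo, hWc⟩ := lift i
    refine ⟨W, ⟨hW, hWo, fun h => hnot i ?_⟩, ?_⟩
    · rw [← hWc]
      exact (key W hW hWo).mp h
    · rintro W' ⟨hW', hWo', hni⟩
      refine inj W' W hW' hWo' hW hWo (Eq.trans ?_ hWc.symm)
      exact (step W' hW' hWo').2 i fun h => hni ((key W' hW' hWo').mpr h)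

end Groth.Agent.H26.EtaleSplit
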