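import Mathlib.RingTheory.LocalRing.ResidueField.Fiber
import Mathlib.RingTheory.RegularLocalRing.Defs
import Mathlib.RingTheory.RingHom.Flat
import Mathlib.RingTheory.TensorProduct.Quotient
import Groth.Prelude.Def_Found

/-!
# Fibres of a composition with a regular map, one point at a time
-/

universe u

open IsLocalRing TensorProduct

set_option maxHeartbeats 400000
set_option linter.style.haveILetI false

namespace Groth.Agent.H26.FibreLocal

/-- The quotient of `S_q` by the extension of `p` is a localisation of the fibre over `p`. -/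
theorem localization_fibre {R S : Type u} [CommRing R] [CommRing S] [Algebra R S] (p : Ideal R)
    [p.IsPrime] (q : Ideal S) [hq : q.IsPrime] (hqp : q.comap (algebraMap R S) = p)
    {Q : ∀ (T : Type u) [CommRing T], Prop}
    (hQ : ∀ (T T' : Type u) [CommRing T] [CommRing T'], (T ≃+* T') → Q T → Q T')
    (h : ∀ (qF : Ideal (p.Fiber S)) [qF.IsPrime], Q (Localization.AtPrime qF)) :
    Q (Localization.AtPrime q ⧸ (p.map (algebraMap R S)).map (algebraMap S (Localization.AtPrime q))) := by
  let qF := PrimeSpectrum.preimageEquivFiber R S ⟨p, inferInstance⟩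
    ⟨⟨q, hq⟩, PrimeSpectrum.ext hqp⟩
  have hcomap : qF.asIdeal.comap
      (Algebra.TensorProduct.includeRight (R := R) (A := p.ResidueField)) = q :=
    congrArg (fun x => (Subtype.val x).asIdeal)
      ((PrimeSpectrum.preimageEquivFiber R S ⟨p, inferInstance⟩).symm_apply_apply
        ⟨⟨q, hq⟩, PrimeSpectrum.ext hqp⟩)
  have key := hQ _ _ (Ideal.Fiber.algEquivAux₂ p qF.asIdeal).toRingEquiv (h qF.asIdeal)
  have e : ∀ (q' : Ideal S) [q'.IsPrime], q' = q →
      Q (Localization.AtPrime q' ⧸
        (p.map (algebraMap R S)).map (algebraMap S (Localization.AtPrime q'))) →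
      Q (Localization.AtPrime q ⧸
        (p.map (algebraMap R S)).map (algebraMap S (Localization.AtPrime q))) := by
    intro q' _ h hg
    subst h
    exact hg
  exact e _ hcomap key

/-- A property preserved by flat local maps with regular closed fibre passes from the fibres of
`A → B` to those of `A → C` when `B → C` is regular. -/
theorem comp {Q : ∀ (T : Type u) [CommRing T], Prop}
    (hQ : ∀ (T T' : Type u) [CommRing T] [CommRing T'], (T ≃+* T') → Q T → Q T')
    (key : ∀ (R S : Type u) [CommRing R] [CommRing S] [IsLocalRing R] [IsLocalRing S]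
      [IsNoetherianRing R] [IsNoetherianRing S] [Algebra R S] [IsLocalHom (algebraMap R S)]
      [Module.Flat R S] [IsRegularLocalRing (S ⧸ (maximalIdeal R).map (algebraMap R S))], Q R → Q S)
    (A B C : Type u) [CommRing A] [CommRing B] [CommRing C] [IsNoetherianRing B] [IsNoetherianRing C]
    [Algebra A B] [Algebra B C] [Algebra A C] [IsScalarTower A B C]
    (hAB : ∀ (q : Ideal A) [q.IsPrime] (P : Ideal (q.Fiber B)) [P.IsPrime], Q (Localization.AtPrime P))
    (hBC : CAlg.IsRegularHom B C) :
    ∀ (q : Ideal A) [q.IsPrime] (P : Ideal (q.Fiber C)) [P.IsPrime], Q (Localization.AtPrime P) := by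
  intro q _ P _
  haveI := hBC.1
  let r := P.comap (Algebra.TensorProduct.includeRight (R := A) (A := q.ResidueField) (B := C))
  have hrq : r.comap (algebraMap A C) = q := by
    conv_rhs => rw [Ideal.over_def P q]
    ext a
    simp only [r, Ideal.mem_comap, Ideal.under_def, AlgHom.commutes]
  let p := r.comap (algebraMap B C)
  have hpq : p.comap (algebraMap A B) = q := by
    rw [Ideal.comap_comap, ← IsScalarTower.algebraMap_eq, hrq]
  haveI : r.LiesOver p := ⟨rfl⟩
  let Bp := Localization.AtPrime p
  let Cr := Localization.AtPrime r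
  letI : Algebra Bp Cr := Localization.AtPrime.algebraOfLiesOver p r
  haveI : IsLocalHom (algebraMap Bp Cr) := by
    rw [Localization.AtPrime.IsLiesOverAlgebra.algebraMap_eq]
    exact Localization.isLocalHom_localRingHom _ _ _ _
  haveI hfl : Module.Flat Bp Cr := by
    rw [← RingHom.flat_algebraMap_iff, Localization.AtPrime.IsLiesOverAlgebra.algebraMap_eq]
    exact RingHom.Flat.localRingHom (RingHom.flat_algebraMap_iff.mpr inferInstance) _ _ _
  haveI : IsNoetherianRing Bp := IsLocalization.isNoetherianRing p.primeCompl _ inferInstance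
  haveI : IsNoetherianRing Cr := IsLocalization.isNoetherianRing r.primeCompl _ inferInstance
  let J := (q.map (algebraMap A B)).map (algebraMap B Bp)
  have hJm : J ≤ maximalIdeal Bp := by
    rw [← Localization.AtPrime.map_eq_maximalIdeal]
    exact Ideal.map_mono (Ideal.map_le_iff_le_comap.mpr hpq.ge)
  haveI : Nontrivial (Bp ⧸ J) := Ideal.Quotient.nontrivial_iff.mpr fun h =>
    (maximalIdeal.isMaximal Bp).ne_top (top_le_iff.mp (h ▸ hJm))
  haveI : IsLocalRing (Bp ⧸ J) := IsLocalRing.of_surjective' _ Ideal.Quotient.mk_surjective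
  let I := J.map (algebraMap Bp Cr)
  have hI : I = (q.map (algebraMap A C)).map (algebraMap C Cr) := by
    simp only [I, J, Ideal.map_map]
    congr 1
    rw [← IsScalarTower.algebraMap_eq A C Cr, ← IsScalarTower.algebraMap_eq B Bp Cr]
    exact (IsScalarTower.algebraMap_eq A B Cr).symm
  haveI : Nontrivial (Cr ⧸ I) := Ideal.Quotient.nontrivial_iff.mpr fun h =>
    (maximalIdeal.isMaximal Cr).ne_top (top_le_iff.mp (h ▸ (Ideal.map_le_iff_le_comap.mpr fun x hx =>
      map_nonunit (algebraMap Bp Cr) x (hJm hx) : I ≤ maximalIdeal Cr)))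
  haveI : IsLocalRing (Cr ⧸ I) := IsLocalRing.of_surjective' _ Ideal.Quotient.mk_surjective
  haveI : Module.Flat (Bp ⧸ J) (Cr ⧸ I) :=
    Module.Flat.of_linearEquiv (Algebra.TensorProduct.quotIdealMapEquivQuotTensor Cr J).toLinearEquiv
  haveI : IsLocalHom (algebraMap (Bp ⧸ J) (Cr ⧸ I)) :=
    ⟨fun x hx => by
      obtain ⟨a, rfl⟩ := Ideal.Quotient.mk_surjective x
      by_contra h
      have ha : a ∈ maximalIdeal Bp := fun hu => h (hu.map _)
      have hm : Ideal.Quotient.mk I (algebraMap Bp Cr a) ∈ maximalIdeal (Cr ⧸ I) := by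
        rw [← IsLocalRing.map_maximalIdeal_of_surjective _ (Ideal.Quotient.mk_surjective (I := I))]
        exact Ideal.mem_map_of_mem _ (map_nonunit _ a ha)
      exact hm hx⟩
  haveI : IsRegularLocalRing
      ((Cr ⧸ I) ⧸ (maximalIdeal (Bp ⧸ J)).map (algebraMap (Bp ⧸ J) (Cr ⧸ I))) := by
    have h1 : IsRegularLocalRing (Cr ⧸ (p.map (algebraMap B C)).map (algebraMap C Cr)) := by
      haveI := (hBC.2 p).1
      have hreg : IsRegularRing (p.Fiber C) := by
        exact @IsRegularRing.of_ringEquiv _ _ _ _
          (Algebra.TensorProduct.lid p.ResidueField (p.Fiber C)).toRingEquiv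
          ((hBC.2 p).2 p.ResidueField (Module.Finite.self _))
      exact localization_fibre (Q := fun T _ => IsRegularLocalRing T) p r rfl
        (fun T T' _ _ e hT => @IsRegularLocalRing.of_ringEquiv T _ hT T' _ e)
        fun qF _ => hreg.isRegularLocalRing_localization qF
    refine @IsRegularLocalRing.of_ringEquiv _ _ h1 _ _ ?_
    refine RingEquiv.trans ?_ (DoubleQuot.quotQuotEquivQuotOfLE (R := Cr) (I := I)
      (J := (maximalIdeal Bp).map (algebraMap Bp Cr)) (Ideal.map_mono hJm)).symm |>.trans
        (Ideal.quotEquivOfEq ?_)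
    · refine Ideal.quotEquivOfEq ?_
      rw [← Localization.AtPrime.map_eq_maximalIdeal, Ideal.map_map, Ideal.map_map,
        ← IsScalarTower.algebraMap_eq, ← IsScalarTower.algebraMap_eq]
    · rw [← IsLocalRing.map_maximalIdeal_of_surjective _ (Ideal.Quotient.mk_surjective (I := J)),
        Ideal.map_map, Ideal.map_map]
      rfl
  have hB : Q (Bp ⧸ J) := localization_fibre q p hpq hQ (hAB q)
  have hC := key (Bp ⧸ J) (Cr ⧸ I) hB
  exact hQ _ _ ((Ideal.quotEquivOfEq hI).trans
    (Ideal.Fiber.algEquivAux₂ q P).toRingEquiv.symm) hC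

end Groth.Agent.H26.FibreLocal
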