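import Groth.Agent.Lib.ZarCoh.FlatBC.Main
import Groth.Agent.Lib.Ample.GG
import Groth.Agent.Lib.CohBasics.Affine
import Groth.Agent.Lib.StalkLoc.Basic
import Groth.Agent.H34.GlobGen
import Groth.Agent.Lib.AssPt.Basic
import Groth.Agent.H63.PointModules
import Mathlib.RingTheory.Flat.FaithfullyFlat.Algebra
import Mathlib.Algebra.Category.ModuleCat.Sheaf.PullbackFree

/-!
# Global generation descends along a faithfully flat change of an affine base
-/

set_option linter.all false
set_option maxHeartbeats 1000000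

universe u

open CategoryTheory CategoryTheory.Limits CategoryTheory.Abelian AlgebraicGeometry Opposite
open TopologicalSpace
open Groth.Agent.Lib Groth.Agent.Lib.ZarCoh Groth.Agent.Lib.ZarCoh.Basic
open ZarCoh.FlatBC ZarCoh.FlatBC.Main
open scoped TensorProduct

namespace Groth.Agent.H26.GGDescent

open Groth.Agent.Lib.TensorMod.Dual (rs)

variable {A B : Type u} [CommRing A] [CommRing B] [Algebra A B]
variable {X X' : Scheme.{u}} {p : X ⟶ Spec (CommRingCat.of A)} {p' : X' ⟶ Spec (CommRingCat.of B)}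
variable {g' : X' ⟶ X}
variable (h : IsPullback g' p' p (Spec.map (CommRingCat.ofHom (algebraMap A B))))
variable (M : X.Modules) [M.IsQuasicoherent]


/-- The span of the pullbacks of global sections of `M` over the preimage of `U`. -/
noncomputable def glob (g' : X' ⟶ X) (M : X.Modules) (U : X.Opens) :
    Submodule Γ(X', g' ⁻¹ᵁ U) Γ((Scheme.Modules.pullback g').obj M, g' ⁻¹ᵁ U) :=
  Submodule.span Γ(X', g' ⁻¹ᵁ U)
    (Set.range fun s : Γ(M, ⊤) => PullbackSections.pbRes g' M le_rfl (rs M (le_top : U ≤ ⊤) s))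

theorem res_unit (U : X.Opens) (s : Γ(M, ⊤)) :
    rs ((Scheme.Modules.pullback g').obj M) (le_top : g' ⁻¹ᵁ U ≤ ⊤)
      (((Scheme.Modules.pullbackPushforwardAdjunction g').unit.app M).app ⊤ s) =
    PullbackSections.pbRes g' M le_rfl (rs M (le_top : U ≤ ⊤) s) := by
  refine ((ConcreteCategory.congr_hom (((Scheme.Modules.pullbackPushforwardAdjunction g').unit.app M).mapPresheaf.naturality
    (homOfLE (le_top : U ≤ ⊤)).op) s).symm).trans ?_
  exact (congr($((Scheme.Modules.pullback g').obj M |>.presheaf.map_id (op (g' ⁻¹ᵁ U))) _)).symm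

include h in
/-- Flat base change: global sections upstairs come from downstairs. -/
theorem restrict_mem_glob [Module.Flat A B] [CompactSpace X] [QuasiSeparatedSpace X] (U : X.Opens)
    (g : Γ(((Scheme.Modules.pullback g').obj M), ⊤)) : rs ((Scheme.Modules.pullback g').obj M) (le_top : g' ⁻¹ᵁ U ≤ ⊤) g ∈ glob g' M U := by
  let Fp := Coh.toAb ((Coh.push g').obj ((Scheme.Modules.pullback g').obj M))
  let P := Zs.obj (⊤ : X.Opens)
  let := actModule (ρ p M) P 0
  let E : Ext.{u} P Fp 0 ≃ Γ(((Scheme.Modules.pullback g').obj M), g' ⁻¹ᵁ ⊤) :=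
    ((Equiv.ofBijective _ (Ext.mk₀_bijective P Fp)).symm).trans (homEquiv ⊤ Fp)
  have hE : ∀ φ, E (Ext.mk₀ φ) = homEquiv ⊤ Fp φ := fun φ =>
    congrArg (homEquiv ⊤ Fp) ((Equiv.ofBijective _ _).symm_apply_apply φ)
  let E' : Ext.{u} P Fp 0 →+ Γ(((Scheme.Modules.pullback g').obj M), g' ⁻¹ᵁ ⊤) := AddMonoidHom.mk' E fun x y => by
    obtain ⟨x, rfl⟩ := (Ext.mk₀_bijective _ _).2 x
    obtain ⟨y, rfl⟩ := (Ext.mk₀_bijective _ _).2 y
    rw [← Ext.mk₀_add, hE, hE, hE]
    exact homEquiv_add x y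
  obtain ⟨z, hz⟩ := (bij_top h M 0).2 (E.symm g)
  have key : ∀ z, rs ((Scheme.Modules.pullback g').obj M) (le_top : g' ⁻¹ᵁ U ≤ ⊤) (E' (Φ (ρ p M) B (σ p' g' M) (σ_smul h M) P 0 z)) ∈
      glob g' M U := by
    intro z
    induction z using TensorProduct.induction_on with
    | zero =>
      rw [map_zero, map_zero]
      convert! (glob g' M U).zero_mem using 1
      exact map_zero (((Scheme.Modules.pullback g').obj M).presheaf.map (homOfLE (le_top : g' ⁻¹ᵁ U ≤ ⊤)).op).hom
    | tmul b x =>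
      obtain ⟨ψ, rfl⟩ := (Ext.mk₀_bijective _ _).2 x
      rw [Φ_tmul, Ext.mk₀_comp_mk₀]
      show rs ((Scheme.Modules.pullback g').obj M) _ (E (Ext.mk₀ (ψ ≫ σ p' g' M b))) ∈ _
      rw [hE, homEquiv_comp]
      show rs ((Scheme.Modules.pullback g').obj M) _
        ((show Γ(X', g' ⁻¹ᵁ ⊤) from Coh.resTop X' (op (g' ⁻¹ᵁ ⊤)) (Coh.toGlobal p' b)) •
        (show Γ((Scheme.Modules.pullback g').obj M, g' ⁻¹ᵁ ⊤) from
          ((Scheme.Modules.pullbackPushforwardAdjunction g').unit.app M).app ⊤ (homEquiv ⊤ (Coh.toAb M) ψ))) ∈ _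
      have hsm : ∀ (r : Γ(X', g' ⁻¹ᵁ ⊤)) (t : Γ(((Scheme.Modules.pullback g').obj M), g' ⁻¹ᵁ ⊤)), rs ((Scheme.Modules.pullback g').obj M) (le_top : g' ⁻¹ᵁ U ≤ ⊤) (r • t) =
          X'.presheaf.map (homOfLE (le_top : g' ⁻¹ᵁ U ≤ ⊤)).op r • rs ((Scheme.Modules.pullback g').obj M) (le_top : g' ⁻¹ᵁ U ≤ ⊤) t :=
        fun r t => ((Scheme.Modules.pullback g').obj M).map_smul _ r t
      refine Set.mem_of_eq_of_mem (hsm _ _) (Submodule.smul_mem _ _ ?_)
      exact Submodule.subset_span ⟨_, (res_unit M U _).symm⟩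
    | add z z' hz hz' =>
      rw [map_add, map_add]
      convert! (glob g' M U).add_mem hz hz' using 1
      exact map_add (((Scheme.Modules.pullback g').obj M).presheaf.map (homOfLE (le_top : g' ⁻¹ᵁ U ≤ ⊤)).op).hom _ _
  have := key z
  rw [hz] at this
  show rs ((Scheme.Modules.pullback g').obj M) _ g ∈ _
  have hg : E' (E.symm g) = g := E.apply_symm_apply g
  rwa [hg] at this

/-- A submodule containing generators of all stalks is everything. -/
theorem eq_top_of_genAt {Z : Scheme.{u}} (N : Z.Modules) [N.IsQuasicoherent] {V : Z.Opens}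
    (hV : IsAffineOpen V) (P : Submodule Γ(Z, V) Γ(N, V)) (hg : ∀ x, Ample.GG.GenAt N x)
    (hP : ∀ g : Γ(N, ⊤), rs N (le_top : V ≤ ⊤) g ∈ P) : P = ⊤ := by
  refine eq_top_iff.2 fun m _ => ?_
  let I : Ideal Γ(Z, V) := P.colon {m}
  suffices hI : I = ⊤ by
    have h1 := Submodule.mem_colon_singleton.1 ((Ideal.eq_top_iff_one I).1 hI)
    simpa using h1
  by_contra hne
  obtain ⟨q, hq, hle⟩ := Ideal.exists_le_maximal I hne
  have hqp := hq.isPrime
  obtain ⟨x, hx, hxq⟩ := AssPt.Basic.exists_point_of_prime hV q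
  subst hxq
  let := StalkLoc.Basic.moduleSections N hx
  have hloc := StalkLoc.Basic.isLocalizedModule_germ (M := N) hV hx
  let S := (hV.primeIdealOf ⟨x, hx⟩).asIdeal.primeCompl
  have key : ∀ v : N.presheaf.stalk x, ∃ s ∈ S, ∃ a ∈ P,
      Z.presheaf.germ V x hx s • v = N.presheaf.germ V x hx a := by
    intro v
    have hv : v ∈ Submodule.span (Z.presheaf.stalk x)
        (Set.range fun t : Γ(N, ⊤) => Ample.GG.gm (Ample.GG.memTop x) t) := (hg x).ge Submodule.mem_top
    induction hv using Submodule.span_induction with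
    | mem v hv =>
      obtain ⟨t, rfl⟩ := hv
      refine ⟨1, one_mem _, _, hP t, ?_⟩
      rw [map_one, one_smul]
      exact (Ample.GG.gm_rs (M := N) (le_top : V ≤ ⊤) hx t).symm
    | zero => exact ⟨1, one_mem _, 0, P.zero_mem, by rw [smul_zero, map_zero]⟩
    | add v w _ _ hv hw =>
      obtain ⟨s, hs, a, ha, e⟩ := hv
      obtain ⟨s', hs', a', ha', e'⟩ := hw
      refine ⟨s * s', mul_mem hs hs', s' • a + s • a', P.add_mem (P.smul_mem _ ha) (P.smul_mem _ ha'), ?_⟩
      rw [map_add, Modules.StalkModule.germ_smul hx, Modules.StalkModule.germ_smul hx, ← e, ← e', map_mul, smul_add,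
        smul_smul, smul_smul]
      congr 1
      rw [mul_comm]
    | smul c v _ hv =>
      obtain ⟨s, hs, a, ha, e⟩ := hv
      let algx := Z.presheaf.algebra_section_stalk (⟨x, hx⟩ : V)
      haveI := hV.isLocalization_stalk ⟨x, hx⟩
      obtain ⟨⟨r, t⟩, hrt⟩ := IsLocalization.surj (hV.primeIdealOf ⟨x, hx⟩).asIdeal.primeCompl c
      refine ⟨t.1 * s, mul_mem t.2 hs, r • a, P.smul_mem _ ha, ?_⟩
      have hc : c * Z.presheaf.germ V x hx t.1 = Z.presheaf.germ V x hx r := hrt
      rw [Modules.StalkModule.germ_smul hx, ← e, map_mul, smul_smul, smul_smul, ← hc]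
      congr 1
      ring
  obtain ⟨s, hs, a, ha, e⟩ := key (N.presheaf.germ V x hx m)
  rw [← Modules.StalkModule.germ_smul hx] at e
  obtain ⟨c, hc⟩ := hloc.exists_of_eq e
  have hmem : (c.1 * s) • m ∈ P := by
    rw [mul_smul]
    exact hc ▸ P.smul_mem _ ha
  exact hqp.mul_notMem c.2 hs (hle (Submodule.mem_colon_singleton.2 hmem))

include h in
/-- The global sections of `M` span its sections on an affine open. -/
theorem span_range_eq_top [Module.FaithfullyFlat A B] [CompactSpace X] [QuasiSeparatedSpace X]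
    (hg : ∀ x, Ample.GG.GenAt ((Scheme.Modules.pullback g').obj M) x) {U : X.Opens} (hU : IsAffineOpen U) :
    Submodule.span Γ(X, U) (Set.range fun s : Γ(M, ⊤) => rs M (le_top : U ≤ ⊤) s) = ⊤ := by
  haveI := isAffineHom_fst h
  haveI := QCoh.Pullback.isQCoh_pullback g' M
  let V := g' ⁻¹ᵁ U
  have hglob := eq_top_of_genAt ((Scheme.Modules.pullback g').obj M) (hU.preimage g') (glob g' M U) hg (restrict_mem_glob h M U)
  let R := Γ(X, U); let R' := Γ(X', V)
  letI : Algebra A R := (baseMap p U).toAlgebra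
  letI : Algebra B R' := (baseMap p' V).toAlgebra
  letI : Algebra A R' := ((algebraMap B R').comp (algebraMap A B)).toAlgebra
  haveI : IsScalarTower A B R' := IsScalarTower.of_algebraMap_eq fun _ => rfl
  letI algR : Algebra R R' := (g'.appLE U V le_rfl).hom.toAlgebra
  haveI : IsScalarTower A R R' := IsScalarTower.of_algebraMap_eq fun a => by
    show Coh.resTop X' (op V) (Coh.toGlobal p' (algebraMap A B a)) =
      g'.appLE U V le_rfl (Coh.resTop X (op U) (Coh.toGlobal p a))
    rw [toGlobal_comm h, ← app_baseMap, Scheme.Hom.appLE_eq_app]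
  haveI hpo : Algebra.IsPushout A B R R' := CommRingCat.isPushout_iff_isPushout.mp (by
    have := isPushout_sections h hU
    rw [← Scheme.Hom.appLE_eq_app] at this
    exact this)
  haveI : Algebra.IsPushout A R B R' := hpo.symm
  haveI : Module.FaithfullyFlat R R' :=
    Module.FaithfullyFlat.of_linearEquiv R (R ⊗[A] B) (Algebra.IsPushout.equiv A R B R').symm.toLinearEquiv
  let W : Submodule R Γ(M, U) := Submodule.span R (Set.range fun s : Γ(M, ⊤) => rs M (le_top : U ≤ ⊤) s)
  show W = ⊤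
  let c := PullbackSections.pbTensor g' M (le_refl V)
  have hc := PullbackSections.bijective_pbTensor g' M hU (hU.preimage g') (le_refl V)
  have hsurj : Function.Surjective (W.subtype.baseChange R') := by
    intro t
    suffices hall : LinearMap.range (c.comp (W.subtype.baseChange R')) = ⊤ by
      obtain ⟨w, hw⟩ := hall.ge (Submodule.mem_top (x := c t))
      exact ⟨w, hc.1 hw⟩
    refine top_le_iff.1 (hglob ▸ Submodule.span_le.2 ?_)
    rintro _ ⟨s, rfl⟩
    refine ⟨(1 : R') ⊗ₜ ⟨_, Submodule.subset_span ⟨s, rfl⟩⟩, ?_⟩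
    exact (PullbackSections.pbTensor_tmul g' M (le_refl V) 1 _).trans (one_smul _ _)
  have hl : Function.Surjective (W.subtype.lTensor R') := hsurj
  have := (Module.FaithfullyFlat.lTensor_surjective_iff_surjective R R' W.subtype).1 hl
  exact eq_top_iff.2 fun m _ => by obtain ⟨w, rfl⟩ := this m; exact w.2

include h in
theorem isGloballyGenerated_of_pullback [Module.FaithfullyFlat A B] [CompactSpace X]
    [QuasiSeparatedSpace X] (hgg : Curv2.IsGloballyGenerated ((Scheme.Modules.pullback g').obj M)) : Curv2.IsGloballyGenerated M := by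
  have hg : ∀ x, Ample.GG.GenAt ((Scheme.Modules.pullback g').obj M) x := fun x => H34.GlobGen.gl_eq_top_of_gg hgg x
  refine Ample.GG.isGloballyGenerated_of_genAt fun x => ?_
  obtain ⟨U, hU, hx, -⟩ := exists_isAffineOpen_mem_and_subset (show x ∈ (⊤ : X.Opens) from trivial)
  refine top_le_iff.1 ((CohBasics.Affine.germ_span_eq_top (M := M) hU _ (span_range_eq_top h M hg hU)
    (x := x) hx) ▸ Submodule.span_le.2 ?_)
  rintro _ ⟨_, ⟨s, rfl⟩, rfl⟩
  exact Submodule.subset_span ⟨s, (Ample.GG.gm_rs (M := M) (le_top : U ≤ ⊤) hx s).symm⟩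

/-- Global generation is preserved by inverse image. -/
theorem isGloballyGenerated_pullback {Y Z : Scheme.{u}} (f : Y ⟶ Z) (F : Z.Modules)
    (h : Curv2.IsGloballyGenerated F) :
    Curv2.IsGloballyGenerated ((Scheme.Modules.pullback f).obj F) := by
  obtain ⟨ι, q, hq⟩ := h
  let Z' : Z.Modules := SheafOfModules.free ι
  let q' : Z' ⟶ F := q
  haveI hq' : Epi q' := ⟨fun a b hab => hq.left_cancellation a b hab⟩
  haveI : (Scheme.Modules.pullback f).PreservesEpimorphisms :=
    Functor.preservesEpimorphisms_of_adjunction (Scheme.Modules.pullbackPushforwardAdjunction f)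
  let e : (Scheme.Modules.pullback f).obj Z' ≅ (SheafOfModules.free ι : Y.Modules) :=
    SheafOfModules.pullbackObjFreeIso _ ι
  haveI : Epi (e.inv ≫ (Scheme.Modules.pullback f).map q') := epi_comp _ _
  exact ⟨ι, e.inv ≫ (Scheme.Modules.pullback f).map q',
    ⟨fun a b hab => (this).left_cancellation a b hab⟩⟩

end Groth.Agent.H26.GGDescent
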