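import Groth.Agent.H26.JetIncidence
import Groth.Agent.H26.BertiniProj
import Groth.Agent.Lib.BertiniAff.Main
import Mathlib.RingTheory.Jacobson.Ring

/-!
# Bertini for affine-linear families of functions spanning one-jets
-/

set_option linter.all false
set_option backward.isDefEq.respectTransparency.types false
set_option maxHeartbeats 1000000

universe u

open CategoryTheory AlgebraicGeometry
open Groth.Agent.Lib.Dim.Basic Groth.Agent.Lib
open scoped TensorProduct

namespace Groth.Agent.H26.JetBertini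

variable {k : Type u} [Field k] {A : Type u} [CommRing A] [Algebra k A] [Algebra.FiniteType k A]
  {n : ℕ} (b : A) (x : Fin n → A)

/-- The member `b + ∑ aᵢ xᵢ` of the family. -/
noncomputable def sec (a : Fin n → k) : A := b + ∑ i : Fin n, algebraMap k A (a i) * x i

theorem exists_unimodular {B : Type u} [CommRing B] [Algebra k B] {r : ℕ}
    (db : Module.Basis (Fin r) B Ω[B⁄k]) (hb : Set.range db ⊆ Set.range (KaehlerDifferential.D k B))
    (y : Fin n → B)
    (hjet : ∀ M : Ideal B, M.IsMaximal → ∀ z : B, ∃ c : Fin n → k,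
      z - ∑ i, algebraMap k B (c i) * y i ∈ M ^ 2) :
    ∃ c : Fin (r + 1) → Fin n → B, ∀ j l,
      ∑ i, c j i * (Fin.cons (y) (fun l i => db.repr (KaehlerDifferential.D k B (y i)) l) :
        Fin (r + 1) → Fin n → B) l i = if l = j then 1 else 0 := by
  classical
  let Ψ : B →ₗ[k] (Fin (r + 1) → B) :=
    { toFun := fun z => Fin.cons z fun l => db.repr (KaehlerDifferential.D k B z) l
      map_add' := fun z w => funext fun l => by
        refine Fin.cases ?_ (fun l => ?_) l <;> simp
      map_smul' := fun e z => funext fun l => by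
        refine Fin.cases ?_ (fun l => ?_) l
        · simp
        · simp only [Fin.cons_succ, Pi.smul_apply, RingHom.id_apply]
          rw [Derivation.map_smul, ← algebraMap_smul B e (KaehlerDifferential.D k B z), map_smul,
            Finsupp.smul_apply, algebraMap_smul] }
  have hΨm : ∀ (z w : B) (l : Fin (r + 1)), Ψ (z * w) l = if l = 0 then z * w else z * Ψ w l + w * Ψ z l := by
    intro z w l
    refine Fin.cases ?_ (fun l => ?_) l
    · simp [Ψ]
    · simp [Ψ, Derivation.leibniz, Fin.succ_ne_zero]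
  let N : Submodule B (Fin (r + 1) → B) := Submodule.span B (Set.range fun i => Ψ (y i))
  suffices hN : N = ⊤ by
    have hc : ∀ j : Fin (r + 1), ∃ c : Fin n → B, ∑ i, c i • Ψ (y i) = Pi.single j 1 := fun j =>
      (Submodule.mem_span_range_iff_exists_fun B).mp ((hN.symm ▸ Submodule.mem_top : Pi.single j 1 ∈ N))
    choose c hc using hc
    refine ⟨c, fun j l => ?_⟩
    have h := congrFun (hc j) l
    simp only [Finset.sum_apply, Pi.smul_apply, smul_eq_mul, Pi.single_apply] at h
    rw [← h]
    refine Finset.sum_congr rfl fun i _ => ?_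
    refine Fin.cases ?_ (fun l => ?_) l <;> simp [Ψ]
  let I : Ideal B := Module.annihilator B ((Fin (r + 1) → B) ⧸ N)
  suffices hI : I = ⊤ by
    refine eq_top_iff.mpr fun v _ => ?_
    have h1 : (1 : B) ∈ I := hI ▸ Submodule.mem_top
    have := Module.mem_annihilator.mp h1 (Submodule.Quotient.mk v)
    rwa [one_smul, Submodule.Quotient.mk_eq_zero] at this
  by_contra hne
  obtain ⟨M, hM, hIM⟩ := Ideal.exists_le_maximal I hne
  let Q := N ⊔ M • (⊤ : Submodule B (Fin (r + 1) → B))
  have hmemM : ∀ v : Fin (r + 1) → B, (∀ l, v l ∈ M) → v ∈ M • (⊤ : Submodule B (Fin (r + 1) → B)) := by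
    intro v hv
    rw [show v = ∑ l, v l • Pi.single l (1 : B) by
      funext l; simp [Finset.sum_apply, Pi.single_apply]]
    exact sum_mem fun l _ => Submodule.smul_mem_smul (hv l) Submodule.mem_top
  have hsq : ∀ z ∈ M ^ 2, Ψ z ∈ Q := by
    intro z hz
    refine (le_sup_right : _ ≤ Q) (hmemM _ ?_)
    rw [pow_two] at hz
    refine Submodule.mul_induction_on hz (fun u hu w hw l => ?_) fun u w hu hw l => ?_
    · rw [hΨm]
      split_ifs
      · exact M.mul_mem_right w hu
      · exact add_mem (M.mul_mem_right _ hu) (M.mul_mem_right _ hw)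
    · rw [map_add, Pi.add_apply]; exact add_mem (hu l) (hw l)
  have hΨ : ∀ z, Ψ z ∈ Q := by
    intro z
    obtain ⟨c, hc⟩ := hjet M hM z
    have h1 := hsq _ hc
    rw [map_sub, Submodule.sub_mem_iff_left] at h1
    · exact h1
    · rw [map_sum]
      refine sum_mem fun i _ => ?_
      rw [← Algebra.smul_def, LinearMap.map_smul, ← algebraMap_smul B (c i) (Ψ (y i))]
      exact Q.smul_mem _ ((le_sup_left : N ≤ Q) (Submodule.subset_span ⟨i, rfl⟩))
  have h0 : (Pi.single 0 1 : Fin (r + 1) → B) ∈ Q := by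
    have : Ψ 1 = Pi.single 0 1 := funext fun l => by
      refine Fin.cases ?_ (fun l => ?_) l <;> simp [Ψ, Pi.single_apply, Fin.succ_ne_zero]
    exact this ▸ hΨ 1
  have htop : Q = ⊤ := by
    refine eq_top_iff.mpr fun v _ => ?_
    rw [show v = ∑ l, v l • Pi.single l (1 : B) by
      funext l; simp [Finset.sum_apply, Pi.single_apply]]
    refine sum_mem fun l _ => Q.smul_mem _ ?_
    refine Fin.cases h0 (fun l => ?_) l
    obtain ⟨s, hs⟩ := hb ⟨l, rfl⟩
    have h1 := Q.sub_mem (hΨ s) (Q.smul_mem s h0)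
    convert h1 using 1
    funext i
    refine Fin.cases ?_ (fun i => ?_) i
    · simp [Ψ, (Fin.succ_ne_zero l).symm]
    · simp [Ψ, hs, Pi.single_apply, Fin.succ_ne_zero, Finsupp.single_apply, eq_comm]
  obtain ⟨e, he1, he2⟩ := Submodule.exists_sub_one_mem_and_smul_eq_zero_of_fg_of_le_smul M
    (⊤ : Submodule B ((Fin (r + 1) → B) ⧸ N)) Module.Finite.fg_top (by
      intro v _
      obtain ⟨v, rfl⟩ := Submodule.Quotient.mk_surjective N v
      obtain ⟨p, hp, q, hq, rfl⟩ := Submodule.mem_sup.mp (htop ▸ Submodule.mem_top : v ∈ Q)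
      rw [Submodule.Quotient.mk_add, (Submodule.Quotient.mk_eq_zero N).mpr hp, zero_add]
      have h2 := Submodule.mem_map_of_mem (f := N.mkQ) hq
      rw [Submodule.map_smul''] at h2
      exact Submodule.smul_mono le_rfl le_top h2)
  have : e ∈ M := hIM (Module.mem_annihilator.mpr fun v => he2 v Submodule.mem_top)
  exact hM.ne_top ((Ideal.eq_top_iff_one M).mpr (by simpa using M.sub_mem this he1))

theorem exists_unimodular_gen {B : Type u} [CommRing B] [Algebra k B] {r : ℕ}
    (db : Module.Basis (Fin r) B Ω[B⁄k]) (hb : Set.range db ⊆ Set.range (KaehlerDifferential.D k B))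
    (y : Fin n → B) (h1 : ∃ j, y j = 1)
    (hloc : ∀ z : B, ∃ u : B, IsUnit u ∧ u ∈ Algebra.adjoin k (Set.range y) ∧
      z * u ∈ Algebra.adjoin k (Set.range y)) :
    ∃ c : Fin (r + 1) → Fin n → B, ∀ j l,
      ∑ i, c j i * (Fin.cons (y) (fun l i => db.repr (KaehlerDifferential.D k B (y i)) l) :
        Fin (r + 1) → Fin n → B) l i = if l = j then 1 else 0 := by
  classical
  let Ψ : B → (Fin (r + 1) → B) := fun z => Fin.cons z fun l => db.repr (KaehlerDifferential.D k B z) l
  let N : Submodule B (Fin (r + 1) → B) := Submodule.span B (Set.range fun i => Ψ (y i))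
  obtain ⟨j₀, hj₀⟩ := h1
  have he : (Pi.single 0 1 : Fin (r + 1) → B) ∈ N := by
    refine Submodule.subset_span ⟨j₀, funext fun l => ?_⟩
    refine Fin.cases ?_ (fun l => ?_) l <;> simp [Ψ, hj₀, Pi.single_apply, Fin.succ_ne_zero]
  have hmul : ∀ z w, Ψ (z * w) = z • Ψ w + w • Ψ z - (z * w) • Pi.single 0 1 := by
    intro z w
    funext l
    refine Fin.cases ?_ (fun l => ?_) l
    · simp [Ψ, mul_comm w z]
    · simp [Ψ, Derivation.leibniz, Fin.succ_ne_zero]
  have hadj : ∀ z ∈ Algebra.adjoin k (Set.range y), Ψ z ∈ N := by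
    intro z hz
    induction hz using Algebra.adjoin_induction with
    | mem z hz => obtain ⟨i, rfl⟩ := hz; exact Submodule.subset_span ⟨i, rfl⟩
    | algebraMap e =>
      convert N.smul_mem (algebraMap k B e) he using 1
      funext l
      refine Fin.cases ?_ (fun l => ?_) l <;> simp [Ψ, Fin.succ_ne_zero]
    | add z w _ _ hz hw =>
      convert N.add_mem hz hw using 1
      funext l
      refine Fin.cases ?_ (fun l => ?_) l <;> simp [Ψ]
    | mul z w _ _ hz hw =>
      rw [hmul]
      exact N.sub_mem (N.add_mem (N.smul_mem _ hw) (N.smul_mem _ hz)) (N.smul_mem _ he)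
  have hall : ∀ z, Ψ z ∈ N := by
    intro z
    obtain ⟨u, hu, hu1, hu2⟩ := hloc z
    have h := hadj _ hu2
    rw [hmul] at h
    have h' := N.add_mem (N.sub_mem h (N.smul_mem z (hadj _ hu1))) (N.smul_mem (z * u) he)
    have h2 : u • Ψ z ∈ N := by convert h' using 1; abel
    exact (N.smul_mem_iff_of_isUnit hu).mp h2
  have htop : N = ⊤ := by
    refine eq_top_iff.mpr fun v _ => ?_
    rw [show v = ∑ l, v l • Pi.single l (1 : B) by
      funext l; simp [Finset.sum_apply, Pi.single_apply]]
    refine sum_mem fun l _ => N.smul_mem _ ?_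
    refine Fin.cases he (fun l => ?_) l
    obtain ⟨s, hs⟩ := hb ⟨l, rfl⟩
    convert N.sub_mem (hall s) (N.smul_mem s he) using 1
    funext i
    refine Fin.cases ?_ (fun i => ?_) i
    · simp [Ψ, (Fin.succ_ne_zero l).symm]
    · simp [Ψ, hs, Pi.single_apply, Fin.succ_ne_zero, Finsupp.single_apply, eq_comm]
  have hc : ∀ j : Fin (r + 1), ∃ c : Fin n → B, ∑ i, c i • Ψ (y i) = Pi.single j 1 := fun j =>
    (Submodule.mem_span_range_iff_exists_fun B).mp ((htop.symm ▸ Submodule.mem_top : Pi.single j 1 ∈ N))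
  choose c hc using hc
  refine ⟨c, fun j l => ?_⟩
  have h := congrFun (hc j) l
  simp only [Finset.sum_apply, Pi.smul_apply, smul_eq_mul, Pi.single_apply] at h
  rw [← h]
  refine Finset.sum_congr rfl fun i _ => ?_
  refine Fin.cases ?_ (fun l => ?_) l <;> simp [Ψ]

theorem exists_poly_chart_of
    (f : A) (hf : Algebra.IsStandardSmooth k (Localization.Away f))
    (H : ∀ (r : ℕ) (db : Module.Basis (Fin r) (Localization.Away f) Ω[Localization.Away f⁄k]),
      Set.range db ⊆ Set.range (KaehlerDifferential.D k (Localization.Away f)) →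
      (∀ P : Ideal (Localization.Away f), P.IsPrime → dimQ k P ≤ r) →
      ∃ g : MvPolynomial (Fin n) k, g ≠ 0 ∧ ∀ a : Fin n → k, MvPolynomial.eval a g ≠ 0 →
        ∀ P : Ideal (Localization.Away f), P.IsPrime → ∃ l,
          (Fin.cons (algebraMap A _ b) (fun l => db.repr (KaehlerDifferential.D k _ (algebraMap A _ b)) l) :
              Fin (r + 1) → Localization.Away f) l +
            ∑ i, algebraMap k _ (a i) *
              (Fin.cons (fun i => algebraMap A _ (x i))
                (fun l i => db.repr (KaehlerDifferential.D k _ (algebraMap A _ (x i))) l) :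
                Fin (r + 1) → Fin n → Localization.Away f) l i ∉ P) :
    ∃ g : MvPolynomial (Fin n) k, g ≠ 0 ∧ ∀ a : Fin n → k, MvPolynomial.eval a g ≠ 0 →
      ∀ q : Ideal (A ⧸ Ideal.span {sec b x a}), q.IsPrime → f ∉ q.comap (Ideal.Quotient.mk _) →
        ∃ f' : A ⧸ Ideal.span {sec b x a}, f' ∉ q ∧
          Algebra.IsStandardSmooth k (Localization.Away f') := by
  classical
  let A' := Localization.Away f
  by_cases hnt : Nontrivial A'
  swap
  · refine ⟨1, one_ne_zero, fun a _ q hq hfq => absurd ?_ hnt⟩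
    let P := q.comap (Ideal.Quotient.mk (Ideal.span {sec b x a}))
    haveI : P.IsPrime := Ideal.IsPrime.comap _
    have hd : Disjoint (Submonoid.powers f : Set A) P := by
      rwa [Ideal.disjoint_powers_iff_notMem_of_isPrime]
    exact ⟨⟨0, 1, fun h => (IsLocalization.isPrime_of_isPrime_disjoint (Submonoid.powers f) A' P
      inferInstance hd).ne_top (Ideal.eq_top_iff_one _ |>.mpr (h ▸ zero_mem _))⟩⟩
  obtain ⟨ι₀, σ₀, _, _, ⟨pres⟩⟩ := hf.out
  haveI : Algebra.FinitePresentation k A' := inferInstance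
  haveI : Algebra.FiniteType k A' := inferInstance
  let r := pres.dimension
  haveI : Algebra.IsStandardSmoothOfRelativeDimension r k A' :=
    pres.isStandardSmoothOfRelativeDimension rfl
  have hdimA' : ∀ P : Ideal A', P.IsPrime → dimQ k P ≤ r := by
    intro P hP
    obtain ⟨Q, hQ, hQP⟩ := Ideal.exists_minimalPrimes_le (bot_le : (⊥ : Ideal A') ≤ P)
    haveI : Q.IsPrime := hQ.1.1
    refine (dimQ_anti k hQP).trans (le_of_eq ?_)
    rw [Kaehler.SmoothDim.dimQ_of_minimal k (n := r) hQ]
  obtain ⟨-, I₀, b₀, hb₀⟩ :=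
    Algebra.IsStandardSmooth.iff_exists_basis_kaehlerDifferential.mp hf
  haveI : Finite I₀ := Module.Finite.finite_basis b₀
  have hcard : Nat.card I₀ = r := by
    have h1 := Algebra.IsStandardSmoothOfRelativeDimension.rank_kaehlerDifferential (R := k) (S := A') r
    rw [← Module.finrank_eq_nat_card_basis b₀]
    exact Module.finrank_eq_of_rank_eq h1
  let e : I₀ ≃ Fin r := (Finite.equivFin I₀).trans (finCongr hcard)
  let db : Module.Basis (Fin r) A' Ω[A'⁄k] := b₀.reindex e
  have hb : Set.range db ⊆ Set.range (KaehlerDifferential.D k A') := by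
    rw [Module.Basis.range_reindex]; exact hb₀
  let x' : Fin n → A' := fun i => algebraMap A A' (x i)
  let b' : A' := algebraMap A A' b
  let φ : Fin r → Fin n → A' := fun l i => db.repr (KaehlerDifferential.D k A' (x' i)) l
  obtain ⟨g, hg0, hg⟩ := H r db hb hdimA'
  refine ⟨g, hg0, fun a ha q hq hfq => ?_⟩
  let P := q.comap (Ideal.Quotient.mk (Ideal.span {sec b x a}))
  haveI : P.IsPrime := Ideal.IsPrime.comap _
  have hdj : Disjoint (Submonoid.powers f : Set A) P := by
    rwa [Ideal.disjoint_powers_iff_notMem_of_isPrime]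
  let P' := P.map (algebraMap A A')
  haveI hP' : P'.IsPrime := IsLocalization.isPrime_of_isPrime_disjoint (Submonoid.powers f) A' P ‹_› hdj
  let h' := algebraMap A A' (sec b x a)
  have hh' : h' = b' + ∑ i : Fin n, algebraMap k A' (a i) * x' i := by
    simp [h', sec, x', b', ← IsScalarTower.algebraMap_apply]
  have hhP : h' ∈ P' := Ideal.mem_map_of_mem _
    (show Ideal.Quotient.mk _ (sec b x a) ∈ q by
      rw [Ideal.Quotient.eq_zero_iff_mem.mpr (Ideal.mem_span_singleton_self _)]; exact zero_mem _)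
  obtain ⟨l₀, hl₀⟩ := hg a ha P' hP'
  obtain ⟨l, rfl⟩ : ∃ l, l₀ = Fin.succ l := by
    refine Fin.cases (fun h => (h ?_).elim) (fun l _ => ⟨l, rfl⟩) l₀ hl₀
    simp only [Fin.cons_zero]
    exact hh' ▸ hhP
  simp only [Fin.cons_succ] at hl₀
  have hl := hl₀
  let c₀ : A' := db.repr (KaehlerDifferential.D k A' h') l
  have hc₀ : c₀ ∉ P' := by
    have : c₀ = db.repr (KaehlerDifferential.D k A' b') l + ∑ i, algebraMap k A' (a i) * φ l i := by
      simp [c₀, φ, hh', map_add, map_sum, Derivation.leibniz]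
      refine Finset.sum_congr rfl fun i _ => ?_
      rw [← algebraMap_smul A' (a i), map_smul, Finsupp.smul_apply, smul_eq_mul]
    rwa [this]
  let c₁ := (IsLocalization.Away.sec f c₀).1
  let A'' := Localization.Away c₀
  haveI : IsLocalization.Away (f * c₁) A'' :=
    .mul_of_associated _ _ c₀ (IsLocalization.Away.associated_sec_fst f c₀)
  have hc₁ : f * c₁ ∉ P := by
    refine Ideal.IsPrime.mul_notMem ‹_› hfq fun hmem => hc₀ ?_
    rw [Ideal.mem_iff_of_associated (IsLocalization.Away.associated_sec_fst f c₀).symm]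
    exact Ideal.mem_map_of_mem _ hmem
  refine ⟨Ideal.Quotient.mk _ (f * c₁), hc₁, ?_⟩
  haveI : Algebra.IsStandardSmoothOfRelativeDimension 0 A' A'' :=
    .localization_away c₀
  haveI : Algebra.IsStandardSmoothOfRelativeDimension (0 + r) k A'' :=
    Algebra.IsStandardSmoothOfRelativeDimension.trans r 0 k A' A''
  haveI : Algebra.IsStandardSmooth k A'' :=
    Algebra.IsStandardSmoothOfRelativeDimension.isStandardSmooth (0 + r)
  haveI : Algebra.FormallyEtale A' A'' := .of_isLocalization (Submonoid.powers c₀)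
  let bb : Module.Basis (Fin r) A'' Ω[A''⁄k] :=
    (db.baseChange A'').map (KaehlerDifferential.tensorKaehlerEquivOfFormallyEtale k A' A'')
  have hbbD : Set.range bb ⊆ Set.range (KaehlerDifferential.D k A'') := by
    rintro _ ⟨j, rfl⟩
    obtain ⟨s, hs⟩ := hb ⟨j, rfl⟩
    refine ⟨algebraMap A' A'' s, ?_⟩
    rw [show bb j = KaehlerDifferential.tensorKaehlerEquivOfFormallyEtale k A' A'' (1 ⊗ₜ db j) by simp [bb],
      ← hs, ← KaehlerDifferential.tensorKaehlerEquivOfFormallyEtale_symm_D_algebraMap,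
      LinearEquiv.apply_symm_apply]
  let σ := ULift.{u} (Fin r)
  let bσ : Module.Basis σ A'' Ω[A''⁄k] := bb.reindex Equiv.ulift.symm
  let h'' := algebraMap A A'' (sec b x a)
  have hu : IsUnit (bσ.repr (KaehlerDifferential.D k A'' h'') ⟨l⟩) := by
    have h1 : KaehlerDifferential.D k A'' h'' =
        KaehlerDifferential.tensorKaehlerEquivOfFormallyEtale k A' A'' (1 ⊗ₜ KaehlerDifferential.D k A' h') := by
      rw [← KaehlerDifferential.tensorKaehlerEquivOfFormallyEtale_symm_D_algebraMap,
        LinearEquiv.apply_symm_apply, ← IsScalarTower.algebraMap_apply]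
    have : bσ.repr (KaehlerDifferential.D k A'' h'') ⟨l⟩ = algebraMap A' A'' c₀ := by
      rw [h1]
      simp only [bσ, bb, Module.Basis.repr_reindex, Module.Basis.map_repr, LinearEquiv.trans_apply,
        LinearEquiv.symm_apply_apply, Module.Basis.baseChange_repr_tmul]
      simp [c₀, Algebra.algebraMap_eq_smul_one]
      rfl
    rw [this]
    exact IsLocalization.map_units A'' ⟨c₀, Submonoid.mem_powers _⟩
  let I : Ideal A'' := (Ideal.span {sec b x a}).map (algebraMap A A'')
  have hI : I = Ideal.span {h''} := by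
    simp [I, h'', Ideal.map_span]
  haveI : IsLocalization.Away (Ideal.Quotient.mk (Ideal.span {sec b x a}) (f * c₁)) (A'' ⧸ I) := by
    have := (inferInstance : IsLocalization (Algebra.algebraMapSubmonoid (A ⧸ Ideal.span {sec b x a})
      (Submonoid.powers (f * c₁))) (A'' ⧸ I))
    rwa [Algebra.algebraMapSubmonoid_powers] at this
  haveI : Nontrivial (A'' ⧸ I) := by
    rw [IsLocalization.Away] at *
    refine ⟨⟨0, 1, fun h01 => ?_⟩⟩
    obtain ⟨⟨_, N, rfl⟩, hN⟩ := (IsLocalization.eq_iff_exists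
      (Submonoid.powers (Ideal.Quotient.mk (Ideal.span {sec b x a}) (f * c₁))) (A'' ⧸ I)).mp
      (show algebraMap (A ⧸ Ideal.span {sec b x a}) (A'' ⧸ I) 0 = algebraMap _ _ 1 by simpa using h01)
    exact hc₁ (hq.mem_of_pow_mem N (by
      have h2 : Ideal.Quotient.mk (Ideal.span {sec b x a}) (f * c₁) ^ N = 0 := by simpa using hN.symm
      rw [h2]; exact zero_mem _))
  haveI := Groth.Agent.Lib.BertiniAff.Quotient.isStandardSmoothOfRelativeDimension_quotient r bσ
    (by rw [Module.Basis.range_reindex]; exact hbbD) (by simp [σ]) h'' ⟨l⟩ hu I hI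
  haveI : IsScalarTower k (A ⧸ Ideal.span {sec b x a}) (A'' ⧸ I) :=
    IsScalarTower.of_algebraMap_eq fun y => by
      change Ideal.Quotient.mk I (algebraMap k A'' y) = Ideal.Quotient.mk I (algebraMap A A'' (algebraMap k A y))
      rw [← IsScalarTower.algebraMap_apply]
  let eq : (A'' ⧸ I) ≃ₐ[k] Localization.Away (Ideal.Quotient.mk (Ideal.span {sec b x a}) (f * c₁)) :=
    (IsLocalization.algEquiv (Submonoid.powers (Ideal.Quotient.mk (Ideal.span {sec b x a}) (f * c₁)))
      (A'' ⧸ I) (Localization.Away (Ideal.Quotient.mk (Ideal.span {sec b x a}) (f * c₁)))).restrictScalars k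
  haveI := Algebra.IsStandardSmoothOfRelativeDimension.of_algEquiv (n := r - 1) (R := k) (S := (A'' ⧸ I)) eq
  exact Algebra.IsStandardSmoothOfRelativeDimension.isStandardSmooth (r - 1)

theorem exists_poly_chart
    (hjet : ∀ M : Ideal A, M.IsMaximal → ∀ z : A, ∃ c : Fin n → k,
      z - ∑ i, algebraMap k A (c i) * x i ∈ M ^ 2)
    (f : A) (hf : Algebra.IsStandardSmooth k (Localization.Away f)) :
    ∃ g : MvPolynomial (Fin n) k, g ≠ 0 ∧ ∀ a : Fin n → k, MvPolynomial.eval a g ≠ 0 →
      ∀ q : Ideal (A ⧸ Ideal.span {sec b x a}), q.IsPrime → f ∉ q.comap (Ideal.Quotient.mk _) →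
        ∃ f' : A ⧸ Ideal.span {sec b x a}, f' ∉ q ∧
          Algebra.IsStandardSmooth k (Localization.Away f') := by
  classical
  refine exists_poly_chart_of b x f hf fun r db hb hdimA' => ?_
  let A' := Localization.Away f
  haveI : Algebra.FinitePresentation k A' := inferInstance
  haveI : Algebra.FiniteType k A' := inferInstance
  let x' : Fin n → A' := fun i => algebraMap A A' (x i)
  have hjet' : ∀ M : Ideal A', M.IsMaximal → ∀ z : A', ∃ c : Fin n → k,
      z - ∑ i, algebraMap k A' (c i) * x' i ∈ M ^ 2 := by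
    intro M hM z
    haveI : IsJacobsonRing A := isJacobsonRing_of_finiteType (A := k) (B := A)
    have hm := (IsLocalization.isMaximal_iff_isMaximal_disjoint A' f M).mp hM
    let m := M.comap (algebraMap A A')
    haveI : m.IsMaximal := hm.1
    obtain ⟨⟨w, ⟨_, N, rfl⟩⟩, hw⟩ := IsLocalization.surj (Submonoid.powers f) z
    obtain ⟨u, hu⟩ : ∃ u, f ^ N * u - 1 ∈ m := by
      have hfm : f ^ N ∉ m := fun h => hm.2 (Ideal.IsPrime.mem_of_pow_mem hm.1.isPrime N h)
      obtain ⟨u, v, hv, huv⟩ := hm.1.exists_inv hfm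
      exact ⟨u, by rw [mul_comm, ← huv]; simpa using m.neg_mem hv⟩
    let u₂ := u * (2 - f ^ N * u)
    have hu₂ : f ^ N * u₂ - 1 ∈ m ^ 2 := by
      have := Ideal.pow_mem_pow hu 2
      rw [show f ^ N * u₂ - 1 = -((f ^ N * u - 1) ^ 2) by simp only [u₂]; ring]
      exact neg_mem this
    obtain ⟨c, hc⟩ := hjet m hm.1 (w * u₂)
    refine ⟨c, ?_⟩
    have h1 : algebraMap A A' (w * u₂) - ∑ i, algebraMap k A' (c i) * x' i ∈ M ^ 2 := by
      have := Ideal.mem_map_of_mem (algebraMap A A') hc
      rw [map_sub, map_sum, Ideal.map_pow] at this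
      simp only [map_mul, ← IsScalarTower.algebraMap_apply k A A'] at this ⊢
      exact Ideal.pow_right_mono Ideal.map_comap_le 2 this
    have h2 : z * algebraMap A A' (f ^ N * u₂ - 1) ∈ M ^ 2 := by
      refine Ideal.mul_mem_left _ _ ?_
      have := Ideal.mem_map_of_mem (algebraMap A A') hu₂
      rw [Ideal.map_pow] at this
      exact Ideal.pow_right_mono Ideal.map_comap_le 2 this
    convert sub_mem h1 h2 using 1
    have hw' : z * algebraMap A A' (f ^ N) = algebraMap A A' w := hw
    simp only [map_mul, map_sub, map_one, mul_sub, mul_one, ← mul_assoc, hw']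
    ring
  obtain ⟨c, hc⟩ := exists_unimodular db hb x' hjet'
  exact JetIncidence.exists_poly k _ c _ hc hdimA'

/-- Gluing charts. -/
theorem exists_poly_ring_of [PerfectField k] [Algebra.Smooth k A]
    (H : ∀ f : A, Algebra.IsStandardSmooth k (Localization.Away f) →
      ∃ g : MvPolynomial (Fin n) k, g ≠ 0 ∧ ∀ a : Fin n → k, MvPolynomial.eval a g ≠ 0 →
        ∀ q : Ideal (A ⧸ Ideal.span {sec b x a}), q.IsPrime → f ∉ q.comap (Ideal.Quotient.mk _) →
          ∃ f' : A ⧸ Ideal.span {sec b x a}, f' ∉ q ∧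
            Algebra.IsStandardSmooth k (Localization.Away f')) :
    ∃ g : MvPolynomial (Fin n) k, g ≠ 0 ∧ ∀ a : Fin n → k, MvPolynomial.eval a g ≠ 0 →
      Algebra.Smooth k (A ⧸ Ideal.span {sec b x a}) := by
  classical
  let S : Set A := {g | Algebra.IsStandardSmooth k (Localization.Away g)}
  have hS : Ideal.span S = ⊤ := by
    by_contra hne
    obtain ⟨M, hM, hle⟩ := Ideal.exists_le_maximal _ hne
    haveI := hM.isPrime
    obtain ⟨g, hg, hs⟩ := Algebra.IsSmoothAt.exists_notMem_isStandardSmooth k M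
    exact hg (hle (Ideal.subset_span hs))
  obtain ⟨s, hs, hs'⟩ := (Ideal.span_eq_top_iff_finite S).mp hS
  choose G hG0 hG using fun g : s => H g.1 (hs g.2)
  refine ⟨∏ g, G g, Finset.prod_ne_zero_iff.mpr fun g _ => hG0 g, fun a ha => ?_⟩
  rw [map_prod, Finset.prod_ne_zero_iff] at ha
  haveI : IsNoetherianRing A := Algebra.FiniteType.isNoetherianRing k A
  haveI := CIChart.isRegularRing_of_cover (k := k) (A := A ⧸ Ideal.span {sec b x a}) fun q hq => by
    haveI := hq
    obtain ⟨g, hg, hgq⟩ : ∃ g ∈ s, g ∉ q.comap (Ideal.Quotient.mk _) := by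
      by_contra hne
      push Not at hne
      exact (Ideal.IsPrime.comap (Ideal.Quotient.mk _) (K := q)).ne_top
        (top_le_iff.mp (hs' ▸ Ideal.span_le.mpr hne))
    exact hG ⟨g, hg⟩ a (ha _ (Finset.mem_univ _)) q hq hgq
  exact BertiniProj.smooth_of_isRegularRing k (A ⧸ Ideal.span {sec b x a})

/-- The general member of the family has smooth zero locus. -/
theorem exists_poly_ring [PerfectField k] [Algebra.Smooth k A]
    (hjet : ∀ M : Ideal A, M.IsMaximal → ∀ z : A, ∃ c : Fin n → k,
      z - ∑ i, algebraMap k A (c i) * x i ∈ M ^ 2) :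
    ∃ g : MvPolynomial (Fin n) k, g ≠ 0 ∧ ∀ a : Fin n → k, MvPolynomial.eval a g ≠ 0 →
      Algebra.Smooth k (A ⧸ Ideal.span {sec b x a}) :=
  exists_poly_ring_of b x fun f hf => exists_poly_chart b x hjet f hf

/-- The general member of a family of generators has smooth zero locus, over any field. -/
theorem exists_poly_ring_gen [Algebra.Smooth k A] (h1 : ∃ j, x j = 1)
    (hgen : Algebra.adjoin k (Set.range x) = ⊤) :
    ∃ g : MvPolynomial (Fin n) k, g ≠ 0 ∧ ∀ a : Fin n → k, MvPolynomial.eval a g ≠ 0 →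
      Algebra.Smooth k (A ⧸ Ideal.span {sec b x a}) := by
  classical
  let S : Set A := {g | Algebra.IsStandardSmooth k (Localization.Away g)}
  have hS : Ideal.span S = ⊤ := by
    by_contra hne
    obtain ⟨M, hM, hle⟩ := Ideal.exists_le_maximal _ hne
    haveI := hM.isPrime
    obtain ⟨g, hg, hs⟩ := Algebra.IsSmoothAt.exists_notMem_isStandardSmooth k M
    exact hg (hle (Ideal.subset_span hs))
  obtain ⟨s, hs, hs'⟩ := (Ideal.span_eq_top_iff_finite S).mp hS
  have key : ∀ f : A, Algebra.IsStandardSmooth k (Localization.Away f) →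
      ∃ g : MvPolynomial (Fin n) k, g ≠ 0 ∧ ∀ a : Fin n → k, MvPolynomial.eval a g ≠ 0 →
        ∀ q : Ideal (A ⧸ Ideal.span {sec b x a}), q.IsPrime → f ∉ q.comap (Ideal.Quotient.mk _) →
          ∃ f' : A ⧸ Ideal.span {sec b x a}, f' ∉ q ∧
            Algebra.IsStandardSmooth k (Localization.Away f') := fun f hf => by
    refine exists_poly_chart_of b x f hf fun r db hb hdimA' => ?_
    let A' := Localization.Away f
    haveI : Algebra.FinitePresentation k A' := inferInstance
    haveI : Algebra.FiniteType k A' := inferInstance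
    let φ : A →ₐ[k] A' := IsScalarTower.toAlgHom k A A'
    have himg : ∀ z, φ z ∈ Algebra.adjoin k (Set.range fun i => algebraMap A A' (x i)) := fun z => by
      rw [Set.range_comp' (algebraMap A A') x, show (algebraMap A A' : A → A') = φ from rfl, Algebra.adjoin_image]
      exact ⟨z, hgen ▸ Algebra.mem_top, rfl⟩
    obtain ⟨c, hc⟩ := exists_unimodular_gen db hb (fun i => algebraMap A A' (x i))
      (h1.imp fun j hj => by rw [hj, map_one]) fun z => by
        obtain ⟨⟨w, u⟩, hw⟩ := IsLocalization.surj (Submonoid.powers f) z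
        refine ⟨algebraMap A A' u, IsLocalization.map_units A' u, himg u, ?_⟩
        rw [hw]
        exact himg w
    exact JetIncidence.exists_poly k _ c _ hc hdimA'
  choose G hG0 hG using fun g : s => key g.1 (hs g.2)
  refine ⟨∏ g, G g, Finset.prod_ne_zero_iff.mpr fun g _ => hG0 g, fun a ha => ?_⟩
  rw [map_prod, Finset.prod_ne_zero_iff] at ha
  let Q := A ⧸ Ideal.span {sec b x a}
  let T : Set Q := {f' | Algebra.IsStandardSmooth k (Localization.Away f')}
  have hT : Ideal.span T = ⊤ := by
    by_contra hne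
    obtain ⟨q, hqm, hle⟩ := Ideal.exists_le_maximal _ hne
    have hq := hqm.isPrime
    obtain ⟨g, hg, hgq⟩ : ∃ g ∈ s, g ∉ q.comap (Ideal.Quotient.mk _) := by
      by_contra hne'
      push Not at hne'
      exact (Ideal.IsPrime.comap (Ideal.Quotient.mk _) (K := q)).ne_top
        (top_le_iff.mp (hs' ▸ Ideal.span_le.mpr hne'))
    obtain ⟨f', hf', hsm⟩ := hG ⟨g, hg⟩ a (ha _ (Finset.mem_univ _)) q hq hgq
    exact hf' (hle (Ideal.subset_span hsm))
  rw [← RingHom.smooth_algebraMap]
  refine RingHom.Smooth.ofLocalizationSpanTarget _ T hT fun f' => ?_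
  haveI : Algebra.IsStandardSmooth k (Localization.Away f'.1) := f'.2
  change ((algebraMap Q (Localization.Away f'.1)).comp (algebraMap k Q)).Smooth
  rw [← IsScalarTower.algebraMap_eq, RingHom.smooth_algebraMap]
  infer_instance

end Groth.Agent.H26.JetBertini
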