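import Groth.Agent.H26.ZeroFrame
import Groth.Agent.H26.JetBertini
import Groth.Agent.H78.Formal.Sections
import Groth.Agent.Lib.TensorMod.LocFree
import Groth.Agent.Lib.Modules.StalkModule
import Mathlib.AlgebraicGeometry.Morphisms.Smooth
import Mathlib.AlgebraicGeometry.Morphisms.FiniteType

/-!
# Bertini for linear systems: from affine frames to zero schemes
-/

set_option autoImplicit false
set_option linter.all false
set_option maxHeartbeats 1000000

universe u

open CategoryTheory CategoryTheory.Limits AlgebraicGeometry TopologicalSpace Opposite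
open Groth.Agent.Lib.TensorMod.Gen Groth.Agent.Lib.TensorMod.Dual
open Groth.Agent.H95.ZeroSch (Frame coord coord_smul exists_frame sv rs_sv rs_smul')
open Groth.Agent.H78.Formal.Sections (sMap smulMod_app res_sMap smulMod_comp)
open Groth.Agent.Lib.Modules

namespace Groth.Agent.H26.JetBertiniScheme

variable {k : Type u} [Field k] {Y : Scheme.{u}} [Y.Over (Spec (CommRingCat.of k))]
  {L : Y.Modules} {m : ℕ} (s : Fin m → (Coh.structureModule Y ⟶ L)) (f : Coh.structureModule Y ⟶ L)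

lemma coord_add (F : Frame L) (x y : Γ(L, F.V.1)) : coord F (x + y) = coord F x + coord F y := by
  refine (F.he F.V.1 le_rfl).injective ?_
  simp only [rs_self, add_smul, coord_smul]

lemma coord_smul_left (F : Frame L) (a : Γ(Y, F.V.1)) (x : Γ(L, F.V.1)) :
    coord F (a • x) = a * coord F x := by
  refine (F.he F.V.1 le_rfl).injective ?_
  simp only [rs_self, mul_smul, coord_smul]

lemma coord_sum (F : Frame L) {ι : Type*} (t : Finset ι) (x : ι → Γ(L, F.V.1)) :
    coord F (∑ i ∈ t, x i) = ∑ i ∈ t, coord F (x i) :=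
  map_sum (AddMonoidHom.mk' (coord F) (coord_add F)) x t

lemma sv_add (a b : Coh.structureModule Y ⟶ L) (U : Y.Opens) :
    sv (a + b) U = sv a U + sv b U := rfl

lemma sv_sum {ι : Type*} (t : Finset ι) (a : ι → (Coh.structureModule Y ⟶ L)) (U : Y.Opens) :
    sv (∑ i ∈ t, a i) U = ∑ i ∈ t, sv (a i) U :=
  map_sum (AddMonoidHom.mk' (fun b => sv b U) fun a b => sv_add a b U) a t

lemma sv_smulMod (c : k) (a : Coh.structureModule Y ⟶ L) (U : Y.Opens) :
    sv (Formal.smulMod k (Coh.structureModule Y) c ≫ a) U = sMap k U c • sv a U := by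
  rw [smulMod_comp]
  exact smulMod_app L c U _

/-- the algebra structure on functions -/
noncomputable abbrev algΓ (U : Y.Opens) : Algebra k Γ(Y, U) := (sMap k U).toAlgebra

lemma sMap_eq_appLE (U : Y.Opens) :
    sMap k U = ((Y ↘ Spec (CommRingCat.of k)).appLE ⊤ U le_top).hom.comp
      (Scheme.ΓSpecIso (CommRingCat.of k)).inv.hom := rfl

lemma smooth_algΓ [Smooth (Y ↘ Spec (CommRingCat.of k))] {U : Y.Opens} (hU : IsAffineOpen U) :
    letI := algΓ (k := k) U; Algebra.Smooth k Γ(Y, U) := by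
  letI := algΓ (k := k) U
  rw [← RingHom.smooth_algebraMap]
  change (sMap k U).Smooth
  rw [sMap_eq_appLE]
  exact RingHom.Smooth.respectsIso.2 _ (Scheme.ΓSpecIso (CommRingCat.of k)).commRingCatIsoToRingEquiv.symm
    ((Y ↘ Spec (CommRingCat.of k)).smooth_appLE (isAffineOpen_top _) hU le_top)

/-- The equation on a frame of a member of the linear system. -/
lemma coord_member (F : Frame L) (c : Fin m → k) :
    coord F (sv (f + ∑ i, Formal.smulMod k (Coh.structureModule Y) (c i) ≫ s i) F.V.1) =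
      coord F (sv f F.V.1) + ∑ i, sMap k F.V.1 (c i) * coord F (sv (s i) F.V.1) := by
  rw [sv_add, sv_sum, coord_add, coord_sum]
  refine congrArg _ (Finset.sum_congr rfl fun i _ => ?_)
  rw [sv_smulMod, coord_smul_left]

lemma germ_frame_injective (F : Frame L) {p : Y} (hp : p ∈ F.V.1) (r : Y.presheaf.stalk p)
    (h : r • L.presheaf.germ F.V.1 p hp F.e = 0) : r = 0 := by
  obtain ⟨W, hW, a, rfl⟩ := TopCat.Presheaf.exists_germ_eq Y.presheaf r
  let U : Y.Opens := W ⊓ F.V.1
  let a' := Y.presheaf.map (homOfLE (show U ≤ W from inf_le_left)).op a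
  have hU : p ∈ U := ⟨hW, hp⟩
  have h' : L.presheaf.germ U p hU (a' • rs L inf_le_right F.e) = L.presheaf.germ U p hU 0 := by
    rw [StalkModule.germ_smul, map_zero, TopCat.Presheaf.germ_res_apply, ← h]
    congr 1
    exact TopCat.Presheaf.germ_res_apply _ _ _ _ _
  obtain ⟨Z, hZ, i₁, i₂, he⟩ := L.presheaf.germ_eq p hU hU _ _ h'
  have h0 : Y.presheaf.map i₁.op a' = 0 := by
    refine (F.he Z (i₁.le.trans inf_le_right)).injective ?_
    change _ • rs L _ F.e = (0 : Γ(Y, Z)) • rs L _ F.e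
    rw [zero_smul]
    have he' : rs L i₁.le (a' • rs L inf_le_right F.e) = rs L i₂.le (0 : Γ(L, U)) := he
    rw [rs_smul', rs_rs] at he'
    refine he'.trans ?_
    exact map_zero (L.presheaf.map (homOfLE i₂.le).op).hom
  have h1 := congrArg (Y.presheaf.germ Z p hZ) h0
  rw [map_zero, TopCat.Presheaf.germ_res_apply, TopCat.Presheaf.germ_res_apply] at h1
  exact h1

lemma germ_frame_surjective (F : Frame L) {p : Y} (hp : p ∈ F.V.1) (v : L.presheaf.stalk p) :
    ∃ r : Y.presheaf.stalk p, v = r • L.presheaf.germ F.V.1 p hp F.e := by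
  obtain ⟨W, hW, n, rfl⟩ := TopCat.Presheaf.exists_germ_eq L.presheaf v
  obtain ⟨a, ha⟩ := (F.he (W ⊓ F.V.1) inf_le_right).surjective (rs L inf_le_left n)
  refine ⟨Y.presheaf.germ (W ⊓ F.V.1) p ⟨hW, hp⟩ a, ?_⟩
  have := congrArg (L.presheaf.germ (W ⊓ F.V.1) p ⟨hW, hp⟩) ha
  simp only at this
  rw [StalkModule.germ_smul] at this
  rw [← TopCat.Presheaf.germ_res_apply L.presheaf (homOfLE (inf_le_left (b := F.V.1))) p ⟨hW, hp⟩ n,
    ← TopCat.Presheaf.germ_res_apply L.presheaf (homOfLE (inf_le_right (a := W))) p ⟨hW, hp⟩ F.e]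
  exact this.symm

lemma mem_of_smul_germ (F : Frame L) {p : Y} (hp : p ∈ F.V.1) (J : Ideal (Y.presheaf.stalk p))
    (r : Y.presheaf.stalk p)
    (h : r • L.presheaf.germ F.V.1 p hp F.e ∈ J • (⊤ : Submodule (Y.presheaf.stalk p) (L.presheaf.stalk p))) :
    r ∈ J := by
  let g := L.presheaf.germ F.V.1 p hp F.e
  have htop : (⊤ : Submodule (Y.presheaf.stalk p) (L.presheaf.stalk p)) = Submodule.span _ {g} :=
    (eq_top_iff.mpr fun v _ => Submodule.mem_span_singleton.mpr
      ((germ_frame_surjective F hp v).imp fun r hr => hr.symm)).symm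
  rw [htop, Submodule.mem_smul_span_singleton] at h
  obtain ⟨t, ht, ht'⟩ := h
  have : t - r = 0 := germ_frame_injective F hp _ (by rw [sub_smul, ht', sub_self])
  rwa [← sub_eq_zero.mp this]

/-- Jets at a closed point give jets in the ring of functions of a frame. -/
theorem jets_frame [LocallyOfFiniteType (Y ↘ Spec (CommRingCat.of k))]
    (hjet : ∀ p : Y, IsClosed ({p} : Set Y) → ∀ l : ↥(L.presheaf.stalk p), ∃ c : Fin m → k,
      (L.presheaf.germ ⊤ p trivial)
          (PicF2.secVal L (∑ i : Fin m, Formal.smulMod k (Coh.structureModule Y) (c i) ≫ s i) ⊤) - l ∈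
        (IsLocalRing.maximalIdeal ↥(Y.presheaf.stalk p)) ^ 2 •
          (⊤ : Submodule ↥(Y.presheaf.stalk p) ↥(L.presheaf.stalk p)))
    (F : Frame L) (M : Ideal Γ(Y, F.V.1)) (hM : M.IsMaximal) (z : Γ(Y, F.V.1)) :
    ∃ c : Fin m → k, z - ∑ i, sMap k F.V.1 (c i) * coord F (sv (s i) F.V.1) ∈ M ^ 2 := by
  haveI : JacobsonSpace Y := LocallyOfFiniteType.jacobsonSpace (Y ↘ Spec (CommRingCat.of k))
  let q : PrimeSpectrum Γ(Y, F.V.1) := ⟨M, hM.isPrime⟩
  let p : Y := F.V.2.fromSpec q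
  have hp : p ∈ F.V.1 := by
    rw [← SetLike.mem_coe, ← F.V.2.range_fromSpec]; exact ⟨_, rfl⟩
  have hpc : IsClosed ({p} : Set Y) := by
    have hq : IsClosed ({q} : Set (PrimeSpectrum Γ(Y, F.V.1))) :=
      (PrimeSpectrum.isClosed_singleton_iff_isMaximal q).mpr hM
    have h2 := F.V.2.fromSpec.isOpenEmbedding.preimage_closedPoints
    rw [Set.ext_iff] at h2
    exact (h2 q).mpr hq
  let ger := L.presheaf.germ F.V.1 p hp
  obtain ⟨c, hc⟩ := hjet p hpc (ger (z • F.e))
  refine ⟨c, ?_⟩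
  let t : Γ(Y, F.V.1) := ∑ i, sMap k F.V.1 (c i) * coord F (sv (s i) F.V.1)
  have hsv : sv (∑ i, Formal.smulMod k (Coh.structureModule Y) (c i) ≫ s i) F.V.1 = t • F.e := by
    rw [sv_sum, Finset.sum_smul]
    exact Finset.sum_congr rfl fun i _ => by rw [sv_smulMod, mul_smul, coord_smul]
  have h1 : (L.presheaf.germ ⊤ p trivial)
      (PicF2.secVal L (∑ i : Fin m, Formal.smulMod k (Coh.structureModule Y) (c i) ≫ s i) ⊤) =
      ger (t • F.e) := by
    rw [← hsv, ← rs_sv _ (le_top : F.V.1 ≤ ⊤)]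
    exact (TopCat.Presheaf.germ_res_apply _ _ _ _ _).symm
  rw [h1, ← map_sub, ← sub_smul] at hc
  have hc' := hc
  simp only [ger] at hc'
  rw [StalkModule.germ_smul] at hc'
  have h2 := mem_of_smul_germ F hp _ _ hc'
  -- back to the ring of functions
  letI : Algebra Γ(Y, F.V.1) (Y.presheaf.stalk p) :=
    TopCat.Presheaf.algebra_section_stalk Y.presheaf ⟨p, hp⟩
  haveI : IsLocalization.AtPrime (Y.presheaf.stalk p) M := F.V.2.isLocalization_stalk' q hp
  rw [← IsLocalization.AtPrime.map_eq_maximalIdeal M (Y.presheaf.stalk p), ← Ideal.map_pow] at h2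
  have h3 : algebraMap Γ(Y, F.V.1) (Y.presheaf.stalk p) (t - z) ∈
      (M ^ 2).map (algebraMap Γ(Y, F.V.1) (Y.presheaf.stalk p)) := h2
  obtain ⟨e, he, hmem⟩ := (IsLocalization.algebraMap_mem_map_algebraMap_iff M.primeCompl _ _ _).mp h3
  obtain ⟨u, v, hv, huv⟩ := hM.exists_inv (show e ∉ M from he)
  have h4 : z - t ∈ M ^ 2 := by
    have hv2 : v ^ 2 ∈ M ^ 2 := Ideal.pow_mem_pow hv 2
    have hv1 : (t - z) * v ^ 2 ∈ M ^ 2 := Ideal.mul_mem_left _ _ hv2
    have he2 : e * (t - z) ∈ M ^ 2 := hmem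
    have : z - t = -((e * (t - z)) * (u * (1 + v)) + (t - z) * v ^ 2) := by
      linear_combination ((t - z) * (1 + v)) * huv
    rw [this]
    exact neg_mem (add_mem (Ideal.mul_mem_right _ _ he2) hv1)
  exact h4

/-- From affine frames to the zero schemes. -/
theorem exists_poly_scheme [Smooth (Y ↘ Spec (CommRingCat.of k))] [QuasiCompact (Y ↘ Spec (CommRingCat.of k))]
    (hL : PicF.IsInvertible L)
    (H : ∀ F : Frame L, ∃ g : MvPolynomial (Fin m) k, g ≠ 0 ∧ ∀ c : Fin m → k, MvPolynomial.eval c g ≠ 0 →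
      letI := algΓ (k := k) F.V.1
      Algebra.Smooth k (Γ(Y, F.V.1) ⧸ Ideal.span
        {JetBertini.sec (coord F (sv f F.V.1)) (fun i => coord F (sv (s i) F.V.1)) c})) :
    ∃ q : MvPolynomial (Fin m) k, q ≠ 0 ∧ ∀ c : Fin m → k, MvPolynomial.eval c q ≠ 0 →
      Smooth ((PicF2.zeroScheme L (f + ∑ i : Fin m, Formal.smulMod k (Coh.structureModule Y) (c i) ≫ s i)).subschemeι ≫
        (Y ↘ Spec (CommRingCat.of k))) := by
  classical
  haveI : CompactSpace Y := QuasiCompact.compactSpace_of_compactSpace (Y ↘ Spec (CommRingCat.of k))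
  choose F hF hF' using fun x : Y => exists_frame hL (U := (⊤ : Y.Opens)) (x := x) trivial
  obtain ⟨T, hT⟩ := (isCompact_univ (X := Y)).elim_finite_subcover (fun x => ((F x).V.1 : Set Y))
    (fun x => (F x).V.1.isOpen) fun x _ => Set.mem_iUnion.mpr ⟨x, hF x⟩
  choose g hg0 hg using fun x : T => H (F x)
  refine ⟨∏ x, g x, Finset.prod_ne_zero_iff.mpr fun x _ => hg0 x, fun c hc => ?_⟩
  rw [map_prod, Finset.prod_ne_zero_iff] at hc
  let a := f + ∑ i : Fin m, Formal.smulMod k (Coh.structureModule Y) (c i) ≫ s i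
  let I := PicF2.zeroScheme L a
  change Smooth (I.subschemeι ≫ Y ↘ Spec (CommRingCat.of k))
  let U : T → I.subscheme.affineOpens := fun x =>
    ⟨I.subschemeι ⁻¹ᵁ (F x).V.1, (F x).V.2.preimage I.subschemeι⟩
  refine HasRingHomProperty.of_iSup_eq_top U ?_ fun x => ?_
  · refine eq_top_iff.mpr fun y _ => ?_
    obtain ⟨x, hx, hxy⟩ := Set.mem_iUnion₂.mp (hT (Set.mem_univ (I.subschemeι y)))
    exact Opens.mem_iSup.mpr ⟨⟨x, hx⟩, hxy⟩
  letI := algΓ (k := k) (F x).V.1
  have hs := hg x c (hc x (Finset.mem_univ _))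
  have hI : Ideal.span {JetBertini.sec (coord (F x) (sv f (F x).V.1))
      (fun i => coord (F x) (sv (s i) (F x).V.1)) c} = I.ideal (F x).V := by
    rw [ZeroFrame.zeroScheme_ideal_eq hL, coord_member]
    rfl
  rw [hI, ← RingHom.smooth_algebraMap] at hs
  change ((I.subschemeι ≫ Y ↘ Spec (CommRingCat.of k)).appLE ⊤ (I.subschemeι ⁻¹ᵁ (F x).V.1) le_top).hom.Smooth
  rw [← Scheme.Hom.appLE_comp_appLE I.subschemeι (Y ↘ Spec (CommRingCat.of k)) ⊤ (F x).V.1 _ le_top le_rfl,
    Scheme.Hom.appLE_eq_app, I.subschemeι_app (F x).V]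
  have h1 := RingHom.Smooth.respectsIso.1 _ (I.subschemeObjIso (F x).V).commRingCatIsoToRingEquiv.symm hs
  have h2 := RingHom.Smooth.respectsIso.2 _ (Scheme.ΓSpecIso (CommRingCat.of k)).commRingCatIsoToRingEquiv h1
  convert h2 using 1
  ext v
  change (I.subschemeObjIso (F x).V).inv (Ideal.Quotient.mk (I.ideal (F x).V)
      ((Y ↘ Spec (CommRingCat.of k)).appLE ⊤ (F x).V.1 le_top v)) =
    (I.subschemeObjIso (F x).V).inv (Ideal.Quotient.mk (I.ideal (F x).V)
      (sMap k (F x).V.1 ((Scheme.ΓSpecIso (CommRingCat.of k)).hom v)))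
  rw [sMap_eq_appLE, RingHom.comp_apply]
  congr 3
  exact (ConcreteCategory.congr_hom (Scheme.ΓSpecIso (CommRingCat.of k)).hom_inv_id v).symm

end Groth.Agent.H26.JetBertiniScheme
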