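import Groth.Agent.H26.JetBertini
import Groth.Agent.H26.JetBertiniScheme
import Mathlib.RingTheory.Etale.Field
import Mathlib.RingTheory.Derivation.Basic
import Mathlib.Algebra.MvPolynomial.PDeriv
import Mathlib.RingTheory.AlgebraicIndependent.TranscendenceBasis
import Mathlib.FieldTheory.Perfect

/-!
# Bertini in characteristic zero for generated linear systems
-/

set_option autoImplicit false
set_option linter.all false
set_option maxHeartbeats 1000000

universe u

open Groth.Agent.Lib.Dim.Basic AlgebraicGeometry
open scoped TensorProduct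

namespace Groth.Agent.H26.GenBertini

variable {k : Type u} [Field k] [CharZero k]

open scoped IntermediateField.algebraAdjoinAdjoin in
/-- In characteristic zero algebraically independent elements have a dual family of derivations. -/
theorem exists_dual_derivations {L : Type u} [Field L] [Algebra k L] {ι : Type u} [DecidableEq ι]
    {a : ι → L} (ha : AlgebraicIndependent k a) (j : ι) :
    ∃ D : Derivation k L L, ∀ i, D (a i) = if j = i then 1 else 0 := by
  classical
  obtain ⟨S, hsub, hS⟩ := exists_isTranscendenceBasis_superset ha.to_subtype_range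
  let A := Algebra.adjoin k (Set.range ((↑) : S → L))
  let F := IntermediateField.adjoin k (Set.range ((↑) : S → L))
  haveI : CharZero F := charZero_of_injective_algebraMap (algebraMap k F).injective
  haveI : Algebra.IsAlgebraic F L := hS.isAlgebraic_field
  haveI : Algebra.IsSeparable F L := inferInstance
  have : Algebra.FormallyEtale A F := .of_isLocalization (nonZeroDivisors _)
  have : Algebra.FormallyEtale F L := Algebra.FormallyEtale.of_isSeparable F L
  have : Algebra.FormallyEtale A L := .comp A F L
  let e : MvPolynomial S k ≃ₐ[k] A := hS.1.aevalEquiv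
  let i₀ : S := ⟨a j, hsub ⟨j, rfl⟩⟩
  let d : Derivation k A L := Derivation.mk'
    ((Algebra.linearMap A L).restrictScalars k ∘ₗ e.toLinearMap ∘ₗ
      (MvPolynomial.pderiv i₀).toLinearMap ∘ₗ e.symm.toLinearMap)
    fun p q => by
      simp only [LinearMap.comp_apply, AlgEquiv.toLinearMap_apply, LinearMap.coe_restrictScalars,
        Derivation.coeFn_coe, map_mul, MvPolynomial.pderiv_mul, map_add, Algebra.linearMap_apply,
        AlgEquiv.apply_symm_apply, Algebra.smul_def]
      ring
  let D : Derivation k L L :=
    ((KaehlerDifferential.isBaseChange_of_formallyEtale k A L).lift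
      d.liftKaehlerDifferential).compDer (KaehlerDifferential.D k L)
  have hD : ∀ p : A, D (p : L) = d p := by
    intro p
    change (KaehlerDifferential.isBaseChange_of_formallyEtale k A L).lift _
      (KaehlerDifferential.D k L (algebraMap A L p)) = _
    rw [← KaehlerDifferential.map_D k k A L, IsBaseChange.lift_eq,
      Derivation.liftKaehlerDifferential_comp_D]
  refine ⟨D, fun i => ?_⟩
  let i₁ : S := ⟨a i, hsub ⟨i, rfl⟩⟩
  let p : A := e (MvPolynomial.X i₁)
  have hp : (p : L) = a i := (hS.1.algebraMap_aevalEquiv (MvPolynomial.X i₁)).trans (MvPolynomial.aeval_X _ _)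
  rw [← hp, hD]
  change algebraMap A L (e (MvPolynomial.pderiv i₀ (e.symm p))) = _
  simp only [p, AlgEquiv.symm_apply_apply, MvPolynomial.pderiv_X]
  rcases eq_or_ne j i with rfl | h
  · simp [i₀, i₁]
  · have : i₁ ≠ i₀ := fun he => h (ha.injective (congrArg Subtype.val he)).symm
    simp [h, this, Pi.single_eq_of_ne, this.symm]

variable {A : Type u} [CommRing A] [Algebra k A] {n r : ℕ}

theorem not_algebraicIndependent (db : Module.Basis (Fin r) A Ω[A⁄k])
    (hb : Set.range db ⊆ Set.range (KaehlerDifferential.D k A)) (b : A) (x d : Fin n → A)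
    (hd : ∑ i, d i * x i = 1) {L : Type u} [Field L] [Algebra k L]
    (f : A →ₐ[k] L) (a : Fin n → L)
    (h0 : ∀ l, f ((Fin.cons b (fun l => db.repr (KaehlerDifferential.D k A b) l) : Fin (r + 1) → A) l) +
      ∑ i, a i * f ((Fin.cons x (fun l i => db.repr (KaehlerDifferential.D k A (x i)) l) :
        Fin (r + 1) → Fin n → A) l i) = 0) :
    ¬ AlgebraicIndependent k a := by
  classical
  intro hai
  letI := f.toRingHom.toAlgebra
  haveI : IsScalarTower k A L := IsScalarTower.of_algebraMap_eq fun y => (f.commutes y).symm
  have hx : f b + ∑ i, a i * f (x i) = 0 := by simpa using h0 0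
  have hl : ∀ l, f (db.repr (KaehlerDifferential.D k A b) l) +
      ∑ i, a i * f (db.repr (KaehlerDifferential.D k A (x i)) l) = 0 := fun l => by simpa using h0 l.succ
  have hzero : ∀ j, f (x j) = 0 := by
    intro j
    have hai' : AlgebraicIndependent k (fun i : ULift.{u} (Fin n) => a i.down) :=
      hai.comp _ ULift.down_injective
    obtain ⟨D, hD⟩ := exists_dual_derivations hai' ⟨j⟩
    let D' : Derivation k A L := D.compAlgebraMap A
    let u : Fin r → L := fun l => D'.liftKaehlerDifferential (db l)
    have hD' : ∀ y, D (f y) = ∑ l, f (db.repr (KaehlerDifferential.D k A y) l) * u l := by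
      intro y
      calc D (f y) = D' y := rfl
        _ = D'.liftKaehlerDifferential (∑ l, db.repr (KaehlerDifferential.D k A y) l • db l) := by
          rw [db.sum_repr, Derivation.liftKaehlerDifferential_comp_D]
        _ = _ := by simp only [map_sum, map_smul, Algebra.smul_def, u]; rfl
    have h := congrArg D hx
    simp only [map_add, map_sum, map_zero, Derivation.leibniz, smul_eq_mul, hD', Finset.sum_add_distrib] at h
    have hDa : ∀ i, D (a i) = if j = i then 1 else 0 := fun i => by
      simpa [ULift.ext_iff] using hD ⟨i⟩
    have h2 : ∑ l, f (db.repr (KaehlerDifferential.D k A b) l) * u l +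
        ∑ i, a i * ∑ l, f (db.repr (KaehlerDifferential.D k A (x i)) l) * u l = 0 := by
      simp only [Finset.mul_sum]
      rw [Finset.sum_comm, ← Finset.sum_add_distrib]
      refine Finset.sum_eq_zero fun l _ => ?_
      have := congrArg (· * u l) (hl l)
      simpa [add_mul, Finset.sum_mul, mul_assoc] using this
    rw [← add_assoc, h2, zero_add] at h
    simpa [hDa] using h
  have := congrArg f hd
  simp [hzero] at this

variable [Algebra.FiniteType k A]

/-- The general member of a generated family has smooth zero locus. -/
theorem exists_poly_ring [Algebra.Smooth k A] (b : A) (x : Fin n → A)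
    (hgen : Ideal.span (Set.range x) = ⊤) :
    ∃ g : MvPolynomial (Fin n) k, g ≠ 0 ∧ ∀ a : Fin n → k, MvPolynomial.eval a g ≠ 0 →
      Algebra.Smooth k (A ⧸ Ideal.span {JetBertini.sec b x a}) := by
  refine JetBertini.exists_poly_ring_of b x fun f hf => ?_
  refine JetBertini.exists_poly_chart_of b x f hf fun r db hb hdim => ?_
  let A' := Localization.Away f
  haveI : Algebra.FinitePresentation k A' := inferInstance
  haveI : Algebra.FiniteType k A' := inferInstance
  obtain ⟨d, hd⟩ := Ideal.mem_span_range_iff_exists_fun.mp ((Ideal.eq_top_iff_one _).mp hgen)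
  refine JetIncidence.exists_poly_of k _ _ fun g a h0 =>
    not_algebraicIndependent db hb _ _ (fun i => algebraMap A A' (d i)) ?_ g a h0
  rw [← map_one (algebraMap A A'), ← hd, map_sum]
  exact Finset.sum_congr rfl fun i _ => (map_mul _ _ _).symm

end Groth.Agent.H26.GenBertini
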