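import Groth.Agent.H26.BertiniProj
import Groth.Agent.H26.JetBertiniScheme
import Groth.Agent.Lib.Synt92.KoszulFlat
import Groth.Agent.Lib.Cyc.DimFun
import Groth.Agent.Lib.Cyc.FieldDim
import Groth.Agent.Lib.Cyc.TorPD
import Groth.Agent.Lib.AlgSpDecent.FlatRelDim
import Groth.Agent.Lib.Ideal.Prime
import Mathlib.AlgebraicGeometry.AlgClosed.Basic
import Mathlib.AlgebraicGeometry.Morphisms.Smooth

/-!
# Generic smoothness in characteristic zero and dimensions of flat families over varieties
-/

set_option autoImplicit false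
set_option backward.isDefEq.respectTransparency.types false
set_option linter.all false
set_option maxHeartbeats 1000000

universe u

open CategoryTheory CategoryTheory.Limits AlgebraicGeometry TopologicalSpace Opposite
open scoped nonZeroDivisors

noncomputable section

namespace Groth.Agent.H26.GenSmooth

/-- An algebra smooth over a field of characteristic zero is smooth over a subdomain at the primes over zero. -/
theorem isSmoothAt_of_comap_eq_bot {k A B : Type u} [Field k] [CharZero k] [CommRing A] [IsDomain A] [Algebra k A]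
    [CommRing B] [Algebra k B] [Algebra A B] [IsScalarTower k A B] [Algebra.Smooth k B]
    [Algebra.FiniteType A B] (q : Ideal B) [q.IsPrime] (hq : q.comap (algebraMap A B) = ⊥) :
    Algebra.IsSmoothAt A q := by
  let K := FractionRing A
  let M := Algebra.algebraMapSubmonoid B A⁰
  let BK := Localization M
  letI : Algebra K BK := localizationAlgebra A⁰ B
  haveI : IsScalarTower A K BK := IsScalarTower.of_algebraMap_eq fun a => by
    rw [IsScalarTower.algebraMap_apply A B BK]
    exact (IsLocalization.map_eq (S := K) (M := A⁰) (show A⁰ ≤ M.comap (algebraMap A B) from fun a ha => ⟨a, ha, rfl⟩) a).symm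
  haveI : CharZero K :=
    charZero_of_injective_ringHom ((algebraMap A K).comp (algebraMap k A)).injective
  haveI : Algebra.IsPushout A B K BK := Algebra.isPushout_of_isLocalization A⁰ K B BK
  haveI : Algebra.IsPushout A K B BK := Algebra.IsPushout.symm inferInstance
  haveI : Algebra.FiniteType K BK :=
    Algebra.FiniteType.equiv (inferInstance : Algebra.FiniteType K (TensorProduct A K B))
      (Algebra.IsPushout.equiv A K B BK)
  haveI : IsNoetherianRing BK := Algebra.FiniteType.isNoetherianRing K BK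
  haveI : IsRegularRing BK := by
    refine isRegularRing_iff.mpr fun P hP => ?_
    haveI := hP
    haveI := IsLocalization.isLocalization_isLocalization_atPrime_isLocalization M
      (Localization.AtPrime P) P
    haveI := Groth.Agent.Lib.Synt92.KoszulFlat.isRegularLocalRing_of_smooth k B (P.comap (algebraMap B BK))
    exact IsRegularLocalRing.of_ringEquiv (R := Localization.AtPrime (P.comap (algebraMap B BK)))
      (IsLocalization.algEquiv (P.comap (algebraMap B BK)).primeCompl _ (Localization.AtPrime P)).toRingEquiv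
  haveI : Algebra.Smooth K BK := BertiniProj.smooth_of_isRegularRing K BK
  haveI : Algebra.FormallyEtale A K := .of_isLocalization A⁰
  haveI : Algebra.FormallySmooth A BK := Algebra.FormallySmooth.comp A K BK
  have hle : M ≤ q.primeCompl := by
    rintro _ ⟨a, ha, rfl⟩ haq
    have : a ∈ q.comap (algebraMap A B) := haq
    rw [hq] at this
    exact nonZeroDivisors.ne_zero ha this
  let φ : BK →+* Localization.AtPrime q := IsLocalization.lift (M := M) (g := algebraMap B (Localization.AtPrime q))
    fun m => IsLocalization.map_units (Localization.AtPrime q) ⟨m.1, hle m.2⟩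
  letI : Algebra BK (Localization.AtPrime q) := φ.toAlgebra
  haveI : IsScalarTower B BK (Localization.AtPrime q) :=
    IsScalarTower.of_algebraMap_eq fun b => (IsLocalization.lift_eq _ b).symm
  haveI : IsScalarTower A BK (Localization.AtPrime q) := IsScalarTower.of_algebraMap_eq fun a => by
    rw [IsScalarTower.algebraMap_apply A B BK, ← IsScalarTower.algebraMap_apply B BK (Localization.AtPrime q),
      ← IsScalarTower.algebraMap_apply A B (Localization.AtPrime q)]
  haveI := IsLocalization.isLocalization_of_submonoid_le BK (Localization.AtPrime q) M q.primeCompl hle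
  haveI : Algebra.FormallyEtale BK (Localization.AtPrime q) :=
    .of_isLocalization (q.primeCompl.map (algebraMap B BK))
  exact Algebra.FormallySmooth.comp A BK (Localization.AtPrime q)

variable {k : Type u} [Field k]

theorem mem_smoothLocus_of_apply_eq [CharZero k] {W T : Scheme.{u}} (f : W ⟶ T) [IsIntegral T]
    [LocallyOfFinitePresentation f] (pT : T ⟶ Spec (CommRingCat.of k)) [Smooth (f ≫ pT)]
    (z : W) (hz : f z = genericPoint T) : z ∈ f.smoothLocus := by
  obtain ⟨U, hU, hzU, -⟩ := exists_isAffineOpen_mem_and_subset (X := T) (x := f z) (U := ⊤) trivial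
  obtain ⟨V, hV, hzV, hVU⟩ := exists_isAffineOpen_mem_and_subset (X := W) (x := z) (U := f ⁻¹ᵁ U) hzU
  haveI : Nonempty U := ⟨⟨_, hzU⟩⟩
  haveI : Nonempty (U : Scheme.{u}) := ⟨⟨_, hzU⟩⟩
  letI : T.Over (Spec (CommRingCat.of k)) := ⟨pT⟩
  letI : W.Over (Spec (CommRingCat.of k)) := ⟨f ≫ pT⟩
  haveI : Smooth (W ↘ Spec (CommRingCat.of k)) := inferInstanceAs (Smooth (f ≫ pT))
  letI := JetBertiniScheme.algΓ (k := k) U
  letI := JetBertiniScheme.algΓ (k := k) V
  haveI := JetBertiniScheme.smooth_algΓ (k := k) hV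
  rw [Scheme.Hom.mem_smoothLocus, formallySmooth_stalkMap_iff U hU V hV hVU hzV]
  letI : Algebra Γ(T, U) Γ(W, V) := (f.appLE U V hVU).hom.toAlgebra
  haveI : IsScalarTower k Γ(T, U) Γ(W, V) := IsScalarTower.of_algebraMap_eq fun c => by
    change Groth.Agent.H78.Formal.Sections.sMap k V c = f.appLE U V hVU (Groth.Agent.H78.Formal.Sections.sMap k U c)
    rw [JetBertiniScheme.sMap_eq_appLE, JetBertiniScheme.sMap_eq_appLE]
    exact (ConcreteCategory.congr_hom (Scheme.Hom.appLE_comp_appLE f pT ⊤ U V le_top hVU)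
      ((Scheme.ΓSpecIso (CommRingCat.of k)).inv c)).symm
  haveI : Algebra.FiniteType Γ(T, U) Γ(W, V) := f.finiteType_appLE hU hV hVU
  refine isSmoothAt_of_comap_eq_bot (k := k) _ ?_
  have h := congrArg PrimeSpectrum.asIdeal (IsAffineOpen.comap_primeIdealOf_appLE (f := f) U hU V hV hVU hzV)
  refine h.trans ?_
  have h2 : hU.primeIdealOf ⟨f z, hzU⟩ = ⟨⊥, Ideal.isPrime_bot⟩ := by
    refine hU.fromSpec.isOpenEmbedding.injective ?_
    rw [hU.fromSpec_primeIdealOf]
    change f z = _
    rw [hz, ← genericPoint_eq_of_isOpenImmersion hU.fromSpec]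
    exact congrArg hU.fromSpec (genericPoint_eq_bot_of_affine Γ(T, U))
  exact congrArg PrimeSpectrum.asIdeal h2

/-- Generic smoothness on the target. -/
theorem exists_open_smooth [CharZero k] {W T : Scheme.{u}} (f : W ⟶ T) [IsIntegral T]
    (pT : T ⟶ Spec (CommRingCat.of k)) [LocallyOfFiniteType pT] [Smooth (f ≫ pT)] [QuasiCompact (f ≫ pT)] :
    ∃ U : T.Opens, (U : Set T).Nonempty ∧ Smooth (f ∣_ U) := by
  haveI : IsNoetherianRing (CommRingCat.of k) := inferInstanceAs (IsNoetherianRing k)
  haveI : IsLocallyNoetherian T := LocallyOfFiniteType.isLocallyNoetherian pT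
  haveI : LocallyOfFiniteType f := locallyOfFiniteType_of_comp f pT
  haveI : IsLocallyNoetherian W := LocallyOfFiniteType.isLocallyNoetherian f
  haveI : CompactSpace W := QuasiCompact.compactSpace_of_compactSpace (f ≫ pT)
  haveI : IsNoetherian W := ⟨⟩
  haveI : LocallyOfFinitePresentation f := inferInstance
  let Z : Set W := (f.smoothLocus : Set W)ᶜ
  have hZ : IsClosed Z := f.smoothLocus.2.isClosed_compl
  obtain ⟨S, hSf, hSc, hSi, hS⟩ := NoetherianSpace.exists_finite_set_isClosed_irreducible hZ
  let C : Set T := ⋃ t ∈ S, closure (f '' t)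
  have hC : IsClosed C := hSf.isClosed_biUnion fun _ _ => isClosed_closure
  have hη : genericPoint T ∉ C := by
    intro h
    obtain ⟨t, ht, hη⟩ := Set.mem_iUnion₂.mp h
    have hζ := (hSi t ht).isGenericPoint_genericPoint_closure
    rw [(hSc t ht).closure_eq] at hζ
    have hcl : closure (f '' t) ⊆ closure ({f (hSi t ht).genericPoint} : Set T) := by
      refine closure_minimal ?_ isClosed_closure
      rintro _ ⟨w, hw, rfl⟩
      exact ((hζ.specializes hw).map f.continuous).mem_closure
    have h1 : f (hSi t ht).genericPoint = genericPoint T :=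
      ((specializes_iff_mem_closure.mpr (hcl hη)).antisymm (genericPoint_specializes _)).eq
    have hmem : (hSi t ht).genericPoint ∈ Z := hS ▸ Set.mem_sUnion.mpr ⟨t, ht, hζ.mem⟩
    exact hmem (mem_smoothLocus_of_apply_eq f pT _ h1)
  refine ⟨⟨Cᶜ, hC.isOpen_compl⟩, ⟨_, hη⟩, ?_⟩
  rw [← Scheme.Hom.smoothLocus_eq_top_iff]
  refine eq_top_iff.mpr fun w _ => ?_
  have hw : (f ⁻¹ᵁ ⟨Cᶜ, hC.isOpen_compl⟩).ι w ∈ f.smoothLocus := by
    by_contra hn
    have hn' : w.1 ∈ Z := hn
    rw [hS] at hn'
    obtain ⟨t, ht, hwt⟩ := Set.mem_sUnion.mp hn'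
    exact w.2 (Set.mem_iUnion₂.mpr ⟨t, ht, subset_closure ⟨_, hwt, rfl⟩⟩)
  have h1 : w ∈ ((f ⁻¹ᵁ ⟨Cᶜ, hC.isOpen_compl⟩).ι ≫ f).smoothLocus := by
    rw [← Scheme.Hom.preimage_smoothLocus_eq]; exact hw
  rw [← Scheme.Hom.preimage_smoothLocus_eq] at h1
  have hmem : (f ⁻¹ᵁ ⟨Cᶜ, hC.isOpen_compl⟩).ι w ∈ f.smoothLocus := h1
  rw [Scheme.Hom.mem_smoothLocus] at hmem ⊢
  exact ((RingHom.FormallySmooth.respectsIso.arrow_mk_iso_iff
    (morphismRestrictStalkMap f ⟨Cᶜ, hC.isOpen_compl⟩ w)).mpr hmem)

section Dim

variable [IsAlgClosed k] {A B F : Scheme.{u}} (f : A ⟶ B) (pB : B ⟶ Spec (CommRingCat.of k))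
  [LocallyOfFiniteType pB]

theorem dim_stalk_add [Flat f] [LocallyOfFiniteType f] (b : Spec (CommRingCat.of k) ⟶ B)
    (hb : b ≫ pB = 𝟙 _) {pF : F ⟶ Spec (CommRingCat.of k)} {m : F ⟶ A} (sq : IsPullback m pF f b) (c : F) :
    ringKrullDim (A.presheaf.stalk (m c)) =
      ringKrullDim (B.presheaf.stalk (b (IsLocalRing.closedPoint k))) + ringKrullDim (F.presheaf.stalk c) := by
  haveI : IsNoetherianRing (CommRingCat.of k) := inferInstanceAs (IsNoetherianRing k)
  haveI : IsLocallyNoetherian B := LocallyOfFiniteType.isLocallyNoetherian pB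
  have hfy : b (IsLocalRing.closedPoint k) = f (m c) := by
    rw [← Scheme.Hom.comp_apply, sq.w, Scheme.Hom.comp_apply]
    exact congrArg b (Subsingleton.elim (α := Spec (CommRingCat.of k)) _ _)
  have hy : IsClosed ({f (m c)} : Set B) := by
    rw [← hfy]
    exact ((pointEquivClosedPoint pB) ⟨b, hb⟩).2
  have hbe : b = Spec.map (residueFieldIsoBase pB (f (m c)) hy).hom ≫ B.fromSpecResidueField (f (m c)) := by
    refine ext_of_apply_closedPoint_eq pB hb (pointOfClosedPoint_comp pB _ hy) ?_
    rw [hfy]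
    exact (pointOfClosedPoint_apply pB _ hy _).symm
  have sq1 : IsPullback (f.fiberι (f (m c)))
      (f.fiberToSpecResidueField (f (m c)) ≫ inv (Spec.map (residueFieldIsoBase pB (f (m c)) hy).hom)) f b := by
    refine IsPullback.of_iso (IsPullback.of_hasPullback f (B.fromSpecResidueField (f (m c))))
      (Iso.refl _) (Iso.refl _) (asIso (Spec.map (residueFieldIsoBase pB (f (m c)) hy).hom)).symm (Iso.refl _)
      ?_ ?_ ?_ ?_
    · simp [Scheme.Hom.fiberι]; rfl
    · simp [Scheme.Hom.fiberToSpecResidueField]; rfl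
    · simp
    · simp [hbe]
  let e := sq.isoIsPullback _ _ sq1
  have hec : f.fiberι (f (m c)) (e.hom c) = m c := by
    rw [← Scheme.Hom.comp_apply, IsPullback.isoIsPullback_hom_fst]
  have he : ringKrullDim (F.presheaf.stalk c) = ringKrullDim ((f.fiber (f (m c))).presheaf.stalk (e.hom c)) :=
    (ringKrullDim_eq_of_ringEquiv (asIso (e.hom.stalkMap c)).commRingCatIsoToRingEquiv).symm
  have he2 : e.hom c = f.asFiber (m c) :=
    (f.fiberι (f (m c))).isEmbedding.injective (hec.trans (f.fiberι_asFiber (m c)).symm)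
  rw [he, hfy, he2]
  exact Groth.Agent.Lib.AlgSpDecent.FlatRelDim.ringKrullDim_stalk_eq f (m c)

omit [IsAlgClosed k] in
include pB in
/-- Closed points of a variety of dimension `n` have local rings of dimension `n`. -/
theorem dim_stalk_of_isClosed [IrreducibleSpace B] (n : ℕ) (hn : topologicalKrullDim B = n) (x : B)
    (hx : IsClosed ({x} : Set B)) : ringKrullDim (B.presheaf.stalk x) = n := by
  rw [Groth.Agent.Lib.Cyc.DimFun.ringKrullDim_stalk (Groth.Agent.Lib.Cyc.FieldDim.isDimFun_fdelta pB) x,
    Groth.Agent.Lib.Cyc.FieldDim.fdelta_of_isClosed pB x hx, sub_zero,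
    ← Groth.Agent.Lib.Cyc.FieldDim.topologicalKrullDim_closure pB (genericPoint B)]
  have : closure ({genericPoint B} : Set B) = Set.univ := genericPoint_closure _
  rw [this, ← hn]
  exact (Homeomorph.Set.univ B).isHomeomorph.topologicalKrullDim_eq

omit [IsAlgClosed k] in
include pB in
/-- Varieties have finite dimension. -/
theorem exists_dim [IrreducibleSpace B] : ∃ n : ℕ, topologicalKrullDim B = n := by
  refine ⟨(Groth.Agent.Lib.Cyc.FieldDim.fdelta pB (genericPoint B)).toNat, ?_⟩
  rw [← Groth.Agent.Lib.Cyc.FieldDim.topologicalKrullDim_closure pB (genericPoint B)]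
  have : closure ({genericPoint B} : Set B) = Set.univ := genericPoint_closure _
  rw [this]
  exact (Homeomorph.Set.univ B).isHomeomorph.topologicalKrullDim_eq.symm

omit [IsAlgClosed k] in
include pB in
/-- The dimension is attained at closed points. -/
theorem dim_eq_of_forall_closed [Nonempty B] (d : ℕ)
    (h : ∀ x : B, IsClosed ({x} : Set B) → ringKrullDim (B.presheaf.stalk x) = d) :
    topologicalKrullDim B = d := by
  haveI : JacobsonSpace B := LocallyOfFiniteType.jacobsonSpace pB
  refine le_antisymm ?_ ?_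
  · rw [Groth.Agent.Lib.AlgSpDecent.SpecOrder.topologicalKrullDim_eq_iSup]
    refine iSup_le fun x => ?_
    rw [← Groth.Agent.Lib.AlgSpDecent.DimDecent.ringKrullDim_stalk]
    obtain ⟨z, hz, hzc⟩ := nonempty_inter_closedPoints (Z := closure ({x} : Set B))
      ⟨x, subset_closure rfl⟩ isClosed_closure.isLocallyClosed
    exact (Groth.Agent.Lib.Ideal.Prime.ringKrullDim_stalk_mono (specializes_iff_mem_closure.mpr hz)).trans (h z hzc).le
  · obtain ⟨x, -, hx⟩ := nonempty_inter_closedPoints (X := B) (Z := Set.univ) Set.univ_nonempty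
      isClosed_univ.isLocallyClosed
    exact (h x hx).ge.trans (Groth.Agent.Lib.Cyc.TorPD.ringKrullDim_stalk_le x)

end Dim

end Groth.Agent.H26.GenSmooth
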