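import Groth.Agent.H26.H1Scheme

/-!
# Base change of relative `H₁`-regular immersions
-/

universe u

open CategoryTheory CategoryTheory.Limits AlgebraicGeometry IsLocalRing TensorProduct

set_option maxHeartbeats 1000000

namespace Groth.Agent.H26.H1BaseChange

open Groth.Agent.Lib

theorem h1_ringEquiv {R S : Type u} [CommRing R] [CommRing S] (e : R ≃+* S) {c : ℕ} {f : Fin c → R}
    (h : CAlgX.IsH1Regular f) : CAlgX.IsH1Regular fun i => e (f i) := by
  letI : Algebra R S := e.toRingHom.toAlgebra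
  haveI : IsLocalization (⊥ : Submonoid R) R := IsLocalization.self (by simp)
  haveI : IsLocalization (⊥ : Submonoid R) S :=
    IsLocalization.isLocalization_of_algEquiv (⊥ : Submonoid R) (AlgEquiv.ofRingEquiv (f := e) fun _ => rfl)
  exact H1Scheme.h1_localization (⊥ : Submonoid R) h

/-- A witness of `H₁`-regularity on a small affine open over a given open of the base. -/
theorem exists_small {X Z S : Scheme.{u}} (f : X ⟶ S) (i : Z ⟶ X) {z : Z} {V : S.Opens}
    (hzV : f (i z) ∈ V) (h : RegImm.IsRegularImmersionAt .h1 i z) :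
    ∃ (D : X.Opens) (_ : IsAffineOpen D), i z ∈ D ∧ D ≤ f ⁻¹ᵁ V ∧ IsClosedImmersion (i ∣_ D) ∧
      ∃ (c : ℕ) (g : Fin c → Γ(X, D)), CAlgX.IsH1Regular g ∧
        RingHom.ker (i.app D).hom = Ideal.span (Set.range g) := by
  obtain ⟨⟨U, hU⟩, hzU, hcl, rs, hrs, hker⟩ := h
  obtain ⟨a, haV, hza⟩ := hU.exists_basicOpen_le (V := f ⁻¹ᵁ V) ⟨i z, hzV⟩ hzU
  haveI := hU.isLocalization_basicOpen a
  refine ⟨X.basicOpen a, hU.basicOpen a, hza, haV, Synt92.KRImm.closed_of_le i (X.basicOpen_le a) hcl,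
    rs.length, fun k => algebraMap Γ(X, U) Γ(X, X.basicOpen a) (rs.get k),
    H1Scheme.h1_localization (Submonoid.powers a) hrs, ?_⟩
  rw [Synt92.KRImm.ker_app_basicOpen i hU hcl a, hker, RelQuasiScheme.ofList_eq_span, Ideal.map_span, ← Set.range_comp]
  rfl


/-- Relative `H₁`-regular immersions are stable under base change. -/
theorem h1At_baseChange {Z X S Z' X' S' : Scheme.{u}} (f : X ⟶ S) (i : Z ⟶ X) [Flat (i ≫ f)]
    (g : S' ⟶ S) {gX : X' ⟶ X} {f' : X' ⟶ S'} (hX : IsPullback gX f' f g)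
    {g' : Z' ⟶ Z} {i' : Z' ⟶ X'} (hsq : IsPullback g' i' i gX) (z : Z')
    (h : RegImm.IsRegularImmersionAt .h1 i (g' z)) : RegImm.IsRegularImmersionAt .h1 i' z := by
  obtain ⟨V, hV, hxV, -⟩ := exists_isAffineOpen_mem_and_subset (X := S) (x := f (i (g' z))) (U := ⊤) trivial
  obtain ⟨D, hD, hxD, hDV, hcl, c, gs, hgs, hker⟩ := exists_small f i hxV h
  have hgz : gX (i' z) = i (g' z) := by
    rw [← Scheme.Hom.comp_apply, ← hsq.w, Scheme.Hom.comp_apply]
  have hzV' : g (f' (i' z)) ∈ V := by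
    rw [← Scheme.Hom.comp_apply, ← hX.w, Scheme.Hom.comp_apply, hgz]
    exact hxV
  obtain ⟨V', hV', hzV'', hle⟩ := exists_isAffineOpen_mem_and_subset (x := f' (i' z)) (U := g ⁻¹ᵁ V) hzV'
  have hgle : V' ≤ g ⁻¹ᵁ V := fun x hx => hle hx
  let D' := gX ⁻¹ᵁ D ⊓ f' ⁻¹ᵁ V'
  have hzD' : i' z ∈ D' := ⟨by show gX (i' z) ∈ D; rw [hgz]; exact hxD, hzV''⟩
  haveI : IsAffine (D : Scheme.{u}) := hD
  haveI : IsAffine (V : Scheme.{u}) := hV
  haveI : IsAffine (V' : Scheme.{u}) := hV'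
  have hD' : IsAffineOpen D' :=
    .of_isIso (Scheme.Hom.isPullback_resLE hX hgle hDV (rfl : D' = _)).isoPullback.hom
  have hpo := (isIso_pushoutSection_iff hX hgle hDV (rfl : D' = _)).1
    (isIso_pushoutSection_of_isAffineOpen hX hgle hDV rfl hV hV' hD)
  obtain ⟨hcl', hker'⟩ := RelQuasiScheme.ker_app_baseChange hsq hD hcl hD' (inf_le_left : D' ≤ gX ⁻¹ᵁ D)
  -- flatness of the quotient
  obtain ⟨hWa, hsurj⟩ := Synt92.KRImm.isAffine_preimage i hD hcl
  letI : Algebra Γ(S, V) Γ(X, D) := (f.appLE V D hDV).hom.toAlgebra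
  haveI hflat : Module.Flat Γ(S, V) (Γ(X, D) ⧸ Ideal.span (Set.range gs)) := by
    rw [← RingHom.flat_algebraMap_iff, ← hker]
    let e := RingHom.quotientKerEquivOfSurjective hsurj
    refine (RingHom.Flat.comp_iff_of_bijective_left (g := e.toRingHom) e.bijective).1 ?_
    have h2 := (i ≫ f).flat_appLE hV hWa (show i ⁻¹ᵁ D ≤ (i ≫ f) ⁻¹ᵁ V from fun x hx => hDV hx)
    rw [show e.toRingHom.comp (algebraMap Γ(S, V) (Γ(X, D) ⧸ RingHom.ker (i.app D).hom)) =
      ((i ≫ f).appLE V (i ⁻¹ᵁ D) (fun x hx => hDV hx)).hom from ?_]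
    · exact h2
    · rw [← Scheme.Hom.appLE_comp_appLE i f V D (i ⁻¹ᵁ D) hDV le_rfl, ← Scheme.Hom.app_eq_appLE]
      exact RingHom.ext fun r => rfl
  letI : Algebra Γ(S, V) Γ(S', V') := (g.appLE V V' hgle).hom.toAlgebra
  have hb := H1Quasi.baseChange Γ(S, V) Γ(X, D) Γ(S', V') gs hgs
  letI : Algebra Γ(X, D) Γ(X', D') := (gX.appLE D D' inf_le_left).hom.toAlgebra
  letI : Algebra Γ(S', V') Γ(X', D') := (f'.appLE V' D' inf_le_right).hom.toAlgebra
  letI : Algebra Γ(S, V) Γ(X', D') := ((algebraMap Γ(X, D) Γ(X', D')).comp (algebraMap Γ(S, V) Γ(X, D))).toAlgebra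
  haveI : IsScalarTower Γ(S, V) Γ(X, D) Γ(X', D') := .of_algebraMap_eq fun _ => rfl
  haveI : IsScalarTower Γ(S, V) Γ(S', V') Γ(X', D') :=
    .of_algebraMap_eq' (congrArg CommRingCat.Hom.hom hpo.w)
  haveI : Algebra.IsPushout Γ(S, V) Γ(S', V') Γ(X, D) Γ(X', D') :=
    CommRingCat.isPushout_iff_isPushout.mp hpo.flip
  let e := (Algebra.IsPushout.equiv Γ(S, V) Γ(S', V') Γ(X, D) Γ(X', D')).toRingEquiv
  have hq' := h1_ringEquiv e hb
  have he : ∀ x, e ((1 : Γ(S', V')) ⊗ₜ[Γ(S, V)] x) = algebraMap Γ(X, D) Γ(X', D') x := fun x => by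
    show Algebra.IsPushout.equiv Γ(S, V) Γ(S', V') Γ(X, D) Γ(X', D') _ = _
    rw [Algebra.IsPushout.equiv_tmul, map_one, one_mul]
  simp only [he] at hq'
  let l := List.ofFn fun k => algebraMap Γ(X, D) Γ(X', D') (gs k)
  refine ⟨⟨D', hD'⟩, hzD', hcl', l, ?_, ?_⟩
  · show CAlgX.IsH1Regular l.get
    have key : ∀ {m n : ℕ} (h : m = n) (F : Fin n → Γ(X', D')), CAlgX.IsH1Regular F →
        CAlgX.IsH1Regular fun k => F (Fin.cast h k) := by
      rintro m n rfl F hF
      exact hF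
    convert key (List.length_ofFn (f := fun k => algebraMap Γ(X, D) Γ(X', D') (gs k))) _ hq' using 1
    funext k
    exact List.get_ofFn _ k
  · rw [Triv.ofList_ofFn, hker', hker, Ideal.map_span, ← Set.range_comp]
    rfl


theorem relRegularImmersion_baseChange {Z X S S' : Scheme.{u}} (f : X ⟶ S) (i : Z ⟶ X) (k : RegImm.Kind)
    (hk : k = RegImm.Kind.h1 ∨ k = RegImm.Kind.quasi) (hi : RegImm.IsRelRegularImmersion k f i)
    (g : S' ⟶ S) :
    RegImm.IsRelRegularImmersion k (pullback.snd f g) (pullback.snd i (pullback.fst f g)) := by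
  haveI : IsImmersion i := hi.1.1
  haveI := hi.2
  have hX : IsPullback (pullback.fst f g) (pullback.snd f g) f g := IsPullback.of_hasPullback f g
  have hsq := IsPullback.of_hasPullback i (pullback.fst f g)
  haveI : IsImmersion (pullback.snd i (pullback.fst f g)) :=
    MorphismProperty.pullback_snd (P := @IsImmersion) _ _ inferInstance
  refine ⟨⟨inferInstance, fun z => ?_⟩, RelQuasiScheme.flat_comp_baseChange f i g hX hsq⟩
  rcases hk with rfl | rfl
  · exact h1At_baseChange f i g hX hsq z (hi.1.2 _)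
  · exact RelQuasiScheme.quasiAt_baseChange f i g hX hsq z (hi.1.2 _)

end Groth.Agent.H26.H1BaseChange
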