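import Groth.Agent.H26.RelQuasi
import Groth.Agent.H26.RegImmKind
import Groth.Agent.H26.CITransNhd
import Groth.Agent.H26.FibreRegStalk
import Groth.Agent.Lib.Flat55.FibrewiseScheme
import Groth.Agent.Lib.Synt92.KRBase
import Mathlib.Algebra.Category.Ring.Constructions

/-!
# Relative quasi-regular immersions
-/

universe u

open CategoryTheory CategoryTheory.Limits AlgebraicGeometry IsLocalRing TensorProduct

set_option maxHeartbeats 1000000

namespace Groth.Agent.H26.RelQuasiScheme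

open Groth.Agent.Lib

theorem regularAt_of_weaklyRegular {X Z : Scheme.{u}} (i : Z ⟶ X) (z : Z) {D : X.Opens}
    (hD : IsAffineOpen D) (hzD : i z ∈ D) (hcl : IsClosedImmersion (i ∣_ D)) (fs : List Γ(X, D))
    (hw : RingTheory.Sequence.IsWeaklyRegular Γ(X, D) fs)
    (hker : RingHom.ker (i.app D).hom = Ideal.ofList fs) :
    RegImm.IsRegularImmersionAt .regular i z := by
  refine ⟨⟨D, hD⟩, hzD, hcl, fs, ⟨hw, ?_⟩, hker⟩
  rw [smul_eq_mul, Ideal.mul_top, ← hker]
  intro h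
  haveI : Nontrivial Γ(Z, i ⁻¹ᵁ D) := by
    refine ⟨0, 1, fun h01 => ?_⟩
    have := congrArg (Z.presheaf.germ (i ⁻¹ᵁ D) z hzD) h01
    rw [map_zero, map_one] at this
    exact zero_ne_one this
  exact RingHom.ker_ne_top (i.app D).hom h.symm

theorem ofList_eq_span {A : Type u} [CommRing A] (rs : List A) :
    Ideal.ofList rs = Ideal.span (Set.range rs.get) := by
  conv_lhs => rw [← List.ofFn_get rs]
  exact Triv.ofList_ofFn _

/-- A witness of quasi-regularity on a small affine open over a given open of the base. -/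
theorem exists_small {X Z S : Scheme.{u}} (f : X ⟶ S) (i : Z ⟶ X) {z : Z} {V : S.Opens}
    (hzV : f (i z) ∈ V) (h : RegImm.IsRegularImmersionAt .quasi i z) :
    ∃ (D : X.Opens) (_ : IsAffineOpen D), i z ∈ D ∧ D ≤ f ⁻¹ᵁ V ∧ IsClosedImmersion (i ∣_ D) ∧
      ∃ (c : ℕ) (g : Fin c → Γ(X, D)), CAlgX.IsQuasiRegular g ∧
        RingHom.ker (i.app D).hom = Ideal.span (Set.range g) := by
  obtain ⟨⟨U, hU⟩, hzU, hcl, rs, hrs, hker⟩ := h
  obtain ⟨a, haV, hza⟩ := hU.exists_basicOpen_le (V := f ⁻¹ᵁ V) ⟨i z, hzV⟩ hzU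
  haveI := hU.isLocalization_basicOpen a
  refine ⟨X.basicOpen a, hU.basicOpen a, hza, haV, Synt92.KRImm.closed_of_le i (X.basicOpen_le a) hcl,
    rs.length, fun k => algebraMap Γ(X, U) Γ(X, X.basicOpen a) (rs.get k),
    RegQuasi.quasi_localization (Submonoid.powers a) hrs, ?_⟩
  rw [Synt92.KRImm.ker_app_basicOpen i hU hcl a, hker, ofList_eq_span, Ideal.map_span, ← Set.range_comp]
  rfl

/-- Over a morphism of finite presentation flat at `i z` a relative quasi-regular immersion is regular at `z`. -/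
theorem regularAt_of_flatAt {Z X S : Scheme.{u}} (f : X ⟶ S) [LocallyOfFinitePresentation f]
    (i : Z ⟶ X) [IsImmersion i] [Flat (i ≫ f)] (z : Z) (hfl : (f.stalkMap (i z)).hom.Flat)
    (h : RegImm.IsRegularImmersionAt .quasi i z) :
    RegImm.IsRegularImmersionAt .regular i z := by
  obtain ⟨V, hV, hxV, -⟩ := exists_isAffineOpen_mem_and_subset (X := S) (x := f (i z)) (U := ⊤) trivial
  obtain ⟨U, hU, hxU, hUV, hcl, c, g, hg, hker⟩ := exists_small f i hxV h
  haveI := hcl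
  letI : Algebra Γ(S, V) Γ(X, U) := (f.appLE V U hUV).hom.toAlgebra
  haveI : Algebra.FinitePresentation Γ(S, V) Γ(X, U) :=
    HasRingHomProperty.appLE @LocallyOfFinitePresentation f inferInstance ⟨V, hV⟩ ⟨U, hU⟩ hUV
  letI := TopCat.Presheaf.algebra_section_stalk S.presheaf (⟨f (i z), hxV⟩ : V)
  letI := TopCat.Presheaf.algebra_section_stalk X.presheaf (⟨i z, hxU⟩ : U)
  haveI := hV.isLocalization_stalk ⟨f (i z), hxV⟩
  haveI := hU.isLocalization_stalk ⟨i z, hxU⟩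
  let A' := S.presheaf.stalk (f (i z))
  let C' := X.presheaf.stalk (i z)
  letI : Algebra A' C' := (f.stalkMap (i z)).hom.toAlgebra
  haveI : IsLocalHom (algebraMap A' C') := ⟨fun a ha ↦ isUnit_of_map_unit (f.stalkMap (i z)).hom a ha⟩
  haveI : Module.Flat A' C' := RingHom.flat_algebraMap_iff.mp hfl
  let P := (hU.primeIdealOf ⟨i z, hxU⟩).asIdeal
  haveI : IsLocalization.AtPrime C' P := hU.isLocalization_stalk ⟨i z, hxU⟩
  set I := RingHom.ker (i.app U).hom
  have hIker : RingHom.ker (i.stalkMap z).hom = I.map (algebraMap Γ(X, U) C') :=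
    RegImmKind.ker_stalkMap i hU z hxU
  haveI hfq : Module.Flat A' (C' ⧸ I.map (algebraMap Γ(X, U) C')) := by
    rw [← RingHom.flat_algebraMap_iff, ← hIker]
    let e := RingHom.quotientKerEquivOfSurjective (i.stalkMap_surjective z)
    refine (RingHom.Flat.comp_iff_of_bijective_left (g := e.toRingHom) e.bijective).1 ?_
    have h2 := Flat.stalkMap (i ≫ f) z
    rw [Scheme.Hom.stalkMap_comp] at h2
    exact h2
  let g' : Fin c → C' := fun k => algebraMap Γ(X, U) C' (g k)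
  have hspan : Ideal.span (Set.range g') = I.map (algebraMap Γ(X, U) C') := by
    rw [hker, Ideal.map_span, ← Set.range_comp]; rfl
  have hflat : Module.Flat A' (C' ⧸ Ideal.span (Set.range g')) := by rw [hspan]; exact hfq
  let M := (maximalIdeal A').map (algebraMap A' C')
  have hqF : CAlgX.IsQuasiRegular fun k => Ideal.Quotient.mk M (g' k) :=
    RelQuasi.quasi_quotient (maximalIdeal A') g' hflat (RegQuasi.quasi_localization P.primeCompl hg)
  haveI : IsNoetherianRing (C' ⧸ M) := by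
    haveI := FibreRegStalk.isNoetherianRing_fiberStalk f (i z)
    exact isNoetherianRing_of_ringEquiv _ (H46.FiberStalk.quotientEquiv f (i z)).symm
  haveI : Nontrivial (C' ⧸ M) := Ideal.Quotient.nontrivial_iff.mpr
    (IsLocalRing.map_maximalIdeal_lt_top _).ne
  haveI : IsLocalRing (C' ⧸ M) := .of_surjective' (Ideal.Quotient.mk _) Ideal.Quotient.mk_surjective
  have hmI : I.map (algebraMap Γ(X, U) C') ≤ maximalIdeal C' :=
    hIker ▸ IsLocalRing.le_maximalIdeal (RingHom.ker_ne_top _)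
  have hw := RelQuasi.weaklyRegular_of_quasi _ (fun k => by
    rw [← IsLocalRing.map_maximalIdeal_of_surjective (f := Ideal.Quotient.mk M) Ideal.Quotient.mk_surjective]
    exact Ideal.mem_map_of_mem _ (hmI (hspan.le (Ideal.subset_span ⟨k, rfl⟩)))) hqF
  have hIP : I ≤ P := fun x hx => by
    rw [← IsLocalization.AtPrime.to_map_mem_maximal_iff C' P]
    exact hmI (Ideal.mem_map_of_mem _ hx)
  obtain ⟨a, ha, fs, hfs⟩ := CITransNhd.exists_nhd_of_fibre (A' := A') (C' := C')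
    (hV.primeIdealOf ⟨f (i z), hxV⟩).asIdeal P
    (fun r => Flat55.FibrewiseScheme.germ_appLE f hUV hxU r)
    I (hker ▸ Submodule.fg_span (Set.finite_range g)) hIP _ hw
    (by rw [Triv.ofList_ofFn, ← hspan, Ideal.map_span, ← Set.range_comp]; rfl)
  haveI := hU.isLocalization_basicOpen a
  obtain ⟨hwD, hI'⟩ := hfs Γ(X, X.basicOpen a)
  refine regularAt_of_weaklyRegular i z (hU.basicOpen a) ?_
    (Synt92.KRImm.closed_of_le i (X.basicOpen_le a) hcl) _ hwD ?_
  · rw [X.mem_basicOpen a (i z) hxU]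
    exact IsLocalization.map_units C' (⟨a, ha⟩ : P.primeCompl)
  · rw [Synt92.KRImm.ker_app_basicOpen i hU hcl a]
    exact hI'

/-- Over a flat morphism of finite presentation a relative quasi-regular immersion is regular. -/
theorem regularAt {Z X S : Scheme.{u}} (f : X ⟶ S) [Flat f] [LocallyOfFinitePresentation f]
    (i : Z ⟶ X) [IsImmersion i] [Flat (i ≫ f)] (z : Z) (h : RegImm.IsRegularImmersionAt .quasi i z) :
    RegImm.IsRegularImmersionAt .regular i z :=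
  regularAt_of_flatAt f i z (Flat.stalkMap f (i z)) h

theorem flat_comp_baseChange {Z X S Z' X' S' : Scheme.{u}} (f : X ⟶ S) (i : Z ⟶ X) [Flat (i ≫ f)]
    (g : S' ⟶ S) {gX : X' ⟶ X} {f' : X' ⟶ S'} (hX : IsPullback gX f' f g)
    {g' : Z' ⟶ Z} {i' : Z' ⟶ X'} (hsq : IsPullback g' i' i gX) : Flat (i' ≫ f') :=
  MorphismProperty.of_isPullback (P := @Flat) (hsq.paste_vert hX) inferInstance

/-- The kernel over affine opens of a base change of a closed immersion. -/
theorem ker_app_baseChange {X Y X' Y' : Scheme.{u}} {i : Y ⟶ X} {g : X' ⟶ X} {i' : Y' ⟶ X'}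
    {g' : Y' ⟶ Y} (hsq : IsPullback g' i' i g) {U : X.Opens} (hU : IsAffineOpen U)
    (hcl : IsClosedImmersion (i ∣_ U)) {U' : X'.Opens} (hU' : IsAffineOpen U') (hle : U' ≤ g ⁻¹ᵁ U) :
    IsClosedImmersion (i' ∣_ U') ∧
      RingHom.ker (i'.app U').hom = (RingHom.ker (i.app U).hom).map (g.appLE U U' hle).hom := by
  have hW : i' ⁻¹ᵁ U' = g' ⁻¹ᵁ (i ⁻¹ᵁ U) ⊓ i' ⁻¹ᵁ U' := by
    refine (inf_eq_right.2 fun y hy => ?_).symm
    change (g' ≫ i) y ∈ U
    rw [hsq.w]
    exact hle hy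
  have hcl' : IsClosedImmersion (i' ∣_ U') := by
    have hP := Scheme.Hom.isPullback_resLE hsq (hle : U' ≤ g ⁻¹ᵁ U) (le_refl (i ⁻¹ᵁ U)) hW
    rw [← Scheme.Hom.resLE_eq_morphismRestrict]
    refine MorphismProperty.of_isPullback (P := @IsClosedImmersion) hP ?_
    rw [Scheme.Hom.resLE_eq_morphismRestrict]
    exact hcl
  obtain ⟨hWa, hsurj⟩ := Synt92.KRImm.isAffine_preimage i hU hcl
  have hpo := (isIso_pushoutSection_iff hsq hle le_rfl hW).1
    (isIso_pushoutSection_of_isAffineOpen hsq hle le_rfl hW hU hU' hWa)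
  refine ⟨hcl', ?_⟩
  set J := (RingHom.ker (i.app U).hom).map (g.appLE U U' hle).hom
  refine le_antisymm ?_ ?_
  · let Q : CommRingCat.{u} := CommRingCat.of (Γ(X', U') ⧸ J)
    have hle' : RingHom.ker (i.app U).hom ≤ RingHom.ker ((Ideal.Quotient.mk J).comp (g.appLE U U' hle).hom) :=
      fun a ha => Ideal.Quotient.eq_zero_iff_mem.2 (Ideal.mem_map_of_mem _ ha)
    let θ : Γ(Y, i ⁻¹ᵁ U) ⟶ Q := CommRingCat.ofHom (RingHom.liftOfSurjective (i.app U).hom hsurj ⟨_, hle'⟩)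
    let μ : Γ(X', U') ⟶ Q := CommRingCat.ofHom (Ideal.Quotient.mk J)
    have hw : i.appLE U (i ⁻¹ᵁ U) le_rfl ≫ θ = g.appLE U U' hle ≫ μ := by
      rw [← Scheme.Hom.app_eq_appLE]
      ext a
      exact RingHom.liftOfRightInverse_comp_apply _ _ (Function.rightInverse_surjInv hsurj) ⟨_, hle'⟩ a
    intro x hx
    have h1 := congrArg (fun φ : Γ(X', U') ⟶ Q => φ.hom x) (hpo.inr_desc θ μ hw)
    rw [Scheme.Hom.app_eq_appLE] at hx
    have h2 : μ.hom x = 0 := by
      refine h1.symm.trans ?_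
      change (hpo.desc θ μ hw).hom ((i'.appLE U' (i' ⁻¹ᵁ U') _).hom x) = 0
      rw [RingHom.mem_ker.1 hx, map_zero]
    exact Ideal.Quotient.eq_zero_iff_mem.1 h2
  · refine Ideal.map_le_iff_le_comap.2 fun a ha => ?_
    have h1 := congrArg (fun φ : Γ(X, U) ⟶ Γ(Y', i' ⁻¹ᵁ U') => φ.hom a) hpo.w
    rw [Ideal.mem_comap, RingHom.mem_ker, Scheme.Hom.app_eq_appLE]
    refine h1.symm.trans ?_
    change (g'.appLE (i ⁻¹ᵁ U) (i' ⁻¹ᵁ U') _).hom ((i.appLE U (i ⁻¹ᵁ U) le_rfl).hom a) = 0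
    rw [← Scheme.Hom.app_eq_appLE, RingHom.mem_ker.1 ha, map_zero]

/-- Relative quasi-regular immersions are stable under base change. -/
theorem quasiAt_baseChange {Z X S Z' X' S' : Scheme.{u}} (f : X ⟶ S) (i : Z ⟶ X) [Flat (i ≫ f)]
    (g : S' ⟶ S) {gX : X' ⟶ X} {f' : X' ⟶ S'} (hX : IsPullback gX f' f g)
    {g' : Z' ⟶ Z} {i' : Z' ⟶ X'} (hsq : IsPullback g' i' i gX) (z : Z')
    (h : RegImm.IsRegularImmersionAt .quasi i (g' z)) : RegImm.IsRegularImmersionAt .quasi i' z := by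
  obtain ⟨V, hV, hxV, -⟩ := exists_isAffineOpen_mem_and_subset (X := S) (x := f (i (g' z))) (U := ⊤) trivial
  obtain ⟨D, hD, hxD, hDV, hcl, c, gs, hgs, hker⟩ := exists_small f i hxV h
  have hgz : gX (i' z) = i (g' z) := by
    rw [← Scheme.Hom.comp_apply, ← hsq.w, Scheme.Hom.comp_apply]
  have hzV' : g (f' (i' z)) ∈ V := by
    rw [← Scheme.Hom.comp_apply, ← hX.w, Scheme.Hom.comp_apply, hgz]
    exact hxV
  obtain ⟨V', hV', hzV'', hle⟩ := exists_isAffineOpen_mem_and_subset (x := f' (i' z)) (U := g ⁻¹ᵁ V) hzV'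
  have hgle : V' ≤ g ⁻¹ᵁ V := fun x hx => hle hx
  let D' := gX ⁻¹ᵁ D ⊓ f' ⁻¹ᵁ V'
  have hzD' : i' z ∈ D' := ⟨by show gX (i' z) ∈ D; rw [hgz]; exact hxD, hzV''⟩
  haveI : IsAffine (D : Scheme.{u}) := hD
  haveI : IsAffine (V : Scheme.{u}) := hV
  haveI : IsAffine (V' : Scheme.{u}) := hV'
  have hD' : IsAffineOpen D' :=
    .of_isIso (Scheme.Hom.isPullback_resLE hX hgle hDV (rfl : D' = _)).isoPullback.hom
  have hpo := (isIso_pushoutSection_iff hX hgle hDV (rfl : D' = _)).1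
    (isIso_pushoutSection_of_isAffineOpen hX hgle hDV rfl hV hV' hD)
  obtain ⟨hcl', hker'⟩ := ker_app_baseChange hsq hD hcl hD' (inf_le_left : D' ≤ gX ⁻¹ᵁ D)
  -- flatness of the quotient
  obtain ⟨hWa, hsurj⟩ := Synt92.KRImm.isAffine_preimage i hD hcl
  letI : Algebra Γ(S, V) Γ(X, D) := (f.appLE V D hDV).hom.toAlgebra
  haveI hflat : Module.Flat Γ(S, V) (Γ(X, D) ⧸ Ideal.span (Set.range gs)) := by
    rw [← RingHom.flat_algebraMap_iff, ← hker]
    let e := RingHom.quotientKerEquivOfSurjective hsurj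
    refine (RingHom.Flat.comp_iff_of_bijective_left (g := e.toRingHom) e.bijective).1 ?_
    have h2 := (i ≫ f).flat_appLE hV hWa (show i ⁻¹ᵁ D ≤ (i ≫ f) ⁻¹ᵁ V from fun x hx => hDV hx)
    rw [show e.toRingHom.comp (algebraMap Γ(S, V) (Γ(X, D) ⧸ RingHom.ker (i.app D).hom)) =
      ((i ≫ f).appLE V (i ⁻¹ᵁ D) (fun x hx => hDV hx)).hom from ?_]
    · exact h2
    · rw [← Scheme.Hom.appLE_comp_appLE i f V D (i ⁻¹ᵁ D) hDV le_rfl, ← Scheme.Hom.app_eq_appLE]
      exact RingHom.ext fun r => rfl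
  letI : Algebra Γ(S, V) Γ(S', V') := (g.appLE V V' hgle).hom.toAlgebra
  have hb := QuasiOps.baseChange Γ(S, V) Γ(X, D) Γ(S', V') gs hgs
  letI : Algebra Γ(X, D) Γ(X', D') := (gX.appLE D D' inf_le_left).hom.toAlgebra
  letI : Algebra Γ(S', V') Γ(X', D') := (f'.appLE V' D' inf_le_right).hom.toAlgebra
  letI : Algebra Γ(S, V) Γ(X', D') := ((algebraMap Γ(X, D) Γ(X', D')).comp (algebraMap Γ(S, V) Γ(X, D))).toAlgebra
  haveI : IsScalarTower Γ(S, V) Γ(X, D) Γ(X', D') := .of_algebraMap_eq fun _ => rfl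
  haveI : IsScalarTower Γ(S, V) Γ(S', V') Γ(X', D') :=
    .of_algebraMap_eq' (congrArg CommRingCat.Hom.hom hpo.w)
  haveI : Algebra.IsPushout Γ(S, V) Γ(S', V') Γ(X, D) Γ(X', D') :=
    CommRingCat.isPushout_iff_isPushout.mp hpo.flip
  let e := (Algebra.IsPushout.equiv Γ(S, V) Γ(S', V') Γ(X, D) Γ(X', D')).toRingEquiv
  have hq' := RelQuasi.quasi_ringEquiv e hb
  have he : ∀ x, e ((1 : Γ(S', V')) ⊗ₜ[Γ(S, V)] x) = algebraMap Γ(X, D) Γ(X', D') x := fun x => by
    show Algebra.IsPushout.equiv Γ(S, V) Γ(S', V') Γ(X, D) Γ(X', D') _ = _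
    rw [Algebra.IsPushout.equiv_tmul, map_one, one_mul]
  simp only [he] at hq'
  let l := List.ofFn fun k => algebraMap Γ(X, D) Γ(X', D') (gs k)
  refine ⟨⟨D', hD'⟩, hzD', hcl', l, ?_, ?_⟩
  · show CAlgX.IsQuasiRegular l.get
    have key : ∀ {m n : ℕ} (h : m = n) (F : Fin n → Γ(X', D')), CAlgX.IsQuasiRegular F →
        CAlgX.IsQuasiRegular fun k => F (Fin.cast h k) := by
      rintro m n rfl F hF
      exact hF
    convert key (List.length_ofFn (f := fun k => algebraMap Γ(X, D) Γ(X', D') (gs k))) _ hq' using 1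
    funext k
    exact List.get_ofFn _ k
  · rw [Triv.ofList_ofFn, hker', hker, Ideal.map_span, ← Set.range_comp]
    rfl

end Groth.Agent.H26.RelQuasiScheme
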