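import Groth.Agent.H26.H1Unslice
import Groth.Agent.H26.RelQuasiScheme
import Groth.Agent.H19.FlatLocus.Scheme

/-!
# Relative `H₁`-regular immersions
-/

universe u

open CategoryTheory CategoryTheory.Limits AlgebraicGeometry IsLocalRing CAlgX

set_option maxHeartbeats 1000000

namespace Groth.Agent.H26.H1Scheme

open Groth.Agent.Lib Triv

/-- Vanishing of the first Koszul homology survives localisation. -/
theorem h1_localization {A B : Type u} [CommRing A] [CommRing B] [Algebra A B] (M : Submonoid A)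
    [IsLocalization M B] {n : ℕ} {f : Fin n → A} (h : IsH1Regular f) :
    IsH1Regular fun k => algebraMap A B (f k) := by
  rw [H1Quasi.isH1Regular_iff] at h ⊢
  intro a ha
  obtain ⟨s, hs⟩ := IsLocalization.exist_integer_multiples_of_finite M a
  choose b hb using hs
  have hb' : ∀ i, algebraMap A B (b i) = algebraMap A B s * a i := fun i => by
    rw [← Algebra.smul_def]
    exact hb i
  have h0 : algebraMap A B (∑ i, b i * f i) = algebraMap A B 0 := by
    simp only [map_sum, map_mul, hb', map_zero, mul_assoc]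
    rw [← Finset.mul_sum, ha, mul_zero]
  obtain ⟨t, ht⟩ := IsLocalization.exists_of_eq (M := M) h0
  rw [mul_zero, Finset.mul_sum] at ht
  obtain ⟨d, hd⟩ := h (fun i => t * b i) (by simpa [mul_assoc] using ht)
  obtain ⟨w, hw⟩ := IsLocalization.map_units B (t * s)
  refine ⟨fun i j => ↑w⁻¹ * algebraMap A B (d i j), fun i => w.isUnit.mul_left_cancel ?_⟩
  have h1 := congrArg (algebraMap A B) (hd i)
  simp only [map_sum, map_mul, map_sub, hb', smul_eq_mul] at h1
  rw [hw, Submonoid.coe_mul, map_mul, mul_assoc, h1, ← map_mul, ← Submonoid.coe_mul, ← hw,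
    Finset.mul_sum]
  refine Finset.sum_congr rfl fun j _ => ?_
  simp only [smul_eq_mul, mul_sub, ← mul_assoc]
  simp [mul_comm (w : B), mul_assoc]

/-- A morphism of finite presentation is flat along a relative `H₁`-regular immersion. -/
theorem flatAt {Z X S : Scheme.{u}} (f : X ⟶ S) [LocallyOfFinitePresentation f] (i : Z ⟶ X)
    [IsImmersion i] [Flat (i ≫ f)] (z : Z) (h : RegImm.IsRegularImmersionAt .h1 i z) :
    (f.stalkMap (i z)).hom.Flat := by
  obtain ⟨⟨U, hU⟩, hxU, hcl, rs, hrs, hker⟩ := h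
  obtain ⟨V, hV, hxV, -⟩ := exists_isAffineOpen_mem_and_subset (X := S) (x := f (i z)) (U := ⊤) trivial
  obtain ⟨D, hD, hxD, hDV⟩ := exists_isAffineOpen_mem_and_subset (X := X) (x := i z) (U := f ⁻¹ᵁ V) hxV
  letI : Algebra Γ(S, V) Γ(X, D) := (f.appLE V D hDV).hom.toAlgebra
  haveI : Algebra.FinitePresentation Γ(S, V) Γ(X, D) :=
    HasRingHomProperty.appLE @LocallyOfFinitePresentation f inferInstance ⟨V, hV⟩ ⟨D, hD⟩ hDV
  letI := TopCat.Presheaf.algebra_section_stalk S.presheaf (⟨f (i z), hxV⟩ : V)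
  letI algD := TopCat.Presheaf.algebra_section_stalk X.presheaf (⟨i z, hxD⟩ : D)
  letI algU := TopCat.Presheaf.algebra_section_stalk X.presheaf (⟨i z, hxU⟩ : U)
  haveI := hV.isLocalization_stalk ⟨f (i z), hxV⟩
  haveI := hD.isLocalization_stalk ⟨i z, hxD⟩
  haveI := hU.isLocalization_stalk ⟨i z, hxU⟩
  let A' := S.presheaf.stalk (f (i z))
  let C' := X.presheaf.stalk (i z)
  letI : Algebra A' C' := (f.stalkMap (i z)).hom.toAlgebra
  haveI : IsLocalHom (algebraMap A' C') := ⟨fun a ha ↦ isUnit_of_map_unit (f.stalkMap (i z)).hom a ha⟩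
  let x : Fin rs.length → C' := fun k => algebraMap Γ(X, U) C' (rs.get k)
  have hx : IsH1Regular x := h1_localization (hU.primeIdealOf ⟨i z, hxU⟩).asIdeal.primeCompl hrs
  have hspan : RingHom.ker (i.stalkMap z).hom = Ideal.span (Set.range x) := by
    rw [RegImmKind.ker_stalkMap i hU z hxU, hker, RelQuasiScheme.ofList_eq_span, Ideal.map_span,
      ← Set.range_comp]
    rfl
  haveI : Module.Flat A' (C' ⧸ Ideal.span (Set.range x)) := by
    rw [← RingHom.flat_algebraMap_iff, ← hspan]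
    let e := RingHom.quotientKerEquivOfSurjective (i.stalkMap_surjective z)
    refine (RingHom.Flat.comp_iff_of_bijective_left (g := e.toRingHom) e.bijective).1 ?_
    have h2 := Flat.stalkMap (i ≫ f) z
    rw [Scheme.Hom.stalkMap_comp] at h2
    exact h2
  show (algebraMap A' C').Flat
  rw [RingHom.flat_algebraMap_iff]
  exact H1Unslice.flat_of_h1 (R := Γ(S, V)) (S := Γ(X, D)) (A' := A') (C' := C')
    (hV.primeIdealOf ⟨f (i z), hxV⟩).asIdeal (hD.primeIdealOf ⟨i z, hxD⟩).asIdeal
    (fun r => Flat55.FibrewiseScheme.germ_appLE f hDV hxD r) x hx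
    (fun k => IsLocalRing.le_maximalIdeal (RingHom.ker_ne_top _) (hspan.ge (Ideal.subset_span ⟨k, rfl⟩)))

theorem quasiAt {Z X : Scheme.{u}} {i : Z ⟶ X} {z : Z} (h : RegImm.IsRegularImmersionAt .h1 i z) :
    RegImm.IsRegularImmersionAt .quasi i z := by
  obtain ⟨U, hzU, hcl, rs, hrs, hker⟩ := h
  exact ⟨U, hzU, hcl, rs, H1Quasi.isQuasiRegular hrs, hker⟩

theorem flat_stalkMap_of_opens {X S : Scheme.{u}} (f : X ⟶ S) (U : X.Opens) (x : U)
    [h : Flat (U.ι ≫ f)] : (f.stalkMap x.1).hom.Flat := by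
  have h2 := Flat.stalkMap (U.ι ≫ f) x
  rw [Scheme.Hom.stalkMap_comp] at h2
  exact (RingHom.Flat.comp_iff_of_bijective_left (g := (U.ι.stalkMap x).hom)
    (ConcreteCategory.bijective_of_isIso (U.ι.stalkMap x))).1 h2

theorem flat_opens_comp {X S : Scheme.{u}} (f : X ⟶ S) (U : X.Opens)
    (h : ∀ x ∈ U, (f.stalkMap x).hom.Flat) : Flat (U.ι ≫ f) := by
  rw [Flat.iff_flat_stalkMap]
  intro x
  rw [Scheme.Hom.stalkMap_comp]
  exact (RingHom.Flat.comp_iff_of_bijective_left (g := (U.ι.stalkMap x).hom)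
    (ConcreteCategory.bijective_of_isIso (U.ι.stalkMap x))).2 (h x.1 x.2)

end Groth.Agent.H26.H1Scheme
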