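import Groth.Agent.H26.H1Quasi
import Groth.Agent.Lib.RelDiv.ExactFlat
import Mathlib.LinearAlgebra.Matrix.NonsingularInverse

/-!
# Operations on quasi-regular sequences
-/

universe u

open MvPolynomial TensorProduct CAlgX

set_option maxHeartbeats 400000

namespace Groth.Agent.H26.QuasiOps

open Triv H1Quasi
open Groth.Agent.Lib.Regular45.QuasiReg (eval_mem_mul_pow exists_coeff_mem of_eval_eq_zero)

variable {A : Type u} [CommRing A]

theorem span_eq {n : ℕ} (f f' : Fin n → A) (hf : IsQuasiRegular f)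
    (h : Ideal.span (Set.range f') = Ideal.span (Set.range f)) : IsQuasiRegular f' := by
  classical
  choose M hM using fun i => Ideal.mem_span_range_iff_exists_fun.mp
    (show f' i ∈ Ideal.span (Set.range f) from h ▸ Ideal.subset_span ⟨i, rfl⟩)
  choose N hN using fun i => Ideal.mem_span_range_iff_exists_fun.mp
    (show f i ∈ Ideal.span (Set.range f') from h.symm ▸ Ideal.subset_span ⟨i, rfl⟩)
  let π := Ideal.Quotient.mk (Ideal.span (Set.range f))
  have hNM : (Matrix.of N).map π * (Matrix.of M).map π = 1 := by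
    rw [← Matrix.map_mul]
    ext i j
    have hlin : (∑ k, C ((Matrix.of N * Matrix.of M) i k) * X k - X i :
        MvPolynomial (Fin n) A).IsHomogeneous 1 :=
      (IsHomogeneous.sum _ _ _ fun k _ => isHomogeneous_C_mul_X _ k).sub (isHomogeneous_X A i)
    have hval : eval f (∑ k, C ((Matrix.of N * Matrix.of M) i k) * X k - X i) = 0 := by
      simp only [map_sub, map_sum, map_mul, eval_C, eval_X, Matrix.mul_apply, Matrix.of_apply,
        Finset.sum_mul]
      rw [Finset.sum_comm, sub_eq_zero]
      conv_rhs => rw [← hN i]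
      refine Finset.sum_congr rfl fun k _ => ?_
      rw [← hM k, Finset.mul_sum]
      exact Finset.sum_congr rfl fun l _ => by ring
    have := hf 1 _ hlin (by rw [hval]; exact zero_mem _) (Finsupp.single j 1)
    simp only [coeff_sub, coeff_sum, coeff_C_mul, coeff_X', Finsupp.single_left_inj one_ne_zero,
      mul_ite, mul_one, mul_zero, Finset.sum_ite_eq', Finset.mem_univ, if_true] at this
    rw [← Ideal.Quotient.eq_zero_iff_mem, map_sub, sub_eq_zero] at this
    rw [Matrix.map_apply, Matrix.one_apply, this]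
    split_ifs <;> simp
  have hMN := mul_eq_one_comm.mp hNM
  intro k P hP he d
  let σ : Fin n → MvPolynomial (Fin n) A := fun i => ∑ j, C (M i j) * X j
  let τ : Fin n → MvPolynomial (Fin n) (A ⧸ Ideal.span (Set.range f)) :=
    fun i => ∑ j, C (π (N i j)) * X j
  have hσ : (bind₁ σ P).IsHomogeneous k := by
    have := hP.aeval (g := σ) (n := 1) fun i => IsHomogeneous.sum _ _ _ fun j _ => isHomogeneous_C_mul_X _ j
    rwa [one_mul] at this
  have hev : eval f (bind₁ σ P) = eval f' P := by
    show aeval f (bind₁ σ P) = aeval f' P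
    rw [aeval_bind₁]
    refine congrArg (fun s => aeval s P) (funext fun i => ?_)
    simp [σ, hM i]
  rw [h] at he ⊢
  have hcoef := hf k _ hσ (by rw [hev]; exact he)
  have h0 : MvPolynomial.map π (bind₁ σ P) = 0 := MvPolynomial.ext _ _ fun d => by
    rw [coeff_map, coeff_zero]
    exact Ideal.Quotient.eq_zero_iff_mem.mpr (hcoef d)
  have hid : bind₁ τ (MvPolynomial.map π (bind₁ σ P)) = MvPolynomial.map π P := by
    rw [map_bind₁, bind₁_bind₁]
    refine Eq.trans (congrArg (fun s => bind₁ s (MvPolynomial.map π P)) (funext fun i => ?_))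
      (show bind₁ X (MvPolynomial.map π P) = MvPolynomial.map π P by rw [bind₁_X_left]; rfl)
    simp only [σ, map_sum, map_mul, map_C, map_X, bind₁_C_right, bind₁_X_right, τ, Finset.mul_sum,
      ← mul_assoc]
    simp only [← C_mul]
    rw [Finset.sum_comm]
    have hrow : ∀ j, ∑ l, π (M i l) * π (N l j) = (1 : Matrix (Fin n) (Fin n) _) i j := fun j => by
      rw [← hMN]; rfl
    rw [Finset.sum_congr rfl fun j _ =>
      (show ∑ l, C (π (M i l) * π (N l j)) * X j =
          C ((1 : Matrix (Fin n) (Fin n) (A ⧸ Ideal.span (Set.range f))) i j) *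
            (X j : MvPolynomial (Fin n) (A ⧸ Ideal.span (Set.range f))) by
        rw [← Finset.sum_mul, ← map_sum, hrow])]
    rw [Finset.sum_eq_single i (fun j _ hj => by rw [Matrix.one_apply_ne (Ne.symm hj), map_zero, zero_mul])
      (by simp), Matrix.one_apply_eq, map_one, one_mul]
  rw [← Ideal.Quotient.eq_zero_iff_mem, ← coeff_map, ← hid, h0, map_zero, coeff_zero]

theorem eval_sum_X_mul {c : ℕ} {g : Fin c → A} {T : Fin c → MvPolynomial (Fin c) A}
    (h : IsTriv g T) : eval g (∑ k, X k * T k) = 0 := by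
  have h0 := IsTriv.sum_eq_zero (isTriv_map (aeval g).toLinearMap h)
  rw [map_sum]
  refine Eq.trans (Finset.sum_congr rfl fun k _ => ?_) h0
  rw [map_mul, eval_X]
  rfl

theorem inf_pow_le (I : Ideal A) {c : ℕ} (g : Fin c → A)
    (hg : IsH1Regular fun j => Ideal.Quotient.mk I (g j)) (k : ℕ) :
    I ⊓ (I ⊔ Ideal.span (Set.range g)) ^ (k + 1) ≤
      I * (I ⊔ Ideal.span (Set.range g)) ^ k := by
  classical
  set J := Ideal.span (Set.range g)
  have hsup : (I ⊔ J) ^ (k + 1) ≤ I * (I ⊔ J) ^ k ⊔ J ^ (k + 1) := by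
    clear hg
    induction k with
    | zero => simp
    | succ k ih =>
      rw [pow_succ (I ⊔ J) (k + 1)]
      refine (Ideal.mul_mono_left ih).trans ?_
      rw [Ideal.sup_mul, mul_assoc, ← pow_succ, Ideal.mul_sup]
      refine sup_le le_sup_left (sup_le ?_ ?_)
      · rw [mul_comm]
        exact le_sup_of_le_left (Ideal.mul_mono_right (Ideal.pow_right_mono le_sup_right _))
      · rw [← pow_succ]; exact le_sup_right
  rintro x ⟨hxI, hx⟩
  obtain ⟨y, hy, z, hz, rfl⟩ := Submodule.mem_sup.mp (hsup hx)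
  refine add_mem hy ?_
  have hzI : z ∈ I := by simpa using sub_mem hxI (Ideal.mul_le_left hy)
  obtain ⟨Q, hQ, rfl⟩ := (Ideal.mem_span_pow_iff_exists_isHomogeneous g z).mp hz
  let π := Ideal.Quotient.mk I
  have he : eval (fun j => π (g j)) (MvPolynomial.map π Q) = 0 := by
    rw [eval_map, ← Function.comp_def, ← eval₂_comp]
    exact Ideal.Quotient.eq_zero_iff_mem.mpr hzI
  obtain ⟨T, ⟨a, ha⟩, hT⟩ := exists_triv_of_eval_eq_zero hg (k + 1) _ (hQ.map π) he
  choose a' ha' using fun i j => map_surjective π Ideal.Quotient.mk_surjective (a i j)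
  let W := homogeneousComponent (k + 1) (∑ i, X i * ∑ j, g j • (a' i j - a' j i))
  have hWe : eval g W = 0 := by
    have hW : W = ∑ i, X i * homogeneousComponent k (∑ j, g j • (a' i j - a' j i)) := by
      simp only [W, map_sum]
      refine Finset.sum_congr rfl fun i _ => ?_
      ext d
      rw [coeff_X_mul', coeff_homogeneousComponent]
      by_cases hi : i ∈ d.support
      · have hle : Finsupp.single i 1 ≤ d := Finsupp.single_le_iff.mpr
          (Nat.one_le_iff_ne_zero.mpr (Finsupp.mem_support_iff.mp hi))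
        have := congrArg Finsupp.degree (tsub_add_cancel_of_le hle)
        rw [map_add, Finsupp.degree_single] at this
        rw [if_pos hi, coeff_X_mul', if_pos hi, ← map_sum, coeff_homogeneousComponent]
        by_cases hd : d.degree = k + 1
        · rw [if_pos hd, if_pos (by omega)]
        · rw [if_neg hd, if_neg (by omega)]
      · rw [if_neg hi, coeff_X_mul', if_neg hi, ite_self]
    rw [hW]
    exact eval_sum_X_mul ⟨fun i j => homogeneousComponent k (a' i j), fun i => by simp⟩
  have hc : ∀ d, (Q - W).coeff d ∈ I := fun d => by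
    rw [← Ideal.Quotient.eq_zero_iff_mem, ← coeff_map, map_sub, sub_eq_zero.mpr, coeff_zero]
    ext d
    rw [coeff_map π W, coeff_homogeneousComponent]
    split_ifs with hd
    · rw [← coeff_map, hT]
      simp [ha, ha', π, smul_eq_C_mul]
    · rw [map_zero, (hQ.map π).coeff_eq_zero hd]
  have := eval_mem_mul_pow g I (hQ.sub (homogeneousComponent_isHomogeneous _ _)) hc
  rw [map_sub, hWe, sub_zero] at this
  refine Ideal.mul_mono_right ?_ this
  exact (Ideal.pow_le_pow_right k.le_succ).trans (Ideal.pow_right_mono le_sup_right k)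

theorem inf_sq_le (I : Ideal A) {c : ℕ} (g : Fin c → A)
    (hg : IsH1Regular fun j => Ideal.Quotient.mk I (g j)) :
    I ⊓ (I ⊔ Ideal.span (Set.range g)) ^ 2 ≤ I * (I ⊔ Ideal.span (Set.range g)) := by
  simpa using inf_pow_le I g hg 1

theorem span_range_append {n m : ℕ} (f : Fin n → A) (g : Fin m → A) :
    Ideal.span (Set.range (Fin.append f g)) = Ideal.span (Set.range f) ⊔ Ideal.span (Set.range g) := by
  rw [← Ideal.span_union]
  congr 1
  ext x
  constructor
  · rintro ⟨y, rfl⟩
    induction y using Fin.addCases with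
    | left i => exact Or.inl ⟨i, (Fin.append_left f g i).symm⟩
    | right i => exact Or.inr ⟨i, (Fin.append_right f g i).symm⟩
  · rintro (⟨i, rfl⟩ | ⟨i, rfl⟩)
    · exact ⟨_, Fin.append_left f g i⟩
    · exact ⟨_, Fin.append_right f g i⟩

theorem pow_inf_pow_le {n m : ℕ} (f : Fin n → A) (g : Fin m → A) (hf : IsQuasiRegular f)
    (hg : IsH1Regular fun j => Ideal.Quotient.mk (Ideal.span (Set.range f)) (g j)) :
    ∀ p N : ℕ, Ideal.span (Set.range f) ^ p ⊓ Ideal.span (Set.range (Fin.append f g)) ^ N ≤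
      Ideal.span (Set.range f) ^ p * Ideal.span (Set.range (Fin.append f g)) ^ (N - p) := by
  intro p
  induction p with
  | zero => intro N; simp
  | succ p ih =>
    rintro N x ⟨hxI, hxN⟩
    by_cases hN : N ≤ p + 1
    · rw [Nat.sub_eq_zero_of_le hN, pow_zero, mul_one]; exact hxI
    obtain ⟨k, hk⟩ : ∃ k, N - p = k + 1 := ⟨N - p - 1, by omega⟩
    have hx := ih N ⟨Ideal.pow_le_pow_right p.le_succ hxI, hxN⟩
    rw [mul_comm] at hx
    obtain ⟨Q, hQ, rfl, hQc⟩ := exists_coeff_mem f _ hx
    have hmem := eval_mem_mul_pow f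
      (Ideal.span (Set.range f) * Ideal.span (Set.range (Fin.append f g)) ^ k) hQ fun d => by
        have h1 := hf p Q hQ hxI d
        have h2 := hQc d
        rw [hk, span_range_append] at h2
        rw [span_range_append]
        exact inf_pow_le _ g hg k ⟨h1, h2⟩
    rw [show N - (p + 1) = k by omega, pow_succ']
    rw [mul_assoc, mul_comm (_ ^ k), ← mul_assoc] at hmem
    exact hmem

theorem append {n m : ℕ} (f : Fin n → A) (g : Fin m → A) (hf : IsQuasiRegular f)
    (hg : IsH1Regular fun j => Ideal.Quotient.mk (Ideal.span (Set.range f)) (g j)) :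
    IsQuasiRegular (Fin.append f g) := by
  classical
  set I := Ideal.span (Set.range f)
  set J := Ideal.span (Set.range (Fin.append f g))
  have hIJ : I ≤ J := by rw [show J = _ from span_range_append f g]; exact le_sup_left
  intro N P hP he
  let μ : (Fin (n + m) →₀ ℕ) → Fin n →₀ ℕ := fun d =>
    Finsupp.equivFunOnFinite.symm fun i => d (Fin.castAdd m i)
  let ν : (Fin (n + m) →₀ ℕ) → Fin m →₀ ℕ := fun d =>
    Finsupp.equivFunOnFinite.symm fun i => d (Fin.natAdd n i)
  have hdeg : ∀ d, (μ d).degree + (ν d).degree = d.degree := fun d => by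
    simp [μ, ν, Finsupp.degree_eq_sum, Fin.sum_univ_add]
  have hinj : ∀ d d', μ d = μ d' → ν d = ν d' → d = d' := fun d d' h1 h2 => by
    ext i
    induction i using Fin.addCases with
    | left i => simpa [μ] using DFunLike.congr_fun h1 i
    | right i => simpa [ν] using DFunLike.congr_fun h2 i
  let t : (Fin (n + m) →₀ ℕ) → A := fun d =>
    P.coeff d * ((∏ i, f i ^ μ d i) * ∏ i, g i ^ ν d i)
  have hev : eval (Fin.append f g) P = ∑ d ∈ P.support, t d := by
    rw [eval_eq']
    exact Finset.sum_congr rfl fun d _ => by simp [t, μ, ν, Fin.prod_univ_add]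
  have hfpow : ∀ e : Fin n →₀ ℕ, ∏ i, f i ^ e i ∈ I ^ e.degree := fun e =>
    (Ideal.mem_span_pow_iff_exists_isHomogeneous f _).mpr
      ⟨monomial e 1, isHomogeneous_monomial _ rfl, by simp [eval_monomial, Finsupp.prod_fintype]⟩
  have hgpow : ∀ e : Fin m →₀ ℕ, ∏ i, g i ^ e i ∈ J ^ e.degree := fun e =>
    Ideal.pow_right_mono ((span_range_append f g).ge.trans' le_sup_right) _
      ((Ideal.mem_span_pow_iff_exists_isHomogeneous g _).mpr
        ⟨monomial e 1, isHomogeneous_monomial _ rfl, by simp [eval_monomial, Finsupp.prod_fintype]⟩)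
  have hsupp : ∀ d ∈ P.support, (μ d).degree + (ν d).degree = N := fun d hd => by
    rw [hdeg, Finsupp.degree_eq_weight_one]
    exact hP (mem_support_iff.mp hd)
  suffices key : ∀ p, ∀ d ∈ P.support, (μ d).degree = p → P.coeff d ∈ J by
    intro d
    by_cases hd : d ∈ P.support
    · exact key _ d hd rfl
    · rw [notMem_support_iff.mp hd]; exact zero_mem _
  intro p
  induction p using Nat.strongRecOn with
  | _ p ih =>
    intro d₀ hd₀ hp₀
    have hpN : p ≤ N := by have := hsupp d₀ hd₀; omega
    let Shi := ∑ d ∈ P.support.filter (fun d => p ≤ (μ d).degree), t d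
    have hShiJ : Shi ∈ J ^ (N + 1) := by
      have hlo : ∑ d ∈ P.support.filter (fun d => ¬ p ≤ (μ d).degree), t d ∈ J ^ (N + 1) := by
        refine Ideal.sum_mem _ fun d hd => ?_
        obtain ⟨hd, hlt⟩ := Finset.mem_filter.mp hd
        rw [pow_succ', ← hsupp d hd, pow_add]
        exact Ideal.mul_mem_mul (ih _ (by omega) d hd rfl)
          (Ideal.mul_mem_mul (Ideal.pow_right_mono hIJ _ (hfpow _)) (hgpow _))
      have : Shi = eval (Fin.append f g) P -
          ∑ d ∈ P.support.filter (fun d => ¬ p ≤ (μ d).degree), t d := by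
        rw [hev, eq_sub_iff_add_eq]
        exact Finset.sum_filter_add_sum_filter_not _ _ _
      rw [this]
      exact sub_mem he hlo
    have hShiI : Shi ∈ I ^ p := Ideal.sum_mem _ fun d hd =>
      Ideal.mul_mem_left _ _ (Ideal.mul_mem_right _ _
        (Ideal.pow_le_pow_right (Finset.mem_filter.mp hd).2 (hfpow _)))
    have hx := pow_inf_pow_le f g hf hg p (N + 1) ⟨hShiI, hShiJ⟩
    rw [mul_comm] at hx
    obtain ⟨Z, hZ, hZe, hZc⟩ := exists_coeff_mem f _ hx
    let sp := P.support.filter (fun d => (μ d).degree = p)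
    let F : MvPolynomial (Fin n) A :=
      ∑ d ∈ sp, monomial (μ d) (P.coeff d * ∏ i, g i ^ ν d i)
    have hF : F.IsHomogeneous p := IsHomogeneous.sum _ _ _ fun d hd =>
      isHomogeneous_monomial _ (Finset.mem_filter.mp hd).2
    have hFe : eval f F = ∑ d ∈ sp, t d := by
      simp only [F, map_sum, eval_monomial, t]
      refine Finset.sum_congr rfl fun d _ => ?_
      rw [Finsupp.prod_fintype _ _ fun i => pow_zero _]
      ring
    have hsplit : Shi = (∑ d ∈ sp, t d) +
        ∑ d ∈ P.support.filter (fun d => p + 1 ≤ (μ d).degree), t d := by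
      rw [← Finset.sum_union (Finset.disjoint_filter.mpr fun d _ => by omega)]
      refine Finset.sum_congr ?_ fun _ _ => rfl
      ext d
      simp only [sp, Finset.mem_filter, Finset.mem_union]
      constructor
      · rintro ⟨h1, h2⟩
        rcases h2.eq_or_lt with h | h
        · exact Or.inl ⟨h1, h.symm⟩
        · exact Or.inr ⟨h1, h⟩
      · rintro (⟨h1, h2⟩ | ⟨h1, h2⟩) <;> exact ⟨h1, by omega⟩
    have hquasi := hf p (F - Z) (hF.sub hZ) (by
      rw [map_sub, hZe, hFe, hsplit, sub_add_cancel_left]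
      exact neg_mem (Ideal.sum_mem _ fun d hd => Ideal.mul_mem_left _ _ (Ideal.mul_mem_right _ _
        (Ideal.pow_le_pow_right (Finset.mem_filter.mp hd).2 (hfpow _))))) (μ d₀)
    rw [coeff_sub] at hquasi
    let Pμ : MvPolynomial (Fin m) A :=
      ∑ d ∈ sp.filter (fun d => μ d = μ d₀), monomial (ν d) (P.coeff d)
    have hPμ : Pμ.IsHomogeneous (N - p) := IsHomogeneous.sum _ _ _ fun d hd => by
      obtain ⟨hd, -⟩ := Finset.mem_filter.mp hd
      obtain ⟨hd, hdp⟩ := Finset.mem_filter.mp hd
      exact isHomogeneous_monomial _ (by have := hsupp d hd; omega)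
    have hFc : F.coeff (μ d₀) = eval g Pμ := by
      simp only [F, Pμ, coeff_sum, coeff_monomial, map_sum, eval_monomial, Finset.sum_filter]
      refine Finset.sum_congr rfl fun d _ => ?_
      split_ifs
      · rw [eval_monomial, Finsupp.prod_fintype _ _ fun i => pow_zero _]
      · rw [map_zero]
    let π := Ideal.Quotient.mk I
    have hJπ : J.map π = Ideal.span (Set.range fun j => π (g j)) := by
      rw [show J = _ from span_range_append f g, Ideal.map_sup, Ideal.map_quotient_self, bot_sup_eq,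
        Ideal.map_span, ← Set.range_comp]
      rfl
    have hmem : eval (fun j => π (g j)) (MvPolynomial.map π Pμ) ∈
        Ideal.span (Set.range fun j => π (g j)) ^ (N - p + 1) := by
      rw [← hJπ, ← Ideal.map_pow, eval_map, ← Function.comp_def, ← eval₂_comp]
      have hdiff : eval g Pμ - Z.coeff (μ d₀) ∈ I := by rw [← hFc]; exact hquasi
      show π (eval g Pμ) ∈ _
      rw [show π (eval g Pμ) = π (Z.coeff (μ d₀)) from (Ideal.Quotient.mk_eq_mk_iff_sub_mem _ _).mpr hdiff]
      exact Ideal.mem_map_of_mem _ (by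
        have := hZc (μ d₀)
        rwa [show N + 1 - p = N - p + 1 by omega] at this)
    have hcoeff := H1Quasi.isQuasiRegular hg _ _ (hPμ.map π) hmem (ν d₀)
    rw [coeff_map, ← hJπ] at hcoeff
    have hd₀coef : Pμ.coeff (ν d₀) = P.coeff d₀ := by
      simp only [Pμ, coeff_sum, coeff_monomial]
      rw [Finset.sum_eq_single d₀, if_pos rfl]
      · exact fun d hd hne => if_neg fun h => hne (hinj _ _ (Finset.mem_filter.mp hd).2 h)
      · exact fun h => (h (Finset.mem_filter.mpr ⟨(Finset.mem_filter.mpr ⟨hd₀, hp₀⟩ : d₀ ∈ sp), rfl⟩)).elim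
    rw [hd₀coef] at hcoeff
    obtain ⟨b, hb, hbe⟩ := (Ideal.mem_map_iff_of_surjective π Ideal.Quotient.mk_surjective).mp hcoeff
    have := hIJ ((Ideal.Quotient.mk_eq_mk_iff_sub_mem _ _).mp hbe.symm)
    simpa using add_mem this hb

theorem tensor_ker_le {R B R' : Type u} [CommRing R] [CommRing B] [CommRing R'] [Algebra R B]
    [Algebra R R'] (I : Ideal B) (x : R' ⊗[R] B)
    (hx : (Ideal.Quotient.mkₐ R I).toLinearMap.lTensor R' x = 0) :
    x ∈ I.map (Algebra.TensorProduct.includeRight : B →ₐ[R] R' ⊗[R] B) := by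
  have hex : Function.Exact ((Submodule.subtype I).restrictScalars R)
      (Ideal.Quotient.mkₐ R I).toLinearMap := fun b =>
    Ideal.Quotient.eq_zero_iff_mem.trans ⟨fun h => ⟨⟨b, h⟩, rfl⟩, fun ⟨y, hy⟩ => hy ▸ y.2⟩
  obtain ⟨t, rfl⟩ := (lTensor_exact R' hex Ideal.Quotient.mk_surjective x).mp hx
  induction t using TensorProduct.induction_on with
  | zero => rw [map_zero]; exact zero_mem _
  | tmul c y =>
    have e : c ⊗ₜ[R] (y : B) = (c ⊗ₜ[R] (1 : B)) * (1 : R') ⊗ₜ[R] (y : B) := by
      rw [Algebra.TensorProduct.tmul_mul_tmul, mul_one, one_mul]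
    show c ⊗ₜ[R] (y : B) ∈ _
    rw [e]
    exact Ideal.mul_mem_left _ _ (Ideal.mem_map_of_mem _ y.2)
  | add a b ha hb =>
    rw [map_add]
    exact add_mem (ha ((lTensor_exact R' hex Ideal.Quotient.mk_surjective _).mpr ⟨a, rfl⟩))
      (hb ((lTensor_exact R' hex Ideal.Quotient.mk_surjective _).mpr ⟨b, rfl⟩))

theorem ker_tensor_of_mem {R B R' : Type u} [CommRing R] [CommRing B] [CommRing R'] [Algebra R B]
    [Algebra R R'] (I : Ideal B) (x : R' ⊗[R] B)
    (hx : x ∈ I.map (Algebra.TensorProduct.includeRight : B →ₐ[R] R' ⊗[R] B)) :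
    (Ideal.Quotient.mkₐ R I).toLinearMap.lTensor R' x = 0 := by
  let Φ : R' ⊗[R] B →ₐ[R] R' ⊗[R] (B ⧸ I) :=
    Algebra.TensorProduct.map (AlgHom.id R R') (Ideal.Quotient.mkₐ R I)
  have e : ∀ x, (Ideal.Quotient.mkₐ R I).toLinearMap.lTensor R' x = Φ x := fun x => by
    induction x using TensorProduct.induction_on with
    | zero => simp
    | tmul c y => simp [Φ]
    | add a b ha hb => rw [map_add, map_add, ha, hb]
  rw [e]
  have hle : I.map (Algebra.TensorProduct.includeRight : B →ₐ[R] R' ⊗[R] B) ≤ RingHom.ker Φ :=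
    Ideal.map_le_iff_le_comap.mpr fun y hy => by
      simp [Φ, Ideal.Quotient.eq_zero_iff_mem.mpr hy]
  exact RingHom.mem_ker.mp (hle hx)

theorem map_span_includeRight {R B R' : Type u} [CommRing R] [CommRing B] [CommRing R']
    [Algebra R B] [Algebra R R'] {r : ℕ} (f : Fin r → B) :
    (Ideal.span (Set.range f)).map (Algebra.TensorProduct.includeRight : B →ₐ[R] R' ⊗[R] B) =
      Ideal.span (Set.range fun i => ((1 : R') ⊗ₜ[R] f i : R' ⊗[R] B)) := by
  rw [Ideal.map_span, ← Set.range_comp]
  rfl

theorem baseChange (R B R' : Type u) [CommRing R] [CommRing B] [CommRing R'] [Algebra R B]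
    [Algebra R R'] {r : ℕ} (f : Fin r → B) [Module.Flat R (B ⧸ Ideal.span (Set.range f))]
    (hq : IsQuasiRegular f) :
    IsQuasiRegular (fun i => ((1 : R') ⊗ₜ[R] f i : R' ⊗[R] B)) := by
  classical
  set J := Ideal.span (Set.range f)
  have hfin : ∀ n : ℕ, Finite {d : Fin r →₀ ℕ // d.degree = n} := fun n => by
    refine Finite.of_injective
      (fun d (i : Fin r) => (⟨d.1 i, Nat.lt_succ_of_le ((Finsupp.le_degree i d.1).trans d.2.le)⟩ : Fin (n + 1))) ?_
    intro d d' h
    exact Subtype.ext (Finsupp.ext fun i => congrArg Fin.val (congrFun h i))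
  letI hft : ∀ n : ℕ, Fintype {d : Fin r →₀ ℕ // d.degree = n} := fun n =>
    haveI := hfin n; Fintype.ofFinite _
  let mon : (Fin r →₀ ℕ) → B := fun d => ∏ i, f i ^ d i
  have hmon : ∀ d, mon d ∈ J ^ d.degree := fun d =>
    (Ideal.mem_span_pow_iff_exists_isHomogeneous f _).mpr
      ⟨monomial d 1, isHomogeneous_monomial _ rfl, by simp [mon, eval_monomial, Finsupp.prod_fintype]⟩
  have step : ∀ n : ℕ, ∃ Θ : ({d : Fin r →₀ ℕ // d.degree = n} → B ⧸ J) →ₗ[R] B ⧸ J ^ (n + 1),
      Function.Injective Θ ∧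
        Function.Exact Θ (Ideal.Quotient.factorₐ R (Ideal.pow_le_pow_right n.le_succ)).toLinearMap ∧
        ∀ c : {d : Fin r →₀ ℕ // d.degree = n} → B,
          Θ (fun d => Ideal.Quotient.mk J (c d)) =
            Ideal.Quotient.mk (J ^ (n + 1)) (∑ d, c d * mon d.1) := by
    intro n
    let θ : {d : Fin r →₀ ℕ // d.degree = n} → ((B ⧸ J) →ₗ[B] B ⧸ J ^ (n + 1)) := fun d =>
      Submodule.liftQ J (LinearMap.toSpanSingleton B _ (Ideal.Quotient.mk (J ^ (n + 1)) (mon d.1)))
        fun b hb => by
          show b • Ideal.Quotient.mk (J ^ (n + 1)) (mon d.1) = 0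
          rw [← Ideal.Quotient.mk_eq_mk, ← Submodule.Quotient.mk_smul, Submodule.Quotient.mk_eq_zero,
            smul_eq_mul, pow_succ']
          exact Ideal.mul_mem_mul hb (by have := hmon d.1; rwa [d.2] at this)
    let Θ := (∑ d, θ d ∘ₗ LinearMap.proj d).restrictScalars R
    have happ : ∀ c : {d : Fin r →₀ ℕ // d.degree = n} → B,
        Θ (fun d => Ideal.Quotient.mk J (c d)) =
          Ideal.Quotient.mk (J ^ (n + 1)) (∑ d, c d * mon d.1) := fun c => by
      simp only [Θ, LinearMap.restrictScalars_apply, LinearMap.sum_apply, map_sum, LinearMap.comp_apply,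
        LinearMap.proj_apply, map_mul]
      rfl
    let P : ({d : Fin r →₀ ℕ // d.degree = n} → B) → MvPolynomial (Fin r) B := fun c =>
      ∑ d, monomial d.1 (c d)
    have hP : ∀ c, (P c).IsHomogeneous n := fun c =>
      IsHomogeneous.sum _ _ _ fun d _ => isHomogeneous_monomial _ d.2
    have hPc : ∀ c d, (P c).coeff d.1 = c d := fun c d => by
      simp [P, coeff_sum, coeff_monomial, Subtype.coe_inj]
    have hPe : ∀ c, eval f (P c) = ∑ d, c d * mon d.1 := fun c => by
      simp [P, mon, eval_monomial, Finsupp.prod_fintype]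
    refine ⟨Θ, ?_, ?_, happ⟩
    · rw [injective_iff_map_eq_zero]
      intro c hc
      choose c' hc' using fun d => Ideal.Quotient.mk_surjective (c d)
      obtain rfl : c = fun d => Ideal.Quotient.mk J (c' d) := funext fun d => (hc' d).symm
      rw [happ, Ideal.Quotient.eq_zero_iff_mem, ← hPe] at hc
      funext d
      exact Ideal.Quotient.eq_zero_iff_mem.mpr (hPc c' d ▸ hq n _ (hP c') hc d.1)
    · intro y
      obtain ⟨y, rfl⟩ := Ideal.Quotient.mk_surjective y
      show Ideal.Quotient.mk (J ^ n) y = 0 ↔ _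
      rw [Ideal.Quotient.eq_zero_iff_mem]
      constructor
      · intro hy
        obtain ⟨Q, hQ, rfl⟩ := (Ideal.mem_span_pow_iff_exists_isHomogeneous f y).mp hy
        refine ⟨fun d => Ideal.Quotient.mk J (Q.coeff d.1), ?_⟩
        rw [happ, ← hPe]
        refine congrArg _ (congrArg (eval f) ?_)
        ext d
        by_cases hd : d.degree = n
        · exact hPc _ ⟨d, hd⟩
        · rw [hQ.coeff_eq_zero hd, (hP _).coeff_eq_zero hd]
      · rintro ⟨c, hc⟩
        choose c' hc' using fun d => Ideal.Quotient.mk_surjective (c d)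
        obtain rfl : c = fun d => Ideal.Quotient.mk J (c' d) := funext fun d => (hc' d).symm
        rw [happ, Ideal.Quotient.mk_eq_mk_iff_sub_mem] at hc
        have h1 : ∑ d, c' d * mon d.1 ∈ J ^ n :=
          Ideal.sum_mem _ fun d _ => Ideal.mul_mem_left _ _ (by have := hmon d.1; rwa [d.2] at this)
        simpa using sub_mem h1 (Ideal.pow_le_pow_right n.le_succ hc)
  have hflat : ∀ n : ℕ, Module.Flat R (B ⧸ J ^ n) := by
    intro n
    induction n with
    | zero =>
      haveI : Subsingleton (B ⧸ J ^ 0) :=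
        Ideal.Quotient.subsingleton_iff.mpr (by rw [pow_zero, Ideal.one_eq_top])
      exact inferInstance
    | succ n ih =>
      obtain ⟨Θ, h1, h2, -⟩ := step n
      haveI : Module.Flat R ({d : Fin r →₀ ℕ // d.degree = n} → B ⧸ J) :=
        Module.Flat.of_linearEquiv (DFinsupp.linearEquivFunOnFintype (R := R) (M := fun _ : {d : Fin r →₀ ℕ // d.degree = n} => B ⧸ J)).symm
      exact Lib.RelDiv.ExactFlat.flat_middle h1 h2 (Ideal.Quotient.factor_surjective (Ideal.pow_le_pow_right n.le_succ))
  intro n P hP he d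
  by_cases hd : d.degree = n
  swap
  · rw [hP.coeff_eq_zero hd]; exact zero_mem _
  obtain ⟨Θ, hΘ, hex, happ⟩ := step n
  haveI := hflat n
  have hinj := Lib.RelDiv.ExactFlat.lTensor_injective hΘ hex (Ideal.Quotient.factor_surjective (Ideal.pow_le_pow_right n.le_succ)) R'
  let E := TensorProduct.piRight R R R' fun _ : {d : Fin r →₀ ℕ // d.degree = n} => B
  let E' := TensorProduct.piRight R R R' fun _ : {d : Fin r →₀ ℕ // d.degree = n} => B ⧸ J
  let m := LinearMap.pi fun d : {d : Fin r →₀ ℕ // d.degree = n} =>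
    (Ideal.Quotient.mkₐ R J).toLinearMap ∘ₗ LinearMap.proj d
  obtain ⟨t, ht⟩ := E.surjective fun d => P.coeff d.1
  let f' : Fin r → R' ⊗[R] B := fun i => (1 : R') ⊗ₜ[R] f i
  have hPe : eval f' P = ∑ d : {d : Fin r →₀ ℕ // d.degree = n},
      P.coeff d.1 * ((1 : R') ⊗ₜ[R] mon d.1) := by
    have hP' : P = ∑ d : {d : Fin r →₀ ℕ // d.degree = n}, monomial d.1 (P.coeff d.1) := by
      ext e
      rw [coeff_sum]
      simp only [coeff_monomial]
      by_cases he : e.degree = n
      · rw [Finset.sum_eq_single ⟨e, he⟩ (fun b _ hb => if_neg fun h => hb (Subtype.ext h)) (by simp),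
          if_pos rfl]
      · rw [hP.coeff_eq_zero he, Finset.sum_eq_zero fun b _ => if_neg fun h : b.1 = e => he (h ▸ b.2)]
    conv_lhs => rw [hP', map_sum]
    refine Finset.sum_congr rfl fun b _ => ?_
    rw [eval_monomial, Finsupp.prod_fintype _ _ fun i => pow_zero _]
    congr 1
    show _ = Algebra.TensorProduct.includeRight (R := R) (A := R') (mon b.1)
    simp [mon, map_prod, map_pow, f']
  have hcomm : ∀ t, Θ.lTensor R' (m.lTensor R' t) =
      (Ideal.Quotient.mkₐ R (J ^ (n + 1))).toLinearMap.lTensor R'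
        (∑ d, E t d * ((1 : R') ⊗ₜ[R] mon d.1)) := by
    intro t
    induction t using TensorProduct.induction_on with
    | zero => simp
    | tmul c v =>
      rw [LinearMap.lTensor_tmul, LinearMap.lTensor_tmul,
        show m v = fun d => Ideal.Quotient.mk J (v d) from rfl, happ]
      simp [E, TensorProduct.tmul_sum, map_sum]
    | add a b ha hb => simp [ha, hb, add_mul, Finset.sum_add_distrib]
  have h0 : m.lTensor R' t = 0 := by
    apply hinj
    rw [map_zero, hcomm, ht, ← hPe]
    refine ker_tensor_of_mem _ _ ?_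
    rw [Ideal.map_pow, map_span_includeRight]
    exact he
  have hcoord : ∀ t, E' (m.lTensor R' t) ⟨d, hd⟩ =
      (Ideal.Quotient.mkₐ R J).toLinearMap.lTensor R' (E t ⟨d, hd⟩) := by
    intro t
    induction t using TensorProduct.induction_on with
    | zero => simp
    | tmul c v => simp [E, E', m]
    | add a b ha hb => simp [ha, hb]
  have := hcoord t
  rw [h0, map_zero, ht] at this
  rw [← map_span_includeRight]
  exact tensor_ker_le J _ this.symm

end Groth.Agent.H26.QuasiOps
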