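import Groth.Agent.H26.RegQuasi
import Groth.Agent.H26.QuasiOps
import Groth.Agent.Lib.Flat55.SliceSeq
import Mathlib.RingTheory.Filtration
import Mathlib.RingTheory.TensorProduct.Quotient

/-!
# Relative quasi-regular sequences
-/

universe u

open TensorProduct RingTheory.Sequence IsLocalRing CAlgX
open scoped Pointwise

set_option maxHeartbeats 400000

namespace Groth.Agent.H26.RelQuasi

open Groth.Agent.Lib

theorem quasi_ringEquiv {R S : Type u} [CommRing R] [CommRing S] (e : R ≃+* S) {c : ℕ} {f : Fin c → R}
    (h : IsQuasiRegular f) : IsQuasiRegular fun i => e (f i) := by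
  letI : Algebra R S := e.toRingHom.toAlgebra
  haveI : IsLocalization (⊥ : Submonoid R) R := IsLocalization.self (by simp)
  haveI : IsLocalization (⊥ : Submonoid R) S :=
    IsLocalization.isLocalization_of_algEquiv (⊥ : Submonoid R) (AlgEquiv.ofRingEquiv (f := e) fun _ => rfl)
  exact RegQuasi.quasi_localization (⊥ : Submonoid R) h

/-- A quasi-regular sequence with flat quotient stays quasi-regular modulo an ideal of the base. -/
theorem quasi_quotient {A C : Type u} [CommRing A] [CommRing C] [Algebra A C] (I : Ideal A) {c : ℕ}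
    (g : Fin c → C) (hflat : Module.Flat A (C ⧸ Ideal.span (Set.range g))) (h : IsQuasiRegular g) :
    IsQuasiRegular fun i => Ideal.Quotient.mk (I.map (algebraMap A C)) (g i) := by
  haveI := hflat
  have h1 := quasi_ringEquiv (Algebra.TensorProduct.quotIdealMapEquivQuotTensor C I).symm.toRingEquiv
    (QuasiOps.baseChange A C (A ⧸ I) g h)
  convert h1 using 1
  funext i
  exact ((Algebra.TensorProduct.quotIdealMapEquivQuotTensor C I).symm_apply_apply
    (Ideal.Quotient.mk _ (g i))).symm

/-- Quasi-regular sequences in Noetherian local rings are weakly regular. -/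
theorem weaklyRegular_of_quasi {C : Type u} [CommRing C] [IsLocalRing C] [IsNoetherianRing C] {c : ℕ}
    (g : Fin c → C) (hm : ∀ i, g i ∈ maximalIdeal C) (h : IsQuasiRegular g) :
    IsWeaklyRegular C (List.ofFn g) := by
  refine Regular45.QuasiRegConverse.isWeaklyRegular_of_quasiRegular c C g (fun i => ?_) h
  rw [← Ideal.jacobson_bot, IsLocalRing.jacobson_eq_maximalIdeal (⊥ : Ideal C) bot_ne_top]
  exact hm i

/-- Flatness from flatness of the quotient by a regular element, Noetherian local source. -/
theorem flat_of_isSMulRegular {A R : Type u} [CommRing A] [CommRing R] [IsLocalRing R]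
    [IsNoetherianRing R] [Algebra A R] (x : R) (hx : IsSMulRegular R x) (hm : x ∈ maximalIdeal R)
    [Module.Flat A (R ⧸ Ideal.span {x})] : Module.Flat A R := by
  have hflat : ∀ n : ℕ, Module.Flat A (R ⧸ Ideal.span {x ^ n}) := by
    intro n
    induction n with
    | zero =>
      haveI : Subsingleton (R ⧸ Ideal.span {x ^ 0}) :=
        Ideal.Quotient.subsingleton_iff.mpr (by rw [pow_zero, Ideal.span_singleton_one])
      exact inferInstance
    | succ n ih =>
      let p := (Ideal.Quotient.factorₐ A (show Ideal.span {x ^ (n + 1)} ≤ Ideal.span {x} from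
        Ideal.span_singleton_le_span_singleton.mpr (dvd_pow_self x n.succ_ne_zero))).toLinearMap
      let i : (R ⧸ Ideal.span {x ^ n}) →ₗ[A] R ⧸ Ideal.span {x ^ (n + 1)} :=
        (Submodule.liftQ (Ideal.span {x ^ n})
          (LinearMap.toSpanSingleton R _ (Ideal.Quotient.mk (Ideal.span {x ^ (n + 1)}) x))
          (fun r hr => by
            obtain ⟨s, rfl⟩ := Ideal.mem_span_singleton'.mp hr
            show (s * x ^ n) • Ideal.Quotient.mk (Ideal.span {x ^ (n + 1)}) x = 0
            rw [← Ideal.Quotient.mk_eq_mk, ← Submodule.Quotient.mk_smul, Submodule.Quotient.mk_eq_zero]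
            exact Ideal.mem_span_singleton'.mpr ⟨s, by rw [smul_eq_mul]; ring⟩)).restrictScalars A
      have hi : ∀ r, i (Ideal.Quotient.mk _ r) = Ideal.Quotient.mk _ (r * x) := fun r => rfl
      refine RelDiv.ExactFlat.flat_middle (i := i) (p := p) ?_ ?_ (Ideal.Quotient.factor_surjective
        (Ideal.span_singleton_le_span_singleton.mpr (dvd_pow_self x n.succ_ne_zero)))
      · rw [injective_iff_map_eq_zero]
        intro z hz
        obtain ⟨r, rfl⟩ := Ideal.Quotient.mk_surjective z
        rw [hi, Ideal.Quotient.eq_zero_iff_mem, Ideal.mem_span_singleton'] at hz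
        obtain ⟨s, hs⟩ := hz
        rw [Ideal.Quotient.eq_zero_iff_mem, Ideal.mem_span_singleton']
        exact ⟨s, hx (show x * (s * x ^ n) = x * r by linear_combination hs)⟩
      · intro z
        obtain ⟨r, rfl⟩ := Ideal.Quotient.mk_surjective z
        show Ideal.Quotient.mk (Ideal.span {x}) r = 0 ↔ _
        rw [Ideal.Quotient.eq_zero_iff_mem, Ideal.mem_span_singleton']
        constructor
        · rintro ⟨s, rfl⟩
          exact ⟨Ideal.Quotient.mk _ s, hi s⟩
        · rintro ⟨w, hw⟩
          obtain ⟨w, rfl⟩ := Ideal.Quotient.mk_surjective w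
          rw [hi, Ideal.Quotient.mk_eq_mk_iff_sub_mem, Ideal.mem_span_singleton'] at hw
          obtain ⟨t, ht⟩ := hw
          exact ⟨w - t * x ^ n, by linear_combination -ht⟩
  rw [Module.Flat.iff_rTensor_injective]
  intro I hI
  haveI : Module.Finite A I := Module.Finite.iff_fg.mpr hI
  haveI : Module.Finite R (R ⊗[A] I) := Module.Finite.base_change A R I
  suffices key : Function.Injective ((Submodule.subtype I).lTensor R) by
    intro a b hab
    refine (TensorProduct.comm A I R).injective (key ?_)
    have hcomm : ∀ t, (Submodule.subtype I).lTensor R (TensorProduct.comm A I R t) =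
        TensorProduct.comm A A R ((Submodule.subtype I).rTensor R t) := fun t => by
      induction t using TensorProduct.induction_on with
      | zero => simp
      | tmul i r => simp
      | add a b ha hb => simp [ha, hb]
    rw [hcomm, hcomm, hab]
  rw [injective_iff_map_eq_zero]
  intro ξ hξ
  have hK := Ideal.iInf_pow_smul_eq_bot_of_le_jacobson (M := R ⊗[A] I) (Ideal.span {x})
    (((Ideal.span_singleton_le_iff_mem _).mpr hm).trans (IsLocalRing.maximalIdeal_le_jacobson ⊥))
  rw [← Submodule.mem_bot R, ← hK, Submodule.mem_iInf]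
  intro n
  rw [Ideal.span_singleton_pow]
  haveI := hflat n
  let π := (Ideal.Quotient.mkₐ A (Ideal.span {x ^ n})).toLinearMap
  have h0 : π.rTensor I ξ = 0 := by
    refine Module.Flat.lTensor_preserves_injective_linearMap (M := R ⧸ Ideal.span {x ^ n})
      (Submodule.subtype I) Subtype.val_injective ?_
    rw [map_zero, ← RelDiv.ExactFlat.rTensor_comm_lTensor, hξ, map_zero]
  have hex : Function.Exact ((Submodule.subtype (Ideal.span {x ^ n})).restrictScalars A) π := fun b =>
    Ideal.Quotient.eq_zero_iff_mem.trans ⟨fun h => ⟨⟨b, h⟩, rfl⟩, fun ⟨y, hy⟩ => hy ▸ y.2⟩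
  obtain ⟨w, rfl⟩ := (rTensor_exact I hex Ideal.Quotient.mk_surjective ξ).mp h0
  clear hξ h0
  induction w using TensorProduct.induction_on with
  | zero => rw [map_zero]; exact zero_mem _
  | tmul y i =>
    obtain ⟨s, hs⟩ := Ideal.mem_span_singleton'.mp y.2
    rw [LinearMap.rTensor_tmul, LinearMap.coe_restrictScalars, Submodule.subtype_apply, ← hs, mul_comm,
      show (x ^ n * s) ⊗ₜ[A] i = (x ^ n) • (s ⊗ₜ[A] i) from rfl]
    exact Submodule.smul_mem_smul (Ideal.mem_span_singleton_self _) trivial
  | add a b ha hb => rw [map_add]; exact add_mem ha hb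

/-- Flatness from flatness of the quotient by a regular sequence, Noetherian local source. -/
theorem flat_of_weaklyRegular {A : Type u} [CommRing A] : ∀ (R : Type u) [CommRing R] [IsLocalRing R]
    [IsNoetherianRing R] [Algebra A R] (rs : List R), IsWeaklyRegular R rs →
      (∀ r ∈ rs, r ∈ maximalIdeal R) → Module.Flat A (R ⧸ Ideal.ofList rs) → Module.Flat A R
  | R, _, _, _, _, [], _, _, h => by
    haveI := h
    exact Module.Flat.of_linearEquiv ((Submodule.quotEquivOfEqBot (Ideal.ofList ([] : List R))
      (Ideal.ofList_nil)).restrictScalars A).symm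
  | R, _, _, _, _, x :: rs, hw, hm, h => by
    have hxm := hm x (List.mem_cons_self ..)
    rw [isWeaklyRegular_cons_iff] at hw
    haveI : Nontrivial (R ⧸ Ideal.span {x}) := Ideal.Quotient.nontrivial_iff.mpr
      (ne_top_of_le_ne_top Ideal.IsPrime.ne_top' ((Ideal.span_singleton_le_iff_mem _).mpr hxm))
    haveI : IsLocalRing (R ⧸ Ideal.span {x}) :=
      .of_surjective' (Ideal.Quotient.mk _) Ideal.Quotient.mk_surjective
    let π := Ideal.Quotient.mk (Ideal.span {x})
    have hw' : IsWeaklyRegular (R ⧸ Ideal.span {x}) (rs.map π) := by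
      let e : (R ⧸ Ideal.span {x}) ≃ₗ[R] QuotSMulTop x R :=
        Submodule.quotEquivOfEq _ _ (by
          rw [← Submodule.ideal_span_singleton_smul, smul_eq_mul, Ideal.mul_top])
      have h2 := (e.isWeaklyRegular_congr rs).mpr hw.2
      rwa [← isWeaklyRegular_map_algebraMap_iff (R ⧸ Ideal.span {x})] at h2
    haveI : Module.Flat A ((R ⧸ Ideal.span {x}) ⧸ Ideal.ofList (rs.map π)) := by
      rw [← Ideal.map_ofList]
      rw [Ideal.ofList_cons] at h
      exact Module.Flat.of_linearEquiv
        (DoubleQuot.quotQuotEquivQuotSupₐ A (Ideal.span {x}) (Ideal.ofList rs)).toLinearEquiv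
    haveI : Module.Flat A (R ⧸ Ideal.span {x}) := flat_of_weaklyRegular (R ⧸ Ideal.span {x}) (rs.map π) hw' (fun r hr => by
      obtain ⟨a, ha, rfl⟩ := List.mem_map.mp hr
      rw [← IsLocalRing.map_maximalIdeal_of_surjective π Ideal.Quotient.mk_surjective]
      exact Ideal.mem_map_of_mem π (hm a (List.mem_cons_of_mem _ ha))) inferInstance
    exact flat_of_isSMulRegular x hw.1 hxm
termination_by R _ _ _ _ rs => rs.length
decreasing_by simp

/-- A sequence regular on the fibre has flat quotient at the point. -/
theorem flat_quotient_of_fibre {R C : Type u} [CommRing R] [CommRing C] [Algebra R C]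
    [Algebra.FinitePresentation R C] (p : Ideal R) [p.IsPrime] (P : Ideal C) [P.IsPrime]
    {R' C' : Type u} [CommRing R'] [IsLocalRing R'] [Algebra R R'] [IsLocalization.AtPrime R' p]
    [CommRing C'] [IsLocalRing C'] [Algebra C C'] [IsLocalization.AtPrime C' P]
    [Algebra R' C'] [IsLocalHom (algebraMap R' C')]
    (hcomm : ∀ r, algebraMap R' C' (algebraMap R R' r) = algebraMap C C' (algebraMap R C r))
    [Module.Flat R' C'] (hs : List C) (hP : ∀ h ∈ hs, h ∈ P)
    (hreg : IsWeaklyRegular (C' ⧸ (maximalIdeal R').map (algebraMap R' C'))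
      ((hs.map (algebraMap C C')).map (Ideal.Quotient.mk ((maximalIdeal R').map (algebraMap R' C'))))) :
    ((Ideal.Quotient.mk ((Ideal.ofList hs).map (algebraMap C C'))).comp
      ((algebraMap C C').comp (algebraMap R C))).Flat := by
  obtain ⟨a, ha, hsl⟩ := Flat55.SliceSeq.exists_slices (R' := R') (C' := C') p P hcomm hs hP
    (fun i hi y hy => by
      have hi' : i < ((hs.map (algebraMap C C')).map
          (Ideal.Quotient.mk ((maximalIdeal R').map (algebraMap R' C')))).length := by simpa using hi
      have h1 := (isSMulRegular_quotient_iff_mem_of_smul_mem _ _).1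
        (hreg.regular_mod_prev i hi') (Ideal.Quotient.mk _ y)
      rw [Ideal.smul_eq_mul, Ideal.mul_top, ← List.map_take, ← Ideal.map_ofList, List.getElem_map,
        smul_eq_mul, ← map_mul, Ideal.mem_quotient_iff_mem_sup, Ideal.mem_quotient_iff_mem_sup,
        ← List.map_take, ← Ideal.map_ofList, List.getElem_map] at h1
      exact h1 hy) hs.length le_rfl
  obtain ⟨hfl, hsteps⟩ := hsl (Localization.Away a)
  let D := Localization.Away a
  haveI : Module.Flat R D := by
    rw [← RingHom.flat_algebraMap_iff, IsScalarTower.algebraMap_eq R C D]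
    exact hfl
  have hflD := (Flat55.SliceSeq.steps_to_seq (R := R) (hs.map (algebraMap C D)) fun i hi => by
    have h := hsteps i (by simpa using hi)
    rw [Ideal.map_ofList, List.map_take] at h
    rw [List.getElem_map, IsScalarTower.algebraMap_eq R C D]
    exact h).2 hs.length
  rw [List.take_of_length_le (by simp), ← Ideal.map_ofList, ← RingHom.flat_algebraMap_iff] at hflD
  have hau : IsUnit (algebraMap C C' a) := IsLocalization.map_units C' (⟨a, ha⟩ : P.primeCompl)
  let g : D →+* C' := IsLocalization.Away.lift a hau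
  have hgc : g.comp (algebraMap C D) = algebraMap C C' := IsLocalization.Away.lift_comp a hau
  have hgflat : g.Flat := by
    let := g.toAlgebra
    have : IsScalarTower C D C' :=
      .of_algebraMap_eq fun z ↦ (IsLocalization.Away.lift_eq a hau z).symm
    have : Module.Flat C C' := IsLocalization.flat C' P.primeCompl
    exact (Module.flat_iff_of_isLocalization (R := C) D (Submonoid.powers a) C').2 ‹_›
  have h2 := Flat55.SliceSeq.quotient_comp_flat ((algebraMap C D).comp (algebraMap R C)) g hgflat
    ((Ideal.ofList hs).map (algebraMap C D)) hflD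
  rwa [Ideal.map_map, hgc, ← RingHom.comp_assoc _ _ g, hgc] at h2

end Groth.Agent.H26.RelQuasi
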