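import Groth.Agent.H26.FlatUnslice
import Groth.Agent.H26.RelQuasi
import Groth.Agent.H26.RegKinds

/-!
# Flatness from a sequence with vanishing first Koszul homology and flat quotient
-/

universe u

open IsLocalRing RingTheory.Sequence MvPolynomial CAlgX

set_option maxHeartbeats 1000000

namespace Groth.Agent.H26.H1Unslice

open Groth.Agent.Lib Triv

/-- The alternation of a family indexed by triples. -/
def alt {A : Type u} [CommRing A] {n : ℕ} (c : Fin n → Fin n → Fin n → A) (i j k : Fin n) : A :=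
  c i j k + c j k i + c k i j - c j i k - c k j i - c i k j

theorem alt_swap {A : Type u} [CommRing A] {n : ℕ} (c : Fin n → Fin n → Fin n → A) (i j k : Fin n) :
    alt c i k j = - alt c i j k := by simp only [alt]; ring

theorem alt_swap' {A : Type u} [CommRing A] {n : ℕ} (c : Fin n → Fin n → Fin n → A) (i j k : Fin n) :
    alt c j i k = - alt c i j k := by simp only [alt]; ring

theorem sum_sum_alt {A : Type u} [CommRing A] {n : ℕ} (g : Fin n → A)
    (c : Fin n → Fin n → Fin n → A) (i : Fin n) :
    ∑ j, g j * ∑ k, g k * alt c i j k = 0 := by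
  simp only [Finset.mul_sum, alt, mul_add, mul_sub, Finset.sum_add_distrib, Finset.sum_sub_distrib]
  have sw : ∀ F : Fin n → Fin n → A,
      ∑ j, ∑ k, g j * (g k * F k j) = ∑ j, ∑ k, g j * (g k * F j k) := fun F => by
    rw [Finset.sum_comm]
    exact Finset.sum_congr rfl fun j _ => Finset.sum_congr rfl fun k _ => by ring
  rw [sw (fun j k => c j i k), sw (fun j k => c i j k), sw (fun j k => c j k i)]
  ring

/-- Second Koszul cycles of a regular sequence are boundaries. -/
theorem exists_alt {A : Type u} [CommRing A] : ∀ (n : ℕ) (f : Fin n → A),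
    IsWeaklyRegular A (List.ofFn f) → ∀ e : Fin n → Fin n → A, (∀ i, e i i = 0) →
      (∀ i j, e i j = - e j i) → (∀ i, ∑ j, f j * e i j = 0) →
      ∃ c : Fin n → Fin n → Fin n → A, ∀ i j, e i j = ∑ k, f k * alt c i j k
  | 0, _, _, e, _, _, _ => ⟨0, fun i => i.elim0⟩
  | n + 1, f, hf, e, hdiag, hanti, hrel => by
    let f' : Fin n → A := fun i => f i.castSucc
    have hf' : IsWeaklyRegular A (List.ofFn f') := by
      rw [List.ofFn_succ', List.concat_eq_append] at hf
      exact ((isWeaklyRegular_append_iff A _ _).mp hf).1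
    have h0 : ∑ j : Fin n, f' j • e j.castSucc (Fin.last n) = 0 := by
      have h := hrel (Fin.last n)
      rw [Fin.sum_univ_castSucc, hdiag, mul_zero, add_zero] at h
      rw [← neg_eq_zero, ← Finset.sum_neg_distrib, ← h]
      refine Finset.sum_congr rfl fun j _ => ?_
      rw [hanti j.castSucc (Fin.last n), smul_neg, neg_neg]
      rfl
    obtain ⟨a, ha⟩ := Lib.Synt92.KoszulH1.isTriv_of_acyc
      (Lib.Synt92.CubeBase.acyc_of_isWeaklyRegular f' hf') _ h0
    have ha' : ∀ i, e i.castSucc (Fin.last n) = ∑ j, f' j • (a i j - a j i) := ha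
    let e' : Fin n → Fin n → A := fun i j =>
      e i.castSucc j.castSucc + f (Fin.last n) * (a i j - a j i)
    obtain ⟨c', hc'⟩ := exists_alt n f' hf' e' (fun i => by simp [e', hdiag])
      (fun i j => by simp only [e']; rw [hanti i.castSucc]; ring) (fun i => by
        have h := hrel i.castSucc
        rw [Fin.sum_univ_castSucc] at h
        simp only [e', mul_add, Finset.sum_add_distrib]
        rw [← h, ha' i, Finset.mul_sum]
        congr 1
        exact Finset.sum_congr rfl fun j _ => by simp only [smul_eq_mul]; ring)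
    let c : Fin (n + 1) → Fin (n + 1) → Fin (n + 1) → A := Fin.snoc (fun i => Fin.snoc
      (fun j => Fin.snoc (fun k => c' i j k) (-(a i j))) 0) 0
    have hlow : ∀ i j k : Fin n, alt c i.castSucc j.castSucc k.castSucc = alt c' i j k :=
      fun i j k => by simp [alt, c]
    have hl : ∀ i j : Fin n, alt c i.castSucc j.castSucc (Fin.last n) = a j i - a i j :=
      fun i j => by simp [alt, c]; ring
    have hll : ∀ i : Fin n, alt c i.castSucc (Fin.last n) (Fin.last n) = 0 :=
      fun i => by simp [alt, c]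
    have key : ∀ i j : Fin n, e i.castSucc j.castSucc = ∑ k, f k * alt c i.castSucc j.castSucc k :=
      fun i j => by
      rw [Fin.sum_univ_castSucc, hl]
      simp only [hlow]
      rw [← hc' i j]
      simp only [e']
      ring
    have keyl : ∀ i : Fin n, e i.castSucc (Fin.last n) = ∑ k, f k * alt c i.castSucc (Fin.last n) k :=
      fun i => by
      rw [Fin.sum_univ_castSucc, hll, mul_zero, add_zero, ha' i]
      refine Finset.sum_congr rfl fun j _ => ?_
      rw [alt_swap c i.castSucc j.castSucc (Fin.last n), hl, smul_eq_mul]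
      ring
    refine ⟨c, fun i j => ?_⟩
    induction i using Fin.lastCases with
    | last =>
      induction j using Fin.lastCases with
      | last =>
        rw [hdiag]
        refine (Finset.sum_eq_zero fun k _ => ?_).symm
        rw [show alt c (Fin.last n) (Fin.last n) k = 0 by simp only [alt]; ring, mul_zero]
      | cast j =>
        rw [hanti, keyl j, ← Finset.sum_neg_distrib]
        refine Finset.sum_congr rfl fun k _ => ?_
        rw [alt_swap' c j.castSucc (Fin.last n) k, mul_neg]
    | cast i =>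
      induction j using Fin.lastCases with
      | last => exact keyl i
      | cast j => exact key i j

/-- The relations are killed by the unslicing: one step. -/
theorem mem_mul {A T : Type u} [CommRing A] [IsLocalRing A] [CommRing T] [IsLocalRing T]
    [Algebra A T] [IsNoetherianRing (T ⧸ (maximalIdeal A).map (algebraMap A T))]
    (K : Ideal T) (hK : K.FG) {r : ℕ} (G : Fin r → T) (hG : ∀ i, G i ∈ maximalIdeal T)
    (hKm : K ⊔ (maximalIdeal A).map (algebraMap A T) ≤ maximalIdeal T)
    (hh : IsH1Regular fun i => Ideal.Quotient.mk K (G i))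
    [Module.Flat A (T ⧸ (K ⊔ Ideal.span (Set.range G)))]
    {z : T} (hz : z ∈ K) (hzm : z ∈ (maximalIdeal A).map (algebraMap A T)) :
    z ∈ (maximalIdeal A).map (algebraMap A T) * K := by
  classical
  set 𝔪 := (maximalIdeal A).map (algebraMap A T) with h𝔪
  -- regularity on the fibre
  let πK := Ideal.Quotient.mk K
  have hspanK : (Ideal.span (Set.range G)).map πK = Ideal.span (Set.range fun i => πK (G i)) := by
    rw [Ideal.map_span, ← Set.range_comp]; rfl
  haveI hflS : Module.Flat A ((T ⧸ K) ⧸ Ideal.span (Set.range fun i => πK (G i))) := by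
    rw [← hspanK]
    exact Module.Flat.of_linearEquiv
      (DoubleQuot.quotQuotEquivQuotSupₐ A K (Ideal.span (Set.range G))).toLinearEquiv
  haveI : Nontrivial (T ⧸ (K ⊔ 𝔪)) := Ideal.Quotient.nontrivial_iff.mpr
    (ne_top_of_le_ne_top Ideal.IsPrime.ne_top' hKm)
  haveI : IsLocalRing (T ⧸ (K ⊔ 𝔪)) := .of_surjective' (Ideal.Quotient.mk _) Ideal.Quotient.mk_surjective
  haveI : IsNoetherianRing (T ⧸ (K ⊔ 𝔪)) := isNoetherianRing_of_surjective (T ⧸ 𝔪) _
    (Ideal.Quotient.factor (le_sup_right : 𝔪 ≤ K ⊔ 𝔪))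
    (Ideal.Quotient.factor_surjective (le_sup_right : 𝔪 ≤ K ⊔ 𝔪))
  let eF : (T ⧸ K) ⧸ (maximalIdeal A).map (algebraMap A (T ⧸ K)) ≃+* T ⧸ (K ⊔ 𝔪) :=
    (Ideal.quotEquivOfEq (by rw [h𝔪, Ideal.map_map]; rfl)).trans (DoubleQuot.quotQuotEquivQuotSup K 𝔪)
  have hq := RelQuasi.quasi_ringEquiv eF
    (RelQuasi.quasi_quotient (maximalIdeal A) (fun i => πK (G i)) hflS (H1Quasi.isQuasiRegular hh))
  let πF := Ideal.Quotient.mk (K ⊔ 𝔪)
  have heF : ∀ t : T, eF (Ideal.Quotient.mk _ (πK t)) = πF t := fun t => by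
    simp only [eF, RingEquiv.trans_apply, Ideal.quotEquivOfEq_mk]
    rfl
  have hqF : IsQuasiRegular fun i => πF (G i) := by
    simpa only [heF] using hq
  have hwF := RelQuasi.weaklyRegular_of_quasi _ (fun i => by
    rw [← IsLocalRing.map_maximalIdeal_of_surjective (f := πF) Ideal.Quotient.mk_surjective]
    exact Ideal.mem_map_of_mem _ (hG i)) hqF
  -- Nakayama
  haveI : Module.Finite T K := Module.Finite.iff_fg.mpr hK
  let Q := K ⧸ 𝔪 • (⊤ : Submodule T K)
  haveI : Module.Finite (T ⧸ 𝔪) Q := Module.Finite.of_restrictScalars_finite T _ _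
  haveI : IsNoetherian (T ⧸ 𝔪) Q := isNoetherian_of_isNoetherianRing_of_finite _ _
  let L : Submodule T Q := Submodule.map (𝔪 • (⊤ : Submodule T K)).mkQ (Submodule.comap K.subtype 𝔪)
  have hLfg : L.FG := by
    have e : (Submodule.span (T ⧸ 𝔪) (L : Set Q)).restrictScalars T = L := by
      rw [Submodule.restrictScalars_span T (T ⧸ 𝔪) Ideal.Quotient.mk_surjective, Submodule.span_eq]
    rw [← e]
    exact Submodule.FG.restrictScalars_of_surjective (IsNoetherian.noetherian _)
      Ideal.Quotient.mk_surjective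
  have hLG : L ≤ Ideal.span (Set.range G) • L := by
    rintro _ ⟨y, hy, rfl⟩
    have hyK : (y : T) ∈ K ⊔ Ideal.span (Set.range G) := Ideal.mem_sup_left y.2
    have h2 := Groth.Agent.Lib.Synt92.CritLocal.mem_mul_of_flat (K ⊔ Ideal.span (Set.range G))
      (maximalIdeal A) hyK hy
    rw [← h𝔪, Ideal.mul_sup, Submodule.mem_sup] at h2
    obtain ⟨k, hk, b, hb, hkb⟩ := h2
    rw [mul_comm] at hb
    obtain ⟨m, hm, rfl⟩ : ∃ m : Fin r → T, (∀ i, m i ∈ 𝔪) ∧ ∑ i, G i * m i = b := by
      refine Submodule.mul_induction_on hb (fun x hx w hw => ?_) ?_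
      · obtain ⟨s, rfl⟩ := Ideal.mem_span_range_iff_exists_fun.mp hx
        exact ⟨fun i => s i * w, fun i => Ideal.mul_mem_left _ _ hw, by
          rw [Finset.sum_mul]; exact Finset.sum_congr rfl fun i _ => by ring⟩
      · rintro x w ⟨m, hm, rfl⟩ ⟨m', hm', rfl⟩
        exact ⟨m + m', fun i => add_mem (hm i) (hm' i), by simp [mul_add, Finset.sum_add_distrib]⟩
    have hkK : k ∈ K := (Ideal.mul_le_right : 𝔪 * K ≤ K) hk
    obtain ⟨d, hd⟩ := (H1Quasi.isH1Regular_iff _).mp hh (fun i => πK (m i)) (by
      have h : ∑ i, G i * m i ∈ K := by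
        rw [show ∑ i, G i * m i = (y : T) - k by rw [← hkb]; ring]
        exact sub_mem y.2 hkK
      rw [← Ideal.Quotient.eq_zero_iff_mem, map_sum] at h
      refine Eq.trans (Finset.sum_congr rfl fun i _ => ?_) h
      rw [← map_mul, mul_comm])
    choose D hD using fun i j => Ideal.Quotient.mk_surjective (d i j)
    have hmD : ∀ i, m i - ∑ j, G j * (D i j - D j i) ∈ K := fun i => by
      rw [← Ideal.Quotient.eq_zero_iff_mem, map_sub, sub_eq_zero]
      refine (hd i).trans ?_
      simp [map_sum, ← hD, smul_eq_mul, πK]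
    obtain ⟨cF, hcF⟩ := exists_alt r _ hwF (fun i j => πF (D i j - D j i)) (fun i => by simp)
      (fun i j => by rw [← map_neg, neg_sub]) (fun i => by
        have h1 : ∑ j, G j * (D i j - D j i) ∈ K ⊔ 𝔪 := by
          rw [show ∑ j, G j * (D i j - D j i) = m i - (m i - ∑ j, G j * (D i j - D j i)) by ring]
          exact sub_mem (Ideal.mem_sup_right (hm i)) (Ideal.mem_sup_left (hmD i))
        rw [← Ideal.Quotient.eq_zero_iff_mem, map_sum] at h1
        refine Eq.trans (Finset.sum_congr rfl fun j _ => ?_) h1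
        rw [← map_mul])
    choose C hC using fun i j l => Ideal.Quotient.mk_surjective (cF i j l)
    let E : Fin r → Fin r → T := fun i j => D i j - D j i - ∑ l, G l * alt C i j l
    have hE : ∀ i j, E i j ∈ K ⊔ 𝔪 := fun i j => by
      rw [← Ideal.Quotient.eq_zero_iff_mem]
      show πF _ = 0
      rw [map_sub πF, sub_eq_zero]
      refine (hcF i j).trans ?_
      simp [map_sum, alt, ← hC, πF]
    choose κ hκ μ₀ hμ₀ hκμ using fun i j => Submodule.mem_sup.mp (hE i j)
    let μ : Fin r → Fin r → T := fun i j => if i < j then μ₀ i j else if j < i then -μ₀ j i else 0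
    have hμm : ∀ i j, μ i j ∈ 𝔪 := fun i j => by
      simp only [μ]
      split_ifs
      · exact hμ₀ i j
      · exact neg_mem (hμ₀ j i)
      · exact zero_mem _
    have hEμ : ∀ i j, E i j - μ i j ∈ K := fun i j => by
      rcases lt_trichotomy i j with h | rfl | h
      · simp only [μ, if_pos h]
        rw [← hκμ i j, add_sub_cancel_right]
        exact hκ i j
      · have h0 : E i i = 0 := by
          simp only [E, sub_self, zero_sub, neg_eq_zero]
          refine Finset.sum_eq_zero fun l _ => ?_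
          rw [show alt C i i l = 0 by simp only [alt]; ring, mul_zero]
        rw [h0]
        simp [μ]
      · simp only [μ, if_neg h.not_gt, if_pos h]
        have hanti : E i j = - E j i := by
          simp only [E]
          rw [Finset.sum_congr rfl fun l _ => (show G l * alt C i j l = -(G l * alt C j i l) by
            rw [alt_swap' C j i l, mul_neg]), Finset.sum_neg_distrib]
          ring
        rw [hanti, ← hκμ j i]
        rw [show -(κ j i + μ₀ j i) - -μ₀ j i = -κ j i by ring]
        exact neg_mem (hκ j i)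
    have hsum : ∀ i, ∑ j, G j * E i j = ∑ j, G j * (D i j - D j i) := fun i => by
      simp only [E, mul_sub, Finset.sum_sub_distrib]
      rw [sum_sum_alt G C i, sub_zero]
    let k' : Fin r → T := fun i => m i - ∑ j, G j * μ i j
    have hk'K : ∀ i, k' i ∈ K := fun i => by
      have : k' i = (m i - ∑ j, G j * (D i j - D j i)) + ∑ j, G j * (E i j - μ i j) := by
        simp only [mul_sub (G _) (E _ _), Finset.sum_sub_distrib, k']
        rw [hsum i]
        simp only [mul_sub, Finset.sum_sub_distrib]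
        ring
      rw [this]
      exact add_mem (hmD i) (Ideal.sum_mem _ fun j _ => Ideal.mul_mem_left _ _ (hEμ i j))
    have hk'm : ∀ i, k' i ∈ 𝔪 := fun i =>
      sub_mem (hm i) (Ideal.sum_mem _ fun j _ => Ideal.mul_mem_left _ _ (hμm i j))
    have hzero : ∑ i, G i * ∑ j, G j * μ i j = 0 := by
      simp only [Finset.mul_sum]
      rw [← Finset.sum_product']
      refine Finset.sum_involution (fun p _ => p.swap) ?_ ?_ (fun _ _ => Finset.mem_univ _)
        (fun p _ => Prod.swap_swap p)
      · rintro ⟨i, j⟩ _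
        show G i * (G j * μ i j) + G j * (G i * μ j i) = 0
        rcases lt_trichotomy i j with h | rfl | h
        · simp only [μ, if_pos h, if_neg h.not_gt]; ring
        · simp [μ]
        · simp only [μ, if_pos h, if_neg h.not_gt]; ring
      · rintro ⟨i, j⟩ _ hne heq
        obtain rfl : j = i := congrArg Prod.fst heq
        exact hne (by simp [μ])
    have hy' : y = ⟨k, hkK⟩ + ∑ i, G i • (⟨k' i, hk'K i⟩ : K) := Subtype.ext (by
      rw [Submodule.coe_add, Submodule.coe_sum]
      simp only [Submodule.coe_smul, smul_eq_mul, k', mul_sub, Finset.sum_sub_distrib]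
      rw [hzero, sub_zero, hkb])
    have ha' : (⟨k, hkK⟩ : K) ∈ 𝔪 • (⊤ : Submodule T K) := by
      rw [Submodule.mem_smul_top_iff]
      exact hk
    rw [hy', map_add, Submodule.mkQ_apply, (Submodule.Quotient.mk_eq_zero _).mpr ha', zero_add, map_sum]
    refine Submodule.sum_mem _ fun i _ => ?_
    rw [map_smul]
    exact Submodule.smul_mem_smul (Ideal.subset_span ⟨i, rfl⟩) ⟨⟨k' i, hk'K i⟩, hk'm i, rfl⟩
  have hL : L = ⊥ := Submodule.eq_bot_of_le_smul_of_le_jacobson_bot _ L hLfg hLG
    ((Ideal.span_le.mpr (Set.range_subset_iff.mpr hG)).trans (IsLocalRing.maximalIdeal_le_jacobson ⊥))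
  have hz0 : (𝔪 • (⊤ : Submodule T K)).mkQ (⟨z, hz⟩ : K) ∈ L := ⟨⟨z, hz⟩, hzm, rfl⟩
  rw [hL, Submodule.mem_bot, Submodule.mkQ_apply, Submodule.Quotient.mk_eq_zero,
    Submodule.mem_smul_top_iff] at hz0
  exact hz0

/-- Flatness from an `H₁`-regular sequence with flat quotient. -/
theorem flat_of_h1 {R S A' C' : Type u} [CommRing R] [CommRing S] [Algebra R S]
    [Algebra.FinitePresentation R S] (p : Ideal R) [p.IsPrime] (P : Ideal S) [P.IsPrime]
    [CommRing A'] [IsLocalRing A'] [Algebra R A'] [IsLocalization.AtPrime A' p]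
    [CommRing C'] [IsLocalRing C'] [Algebra S C'] [IsLocalization.AtPrime C' P]
    [Algebra A' C'] [IsLocalHom (algebraMap A' C')]
    (hcomm : ∀ r, algebraMap A' C' (algebraMap R A' r) = algebraMap S C' (algebraMap R S r))
    {r : ℕ} (x : Fin r → C') (hx : IsH1Regular x) (hm : ∀ i, x i ∈ maximalIdeal C')
    [Module.Flat A' (C' ⧸ Ideal.span (Set.range x))] : Module.Flat A' C' := by
  obtain ⟨n, ρ₀, hρ₀, hρker⟩ := Algebra.FinitePresentation.out (R := R) (A := S)
  let ρ : MvPolynomial (Fin n) A' →+* C' :=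
    MvPolynomial.eval₂Hom (algebraMap A' C') fun i => algebraMap S C' (ρ₀ (X i))
  have hρ : ∀ a, ρ (MvPolynomial.map (algebraMap R A') a) = algebraMap S C' (ρ₀ a) := fun a => by
    refine DFunLike.congr_fun (?_ : ρ.comp (MvPolynomial.map (algebraMap R A')) =
      (algebraMap S C').comp ρ₀.toRingHom) a
    refine MvPolynomial.ringHom_ext (fun r => ?_) fun i => ?_
    · simp only [RingHom.comp_apply, MvPolynomial.map_C, ρ, MvPolynomial.eval₂Hom_C]
      rw [hcomm]
      exact congrArg _ (AlgHom.commutes ρ₀ r).symm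
    · simp [ρ]
  let q : Ideal (MvPolynomial (Fin n) A') := (maximalIdeal C').comap ρ
  haveI : q.IsPrime := Ideal.IsPrime.comap _
  have hq : q.comap C = maximalIdeal A' := by
    ext a
    simp only [q, Ideal.mem_comap, ρ, MvPolynomial.eval₂Hom_C, mem_maximalIdeal, mem_nonunits_iff,
      isUnit_map_iff]
  let T := Localization.AtPrime q
  let ρ' : T →+* C' := IsLocalization.lift (M := q.primeCompl) (g := ρ) fun s =>
    IsLocalRing.notMem_maximalIdeal.mp s.2
  have hρ' : ∀ a, ρ' (algebraMap _ T a) = ρ a := IsLocalization.lift_eq _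
  have hunit : ∀ u : MvPolynomial (Fin n) R, ρ₀ u ∉ P →
      IsUnit (algebraMap _ T (MvPolynomial.map (algebraMap R A') u)) := by
    intro u hu
    refine IsLocalization.map_units T (⟨_, ?_⟩ : q.primeCompl)
    show ρ _ ∉ maximalIdeal C'
    rw [hρ, IsLocalization.AtPrime.to_map_mem_maximal_iff C' P]
    exact hu
  have hsurj : Function.Surjective ρ' := by
    intro c
    obtain ⟨⟨a, s⟩, e⟩ := IsLocalization.surj P.primeCompl c
    obtain ⟨a₀, ha₀⟩ := hρ₀ a
    obtain ⟨s₀, hs₀⟩ := hρ₀ s.1
    obtain ⟨w, hw⟩ := hunit s₀ (by rw [hs₀]; exact s.2)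
    refine ⟨algebraMap _ T (MvPolynomial.map (algebraMap R A') a₀) * ↑w⁻¹,
      (IsLocalization.map_units C' s).mul_right_cancel ?_⟩
    rw [e, map_mul, hρ', hρ, ha₀, show algebraMap S C' s.1 = ρ' ↑w by rw [hw, hρ', hρ, hs₀],
      mul_assoc, ← map_mul, Units.inv_mul, map_one, mul_one]
  let K : Ideal T := ((RingHom.ker ρ₀.toRingHom).map (MvPolynomial.map (algebraMap R A'))).map
    (algebraMap _ T)
  have hK : RingHom.ker ρ' = K := by
    refine le_antisymm (fun z hz => ?_) ?_
    · obtain ⟨⟨a, s⟩, e⟩ := IsLocalization.surj q.primeCompl z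
      have hs : IsUnit (algebraMap _ T (s : MvPolynomial (Fin n) A')) := IsLocalization.map_units T s
      refine (Ideal.mul_unit_mem_iff_mem _ hs).mp ?_
      have ha : ρ a = 0 := by rw [← hρ', ← e, map_mul, RingHom.mem_ker.mp hz, zero_mul]
      rw [e]
      letI : Algebra (MvPolynomial (Fin n) R) (MvPolynomial (Fin n) A') := MvPolynomial.algebraMvPolynomial
      obtain ⟨⟨a₀, d⟩, ed⟩ := IsLocalization.surj (p.primeCompl.map (C : R →+* MvPolynomial (Fin n) R)) a
      obtain ⟨d₀, hd₀, hd⟩ := Submonoid.mem_map.mp d.2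
      have ed' : a * C (algebraMap R A' d₀) = MvPolynomial.map (algebraMap R A') a₀ := by
        rw [← MvPolynomial.map_C (algebraMap R A'), hd]
        exact ed
      have h0 : algebraMap S C' (ρ₀ a₀) = 0 := by rw [← hρ, ← ed', map_mul, ha, zero_mul]
      obtain ⟨u, hu⟩ := (IsLocalization.map_eq_zero_iff P.primeCompl C' _).mp h0
      obtain ⟨u₀, hu₀⟩ := hρ₀ u.1
      have hker : u₀ * a₀ ∈ RingHom.ker ρ₀.toRingHom := by
        show ρ₀ (u₀ * a₀) = 0
        rw [map_mul, hu₀, hu]
      have hdu : IsUnit (algebraMap _ T (C (algebraMap R A' d₀) : MvPolynomial (Fin n) A')) :=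
        ((IsLocalization.map_units A' (⟨d₀, hd₀⟩ : p.primeCompl)).map C).map _
      refine (Ideal.mul_unit_mem_iff_mem _ (hdu.mul (hunit u₀ (by rw [hu₀]; exact u.2)))).mp ?_
      rw [show algebraMap _ T a * (algebraMap _ T (C (algebraMap R A' d₀)) *
        algebraMap _ T (MvPolynomial.map (algebraMap R A') u₀)) =
        algebraMap _ T (MvPolynomial.map (algebraMap R A') (u₀ * a₀)) by
          rw [map_mul (MvPolynomial.map (algebraMap R A')), ← ed', map_mul, map_mul]; ring]
      exact Ideal.mem_map_of_mem _ (Ideal.mem_map_of_mem _ hker)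
    · simp only [K, Ideal.map_le_iff_le_comap]
      intro a ha
      show ρ' (algebraMap _ T (MvPolynomial.map (algebraMap R A') a)) = 0
      rw [hρ', hρ, show ρ₀ a = 0 from ha, map_zero]
  have hKfg : K.FG := (hρker.map _).map _
  letI : Algebra T C' := ρ'.toAlgebra
  haveI : IsScalarTower A' T C' := IsScalarTower.of_algebraMap_eq fun a => by
    show algebraMap A' C' a = ρ' (algebraMap A' T a)
    rw [IsScalarTower.algebraMap_apply A' (MvPolynomial (Fin n) A') T, hρ', MvPolynomial.algebraMap_eq]
    simp [ρ]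
  choose g hg using hsurj
  let G : Fin r → T := fun i => g (x i)
  have hG : ∀ i, ρ' (G i) = x i := fun i => hg _
  let e : (T ⧸ K) ≃ₗ[T] C' := (Submodule.quotEquivOfEq K (LinearMap.ker (Algebra.linearMap T C'))
    (hK.symm.trans rfl)).trans ((Algebra.linearMap T C').quotKerEquivOfSurjective fun c => ⟨g c, hg c⟩)
  let e' : (T ⧸ K) ≃+* C' := (Ideal.quotEquivOfEq hK.symm).trans
    (RingHom.quotientKerEquivOfSurjective (f := ρ') fun c => ⟨g c, hg c⟩)
  have he' : ∀ t, e' (Ideal.Quotient.mk K t) = ρ' t := fun t => rfl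
  have hmemG : ∀ i, G i ∈ maximalIdeal T := fun i hu => hm i (hG i ▸ hu.map ρ')
  have hKm : K ⊔ (maximalIdeal A').map (algebraMap A' T) ≤ maximalIdeal T := by
    refine sup_le (IsLocalRing.le_maximalIdeal ?_) (Ideal.map_le_iff_le_comap.mpr fun a ha hu => ?_)
    · rw [← hK]; exact RingHom.ker_ne_top _
    · have h1 : IsUnit (algebraMap A' C' a) := by
        rw [IsScalarTower.algebraMap_apply A' T C']
        exact hu.map _
      exact ha (isUnit_of_map_unit _ a h1)
  have hh : IsH1Regular fun i => Ideal.Quotient.mk K (G i) := by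
    rw [H1Quasi.isH1Regular_iff] at hx ⊢
    intro a ha
    obtain ⟨d, hd⟩ := hx (fun i => e' (a i)) (by
      have h := congrArg e' ha
      simpa [map_sum, he', hG] using h)
    refine ⟨fun i j => e'.symm (d i j), fun i => e'.injective ?_⟩
    show e' (a i) = _
    rw [show e' (a i) = ∑ j, x j • (d i j - d j i) from hd i, map_sum]
    simp [he', hG]
  let θ : T →ₐ[A'] C' ⧸ Ideal.span (Set.range x) :=
    (Ideal.Quotient.mkₐ A' (Ideal.span (Set.range x))).comp (IsScalarTower.toAlgHom A' T C')
  have hθ : RingHom.ker θ = K ⊔ Ideal.span (Set.range G) := by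
    change RingHom.ker ((Ideal.Quotient.mk (Ideal.span (Set.range x))).comp ρ') = _
    rw [← RingHom.comap_ker, Ideal.mk_ker,
      show Ideal.span (Set.range x) = (Ideal.span (Set.range G)).map ρ' by
        rw [Ideal.map_span, ← Set.range_comp, show (ρ' : T → C') ∘ G = x from funext hG],
      Ideal.comap_map_of_surjective _ (fun c => ⟨g c, hg c⟩), ← RingHom.ker_eq_comap_bot, hK, sup_comm]
  haveI : Module.Flat A' (T ⧸ (K ⊔ Ideal.span (Set.range G))) :=
    Module.Flat.of_linearEquiv ((Ideal.quotientEquivAlgOfEq A' hθ.symm).trans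
      (Ideal.quotientKerAlgEquivOfSurjective
        ((Ideal.Quotient.mkₐ_surjective A' _).comp fun c => ⟨g c, hg c⟩))).toLinearEquiv
  haveI := FlatUnslice.isNoetherianRing_fibre q
  haveI := FlatUnslice.flat_quotient hq K hKfg fun z hz hzm =>
    mem_mul K hKfg G hmemG hKm hh hz hzm
  exact Module.Flat.of_linearEquiv (e.symm.restrictScalars A')

end Groth.Agent.H26.H1Unslice
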