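import Groth.Agent.Lib.HilbD.Basic
import Groth.Agent.Lib.Lim.Basic
import Groth.Agent.Lib.Lim.Approx.Integral
import Groth.Agent.Lib.Flat55.FibreTransfer
import Groth.Agent.S9197
import Groth.Agent.S9208
import Groth.Agent.S9220

/-!
# A scheme representing the Hilbert functor of points is locally of finite presentation
-/

set_option autoImplicit false
set_option linter.style.haveILetI false
set_option backward.isDefEq.respectTransparency false

universe u

open CategoryTheory CategoryTheory.Limits AlgebraicGeometry Opposite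
open Groth.Agent.Lib Groth.Agent.Lib.Lim.Basic

namespace Groth.Agent.H26.HilbLfp

variable {X S : Scheme.{u}} (f : X ⟶ S) [LocallyOfFinitePresentation f] [QuasiCompact f]
  [QuasiSeparated f] {d : ℕ} {H : Over S} {Z : _root_.HilbD.Obj f d H}

theorem isPullback_unique {X₁ X₂ Y Z₀ W : Scheme.{u}} {a₁ : X₁ ⟶ Z₀} {b₁ : X₁ ⟶ Y} {a₂ : X₂ ⟶ Z₀}
    {b₂ : X₂ ⟶ Y} {p : Z₀ ⟶ W} {q : Y ⟶ W} (h₁ : IsPullback a₁ b₁ p q) (h₂ : IsPullback a₂ b₂ p q) {d : ℕ}
    (h : Mor2.IsFinLocFreeOfDeg d b₁) : Mor2.IsFinLocFreeOfDeg d b₂ :=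
  MorphismProperty.of_isPullback (P := AlgSp.finLocFreeOfDeg d)
    (IsPullback.of_horiz_isIso ⟨(h₂.isoIsPullback_hom_snd _ _ h₁).trans (Category.comp_id _).symm⟩ :
      IsPullback (h₂.isoIsPullback _ _ h₁).hom b₂ b₁ (𝟙 Y)) h

theorem locallyOfFinitePresentation_of_isUniversal (hU : _root_.HilbD.IsUniversal f d H Z) :
    LocallyOfFinitePresentation H.hom := by
  refine Groth.Agent.S9208.result H.hom fun J _ _ _ D t c hc hD j₀ g hg => ?_
  haveI : ∀ {i j : Jᵒᵖ} (φ : i ⟶ j), IsAffineHom (D.map φ) := fun φ => by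
    haveI := hD; infer_instance
  let T : Over S := Over.mk (c.π.app j₀ ≫ t.app j₀)
  let T₀ : Over S := Over.mk (t.app j₀)
  let pr : T ⟶ T₀ := Over.homMk (c.π.app j₀) rfl
  let gT : T ⟶ H := Over.homMk g hg
  let a : PicF.XT f T₀ ⟶ D.obj j₀ := PicF.XTproj f T₀
  haveI := hD j₀
  haveI : CompactSpace T₀.left := inferInstanceAs (CompactSpace (D.obj j₀))
  haveI : QuasiSeparatedSpace T₀.left := inferInstanceAs (QuasiSeparatedSpace (D.obj j₀))
  haveI : QuasiCompact a := inferInstanceAs (QuasiCompact (pullback.snd f T₀.hom))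
  haveI : QuasiSeparated a := inferInstanceAs (QuasiSeparated (pullback.snd f T₀.hom))
  haveI : LocallyOfFinitePresentation a :=
    inferInstanceAs (LocallyOfFinitePresentation (pullback.snd f T₀.hom))
  haveI : CompactSpace ↥(PicF.XT f T₀) := QuasiCompact.compactSpace_of_compactSpace a
  haveI : QuasiSeparatedSpace ↥(PicF.XT f T₀) := quasiSeparatedSpace_of_quasiSeparated a
  let p : PicF.XT f T ⟶ c.pt := PicF.XTproj f T
  let q : PicF.XT f T ⟶ PicF.XT f T₀ := PicF.XTmap f pr
  have hP : IsPullback q p a (c.π.app j₀) := HilbD.Basic.isPullback_XTmap f pr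
  haveI := fun j => compactSpace_bcDiagram D a j
  haveI := fun j => quasiSeparatedSpace_bcDiagram D a j
  -- the family on the limit
  let ZT : (PicF.XT f T).IdealSheafData := Z.1.comap (PicF.XTmap f gT)
  have hZT : Mor2.IsFinLocFreeOfDeg d (ZT.subschemeι ≫ p) :=
    HilbD.Basic.finLocFreeOfDeg_comap (HilbD.Basic.isPullback_XTmap f gT) Z.2
  haveI : LocallyOfFinitePresentation (ZT.subschemeι ≫ p) := hZT.1.2.2
  haveI : LocallyOfFinitePresentation p :=
    inferInstanceAs (LocallyOfFinitePresentation (pullback.snd f T.hom))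
  haveI : LocallyOfFinitePresentation ZT.subschemeι :=
    Flat55.FibreTransfer.locallyOfFinitePresentation_of_comp (f := ZT.subschemeι) (g := p) ‹_› inferInstance
  have hFG := Lim.Approx.Integral.isFG_ker_of_lfp ZT.subschemeι
  rw [Scheme.IdealSheafData.ker_subschemeι] at hFG
  -- descend the ideal
  obtain ⟨j, Jj, hJj, hJZ⟩ := Groth.Agent.S9220.result (bcDiagram D a) (bcCone hP.w)
    (isLimitBcCone hc hP) ZT hFG
  haveI := Lim.IdealFP.lfp_subschemeι Jj hJj
  haveI : LocallyOfFinitePresentation (pullback.snd a (D.map j.hom)) := inferInstance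
  haveI : CompactSpace Jj.subscheme := QuasiCompact.compactSpace_of_compactSpace Jj.subschemeι
  haveI : QuasiSeparatedSpace Jj.subscheme := quasiSeparatedSpace_of_quasiSeparated Jj.subschemeι
  haveI := hD j.left
  -- descend the degree
  have hsq : IsPullback (HilbD.Basic.comapMap ((bcCone hP.w).π.app j) Jj)
      ((Jj.comap ((bcCone hP.w).π.app j)).subschemeι ≫ p) (Jj.subschemeι ≫ pullback.snd a (D.map j.hom))
      (c.π.app j.left) :=
    HilbD.Basic.isPullback_comap_proj (isPullback_bcCone_π hP j) Jj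
  rw [← hJZ] at hZT
  obtain ⟨i, φ, Xi, Yi, fi, gi, pY, pX, h1, h2, h3⟩ := Groth.Agent.S9197.result D c hc j.left
    (Jj.subschemeι ≫ pullback.snd a (D.map j.hom)) (𝟙 (D.obj j.left)) d _ (𝟙 c.pt) (c.π.app j.left) _
    (IsPullback.of_vert_isIso ⟨by simp⟩) hsq hZT
  let j' : Over j₀ := Over.mk (φ ≫ j.hom)
  let m : j' ⟶ j := Over.homMk φ rfl
  let Ji := Jj.comap ((bcDiagram D a).map m)
  haveI : IsIso gi := h1.isIso_snd_of_isIso
  have hfi : Mor2.IsFinLocFreeOfDeg d (fi ≫ gi) :=
    (MorphismProperty.cancel_right_of_respectsIso (AlgSp.finLocFreeOfDeg d) fi gi).2 h3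
  have hJi : Mor2.IsFinLocFreeOfDeg d (Ji.subschemeι ≫ pullback.snd a (D.map j'.hom)) :=
    isPullback_unique (Category.comp_id (Jj.subschemeι ≫ pullback.snd a (D.map j.hom)) ▸ h2.paste_vert h1)
      (HilbD.Basic.isPullback_comap_proj (isPullback_bcDiagram_map D a m) Jj) hfi
  -- the family at the stage
  let Ti : Over S := Over.mk (t.app i)
  have ht : D.map (φ ≫ j.hom) ≫ t.app j₀ = t.app i := (t.naturality _).trans (Category.comp_id _)
  let pri : Ti ⟶ T₀ := Over.homMk (D.map (φ ≫ j.hom)) ht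
  let e := (HilbD.Basic.isPullback_XTmap f pri).isoPullback
  let Zi : _root_.HilbD.Obj f d Ti := ⟨Ji.comap e.hom, HilbD.Basic.finLocFreeOfDeg_comap
    (IsPullback.of_horiz_isIso ⟨((HilbD.Basic.isPullback_XTmap f pri).isoPullback_hom_snd).trans (Category.comp_id _).symm⟩ :
      IsPullback e.hom (PicF.XTproj f Ti) (pullback.snd a (D.map j'.hom)) (𝟙 _)) hJi⟩
  obtain ⟨gj, hgj, -⟩ := hU Ti Zi
  let πi : T ⟶ Ti := Over.homMk (c.π.app i) (by
    show c.π.app i ≫ t.app i = c.π.app j₀ ≫ t.app j₀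
    rw [← ht, c.w_assoc])
  refine ⟨i, gj.left, Over.w gj, ?_⟩
  have he : PicF.XTmap f πi ≫ e.hom = (bcCone hP.w).π.app j' := by
    apply pullback.hom_ext
    · rw [Category.assoc, IsPullback.isoPullback_hom_fst, ← HilbD.Basic.XTmap_comp]
      refine Eq.trans ?_ (bcCone_π_fst hP.w j').symm
      show _ = PicF.XTmap f pr
      congr 1
      ext
      exact c.w _
    · rw [Category.assoc, IsPullback.isoPullback_hom_snd]
      exact (HilbD.Basic.XTmap_snd f πi).trans (bcCone_π_snd hP.w j').symm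
  have : πi ≫ gj = gT := HilbD.Basic.hom_ext f hU (by
    rw [HilbD.Basic.pull_comp, hgj, HilbD.Basic.pull_eq_comap, HilbD.Basic.pull_eq_comap]
    show (Ji.comap e.hom).comap (PicF.XTmap f πi) = ZT
    rw [← hJZ, ← Scheme.IdealSheafData.comap_comp, he, ← Scheme.IdealSheafData.comap_comp,
      (bcCone hP.w).w m])
  exact congrArg CommaMorphism.left this

end Groth.Agent.H26.HilbLfp
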