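import Groth.Agent.H26.HyperplaneSection
import Groth.Agent.Lib.ProjCoh.GlobalFun
import Groth.Agent.Lib.ProjSub.Closed
import Groth.Agent.Lib.ProperFin.TwistBC

/-!
# Hyperplanes are projective spaces
-/

set_option autoImplicit false
set_option linter.all false
set_option maxHeartbeats 1000000
set_option backward.isDefEq.respectTransparency.types false

universe u

open CategoryTheory CategoryTheory.Limits AlgebraicGeometry TopologicalSpace Opposite MvPolynomial
open Groth.Agent.Lib.ProjSpace Groth.Agent.H26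
open Groth.Agent.Lib.TensorMod.Gen Groth.Agent.Lib.TensorMod.Dual
open Groth.Agent.Lib.ProjMor.Sec (gl rs_gl)
open Groth.Agent.H95.ZeroSch (sv)
open Groth.Agent.Lib.ProjTilde

noncomputable section

namespace Groth.Agent.H26.Hyperplane

variable {n : ℕ} {R : Type u} [CommRing R]

open Groth.Agent.Lib.ProjCoh.Sections Groth.Agent.Lib.Cech.Complex in
/-- Global sections of `O(1)` are linear forms. -/
theorem exists_form (hn : 0 < n) (σ : Γ(Twist.twistProjSpace n R 1, ⊤)) :
    ∃ h : ↥(CohB1.polyGrading n R 1), Groth.Agent.Lib.ProjMor.Frame.g (CohB1.polyGrading n R) h = σ := by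
  classical
  let T : Γ(Twist.twistProjSpace n R 1, ⊤) → Sect n R 1 ⊤ := fun τ =>
    Basic.twistToTilde (show Twist.sectN (𝒜 := CohB1.polyGrading n R) 1 (op ⊤) from τ)
  let fn1 : ∀ W : (CohB1.ProjSpace n R).Opens, Sect n R 1 ⊤ → Sect n R 1 W := fun W τ =>
    GrTilde.res (CohB1.polyGrading n R) (CohB1.polyGrading n R) 1 (homOfLE le_top).op τ
  have hres : ∀ {W V : (CohB1.ProjSpace n R).Opens} (h : V ≤ W) (τ : Sect n R 1 ⊤),
      (res (PS n R 1) h (fn1 W τ) : Sect n R 1 V) = fn1 V τ := fun h τ => Frac.sect_ext fun _ => rfl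
  let cf : (Fin 1 → ULift.{u} (Fin (n + 1))) → Sect n R 1 ⊤ → Lau n R := fun i τ =>
    coef i (fn1 (inter (cover n R) i) τ)
  have hcf : ∀ i i' τ, cf i τ = cf i' τ := by
    intro i i' τ
    let p : Fin 2 → ULift.{u} (Fin (n + 1)) := ![i 0, i' 0]
    have h : inter (cover n R) p ≤ inter (cover n R) i :=
      inter_mono _ _ _ fun b => ⟨0, by fin_cases b; rfl⟩
    have h' : inter (cover n R) p ≤ inter (cover n R) i' :=
      inter_mono _ _ _ fun b => ⟨1, by fin_cases b; rfl⟩
    have e1 := coef_res p i h (fn1 (inter (cover n R) i) τ)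
    have e2 := coef_res p i' h' (fn1 (inter (cover n R) i') τ)
    rw [hres h τ] at e1
    rw [hres h' τ] at e2
    exact e1.symm.trans e2
  let i₀ : Fin 1 → ULift.{u} (Fin (n + 1)) := fun _ => ⟨0⟩
  let l : Lau n R := cf i₀ (T σ)
  have hl : ∀ e, l.coeff e ≠ 0 → ∃ j, e = castE (Finsupp.single j 1) := fun e he => by
    have hA : ∀ i : Fin 1 → ULift.{u} (Fin (n + 1)), Adm 1 i e := fun i =>
      coef_support i (fn1 (inter (cover n R) i) (T σ))
        ((congrArg (fun m : Lau n R => m.coeff e) (hcf i i₀ (T σ))).trans_ne he)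
    have h0 : ∀ j, 0 ≤ e j := fun j => by
      refine not_lt.mp fun hj => ?_
      have : Nontrivial (Fin (n + 1)) := Fin.nontrivial_iff_two_le.mpr (by omega)
      obtain ⟨j', hj'⟩ := exists_ne j
      obtain ⟨a, ha⟩ := (hA fun _ => ⟨j'⟩).2 j hj
      exact hj' ha
    have h1 := (hA i₀).1
    obtain ⟨j, hj⟩ : ∃ j, e j ≠ 0 := by
      by_contra hne
      push Not at hne
      simp [hne] at h1
    refine ⟨j, ?_⟩
    rw [Fintype.sum_eq_add_sum_compl j] at h1
    have h2 := Finset.sum_nonneg fun i (_ : i ∈ ({j}ᶜ : Finset (Fin (n + 1)))) => h0 i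
    have h3 : ∑ i ∈ ({j}ᶜ : Finset (Fin (n + 1))), e i = 0 := by have := h0 j; omega
    ext i
    rw [castE_apply]
    rcases eq_or_ne i j with rfl | hi
    · simp only [Finsupp.single_eq_same, Nat.cast_one]; omega
    · rw [Finsupp.single_eq_of_ne hi, Nat.cast_zero]
      exact (Finset.sum_eq_zero_iff_of_nonneg fun i _ => h0 i).mp h3 i (by simp [hi])
  let P : MvPolynomial (Fin (n + 1)) R := ∑ j, C (l.coeff (castE (Finsupp.single j 1))) * X j
  let h : ↥(CohB1.polyGrading n R 1) := ⟨P, Submodule.sum_mem _ fun j _ => isHomogeneous_C_mul_X _ j⟩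
  refine ⟨h, ?_⟩
  have hlau : toL P = l := by
    refine AddMonoidAlgebra.ext (Finsupp.ext fun e => ?_)
    have hP : toL P = ∑ j, AddMonoidAlgebra.single (castE (Finsupp.single j 1)) (l.coeff (castE (Finsupp.single j 1))) := by
      rw [map_sum]
      exact Finset.sum_congr rfl fun j _ => by rw [C_mul_X_eq_monomial, toL_monomial]
    rw [hP, AddMonoidAlgebra.coeff_sum, Finsupp.finset_sum_apply]
    simp only [AddMonoidAlgebra.coeff_single, Finsupp.single_apply]
    by_cases he : ∃ j, e = castE (Finsupp.single j 1)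
    · obtain ⟨j, rfl⟩ := he
      rw [Finset.sum_eq_single j]
      · simp
      · exact fun i _ hi => if_neg fun h' => hi (Finsupp.single_left_injective one_ne_zero (castE_injective h'))
      · simp
    · rw [Finset.sum_eq_zero fun i _ => if_neg fun h' => he ⟨i, h'.symm⟩]
      by_contra hne
      exact he (hl e (Ne.symm hne))
  have key : ∀ i, cf i (T (Groth.Agent.Lib.ProjMor.Frame.g (CohB1.polyGrading n R) h)) = cf i (T σ) := by
    intro i
    refine Eq.trans ?_ (hlau.trans (hcf i₀ i (T σ)))
    have hrep : Rep (fn1 (inter (cover n R) i)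
        (T (Groth.Agent.Lib.ProjMor.Frame.g (CohB1.polyGrading n R) h))) 0 P := by
      refine ⟨Frac.Deg.of_mem (ℳ := CohB1.polyGrading n R) h.2 (Or.inl (by simp)), ?_, fun x hx => ?_⟩
      · intro x _ hx
        exact x.isPrime.ne_top ((Ideal.eq_top_iff_one _).mpr hx)
      · exact (Basic.val_twistToTilde _ _).trans (congrArg (LocalizedModule.mk P) (Subtype.ext rfl))
    change coef i _ = _
    rw [coef_eq i hrep, laur, map_zero, neg_zero, zmono_zero, mul_one]
  refine Basic.twistToTilde_injective (Frac.sect_ext fun x => ?_)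
  obtain ⟨j, hj⟩ : ∃ j, (x.1 : CohB1.ProjSpace n R) ∈ cover n R j := by
    have hx : (x.1 : CohB1.ProjSpace n R) ∈ iSup (cover n R) := (iSup_cover (n := n) (R := R)).ge trivial
    exact Opens.mem_iSup.mp hx
  let i : Fin 1 → ULift.{u} (Fin (n + 1)) := fun _ => j
  have hx : (x.1 : CohB1.ProjSpace n R) ∈ inter (cover n R) i :=
    (le_iInf fun _ => le_rfl : cover n R j ≤ inter (cover n R) i) hj
  exact congrArg (fun τ => Frac.val τ (⟨x.1, hx⟩ : inter (cover n R) i)) (coef_injective i (key i))

variable (k : Type u) [Field k]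

theorem irrelevant_le_span_X {m : ℕ} :
    (HomogeneousIdeal.irrelevant (CohB1.polyGrading m k)).toIdeal ≤
      Ideal.span (Set.range (X : Fin (m + 1) → MvPolynomial (Fin (m + 1)) k)) := fun a ha => by
  refine CIVertex.ker_constantCoeff_le (Ideal.span (Set.range (X : Fin (m + 1) → MvPolynomial (Fin (m + 1)) k)))
    (fun j => Ideal.subset_span ⟨j, rfl⟩) ?_
  rw [RingHom.mem_ker, constantCoeff_eq]
  rw [HomogeneousIdeal.toIdeal_irrelevant, RingHom.mem_ker, GradedRing.projZeroRingHom_apply] at ha
  have h0 : ((DirectSum.decompose (CohB1.polyGrading m k) a) 0 : MvPolynomial (Fin (m + 1)) k) =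
      homogeneousComponent 0 a := MvPolynomial.decomposition.decompose'_apply a 0
  rw [h0, homogeneousComponent_zero, C_eq_zero] at ha
  exact ha

/-- A graded surjection with kernel a given nonzero linear form. -/
theorem exists_gradedHom (h : ↥(CohB1.polyGrading (n + 1) k 1)) (hh : (h : MvPolynomial (Fin (n + 2)) k) ≠ 0) :
    ∃ φ : CohB1.polyGrading (n + 1) k →+*ᵍ CohB1.polyGrading n k, Function.Surjective φ ∧
      φ (h : MvPolynomial (Fin (n + 2)) k) = 0 ∧
      (∀ p, φ p = 0 → (h : MvPolynomial (Fin (n + 2)) k) ∣ p) ∧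
      ∃ j, φ (X j) ≠ 0 := by
  classical
  obtain ⟨j₀, hj₀⟩ : ∃ j, coeff (Finsupp.single j 1) (h : MvPolynomial (Fin (n + 2)) k) ≠ 0 := by
    by_contra hne
    push Not at hne
    exact hh ((BertiniProj.eq_sum_coeff h).trans (by simp [hne]))
  let a : Fin (n + 2) → k := fun i => coeff (Finsupp.single i 1) (h : MvPolynomial (Fin (n + 2)) k)
  let v : Fin (n + 2) → MvPolynomial (Fin (n + 1)) k :=
    j₀.insertNth (-(C (a j₀)⁻¹ * ∑ i, C (a (j₀.succAbove i)) * X i)) X
  let f : MvPolynomial (Fin (n + 2)) k →ₐ[k] MvPolynomial (Fin (n + 1)) k := aeval v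
  have hv : ∀ i, (v i).IsHomogeneous 1 := by
    intro i
    rcases Fin.eq_self_or_eq_succAbove j₀ i with rfl | ⟨m, rfl⟩
    · simp only [v, Fin.insertNth_apply_same]
      exact ((IsHomogeneous.sum _ _ _ fun m _ => isHomogeneous_C_mul_X _ m).C_mul _).neg
    · simp only [v, Fin.insertNth_apply_succAbove]
      exact isHomogeneous_X k m
  let φ : CohB1.polyGrading (n + 1) k →+*ᵍ CohB1.polyGrading n k :=
    { f.toRingHom with
      map_mem := fun {d p} hp => show (aeval v p).IsHomogeneous d from one_mul d ▸ IsHomogeneous.aeval hp v hv }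
  have hf : ∀ p, φ p = f p := fun _ => rfl
  let σ : MvPolynomial (Fin (n + 1)) k →ₐ[k] MvPolynomial (Fin (n + 2)) k := rename j₀.succAbove
  have hfσ : ∀ q, f (σ q) = q := fun q => by
    simp only [f, σ, aeval_rename]
    rw [show v ∘ j₀.succAbove = X from funext fun m => Fin.insertNth_apply_succAbove j₀ _ _ m, aeval_X_left_apply]
  have hsum : (h : MvPolynomial (Fin (n + 2)) k) = C (a j₀) * X j₀ +
      ∑ i, C (a (j₀.succAbove i)) * X (j₀.succAbove i) := by
    conv_lhs => rw [BertiniProj.eq_sum_coeff h, Fin.sum_univ_succAbove _ j₀]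
  have hdiff : ∀ p, (h : MvPolynomial (Fin (n + 2)) k) ∣ p - σ (f p) := by
    intro p
    induction p using MvPolynomial.induction_on with
    | C c => simp [f, σ]
    | add p q hp hq =>
      rw [map_add, map_add, show p + q - (σ (f p) + σ (f q)) = (p - σ (f p)) + (q - σ (f q)) by ring]
      exact dvd_add hp hq
    | mul_X p i hp =>
      rw [map_mul, map_mul, show p * X i - σ (f p) * σ (f (X i)) =
        (p - σ (f p)) * X i + σ (f p) * (X i - σ (f (X i))) by ring]
      refine dvd_add (hp.mul_right _) (Dvd.dvd.mul_left ?_ _)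
      rcases Fin.eq_self_or_eq_succAbove j₀ i with rfl | ⟨m, rfl⟩
      · refine ⟨C (a i)⁻¹, ?_⟩
        simp only [f, v, aeval_X, Fin.insertNth_apply_same, σ, map_neg, map_mul, rename_C, map_sum, rename_X]
        rw [hsum, add_mul, sub_neg_eq_add, mul_comm (C (a i)⁻¹)]
        congr 1
        rw [mul_right_comm, ← C_mul, mul_inv_cancel₀ hj₀, C_1, one_mul]
      · simp [f, v, σ]
  refine ⟨φ, fun q => ⟨σ q, by rw [hf, hfσ]⟩, ?_, fun p hp => ?_, j₀.succAbove 0, ?_⟩
  · rw [hf, hsum]
    simp only [map_add, map_mul, map_sum, f, aeval_C, aeval_X, v, Fin.insertNth_apply_same,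
      Fin.insertNth_apply_succAbove, ← C_eq_algebraMap]
    rw [mul_neg, ← mul_assoc, ← C_mul, mul_inv_cancel₀ hj₀, C_1, one_mul, neg_add_cancel]
  · have := hdiff p
    rwa [← hf, hp, map_zero, sub_zero] at this
  · simp [hf, f, v, X_ne_zero]

theorem mul_homogeneousComponent {m d : ℕ} (h : ↥(CohB1.polyGrading m k 1)) (b : MvPolynomial (Fin (m + 1)) k)
    (ha : (h : MvPolynomial (Fin (m + 1)) k) * b ∈ CohB1.polyGrading m k ((d + 1) • 1)) :
    (h : MvPolynomial (Fin (m + 1)) k) * b = h * homogeneousComponent d b := by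
  have ha' : ((h : MvPolynomial (Fin (m + 1)) k) * b) ∈ CohB1.polyGrading m k (1 + d) := by
    simpa [add_comm] using ha
  have h1 := DirectSum.coe_decompose_mul_add_of_left_mem (CohB1.polyGrading m k) (b := b) (j := d) h.2
  rw [DirectSum.decompose_of_mem_same _ ha'] at h1
  rw [h1]
  congr 1
  exact MvPolynomial.decomposition.decompose'_apply b d

open Groth.Agent.Lib.ProjSub in
/-- A hyperplane is a projective space. -/
theorem exists_iso (s : Coh.structureModule (CohB1.ProjSpace (n + 1) k) ⟶ Twist.twistProjSpace (n + 1) k 1)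
    (hs : s ≠ 0) :
    ∃ φ : CohB1.ProjSpace n k ≅ (PicF2.zeroScheme _ s).subscheme,
      Nonempty ((Scheme.Modules.pullback (φ.hom ≫ (PicF2.zeroScheme _ s).subschemeι)).obj
          (Twist.twistProjSpace (n + 1) k 1) ≅ Twist.twistProjSpace n k 1) := by
  classical
  obtain ⟨h, hh⟩ := exists_form (n := n + 1) (R := k) (Nat.succ_pos n) (sv s ⊤)
  have hsv : ∀ U, sv s U = gl (Groth.Agent.Lib.ProjMor.Frame.g (CohB1.polyGrading (n + 1) k) h) U :=
    fun U => by rw [← Groth.Agent.H95.ZeroSch.rs_sv s (le_top : U ≤ ⊤), ← hh]; rfl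
  have hh0 : (h : MvPolynomial (Fin (n + 2)) k) ≠ 0 := by
    intro h0
    refine hs (Scheme.Modules.hom_ext _ _ fun W => ?_)
    ext r
    change s.app W r = 0
    rw [app_eq_smul s r]
    have hz : h = 0 := Subtype.ext h0
    have : sv s W = 0 := by
      rw [hsv W, hz, show Groth.Agent.Lib.ProjMor.Frame.g (CohB1.polyGrading (n + 1) k) 0 = 0 from
        Subtype.ext (funext fun x => Subtype.ext (Localization.mk_zero _))]
      exact map_zero ((Twist.twistProjSpace (n + 1) k 1).presheaf.map (homOfLE le_top).op).hom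
    change (show Γ(CohB1.ProjSpace (n + 1) k, W) from r) • sv s W = 0
    rw [this, smul_zero]
  obtain ⟨φ, hsurj, hφh, hker, j₁, hj₁⟩ := exists_gradedHom k h hh0
  let A := MvPolynomial (Fin (n + 2)) k
  let S : Finset (MvPolynomial (Fin (n + 2)) k) := Finset.univ.image X
  have hS1 : ∀ f ∈ S, f ∈ CohB1.polyGrading (n + 1) k 1 := fun f hf => by
    obtain ⟨j, -, rfl⟩ := Finset.mem_image.mp hf
    exact isHomogeneous_X k j
  have hirr : (HomogeneousIdeal.irrelevant (CohB1.polyGrading (n + 1) k)).toIdeal = Ideal.span (S : Set A) := by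
    rw [Finset.coe_image, Finset.coe_univ, Set.image_univ]
    exact le_antisymm (irrelevant_le_span_X k) (Ideal.span_le.mpr (by
      rintro _ ⟨j, rfl⟩
      exact HomogeneousIdeal.mem_irrelevant_of_mem _ one_pos (isHomogeneous_X k j)))
  have hirr' : HomogeneousIdeal.irrelevant (CohB1.polyGrading n k) ≤
      (HomogeneousIdeal.irrelevant (CohB1.polyGrading (n + 1) k)).map φ := by
    change (HomogeneousIdeal.irrelevant (CohB1.polyGrading n k)).toIdeal ≤ _
    rw [HomogeneousIdeal.toIdeal_irrelevant_le]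
    intro d hd b hb
    obtain ⟨a, ha, rfl⟩ := Closed.exists_preimage_mem φ hsurj hb
    exact Ideal.mem_map_of_mem _ (HomogeneousIdeal.mem_irrelevant_of_mem _ hd ha)
  let I := PicF2.zeroScheme (Twist.twistProjSpace (n + 1) k 1) s
  haveI hI : @IsClosedImmersion I.subscheme (Proj (CohB1.polyGrading (n + 1) k)) I.subschemeι :=
    (inferInstance : IsClosedImmersion I.subschemeι)
  have hev : ∀ (j : Fin (n + 2)) (z : Charts.AwayX k j),
      Closed.ev I.subschemeι (X j : MvPolynomial (Fin (n + 2)) k) z = 0 ↔ BertiniProj.frac h j ∣ z := by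
    intro j z
    have hiso : IsIso (Proj.awayToSection (CohB1.polyGrading (n + 1) k) (X j : MvPolynomial (Fin (n + 2)) k)) :=
      (Proj.basicOpenIsoAway (CohB1.polyGrading (n + 1) k) _ (isHomogeneous_X k j) one_pos).isIso_hom
    have hbij := ConcreteCategory.bijective_of_isIso
      (Proj.awayToSection (CohB1.polyGrading (n + 1) k) (X j : MvPolynomial (Fin (n + 2)) k))
    let e := RingEquiv.ofBijective (Proj.awayToSection (CohB1.polyGrading (n + 1) k)
      (X j : MvPolynomial (Fin (n + 2)) k)).hom hbij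
    have h1 : Closed.ev I.subschemeι (X j : MvPolynomial (Fin (n + 2)) k) z = 0 ↔
        e z ∈ I.ideal (HyperplaneSection.frame k j).V := by
      rw [← I.ker_subschemeι_app (HyperplaneSection.frame k j).V]
      exact RingHom.mem_ker.symm
    refine h1.trans ?_
    rw [HyperplaneSection.ideal_hyperplane k h s hsv j]
    refine Ideal.mem_span_singleton.trans ?_
    change e (BertiniProj.frac h j) ∣ e z ↔ _
    exact map_dvd_iff e
  have hval : ∀ (j : Fin (n + 2)) (d : ℕ) (a : A) (ha : a ∈ CohB1.polyGrading (n + 1) k (d • 1)),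
      (HomogeneousLocalization.Away.mk (CohB1.polyGrading (n + 1) k) (isHomogeneous_X k j) d a ha).val =
        IsLocalization.mk' (Localization.Away (X j : MvPolynomial (Fin (n + 2)) k)) a
          (⟨X j ^ d, d, rfl⟩ : Submonoid.powers (X j : MvPolynomial (Fin (n + 2)) k)) := fun j d a ha => by
    rw [HomogeneousLocalization.Away.val_mk, Localization.mk_eq_mk']
  obtain ⟨e, he⟩ := Closed.exists_iso_of_ker I.subschemeι hirr hS1 φ hsurj hirr' fun d a ha => by
    constructor
    · intro h0 f hf ha'
      obtain ⟨j, -, rfl⟩ := Finset.mem_image.mp hf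
      rw [hev]
      obtain ⟨b, rfl⟩ := hker a h0
      cases d with
      | zero =>
        have : (h : MvPolynomial (Fin (n + 2)) k) * b = 0 := by
          by_contra hne
          have hd := IsHomogeneous.totalDegree (show ((h : MvPolynomial (Fin (n + 2)) k) * b).IsHomogeneous 0 from ha) hne
          rw [totalDegree_mul_of_isDomain hh0 (right_ne_zero_of_mul hne),
            IsHomogeneous.totalDegree (show (h : MvPolynomial (Fin (n + 2)) k).IsHomogeneous 1 from h.2) hh0] at hd
          omega
        refine ⟨0, HomogeneousLocalization.val_injective _ ?_⟩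
        rw [mul_zero, HomogeneousLocalization.val_zero, hval, this, IsLocalization.mk'_zero]
      | succ d =>
        have hb : (h : MvPolynomial (Fin (n + 2)) k) * b = h * homogeneousComponent d b :=
          mul_homogeneousComponent k h b (by simpa using ha)
        refine ⟨HomogeneousLocalization.Away.mk (CohB1.polyGrading (n + 1) k) (isHomogeneous_X k j) d
          (homogeneousComponent d b) (by simpa using homogeneousComponent_mem d b), HomogeneousLocalization.val_injective _ ?_⟩
        rw [HomogeneousLocalization.val_mul, hval, hval]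
        change _ = Localization.mk (h : MvPolynomial (Fin (n + 2)) k) ⟨X j, _⟩ * _
        rw [Localization.mk_eq_mk', ← IsLocalization.mk'_mul]
        refine IsLocalization.mk'_eq_of_eq ?_
        simp only [Submonoid.coe_mul, hb]
        ring
    · intro hv
      have := (hev j₁ _).mp (hv (X j₁) (Finset.mem_image_of_mem _ (Finset.mem_univ _)) (by simpa using ha))
      obtain ⟨z, hz⟩ := this
      obtain ⟨e', b, hb, rfl⟩ := HomogeneousLocalization.Away.mk_surjective (CohB1.polyGrading (n + 1) k)
        (isHomogeneous_X k j₁) z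
      have h1 := congrArg HomogeneousLocalization.val hz
      rw [HomogeneousLocalization.val_mul, hval, hval] at h1
      change _ = Localization.mk (h : MvPolynomial (Fin (n + 2)) k) ⟨X j₁, _⟩ * _ at h1
      rw [Localization.mk_eq_mk', ← IsLocalization.mk'_mul, IsLocalization.mk'_eq_iff_eq] at h1
      have h2 := IsLocalization.injective (Localization.Away (X j₁ : MvPolynomial (Fin (n + 2)) k))
        (powers_le_nonZeroDivisors_of_noZeroDivisors (X_ne_zero j₁)) h1
      have h3 := congrArg φ h2
      simp only [Submonoid.coe_mul, map_mul, map_pow, hφh, zero_mul, mul_zero] at h3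
      rcases mul_eq_zero.mp h3 with h4 | h4
      · rcases mul_eq_zero.mp h4 with h5 | h5
        · exact absurd h5 hj₁
        · exact absurd (pow_eq_zero_iff'.mp h5).1 hj₁
      · exact h4
  refine ⟨e.symm, ?_⟩
  have hmap : e.inv ≫ I.subschemeι = Proj.map φ hirr' := (congrArg (e.inv ≫ ·) he.symm).trans (Iso.inv_hom_id_assoc e _)
  change Nonempty ((Scheme.Modules.pullback (e.inv ≫ I.subschemeι)).obj _ ≅ _)
  rw [hmap]
  exact Groth.Agent.Lib.ProperFin.TwistBC.nonempty_pullback_twist_iso φ hirr'
    (fun x => by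
      by_contra hne
      push Not at hne
      refine x.not_irrelevant_le ?_
      change (HomogeneousIdeal.irrelevant (CohB1.polyGrading (n + 1) k)).toIdeal ≤ x.asHomogeneousIdeal.toIdeal
      rw [hirr, Ideal.span_le]
      exact fun f hf => hne f (hS1 f hf)) 1

end Groth.Agent.H26.Hyperplane
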