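import Groth.Agent.H26.JetBertiniScheme
import Groth.Agent.H26.BertiniProj
import Groth.Agent.Lib.LefPen45.Chart
import Groth.Agent.Lib.ProjMor.Frame

/-!
# Smooth hyperplane sections over infinite fields
-/

set_option autoImplicit false
set_option backward.isDefEq.respectTransparency.types false
set_option linter.all false
set_option maxHeartbeats 1000000

universe u

open CategoryTheory CategoryTheory.Limits AlgebraicGeometry TopologicalSpace Opposite MvPolynomial
open Groth.Agent.Lib.ProjSpace Groth.Agent.H26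
open Groth.Agent.Lib.TensorMod.Gen Groth.Agent.Lib.TensorMod.Dual
open Groth.Agent.Lib.ProjMor.Sec (gl rs_gl)
open Groth.Agent.H95.ZeroSch (Frame coord coord_smul sv)

namespace Groth.Agent.H26.HyperplaneSection

/-- Smoothness of a closed subscheme from its rings on an affine cover. -/
theorem smooth_subscheme {k : Type u} [Field k] {X : Scheme.{u}} [X.Over (Spec (CommRingCat.of k))]
    (I : X.IdealSheafData) {ι : Type*} (U : ι → X.affineOpens) (hU : ⨆ i, (U i).1 = ⊤)
    (H : ∀ i, letI := JetBertiniScheme.algΓ (k := k) (U i).1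
      Algebra.Smooth k (Γ(X, (U i).1) ⧸ I.ideal (U i))) :
    Smooth (I.subschemeι ≫ X ↘ Spec (CommRingCat.of k)) := by
  refine HasRingHomProperty.of_iSup_eq_top
    (fun i => (⟨I.subschemeι ⁻¹ᵁ (U i).1, (U i).2.preimage I.subschemeι⟩ : I.subscheme.affineOpens)) ?_ fun i => ?_
  · change ⨆ i, I.subschemeι ⁻¹ᵁ (U i).1 = ⊤
    rw [← Scheme.Hom.preimage_iSup, hU, Scheme.Hom.preimage_top]
  letI := JetBertiniScheme.algΓ (k := k) (U i).1
  have hs := H i
  rw [← RingHom.smooth_algebraMap] at hs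
  change ((I.subschemeι ≫ X ↘ Spec (CommRingCat.of k)).appLE ⊤ (I.subschemeι ⁻¹ᵁ (U i).1) le_top).hom.Smooth
  rw [← Scheme.Hom.appLE_comp_appLE I.subschemeι (X ↘ Spec (CommRingCat.of k)) ⊤ (U i).1 _ le_top le_rfl,
    Scheme.Hom.appLE_eq_app, I.subschemeι_app (U i)]
  have h1 := RingHom.Smooth.respectsIso.1 _ (I.subschemeObjIso (U i)).commRingCatIsoToRingEquiv.symm hs
  have h2 := RingHom.Smooth.respectsIso.2 _ (Scheme.ΓSpecIso (CommRingCat.of k)).commRingCatIsoToRingEquiv h1
  convert h2 using 1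
  ext v
  change (I.subschemeObjIso (U i)).inv (Ideal.Quotient.mk (I.ideal (U i))
      ((X ↘ Spec (CommRingCat.of k)).appLE ⊤ (U i).1 le_top v)) =
    (I.subschemeObjIso (U i)).inv (Ideal.Quotient.mk (I.ideal (U i))
      (Groth.Agent.H78.Formal.Sections.sMap k (U i).1 ((Scheme.ΓSpecIso (CommRingCat.of k)).hom v)))
  rw [JetBertiniScheme.sMap_eq_appLE, RingHom.comp_apply]
  congr 3
  exact (ConcreteCategory.congr_hom (Scheme.ΓSpecIso (CommRingCat.of k)).hom_inv_id v).symm

variable (k : Type u) [Field k] {n : ℕ}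

/-- The linear form with given coefficients. -/
noncomputable def form (a : Fin (n + 1) → k) : ↥(CohB1.polyGrading n k 1) :=
  ⟨∑ i, MvPolynomial.C (a i) * MvPolynomial.X i,
    Submodule.sum_mem _ fun i _ => MvPolynomial.isHomogeneous_C_mul_X (a i) i⟩

theorem coeff_form (a : Fin (n + 1) → k) (i : Fin (n + 1)) :
    coeff (Finsupp.single i 1) (form k a : MvPolynomial (Fin (n + 1)) k) = a i := by
  classical
  simp [form, coeff_sum, coeff_X', Finsupp.single_left_inj one_ne_zero]

theorem exists_hom (h : ↥(CohB1.polyGrading n k 1)) :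
    ∃ s : Coh.structureModule (CohB1.ProjSpace n k) ⟶ Twist.twistProjSpace n k 1,
      ∀ U, sv s U = gl (Groth.Agent.Lib.ProjMor.Frame.g (CohB1.polyGrading n k) h) U := by
  obtain ⟨s, hs⟩ := exists_hom_of_family (M := Twist.twistProjSpace n k 1)
    (fun U => gl (Groth.Agent.Lib.ProjMor.Frame.g (CohB1.polyGrading n k) h) U) (fun V W hVW => by
      exact rs_gl _ _)
  exact ⟨s, hs⟩

theorem isInvertible_twist : PicF.IsInvertible (Twist.twistProjSpace n k 1) := by
  refine isInvertible_iff.mpr fun x => ?_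
  obtain ⟨j, hj⟩ : ∃ j : Fin (n + 1), x ∈ Proj.basicOpen (CohB1.polyGrading n k) (MvPolynomial.X j) := by
    exact Opens.mem_iSup.mp ((SetLike.ext_iff.mp (Basic.iSup_basicOpen_X_eq_top n k) x).mpr trivial)
  exact ⟨_, _, hj, Groth.Agent.Lib.ProjMor.Frame.isGen_g
    (𝒜 := CohB1.polyGrading n k) ⟨MvPolynomial.X j, MvPolynomial.isHomogeneous_X k j⟩⟩

/-- The standard frame. -/
noncomputable def frame (j : Fin (n + 1)) : Frame (Twist.twistProjSpace n k 1) where
  V := ⟨Proj.basicOpen (CohB1.polyGrading n k) (MvPolynomial.X j : MvPolynomial (Fin (n + 1)) k),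
    Basic.isAffineOpen_basicOpen_X k j⟩
  e := gl (Groth.Agent.Lib.ProjMor.Frame.g (CohB1.polyGrading n k)
    ⟨MvPolynomial.X j, MvPolynomial.isHomogeneous_X k j⟩) _
  he := Groth.Agent.Lib.ProjMor.Frame.isGen_g (𝒜 := CohB1.polyGrading n k)
    ⟨MvPolynomial.X j, MvPolynomial.isHomogeneous_X k j⟩

theorem ideal_hyperplane (h : ↥(CohB1.polyGrading n k 1))
    (s : Coh.structureModule (CohB1.ProjSpace n k) ⟶ Twist.twistProjSpace n k 1)
    (hs : ∀ U, sv s U = gl (Groth.Agent.Lib.ProjMor.Frame.g (CohB1.polyGrading n k) h) U)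
    (j : Fin (n + 1)) :
    (PicF2.zeroScheme (Twist.twistProjSpace n k 1) s).ideal (frame k j).V = Ideal.span
      {(Proj.awayToSection (CohB1.polyGrading n k) (MvPolynomial.X j : MvPolynomial (Fin (n + 1)) k)).hom
        (BertiniProj.frac h j)} := by
  rw [ZeroFrame.zeroScheme_ideal_eq (isInvertible_twist k)]
  congr 2
  refine ((frame k j).he (frame k j).V.1 le_rfl).injective ?_
  simp only [rs_self]
  rw [coord_smul, hs]
  refine (Groth.Agent.Lib.ProjMor.Frame.g_eq_fr_smul (𝒜 := CohB1.polyGrading n k)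
    ⟨MvPolynomial.X j, MvPolynomial.isHomogeneous_X k j⟩ h).trans ?_
  rw [show Groth.Agent.Lib.ProjMor.Frame.fr (CohB1.polyGrading n k) ⟨MvPolynomial.X j, MvPolynomial.isHomogeneous_X k j⟩ h =
      (Proj.awayToSection (CohB1.polyGrading n k) (MvPolynomial.X j : MvPolynomial (Fin (n + 1)) k)).hom
        (BertiniProj.frac h j) from ?_]
  · rfl
  refine congrArg (Proj.awayToSection (CohB1.polyGrading n k) (MvPolynomial.X j : MvPolynomial (Fin (n + 1)) k)).hom ?_
  refine HomogeneousLocalization.val_injective _ ?_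
  erw [HomogeneousLocalization.Away.val_mk]
  refine congrArg (Localization.mk _) (Subtype.ext ?_)
  simp [pow_one]

variable {X : Scheme.{u}} (ι : X ⟶ CohB1.ProjSpace n k) [IsClosedImmersion ι]

theorem exists_section [Infinite k] [IsIntegral X] [Smooth (ι ≫ CohB1.ProjSpace.toSpec n k)] :
    ∃ s : Coh.structureModule (CohB1.ProjSpace n k) ⟶ Twist.twistProjSpace n k 1,
      (∃ x : ↥X, ι.base x ∉ (PicF2.zeroScheme (Twist.twistProjSpace n k 1) s).support) ∧
      Smooth (pullback.fst ι (PicF2.zeroScheme (Twist.twistProjSpace n k 1) s).subschemeι ≫ ι ≫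
        CohB1.ProjSpace.toSpec n k) := by
  classical
  letI : X.Over (Spec (CommRingCat.of k)) := ⟨ι ≫ CohB1.ProjSpace.toSpec n k⟩
  haveI : Smooth (X ↘ Spec (CommRingCat.of k)) :=
    inferInstanceAs (Smooth (ι ≫ CohB1.ProjSpace.toSpec n k))
  let U : Fin (n + 1) → X.affineOpens := fun j =>
    ⟨BertiniProj.chartOpen ι j, BertiniProj.isAffineOpen_chartOpen ι j⟩
  let c : ∀ j, Fin (n + 1) → Γ(X, (U j).1) := fun j i => BertiniProj.chartHom ι j (Charts.coord k j i)
  have hcst : ∀ j, Groth.Agent.H78.Formal.Sections.sMap k (U j).1 =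
      (BertiniProj.chartHom ι j).comp (Charts.constHom k j) := fun j => RingHom.ext fun v =>
    Groth.Agent.Lib.LefPen45.Chart.cst_eq k ι j v
  have key : ∀ j, ∃ g : MvPolynomial (Fin (n + 1)) k, g ≠ 0 ∧ ∀ a : Fin (n + 1) → k,
      MvPolynomial.eval a g ≠ 0 →
      letI := JetBertiniScheme.algΓ (k := k) (U j).1
      Algebra.Smooth k (Γ(X, (U j).1) ⧸ Ideal.span {JetBertini.sec 0 (c j) a}) := by
    intro j
    letI := JetBertiniScheme.algΓ (k := k) (U j).1
    haveI := JetBertiniScheme.smooth_algΓ (k := k) (U j).2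
    haveI : Algebra.FiniteType k Γ(X, (U j).1) := inferInstance
    refine JetBertini.exists_poly_ring_gen (k := k) 0 (c j) ⟨j, ?_⟩ ?_
    · change BertiniProj.chartHom ι j (Charts.coord k j j) = 1
      rw [Charts.coord_self, map_one]
    · rw [Algebra.adjoin_range_eq_range_aeval]
      refine (AlgHom.range_eq_top _).mpr fun z => ?_
      obtain ⟨z, rfl⟩ := BertiniProj.chartHom_surjective ι j z
      obtain ⟨p, rfl⟩ := Charts.fromPoly_surjective j z
      refine ⟨rename Subtype.val p, ?_⟩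
      rw [aeval_rename]
      refine RingHom.congr_fun (?_ : (aeval (c j ∘ Subtype.val)).toRingHom =
        (BertiniProj.chartHom ι j).comp (Charts.fromPoly k j)) p
      refine MvPolynomial.ringHom_ext (fun a => ?_) fun i => ?_
      · simp [Charts.fromPoly_C]; exact RingHom.congr_fun (hcst j) a
      · simp [Charts.fromPoly_X, c]
  choose G hG0 hG using key
  obtain ⟨x₀, -⟩ : ∃ x : X, True := ⟨Classical.arbitrary X, trivial⟩
  obtain ⟨j₀, hj₀⟩ : ∃ j, x₀ ∈ (U j).1 := by
    exact (Opens.mem_iSup.mp ((SetLike.ext_iff.mp (Basic.iSup_basicOpen_X_eq_top n k) (ι.base x₀)).mpr trivial)).imp fun _ h => h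
  letI := JetBertiniScheme.algΓ (k := k) (U j₀).1
  haveI : Nonempty (U j₀).1 := ⟨⟨x₀, hj₀⟩⟩
  haveI : Nonempty ((U j₀).1 : Scheme.{u}) := ⟨⟨x₀, hj₀⟩⟩
  obtain ⟨φ, hφ⟩ : ∃ φ : Module.Dual k Γ(X, (U j₀).1), φ 1 ≠ 0 := by
    by_contra hne
    push Not at hne
    exact one_ne_zero ((Module.forall_dual_apply_eq_zero_iff k _).mp hne)
  let Hl : MvPolynomial (Fin (n + 1)) k := ∑ i, MvPolynomial.C (φ (c j₀ i)) * MvPolynomial.X i
  have hHl : Hl ≠ 0 := fun h => hφ (by
    have := congrArg (coeff (Finsupp.single j₀ 1)) h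
    simpa [Hl, c, coeff_sum, coeff_X', Finsupp.single_left_inj one_ne_zero, Charts.coord_self] using this)
  obtain ⟨a, ha⟩ : ∃ a : Fin (n + 1) → k, MvPolynomial.eval a ((∏ j, G j) * Hl) ≠ 0 := by
    by_contra hne
    push Not at hne
    exact mul_ne_zero (Finset.prod_ne_zero_iff.mpr fun j _ => hG0 j) hHl
      (MvPolynomial.funext fun a => by rw [hne a, map_zero])
  rw [map_mul, map_prod, mul_ne_zero_iff, Finset.prod_ne_zero_iff] at ha
  obtain ⟨s, hs⟩ := exists_hom k (form k a)
  let I := PicF2.zeroScheme (Twist.twistProjSpace n k 1) s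
  have hfrac : ∀ j, BertiniProj.chartHom ι j (BertiniProj.frac (form k a) j) =
      ∑ i, Groth.Agent.H78.Formal.Sections.sMap k (U j).1 (a i) * c j i := fun j => by
    rw [BertiniProj.frac_eq, map_sum]
    exact Finset.sum_congr rfl fun i _ => by rw [map_mul, coeff_form, hcst]; rfl
  refine ⟨s, ?_, ?_⟩
  · let r : Γ(X, (U j₀).1) := BertiniProj.chartHom ι j₀ (BertiniProj.frac (form k a) j₀)
    have hr : r ≠ 0 := fun h0 => ha.2 (by
      have : φ r = 0 := by rw [h0, map_zero]
      simp only [r, hfrac, map_sum] at this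
      simp only [Hl, map_sum, map_mul, eval_C, eval_X]
      refine Eq.trans (Finset.sum_congr rfl fun i _ => ?_) this
      change _ = φ (algebraMap k Γ(X, (U j₀).1) (a i) * c j₀ i)
      rw [← Algebra.smul_def, map_smul, smul_eq_mul, mul_comm])
    obtain ⟨x, hx⟩ : ∃ x, x ∈ X.basicOpen r := by
      by_contra hne
      push Not at hne
      exact hr ((basicOpen_eq_bot_iff r).mp (le_antisymm (fun x hx => (hne x hx).elim) bot_le))
    refine ⟨x, fun hsupp => ?_⟩
    have hxU : ι.base x ∈ (frame k j₀).V.1 := (X.basicOpen_le r hx : x ∈ (U j₀).1)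
    rw [SetLike.mem_coe.symm, Scheme.IdealSheafData.coe_support_eq_eq_iInter_zeroLocus] at hsupp
    have h2 := Set.mem_iInter.mp hsupp (frame k j₀).V
    rw [Scheme.mem_zeroLocus_iff] at h2
    refine h2 ((Proj.awayToSection (CohB1.polyGrading n k) (MvPolynomial.X j₀)).hom
      (BertiniProj.frac (form k a) j₀)) ?_ ?_
    · rw [SetLike.mem_coe, ideal_hyperplane k (form k a) s hs j₀]
      exact Ideal.mem_span_singleton_self _
    · have := hx
      change x ∈ X.basicOpen ((ι.app (frame k j₀).V.1).hom _) at this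
      rwa [← Scheme.preimage_basicOpen] at this
  · rw [← I.comapIso_inv_subschemeι ι, Category.assoc]
    haveI : Smooth ((I.comap ι).subschemeι ≫ X ↘ Spec (CommRingCat.of k)) := by
      refine smooth_subscheme (k := k) (I.comap ι) U ?_ fun j => ?_
      · exact (ι.preimage_iSup _).symm.trans ((congrArg (ι ⁻¹ᵁ ·) (Basic.iSup_basicOpen_X_eq_top n k)).trans rfl)
      letI := JetBertiniScheme.algΓ (k := k) (U j).1
      have h1 := hG j a (ha.1 j (Finset.mem_univ _))
      have hI : (I.comap ι).ideal (U j) = Ideal.span {JetBertini.sec 0 (c j) a} := by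
        rw [Groth.Agent.Lib.Ideal.Comap.ideal_comap ι I (frame k j).V (U j) le_rfl,
          ideal_hyperplane k (form k a) s hs j]
        refine (Ideal.map_span _ _).trans ?_
        erw [Set.image_singleton]
        congr 2
        rw [JetBertini.sec, zero_add]
        refine Eq.trans ?_ (hfrac j)
        exact (DFunLike.congr_fun (congrArg CommRingCat.Hom.hom
          (Scheme.Hom.app_eq_appLE ι (U := (frame k j).V.1))) _).symm
      rwa [hI]
    exact inferInstanceAs (Smooth ((I.comapIso ι).inv ≫ (I.comap ι).subschemeι ≫ X ↘ Spec (CommRingCat.of k)))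

end Groth.Agent.H26.HyperplaneSection
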