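import Groth.Agent.Lib.Dim.Local
import Mathlib.RingTheory.AlgebraicIndependent.TranscendenceBasis
import Mathlib.LinearAlgebra.Dimension.Finite
import Mathlib.LinearAlgebra.FiniteDimensional.Lemmas
import Mathlib.RingTheory.LocalRing.ResidueField.Ideal

/-!
# The incidence variety of an affine-linear family of sections spanning one-jets
-/

universe u

open Groth.Agent.Lib.Dim.Basic

set_option maxHeartbeats 800000
set_option linter.all false

namespace Groth.Agent.H26.JetIncidence

variable (k : Type u) [Field k] {A : Type u} [CommRing A] [Algebra k A] [Algebra.FiniteType k A]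
  {n r : ℕ} (Φ c : Fin (r + 1) → Fin n → A) (b : Fin (r + 1) → A)

theorem not_algebraicIndependent (hinv : ∀ j l, ∑ i, c j i * Φ l i = if l = j then 1 else 0)
    (hdim : ∀ P : Ideal A, P.IsPrime → dimQ k P ≤ r) {L : Type u} [Field L] [Algebra k L]
    (f : A →ₐ[k] L) (a : Fin n → L) (h0 : ∀ l, f (b l) + ∑ i, a i * f (Φ l i) = 0) :
    ¬ AlgebraicIndependent k a := by
  classical
  intro hai
  let P : Ideal A := RingHom.ker f
  haveI : P.IsPrime := RingHom.ker_isPrime _
  let E := P.ResidueField
  let g : (A ⧸ P) →+* L := Ideal.Quotient.lift P f.toRingHom fun _ h => h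
  have hg : Function.Injective g := RingHom.lift_injective_of_ker_le_ideal _ _ le_rfl
  letI : Algebra E L := (IsFractionRing.lift (K := E) hg).toAlgebra
  have hEL : ∀ y : A, algebraMap E L (algebraMap A E y) = f y := fun y => by
    rw [← Ideal.algebraMap_quotient_residueField_mk P y, RingHom.algebraMap_toAlgebra,
      IsFractionRing.lift_algebraMap]
    rfl
  haveI : IsScalarTower k E L := IsScalarTower.of_algebraMap_eq fun y => by
    rw [IsScalarTower.algebraMap_apply k A E, hEL, AlgHom.commutes]
  let Λ : (Fin (n + 1) → E) →ₗ[E] L :=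
    Fintype.linearCombination E (Fin.cons (1 : L) a : Fin (n + 1) → L)
  let u : Fin (r + 1) → LinearMap.ker Λ := fun l =>
    ⟨Fin.cons (algebraMap A E (b l)) fun i => algebraMap A E (Φ l i), by
      rw [LinearMap.mem_ker]
      simp only [Λ, Fintype.linearCombination_apply, Fin.sum_univ_succ, Fin.cons_zero, Fin.cons_succ,
        Algebra.smul_def, hEL, mul_one]
      rw [← h0 l]
      congr 1
      exact Finset.sum_congr rfl fun i _ => mul_comm _ _⟩
  have hu : LinearIndependent E u := by
    refine LinearIndependent.of_comp (LinearMap.ker Λ).subtype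
      (Fintype.linearIndependent_iff.mpr fun t ht j => ?_)
    have h2 : ∀ i, ∑ l, t l * algebraMap A E (Φ l i) = 0 := fun i => by
      have := congrFun ht i.succ
      simpa [u] using this
    have h3 : ∑ i, algebraMap A E (c j i) * ∑ l, t l * algebraMap A E (Φ l i) = 0 := by simp [h2]
    rw [Finset.sum_congr rfl (fun i _ => Finset.mul_sum _ _ _), Finset.sum_comm] at h3
    have h4 : ∀ l, ∑ i, algebraMap A E (c j i) * (t l * algebraMap A E (Φ l i)) =
        t l * if l = j then 1 else 0 := fun l => by
      calc ∑ i, algebraMap A E (c j i) * (t l * algebraMap A E (Φ l i))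
          = t l * algebraMap A E (∑ i, c j i * Φ l i) := by
            rw [map_sum, Finset.mul_sum]
            exact Finset.sum_congr rfl fun i _ => by rw [map_mul]; ring
        _ = _ := by rw [hinv j l]; split <;> simp
    simpa [h4] using h3
  have h1 := LinearMap.finrank_range_add_finrank_ker Λ
  have h2 := hu.fintype_card_le_finrank
  rw [Fintype.card_fin] at h2
  rw [Module.finrank_fin_fun] at h1
  have hone : (1 : L) ∈ LinearMap.range Λ :=
    ⟨Pi.single 0 1, by simp [Λ, Fintype.linearCombination_apply_single]⟩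
  have ha : ∀ i, a i ∈ LinearMap.range Λ := fun i =>
    ⟨Pi.single i.succ 1, by simp [Λ, Fintype.linearCombination_apply_single]⟩
  let one' : LinearMap.range Λ := ⟨1, hone⟩
  obtain ⟨W, hW⟩ := Submodule.exists_isCompl (Submodule.span E {one'})
  have hWd := Submodule.finrank_add_eq_of_isCompl hW
  rw [finrank_span_singleton (fun h => one_ne_zero (congrArg Subtype.val h))] at hWd
  haveI : Module.Free E W := @Module.Free.of_divisionRing E W _ W.addCommGroup W.module
  let w := Module.finBasis E W
  let s : Set L := Set.range fun i => ((w i : LinearMap.range Λ) : L)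
  let T := Algebra.adjoin E s
  have hT : ∀ i, a i ∈ T := fun i => by
    obtain ⟨y, hy, z, hz, hyz⟩ := Submodule.mem_sup.mp
      (hW.sup_eq_top.symm ▸ Submodule.mem_top : (⟨a i, ha i⟩ : LinearMap.range Λ) ∈ Submodule.span E {one'} ⊔ W)
    obtain ⟨e, rfl⟩ := Submodule.mem_span_singleton.mp hy
    have hz' : ((z : LinearMap.range Λ) : L) ∈ T := by
      have h3 := congrArg (fun v : W => ((v : LinearMap.range Λ) : L)) (w.sum_repr ⟨z, hz⟩)
      simp only [AddSubmonoidClass.coe_finsetSum, Submodule.coe_smul] at h3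
      rw [← h3]
      exact sum_mem fun i _ => Subalgebra.smul_mem _ (Algebra.subset_adjoin (s := s) ⟨i, rfl⟩) _
    have := congrArg Subtype.val hyz
    simp only [Submodule.coe_add, Submodule.coe_smul] at this
    rw [← this]
    exact add_mem (Subalgebra.smul_mem _ (one_mem T) _) hz'
  let a' : Fin n → T := fun i => ⟨a i, hT i⟩
  have hai' : AlgebraicIndependent k a' := AlgebraicIndependent.of_comp (T.val.restrictScalars k) hai
  have h4 := hai'.lift_cardinalMk_le_trdeg
  have h5 : Algebra.trdeg E T ≤ (Module.finrank E W : Cardinal) := by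
    let π : MvPolynomial (Fin (Module.finrank E W)) E →ₐ[E] L :=
      MvPolynomial.aeval fun i => ((w i : LinearMap.range Λ) : L)
    let e : π.range ≃ₐ[E] T := Subalgebra.equivOfEq _ _ (Algebra.adjoin_range_eq_range_aeval E _).symm
    have := lift_trdeg_le_of_surjective
      ((e.toAlgHom).comp π.rangeRestrict) (e.surjective.comp π.rangeRestrict_surjective)
    simpa [MvPolynomial.trdeg_of_isDomain] using this
  have h6 := trdeg_add_eq k E (A := T)
  rw [trdeg_residueField] at h6
  have h7 : ((n : ℕ) : Cardinal.{u}) ≤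
      ((dimQ k P + Module.finrank E W : ℕ) : Cardinal.{u}) := by
    rw [Nat.cast_add (dimQ k P)]
    refine le_trans ?_ ((h6.symm.le).trans (add_le_add le_rfl h5))
    simpa using h4
  have h8 : n ≤ dimQ k P + Module.finrank E W := by exact_mod_cast h7
  have := hdim P inferInstance
  omega

/-- If no generic point of the incidence variety exists, its image satisfies a nontrivial equation. -/
theorem exists_poly_of (H : ∀ {L : Type u} [Field L] [Algebra k L] (f : A →ₐ[k] L) (a : Fin n → L),
      (∀ l, f (b l) + ∑ i, a i * f (Φ l i) = 0) → ¬ AlgebraicIndependent k a) :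
    ∃ g : MvPolynomial (Fin n) k, g ≠ 0 ∧ ∀ a : Fin n → k, MvPolynomial.eval a g ≠ 0 →
      ∀ P : Ideal A, P.IsPrime → ∃ l, b l + ∑ i, algebraMap k A (a i) * Φ l i ∉ P := by
  classical
  let d : Fin (r + 1) → MvPolynomial (Fin n) A := fun l =>
    MvPolynomial.C (b l) + ∑ i : Fin n, MvPolynomial.X i * MvPolynomial.C (Φ l i)
  let J : Ideal (MvPolynomial (Fin n) A) := Ideal.span (Set.range d)
  let ψ : MvPolynomial (Fin n) k →ₐ[k] (MvPolynomial (Fin n) A) := MvPolynomial.aeval MvPolynomial.X
  by_cases hg : ∃ g, g ≠ 0 ∧ ψ g ∈ J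
  · obtain ⟨g, hg0, hgJ⟩ := hg
    refine ⟨g, hg0, fun a ha P hP => ?_⟩
    by_contra! hc
    let ev : (MvPolynomial (Fin n) A) →+* A ⧸ P := (Ideal.Quotient.mk P).comp
      (MvPolynomial.eval fun i => algebraMap k A (a i))
    have hJ : J ≤ RingHom.ker ev := by
      rw [Ideal.span_le]
      rintro z ⟨l, rfl⟩
      simp only [SetLike.mem_coe, RingHom.mem_ker, ev, RingHom.comp_apply,
        Ideal.Quotient.eq_zero_iff_mem]
      simpa [d, map_sum] using hc l
    have h1 : ev (ψ g) = algebraMap k (A ⧸ P) (MvPolynomial.eval a g) := by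
      change (ev.comp ψ.toRingHom) g = ((algebraMap k (A ⧸ P)).comp (MvPolynomial.eval a)) g
      congr 1
      refine MvPolynomial.ringHom_ext (fun t => ?_) (fun i => ?_)
      · simp only [ev, ψ, RingHom.comp_apply, AlgHom.toRingHom_eq_coe, RingHom.coe_coe,
          MvPolynomial.aeval_C, MvPolynomial.algebraMap_apply, MvPolynomial.eval_C,
          Ideal.Quotient.mk_algebraMap]
      · simp only [ev, ψ, RingHom.comp_apply, AlgHom.toRingHom_eq_coe, RingHom.coe_coe,
          MvPolynomial.aeval_X, MvPolynomial.eval_X, Ideal.Quotient.mk_algebraMap]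
    have h2 : ev (ψ g) = 0 := hJ hgJ
    haveI : Nontrivial (A ⧸ P) := Ideal.Quotient.nontrivial_iff.mpr hP.ne_top
    exact ha ((map_eq_zero _).mp (h1.symm.trans h2))
  · exfalso
    push Not at hg
    let S : Submonoid (MvPolynomial (Fin n) A) := (nonZeroDivisors (MvPolynomial (Fin n) k)).map ψ
    obtain ⟨Q, hQ, hJQ, hdisj⟩ := Ideal.exists_le_prime_disjoint J S (Set.disjoint_left.mpr (by
      rintro _ hz ⟨g, hg', rfl⟩
      exact hg g (nonZeroDivisors.ne_zero hg') hz))
    let π : (MvPolynomial (Fin n) A) →ₐ[k] Q.ResidueField := (IsScalarTower.toAlgHom k (MvPolynomial (Fin n) A) Q.ResidueField)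
    let f : A →ₐ[k] Q.ResidueField := π.comp (IsScalarTower.toAlgHom k A (MvPolynomial (Fin n) A))
    let a : Fin n → Q.ResidueField := fun i => π (MvPolynomial.X i)
    have hπ : ∀ z ∈ J, π z = 0 := fun z hz => Ideal.algebraMap_residueField_eq_zero.mpr (hJQ hz)
    refine H f a ?_ ?_
    · intro l
      have := hπ (d l) (Ideal.subset_span ⟨l, rfl⟩)
      simpa [d, a, f, MvPolynomial.algebraMap_eq] using this
    · have he : MvPolynomial.aeval a = π.comp ψ := MvPolynomial.algHom_ext fun i => by simp [ψ, a]
      rw [algebraicIndependent_iff_injective_aeval, he, injective_iff_map_eq_zero]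
      intro g hg'
      by_contra hne
      exact Set.disjoint_left.mp hdisj (Ideal.algebraMap_residueField_eq_zero.mp hg')
        ⟨g, mem_nonZeroDivisors_of_ne_zero hne, rfl⟩

/-- The members of the family with a singular point satisfy a nontrivial equation. -/
theorem exists_poly (hinv : ∀ j l, ∑ i, c j i * Φ l i = if l = j then 1 else 0)
    (hdim : ∀ P : Ideal A, P.IsPrime → dimQ k P ≤ r) :
    ∃ g : MvPolynomial (Fin n) k, g ≠ 0 ∧ ∀ a : Fin n → k, MvPolynomial.eval a g ≠ 0 →
      ∀ P : Ideal A, P.IsPrime → ∃ l, b l + ∑ i, algebraMap k A (a i) * Φ l i ∉ P :=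
  exists_poly_of k Φ b fun f a h0 => not_algebraicIndependent k Φ c b hinv hdim f a h0

end Groth.Agent.H26.JetIncidence
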