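import Groth.Agent.H26.GenSmooth
import Groth.Agent.H1.Classical.Smooth
import Groth.Agent.Lib.Homog.Transitive
import Groth.Prelude.Def_AlgGrp

/-!
# General translates on homogeneous spaces
-/

set_option autoImplicit false
set_option backward.isDefEq.respectTransparency.types false
set_option linter.all false
set_option maxHeartbeats 1000000

universe u

open CategoryTheory CategoryTheory.Limits MonoidalCategory CartesianMonoidalCategory MonObj
open AlgebraicGeometry TopologicalSpace
open Groth.Agent.Lib Groth.Agent.H26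

noncomputable section

namespace Groth.Agent.H26.Kleiman

variable {k : Type u} [Field k]

/-- Smoothness over an open set moves along compatible isomorphisms. -/
theorem smooth_restrict_of_square {P Q : Scheme.{u}} (h : P ⟶ Q) {α : P ⟶ P} {β : Q ⟶ Q}
    (sq : IsPullback α h h β) (U : Q.Opens) [Smooth (h ∣_ U)] : Smooth (h ∣_ (β ⁻¹ᵁ U)) := by
  have h1 := (isPullback_morphismRestrict h (β ⁻¹ᵁ U)).flip.paste_horiz sq
  rw [← morphismRestrict_ι β U] at h1
  have h2 := IsPullback.of_right' h1 (isPullback_morphismRestrict h U).flip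
  exact MorphismProperty.of_isPullback h2 (inferInstance : Smooth (h ∣_ U))

theorem exists_nat_of_add_eq {n m : ℕ} {d : WithBot ℕ∞} (h : (n : WithBot ℕ∞) + d = (m : WithBot ℕ∞)) :
    ∃ i : ℕ, d = (i : WithBot ℕ∞) := by
  induction d using WithBot.recBotCoe with
  | bot => simp at h
  | coe d =>
    have h' : (n : ℕ∞) + d = (m : ℕ∞) := by exact_mod_cast h
    obtain ⟨i, rfl⟩ := ENat.ne_top_iff_exists.mp
      (fun ht : d = ⊤ => ENat.coe_ne_top m (by rw [← h', ht, add_top]))
    exact ⟨i, rfl⟩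

theorem smooth_of_forall_closedPoints {P Q : Scheme.{u}} (h : P ⟶ Q) [JacobsonSpace Q]
    (H : ∀ x : Q, IsClosed ({x} : Set Q) → ∃ U : Q.Opens, x ∈ U ∧ Smooth (h ∣_ U)) : Smooth h := by
  choose U hxU hU using fun x : closedPoints Q => H x.1 x.2
  refine IsZariskiLocalAtTarget.of_iSup_eq_top (P := @Smooth) U ?_ hU
  by_contra hne
  obtain ⟨z, hz, hzc⟩ := nonempty_inter_closedPoints (X := Q)
    (Z := ((⨆ y, U y : Q.Opens) : Set Q)ᶜ)
    (by
      rw [Set.nonempty_compl]
      exact fun hh => hne (Opens.ext hh))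
    ((⨆ y, U y).isOpen.isClosed_compl).isLocallyClosed
  exact hz (Opens.mem_iSup.mpr ⟨⟨z, hzc⟩, hxU ⟨z, hzc⟩⟩)

section Action

variable (G X : Over (Spec (CommRingCat.of k))) [GrpObj G] (a : AlgGrp.Action G X)

/-- Translation by a point. -/
def trans (σ : 𝟙_ (Over (Spec (CommRingCat.of k))) ⟶ G) : X ⟶ X :=
  lift (toUnit X ≫ σ) (𝟙 X) ≫ a.act

theorem comp_trans {T : Over (Spec (CommRingCat.of k))} (σ : 𝟙_ (Over (Spec (CommRingCat.of k))) ⟶ G) (t : T ⟶ X) :
    t ≫ trans G X a σ = lift (toUnit T ≫ σ) t ≫ a.act := by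
  rw [trans, comp_lift_assoc, ← Category.assoc, toUnit_unique (t ≫ toUnit X) (toUnit T), Category.comp_id]

/-- Translation is an automorphism. -/
def transIso (σ : 𝟙_ (Over (Spec (CommRingCat.of k))) ⟶ G) : X ≅ X where
  hom := trans G X a σ
  inv := trans G X a σ⁻¹
  hom_inv_id := by
    rw [comp_trans, trans, GrpObj.comp_inv, GrpSch.act_inv_act]
  inv_hom_id := by
    rw [comp_trans, trans, GrpObj.comp_inv, GrpSch.act_act_inv]

variable {G X} {P : Over (Spec (CommRingCat.of k))} (b : AlgGrp.Action G P) (φ : P ⟶ X)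

theorem trans_comm (hφ : (G ◁ φ) ≫ a.act = b.act ≫ φ) (σ : 𝟙_ (Over (Spec (CommRingCat.of k))) ⟶ G) :
    trans G P b σ ≫ φ = φ ≫ trans G X a σ := by
  rw [comp_trans, trans, Category.assoc, ← hφ, lift_whiskerLeft_assoc, Category.id_comp]

theorem isPullback_trans (hφ : (G ◁ φ) ≫ a.act = b.act ≫ φ) (σ : 𝟙_ (Over (Spec (CommRingCat.of k))) ⟶ G) :
    IsPullback (trans G P b σ).left φ.left φ.left (trans G X a σ).left := by
  haveI : IsIso (trans G P b σ).left := ((Over.forget _).mapIso (transIso G P b σ)).isIso_hom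
  haveI : IsIso (trans G X a σ).left := ((Over.forget _).mapIso (transIso G X a σ)).isIso_hom
  exact IsPullback.of_horiz_isIso ⟨by rw [← Over.comp_left, ← Over.comp_left, trans_comm a b φ hφ σ]⟩

variable (G) in
/-- The action on the first factor. -/
def leftAct (Y : Over (Spec (CommRingCat.of k))) : AlgGrp.Action G (G ⊗ Y) :=
  GrpSch.actionMk (lift (fst G (G ⊗ Y) * (snd G (G ⊗ Y) ≫ fst G Y)) (snd G (G ⊗ Y) ≫ snd G Y))
    (fun T x => by
      apply CartesianMonoidalCategory.hom_ext
      · rw [Category.assoc, lift_fst, MonObj.comp_mul, lift_fst, lift_snd_assoc, _root_.one_mul]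
      · rw [Category.assoc, lift_snd, lift_snd_assoc])
    (fun T g h x => by
      apply CartesianMonoidalCategory.hom_ext
      · simp only [Category.assoc, lift_fst, MonObj.comp_mul, lift_snd_assoc, _root_.mul_assoc]
      · simp only [Category.assoc, lift_snd, lift_snd_assoc])

theorem leftAct_equivariant {Y : Over (Spec (CommRingCat.of k))} (fY : Y ⟶ X) :
    (G ◁ ((G ◁ fY) ≫ a.act)) ≫ a.act = (leftAct G Y).act ≫ (G ◁ fY) ≫ a.act := by
  have e : (G ◁ fY) ≫ a.act = lift (fst G Y) (snd G Y ≫ fY) ≫ a.act := by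
    congr 1
  have e2 : G ◁ ((G ◁ fY) ≫ a.act) = lift (fst G (G ⊗ Y)) (snd G (G ⊗ Y) ≫ ((G ◁ fY) ≫ a.act)) := by
    apply CartesianMonoidalCategory.hom_ext <;> simp
  rw [e2, e]
  simp only [comp_lift_assoc, leftAct, GrpSch.actionMk, lift_fst, lift_snd_assoc]
  rw [GrpSch.act_mul]
  simp only [Category.assoc]

end Action

variable [IsAlgClosed k]

/-- Every closed point is rational. -/
theorem exists_point (A : Over (Spec (CommRingCat.of k))) [LocallyOfFiniteType A.hom] (x : A.left)
    (hx : IsClosed ({x} : Set A.left)) :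
    ∃ p : 𝟙_ (Over (Spec (CommRingCat.of k))) ⟶ A, ∀ s, p.left s = x :=
  ⟨Over.homMk (pointOfClosedPoint A.hom x hx) (pointOfClosedPoint_comp A.hom x hx),
    fun s => pointOfClosedPoint_apply A.hom x hx s⟩

theorem main [CharZero k] (G X : Over (Spec (CommRingCat.of k))) [GrpObj G] (a : AlgGrp.Action G X)
    [IsIntegral G.left] [IsSeparated G.hom] [LocallyOfFiniteType G.hom] [QuasiCompact G.hom]
    [IsIntegral X.left] [IsSeparated X.hom] [LocallyOfFiniteType X.hom] [QuasiCompact X.hom]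
    (htrans : ∀ x x' : 𝟙_ (Over (Spec (CommRingCat.of k))) ⟶ X,
      ∃ σ : 𝟙_ (Over (Spec (CommRingCat.of k))) ⟶ G, lift σ x ≫ a.act = x')
    {Y Z : Scheme.{u}} (f : Y ⟶ X.left) (g : Z ⟶ X.left)
    [IsIntegral Y] [QuasiCompact (f ≫ X.hom)] [Smooth (f ≫ X.hom)]
    [IsIntegral Z] [QuasiCompact (g ≫ X.hom)] [Smooth (g ≫ X.hom)]
    (n r s : ℕ) (hn : topologicalKrullDim ↥X.left = n) (hr : topologicalKrullDim ↥Y = r)
    (hs : topologicalKrullDim ↥Z = s) :
    ∃ V : G.left.Opens, (V : Set ↥G.left).Nonempty ∧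
      ∀ σ : 𝟙_ (Over (Spec (CommRingCat.of k))) ⟶ G, Set.range σ.left.base ⊆ (V : Set ↥G.left) →
        ∀ fσ : Y ⟶ X.left,
          fσ = (lift (toUnit (Over.mk (f ≫ X.hom)) ≫ σ) (Over.homMk f) ≫ a.act).left →
          Smooth (pullback.fst fσ g ≫ f ≫ X.hom) ∧
            (IsEmpty ↥(pullback fσ g) ∨ (n ≤ r + s ∧
              topologicalKrullDim ↥(pullback fσ g) = ((r + s - n : ℕ) : WithBot ℕ∞))) := by
  classical
  let Y' : Over (Spec (CommRingCat.of k)) := Over.mk (f ≫ X.hom)
  let fY : Y' ⟶ X := Over.homMk f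
  haveI : Smooth Y'.hom := inferInstanceAs (Smooth (f ≫ X.hom))
  haveI : QuasiCompact Y'.hom := inferInstanceAs (QuasiCompact (f ≫ X.hom))
  haveI : IsIntegral Y'.left := inferInstanceAs (IsIntegral Y)
  let P := G ⊗ Y'
  let h : P ⟶ X := (G ◁ fY) ≫ a.act
  have hact := leftAct_equivariant a fY
  -- smoothness of the group
  haveI : GrpObj (Over.mk G.hom) := inferInstanceAs (GrpObj G)
  haveI hG : Smooth G.hom := Groth.Agent.H1.Classical.Smooth.smooth_of_isReduced G.hom
  haveI hPs : Smooth (snd G Y').left := GrpSch.snd_left_of (P := @Smooth) _ hG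
  haveI : Smooth P.hom := by
    rw [← Over.w (snd G Y')]; infer_instance
  haveI : QuasiCompact P.hom := by
    rw [← Over.w (snd G Y')]
    haveI : QuasiCompact (snd G Y').left := GrpSch.snd_left_of (P := @QuasiCompact) _ inferInstance
    infer_instance
  haveI : JacobsonSpace G.left := LocallyOfFiniteType.jacobsonSpace G.hom
  haveI : JacobsonSpace X.left := LocallyOfFiniteType.jacobsonSpace X.hom
  haveI : JacobsonSpace Y := LocallyOfFiniteType.jacobsonSpace Y'.hom
  obtain ⟨y₁, -, hy₁⟩ := nonempty_inter_closedPoints (X := Y) (Z := Set.univ) Set.univ_nonempty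
    isClosed_univ.isLocallyClosed
  obtain ⟨py, -⟩ := exists_point Y' y₁ hy₁
  haveI : Nonempty P.left := ⟨(lift (η[G]) py).left (IsLocalRing.closedPoint k)⟩
  -- flatness
  have hk : algebraMap k k = RingHom.id k := rfl
  let gp := GrpSch.geomPoint k k
  let ε : 𝟙_ (Over (Spec (CommRingCat.of k))) ≅ gp := Over.isoMk (Iso.refl _) (by
    change Spec.map (CommRingCat.ofHom (algebraMap k k)) = 𝟙 _
    rw [hk, CommRingCat.ofHom_id, Spec.map_id])
  obtain ⟨hfl, hsurj⟩ := Homog.flat_surjective_of_transitive (K := k) (leftAct G Y') a h hact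
    (fun y y' => by
      obtain ⟨σ, hσ⟩ := htrans (ε.hom ≫ y) (ε.hom ≫ y')
      refine ⟨ε.inv ≫ σ, ?_⟩
      have h1 := congrArg (ε.inv ≫ ·) hσ
      simpa [comp_lift_assoc] using h1)
  haveI := hfl
  haveI : LocallyOfFiniteType h.left := GrpQ.locallyOfFiniteType_left h
  haveI : Smooth (h.left ≫ X.hom) := by rw [Over.w]; infer_instance
  haveI : QuasiCompact (h.left ≫ X.hom) := by rw [Over.w]; infer_instance
  haveI : QuasiCompact h.left := QuasiCompact.of_comp h.left X.hom
  -- smoothness of the family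
  obtain ⟨U, hUne, hU⟩ := GenSmooth.exists_open_smooth h.left X.hom
  obtain ⟨u, huU, huc⟩ := nonempty_inter_closedPoints (X := X.left) hUne U.2.isLocallyClosed
  obtain ⟨pu, hpu⟩ := exists_point X u huc
  haveI hh : Smooth h.left := by
    refine smooth_of_forall_closedPoints h.left fun x hx => ?_
    obtain ⟨px, hpx⟩ := exists_point X x hx
    obtain ⟨σ, hσ⟩ := htrans px pu
    refine ⟨(trans G X a σ).left ⁻¹ᵁ U, ?_,
      smooth_restrict_of_square h.left (isPullback_trans a (leftAct G Y') h hact σ) U⟩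
    have e : px ≫ trans G X a σ = pu := by
      rw [comp_trans, toUnit_unique (toUnit (𝟙_ _)) (𝟙 _), Category.id_comp, hσ]
    show (trans G X a σ).left x ∈ U
    rw [← hpx (IsLocalRing.closedPoint k), ← Scheme.Hom.comp_apply, ← Over.comp_left, e, hpu]
    exact huU
  -- the incidence scheme
  let W := pullback h.left g
  let q : W ⟶ G.left := pullback.fst h.left g ≫ (fst G Y').left
  have hqW : q ≫ G.hom = pullback.snd h.left g ≫ g ≫ X.hom := by
    rw [Category.assoc, Over.w, ← Over.w h, pullback.condition_assoc]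
  haveI : Smooth (q ≫ G.hom) := by rw [hqW]; infer_instance
  haveI : QuasiCompact (q ≫ G.hom) := by rw [hqW]; infer_instance
  obtain ⟨V, hVne, hV⟩ := GenSmooth.exists_open_smooth q G.hom
  refine ⟨V, hVne, fun σ hσV fσ hfσ => ?_⟩
  -- the fibre over `σ`
  let iσ : Y' ⟶ P := lift (toUnit Y' ≫ σ) (𝟙 Y')
  have hfσ' : fσ = (iσ ≫ h).left := by
    rw [hfσ]
    congr 1
    simp [iσ, h, fY, lift_whiskerLeft_assoc]
    rfl
  let F := pullback fσ g
  let mF : F ⟶ W := pullback.lift (pullback.fst fσ g ≫ iσ.left) (pullback.snd fσ g) (by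
    rw [Category.assoc, ← Over.comp_left, ← hfσ', pullback.condition])
  have sq1 : IsPullback mF (pullback.fst fσ g) (pullback.fst h.left g) iσ.left := by
    have hb : IsPullback (pullback.fst fσ g) (mF ≫ pullback.snd h.left g) (iσ.left ≫ h.left) g := by
      rw [pullback.lift_snd, ← Over.comp_left, ← hfσ']
      exact IsPullback.of_hasPullback fσ g
    exact (IsPullback.of_bot hb (pullback.lift_fst _ _ _).symm (IsPullback.of_hasPullback h.left g)).flip
  have sq2 : IsPullback iσ.left Y'.hom (fst G Y').left σ.left := by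
    have t : IsPullback (iσ.left ≫ (snd G Y').left) Y'.hom Y'.hom (σ.left ≫ G.hom) := by
      rw [← Over.comp_left, lift_snd, Over.id_left, show σ.left ≫ G.hom = 𝟙 _ from Over.w σ]
      exact IsPullback.id_horiz _
    refine IsPullback.of_right t ?_ (GrpSch.isPullback_left G Y').flip
    rw [← Over.comp_left, lift_fst, Over.comp_left]
    rfl
  have sqF : IsPullback mF (pullback.fst fσ g ≫ f ≫ X.hom) q σ.left := sq1.paste_vert sq2
  let pF : F ⟶ Spec (CommRingCat.of k) := pullback.fst fσ g ≫ f ≫ X.hom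
  -- inside the smooth locus
  have hσw : σ.left ≫ G.hom = 𝟙 _ := Over.w σ
  have hσr : Set.range σ.left ⊆ Set.range V.ι := by
    rw [Scheme.Opens.range_ι]; exact hσV
  let σV : Spec (CommRingCat.of k) ⟶ V := IsOpenImmersion.lift V.ι σ.left hσr
  have hσV' : σV ≫ V.ι = σ.left := IsOpenImmersion.lift_fac _ _ _
  have hmr : Set.range mF ⊆ Set.range (q ⁻¹ᵁ V).ι := by
    rw [Scheme.Opens.range_ι]
    rintro _ ⟨c, rfl⟩
    change q (mF c) ∈ V
    rw [← Scheme.Hom.comp_apply, sqF.w]
    exact hσV ⟨_, rfl⟩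
  let mV : F ⟶ (q ⁻¹ᵁ V : W.Opens) := IsOpenImmersion.lift (q ⁻¹ᵁ V).ι mF hmr
  have hmV : mV ≫ (q ⁻¹ᵁ V).ι = mF := IsOpenImmersion.lift_fac _ _ _
  have sqV : IsPullback mV pF (q ∣_ V) σV := by
    refine IsPullback.of_right ?_ ?_ (isPullback_morphismRestrict q V).flip
    · rw [hmV, hσV']; exact sqF
    · rw [← cancel_mono V.ι, Category.assoc, Category.assoc, morphismRestrict_ι, hσV', reassoc_of% hmV, sqF.w]
  haveI hFs : Smooth pF := MorphismProperty.of_isPullback sqV (inferInstance : Smooth (q ∣_ V))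
  refine ⟨hFs, ?_⟩
  by_cases hF : IsEmpty ↥F
  · exact Or.inl hF
  rw [not_isEmpty_iff] at hF
  obtain ⟨dG, hdG⟩ := GenSmooth.exists_dim G.hom
  haveI : JacobsonSpace F := LocallyOfFiniteType.jacobsonSpace pF
  -- local dimensions
  have key : ∀ c : F, IsClosed ({c} : Set F) →
      ∃ d : ℕ, ringKrullDim (F.presheaf.stalk c) = d ∧ d + n = r + s := by
    intro c hc
    let w := mF c
    -- the points
    haveI : IsClosedImmersion σ.left := isClosedImmersion_of_comp_eq_id G.hom σ.left hσw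
    haveI : IsClosedImmersion mF := MorphismProperty.of_isPullback sqF.flip inferInstance
    have hwc : IsClosed ({w} : Set W) := by
      simpa using mF.isClosedEmbedding.isClosedMap _ hc
    obtain ⟨pw, hpw⟩ : ∃ pw : Spec (CommRingCat.of k) ⟶ W, pw ≫ q ≫ G.hom = 𝟙 _ ∧
        ∀ t, pw t = w :=
      ⟨pointOfClosedPoint (q ≫ G.hom) w hwc, pointOfClosedPoint_comp _ w hwc, fun t => pointOfClosedPoint_apply _ w hwc t⟩
    let zb : Spec (CommRingCat.of k) ⟶ Z := pw ≫ pullback.snd h.left g
    have hzb : zb ≫ g ≫ X.hom = 𝟙 _ := by rw [Category.assoc, ← hqW, hpw.1]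
    let xb : Spec (CommRingCat.of k) ⟶ X.left := zb ≫ g
    have hxb : xb ≫ X.hom = 𝟙 _ := by rw [Category.assoc, hzb]
    let yb : Spec (CommRingCat.of k) ⟶ Y := pw ≫ pullback.fst h.left g ≫ (snd G Y').left
    have hyb : yb ≫ Y'.hom = 𝟙 _ := by
      rw [Category.assoc, Category.assoc, Over.w, ← Over.w h, pullback.condition_assoc]
      exact hzb
    -- the fibre over `zb`
    let F1 := pullback (pullback.snd h.left g) zb
    obtain ⟨c1, hc1, -⟩ := Scheme.Pullback.exists_preimage_pullback (f := pullback.snd h.left g) (g := zb) w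
      (IsLocalRing.closedPoint k) (by
        rw [show zb (IsLocalRing.closedPoint k) = pullback.snd h.left g (pw (IsLocalRing.closedPoint k)) from rfl, hpw.2])
    have hsqZ : IsPullback (pullback.fst (pullback.snd h.left g) zb) (pullback.snd _ _) (pullback.snd h.left g) zb :=
      IsPullback.of_hasPullback _ _
    have hsqX := hsqZ.paste_horiz (IsPullback.of_hasPullback h.left g)
    haveI : Flat (pullback.snd h.left g) := inferInstance
    haveI : LocallyOfFiniteType (g ≫ X.hom) := inferInstance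
    have e1 := GenSmooth.dim_stalk_add (pullback.snd h.left g) (g ≫ X.hom) zb hzb hsqZ c1
    have e2 := GenSmooth.dim_stalk_add h.left X.hom xb hxb hsqX c1
    rw [hc1] at e1
    rw [Scheme.Hom.comp_apply, hc1] at e2
    -- the fibre over `yb`
    let p := pullback.fst h.left g w
    have hsqY : IsPullback (pullback.fst (snd G Y').left yb) (pullback.snd _ _) (snd G Y').left yb :=
      IsPullback.of_hasPullback _ _
    obtain ⟨c2, hc2, -⟩ := Scheme.Pullback.exists_preimage_pullback (f := (snd G Y').left) (g := yb) p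
      (IsLocalRing.closedPoint k) (by
        rw [show yb (IsLocalRing.closedPoint k) = (snd G Y').left (pullback.fst h.left g (pw (IsLocalRing.closedPoint k))) from rfl,
          hpw.2])
    haveI : LocallyOfFiniteType Y'.hom := inferInstance
    have e3 := GenSmooth.dim_stalk_add (snd G Y').left Y'.hom yb hyb hsqY c2
    rw [hc2] at e3
    have hFG : ringKrullDim ((pullback (snd G Y').left yb).presheaf.stalk c2) = (dG : WithBot ℕ∞) := by
      have hP : IsPullback (pullback.fst (snd G Y').left yb ≫ (fst G Y').left) (pullback.snd _ _) G.hom (𝟙 _) := by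
        have := hsqY.paste_horiz (GrpSch.isPullback_left G Y')
        rwa [hyb] at this
      haveI : IsIso (pullback.fst (snd G Y').left yb ≫ (fst G Y').left) := hP.isIso_fst_of_isIso
      let ψ := pullback.fst (snd G Y').left yb ≫ (fst G Y').left
      rw [← ringKrullDim_eq_of_ringEquiv (asIso (ψ.stalkMap c2)).commRingCatIsoToRingEquiv]
      refine GenSmooth.dim_stalk_of_isClosed G.hom dG hdG _ ?_
      have hc2p : ψ c2 = (fst G Y').left p := by rw [Scheme.Hom.comp_apply, hc2]
      rw [hc2p, show (fst G Y').left p = q w from rfl,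
        show q w = σ.left (pF c) from by rw [← Scheme.Hom.comp_apply, sqF.w, Scheme.Hom.comp_apply]]
      have : σ.left (pF c) = σ.left (IsLocalRing.closedPoint k) :=
        congrArg σ.left (Subsingleton.elim (α := Spec (CommRingCat.of k)) _ _)
      rw [this]
      exact ((pointEquivClosedPoint G.hom) ⟨σ.left, hσw⟩).2
    -- the fibre over `σ`
    haveI : Smooth (q ∣_ V) := hV
    have e4 := GenSmooth.dim_stalk_add (q ∣_ V) (V.ι ≫ G.hom) σV
      (by rw [← Category.assoc, hσV']; exact hσw) sqV c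
    have e4a : ringKrullDim ((q ⁻¹ᵁ V : W.Opens).toScheme.presheaf.stalk (mV c)) =
        ringKrullDim (W.presheaf.stalk w) := by
      have hh := ringKrullDim_eq_of_ringEquiv (asIso ((q ⁻¹ᵁ V).ι.stalkMap (mV c))).commRingCatIsoToRingEquiv
      rw [← hh, ← Scheme.Hom.comp_apply, hmV]
    have e4b : ringKrullDim ((V : Scheme.{u}).presheaf.stalk (σV (IsLocalRing.closedPoint k))) = (dG : WithBot ℕ∞) := by
      rw [← ringKrullDim_eq_of_ringEquiv (asIso (V.ι.stalkMap (σV (IsLocalRing.closedPoint k)))).commRingCatIsoToRingEquiv,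
        ← Scheme.Hom.comp_apply, hσV']
      exact GenSmooth.dim_stalk_of_isClosed G.hom dG hdG _ ((pointEquivClosedPoint G.hom) ⟨σ.left, hσw⟩).2
    rw [e4a, e4b] at e4
    have d1' : ringKrullDim (Z.presheaf.stalk (zb (IsLocalRing.closedPoint k))) = s :=
      GenSmooth.dim_stalk_of_isClosed (g ≫ X.hom) s hs _ ((pointEquivClosedPoint (g ≫ X.hom)) ⟨zb, hzb⟩).2
    have d2' : ringKrullDim (X.left.presheaf.stalk (xb (IsLocalRing.closedPoint k))) = n :=
      GenSmooth.dim_stalk_of_isClosed X.hom n hn _ ((pointEquivClosedPoint X.hom) ⟨xb, hxb⟩).2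
    have d3' : ringKrullDim (Y.presheaf.stalk (yb (IsLocalRing.closedPoint k))) = r :=
      GenSmooth.dim_stalk_of_isClosed Y'.hom r hr _ ((pointEquivClosedPoint Y'.hom) ⟨yb, hyb⟩).2
    erw [d1'] at e1
    erw [d2'] at e2
    erw [d3', hFG] at e3
    rw [e1] at e4
    rw [e3] at e2
    generalize ringKrullDim (F1.presheaf.stalk c1) = d1 at e2 e4
    generalize ringKrullDim (F.presheaf.stalk c) = d2 at e4 ⊢
    obtain ⟨i, rfl⟩ : ∃ i : ℕ, d1 = (i : WithBot ℕ∞) :=
      exists_nat_of_add_eq (n := n) (m := r + dG) (by exact_mod_cast e2.symm)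
    obtain ⟨j, rfl⟩ : ∃ j : ℕ, d2 = (j : WithBot ℕ∞) :=
      exists_nat_of_add_eq (n := dG) (m := s + i) (by exact_mod_cast e4.symm)
    refine ⟨j, rfl, ?_⟩
    norm_cast at e2 e4
    omega
  obtain ⟨c0, -, hc0⟩ := nonempty_inter_closedPoints (X := F) (Z := Set.univ) Set.univ_nonempty
    isClosed_univ.isLocallyClosed
  obtain ⟨d0, -, hd0⟩ := key c0 hc0
  refine Or.inr ⟨by omega, GenSmooth.dim_eq_of_forall_closed pF _ fun c hc => ?_⟩
  obtain ⟨d, hd, hd'⟩ := key c hc
  rw [hd]
  congr 1
  omega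

end Groth.Agent.H26.Kleiman
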