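import Groth.Agent.Lib.ClSub.Sections
import Groth.Agent.Lib.ClSub.Cartier
import Groth.Agent.H3.Scalars
import Groth.Agent.Lib.ProjSpace.BaseChange
import Groth.Prelude.Def_Neron
import Mathlib.RingTheory.Artinian.Algebra

/-!
# Nested linearly equivalent effective divisors on a proper scheme over a field are equal
-/

set_option linter.all false
set_option maxHeartbeats 1000000

universe u

open CategoryTheory CategoryTheory.Limits AlgebraicGeometry TopologicalSpace Opposite

namespace Groth.Agent.H26.LinEquivLe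

open Groth.Agent.Lib.ClSub.Sections

variable {X : Scheme.{u}}

theorem comp_toSubscheme_eq_zero {I J : X.IdealSheafData} (h : J ≤ I) :
    _root_.ClSub.idealModι J ≫ _root_.ClSub.toSubscheme I = 0 := by
  ext U m
  let M := _root_.ClSub.quotMod I
  refine TopCat.Sheaf.eq_of_locally_eq' ⟨M.presheaf, M.isSheaf⟩
    (fun V : {V : X.affineOpens // V.1 ≤ U} => V.1.1) U (fun V => homOfLE V.2) (fun z hz => ?_) _ _ fun V => ?_
  · obtain ⟨V, hV, hzV, hVU⟩ := exists_isAffineOpen_mem_and_subset hz
    exact Opens.mem_iSup.mpr ⟨⟨⟨V, hV⟩, hVU⟩, hzV⟩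
  · have hn := PresheafOfModules.naturality_apply
      (_root_.ClSub.idealModι J ≫ _root_.ClSub.toSubscheme I).val (homOfLE V.2).op m
    refine hn.symm.trans (Eq.trans ?_ (map_zero (M.presheaf.map (homOfLE V.2).op).hom).symm)
    have hmem : (_root_.ClSub.idealModι J).app V.1.1
        ((_root_.ClSub.idealMod J).presheaf.map (homOfLE V.2).op m) ∈ I.ideal V.1 :=
      h V.1 ((mem_range_idealModι_app_affine_iff J V.1 _).mp ⟨_, rfl⟩)
    exact (mem_range_idealModι_app_iff I V.1.1 _).mp ((mem_range_idealModι_app_affine_iff I V.1 _).mpr hmem)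

/-- Nested effective Cartier divisors with isomorphic ideals on a universally closed scheme over a
field are equal. -/
theorem eq_of_le_of_iso {k : Type u} [Field k] (f : X ⟶ Spec (CommRingCat.of k)) [UniversallyClosed f]
    {I J : X.IdealSheafData} (hI : BlowUp.IsEffCartierIdeal I) (hJ : BlowUp.IsEffCartierIdeal J)
    (h : J ≤ I) (e : _root_.ClSub.idealMod I ≅ _root_.ClSub.idealMod J) : I = J := by
  let j : _root_.ClSub.idealMod J ⟶ _root_.ClSub.idealMod I :=
    kernel.lift _ (_root_.ClSub.idealModι J) (comp_toSubscheme_eq_zero h)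
  have hj : j ≫ _root_.ClSub.idealModι I = _root_.ClSub.idealModι J := kernel.lift_ι _ _ _
  obtain ⟨r, hr⟩ := H3.Scalars.exists_scalarEnd_eq (Groth.Agent.Lib.ClSub.Cartier.isInvertible_idealMod hI) (e.hom ≫ j)
  have key : ∀ (U : X.affineOpens) (s : Γ(X, U.1)), s ∈ J.ideal U ↔
      ∃ t ∈ I.ideal U, TwSh.resTop X U.1 r * t = s := by
    intro U s
    have heval : ∀ m : Γ(_root_.ClSub.idealMod I, U.1),
        (_root_.ClSub.idealModι J).app U.1 (e.hom.app U.1 m) =
          TwSh.resTop X U.1 r * (show Γ(X, U.1) from (_root_.ClSub.idealModι I).app U.1 m) := by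
      intro m
      rw [← hj]
      show ((_root_.ClSub.idealModι I).app U.1) ((e.hom ≫ j).app U.1 m) = _
      rw [hr]
      exact (_root_.ClSub.idealModι I).app_smul (TwSh.resTop X U.1 r) m
    rw [← mem_range_idealModι_app_affine_iff]
    constructor
    · rintro ⟨n, rfl⟩
      refine ⟨_, (mem_range_idealModι_app_affine_iff I U _).mp ⟨e.inv.app U.1 n, rfl⟩, ?_⟩
      rw [← heval]
      exact congrArg _ (congr($(e.inv_hom_id).app U.1 n))
    · rintro ⟨t, ht, rfl⟩
      obtain ⟨m, rfl⟩ := (mem_range_idealModι_app_affine_iff I U t).mpr ht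
      exact ⟨_, heval m⟩
  suffices hu : IsUnit r by
    ext U s
    rw [key U s]
    obtain ⟨v, hv⟩ := (hu.map (TwSh.resTop X U.1)).exists_right_inv
    constructor
    · intro hs
      exact ⟨v * s, Ideal.mul_mem_left _ _ hs, by rw [← mul_assoc, hv, one_mul]⟩
    · rintro ⟨t, ht, rfl⟩
      exact Ideal.mul_mem_left _ _ ht
  let F := (Scheme.ΓSpecIso (CommRingCat.of k)).inv ≫ f.appTop
  let : Algebra k Γ(X, ⊤) := F.hom.toAlgebra
  have : F.hom.IsIntegral := by
    apply RingHom.isIntegral_respectsIso.2 (e := (Scheme.ΓSpecIso (CommRingCat.of k)).symm.commRingCatIsoToRingEquiv)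
    exact isIntegral_appTop_of_universallyClosed f
  refine IsArtinianRing.isUnit_of_isIntegral_of_nonZeroDivisor (R := k) (this r) ?_
  refine mem_nonZeroDivisors_iff_right.mpr fun c hc => ?_
  choose U hxU g hg hJg using hJ
  refine X.sheaf.eq_of_locally_eq' (fun x => (U x).1) ⊤ (fun x => homOfLE le_top)
    (fun z _ => Opens.mem_iSup.mpr ⟨z, hxU z⟩) _ _ fun x => ?_
  obtain ⟨t, -, ht⟩ := (key (U x) (g x)).mp (hJg x ▸ Ideal.mem_span_singleton_self (g x))
  show TwSh.resTop X (U x).1 c = TwSh.resTop X (U x).1 0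
  rw [map_zero]
  refine (mem_nonZeroDivisors_iff_right.mp (hg x)) _ ?_
  rw [← ht, ← mul_assoc, ← map_mul, hc, map_zero, zero_mul]

theorem eq_of_le_of_iso_projective {k : Type u} [Field k] {f : X ⟶ Spec (CommRingCat.of k)}
    (hproj : Neron.IsProjectiveOver k (Over.mk f)) {I J : X.IdealSheafData}
    (hI : BlowUp.IsEffCartierIdeal I) (hJ : BlowUp.IsEffCartierIdeal J)
    (h : J ≤ I) (e : _root_.ClSub.idealMod I ≅ _root_.ClSub.idealMod J) : I = J := by
  obtain ⟨n, i, hi, hif⟩ := hproj
  haveI := Groth.Agent.Lib.ProjSpace.BaseChange.isProper_toBase (n := n) (Spec (CommRingCat.of k))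
  haveI : UniversallyClosed f := by
    have : IsProper (i ≫ CohB1.ProjSpaceOver.toBase n (Spec (CommRingCat.of k))) := inferInstance
    rw [hif] at this
    exact this.toUniversallyClosed
  exact eq_of_le_of_iso f hI hJ h e

end Groth.Agent.H26.LinEquivLe
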