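import Mathlib.Algebra.Category.ModuleCat.FilteredColimits
import Mathlib.Algebra.Category.ModuleCat.Colimits
import Mathlib.Algebra.Module.FinitePresentation
import Mathlib.CategoryTheory.Limits.Types.Filtered
import Mathlib.CategoryTheory.Limits.ConcreteCategory.Basic
import Mathlib.CategoryTheory.Filtered.Basic

/-!
# Maps out of finite modules into directed colimits
-/

universe u

open CategoryTheory CategoryTheory.Limits

namespace Groth.Agent.H26.ModColim

variable {A : Type u} [CommRing A] {J : Type u} [Preorder J] [IsDirected J (· ≤ ·)] [Nonempty J]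
  (N : J ⥤ ModuleCat.{u} A)

theorem exists_map_eq {ι : Type} [Finite ι] {i : J} (x y : ι → N.obj i)
    (h : ∀ a, (colimit.ι N i).hom (x a) = (colimit.ι N i).hom (y a)) :
    ∃ (k : J) (f : i ⟶ k), ∀ a, (N.map f).hom (x a) = (N.map f).hom (y a) := by
  classical
  have := Fintype.ofFinite ι
  have hev : ∀ a, ∃ (k : J) (f : i ⟶ k), (N.map f).hom (x a) = (N.map f).hom (y a) := fun a => by
    obtain ⟨k, f, g, hk⟩ := Concrete.colimit_exists_of_rep_eq N (i := i) (j := i) (x a) (y a) (h a)
    exact ⟨k, f, hk.trans (by rw [Subsingleton.elim g f])⟩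
  choose k f hk using hev
  obtain ⟨m, hm⟩ := (Finset.univ.image k ∪ {i}).exists_le
  refine ⟨m, homOfLE (hm i (by simp)), fun a => ?_⟩
  have h2 : ∀ z, (N.map (homOfLE (hm (k a) (by simp)))).hom ((N.map (f a)).hom z) =
      (N.map (homOfLE (hm i (by simp)))).hom z := fun z => by
    rw [show homOfLE (hm i (by simp)) = f a ≫ homOfLE (hm (k a) (by simp)) from Subsingleton.elim _ _,
      N.map_comp]
    rfl
  rw [← h2, ← h2, hk]

omit [IsDirected J (· ≤ ·)] [Nonempty J] in
theorem post_ι_apply (M : ModuleCat.{u} A) (j : J) (s : M ⟶ N.obj j) :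
    colimit.post N (coyoneda.obj (Opposite.op M))
      (colimit.ι (N ⋙ coyoneda.obj (Opposite.op M)) j s) = s ≫ colimit.ι N j :=
  ConcreteCategory.congr_hom (colimit.ι_post N (coyoneda.obj (Opposite.op M)) j) s

theorem injective_post (M : ModuleCat.{u} A) [Module.Finite A M] :
    Function.Injective (colimit.post N (coyoneda.obj (Opposite.op M))) := by
  intro t t' ht
  obtain ⟨i, s, rfl⟩ := Types.jointly_surjective' t
  obtain ⟨i', s', rfl⟩ := Types.jointly_surjective' t'
  rw [post_ι_apply, post_ι_apply] at ht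
  obtain ⟨l, hil, hi'l⟩ := exists_ge_ge i i'
  let s₁ : M ⟶ N.obj l := s ≫ N.map (homOfLE hil)
  let s₂ : M ⟶ N.obj l := s' ≫ N.map (homOfLE hi'l)
  obtain ⟨n, π, hπ⟩ := Module.Finite.exists_fin' A M
  obtain ⟨k, f, hk⟩ := exists_map_eq N (fun a : Fin n => s₁.hom (π (Pi.single a 1)))
    (fun a => s₂.hom (π (Pi.single a 1))) fun a => by
      have e : s₁ ≫ colimit.ι N l = s₂ ≫ colimit.ι N l := by
        simp only [s₁, s₂, Category.assoc, colimit.w]; exact ht
      exact congrArg (fun ψ => (ModuleCat.Hom.hom ψ) (π (Pi.single a 1))) e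
  have heq : s₁ ≫ N.map f = s₂ ≫ N.map f := by
    apply ModuleCat.hom_ext
    rw [← LinearMap.cancel_right hπ]
    refine (Pi.basisFun A (Fin n)).ext fun a => ?_
    rw [Pi.basisFun_apply]
    exact hk a
  let G := N ⋙ coyoneda.obj (Opposite.op M)
  calc colimit.ι G i s = colimit.ι G k (s₁ ≫ N.map f) := by
        rw [← colimit.w G (homOfLE hil ≫ f)]
        simp [G, s₁]
    _ = colimit.ι G k (s₂ ≫ N.map f) := by rw [heq]
    _ = colimit.ι G i' s' := by
        rw [← colimit.w G (homOfLE hi'l ≫ f)]
        simp [G, s₂]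

theorem bijective_post (M : ModuleCat.{u} A) [Module.FinitePresentation A M] :
    Function.Bijective (colimit.post N (coyoneda.obj (Opposite.op M))) := by
  classical
  refine ⟨injective_post N M, fun φ => ?_⟩
  let φ : M ⟶ colimit N := φ
  obtain ⟨n, π, hπ⟩ := Module.Finite.exists_fin' A M
  choose j y hy using fun a : Fin n => Concrete.colimit_exists_rep N (φ.hom (π (Pi.single a 1)))
  obtain ⟨i, hi⟩ := (Finset.univ.image j).exists_le
  let L : (Fin n → A) →ₗ[A] N.obj i :=
    (Pi.basisFun A (Fin n)).constr A fun a => (N.map (homOfLE (hi (j a) (by simp)))).hom (y a)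
  have hL : (colimit.ι N i).hom.comp L = φ.hom.comp π := by
    refine (Pi.basisFun A (Fin n)).ext fun a => ?_
    rw [LinearMap.comp_apply, LinearMap.comp_apply, Module.Basis.constr_basis, Pi.basisFun_apply,
      ← hy a]
    exact ConcreteCategory.congr_hom (colimit.w N (homOfLE (hi (j a) (by simp)))) (y a)
  obtain ⟨m, g, hg⟩ := Submodule.fg_iff_exists_fin_generating_family.mp
    (Module.FinitePresentation.fg_ker π hπ)
  obtain ⟨k, f, hk⟩ := exists_map_eq N (fun a : Fin m => L (g a)) (fun _ => 0) fun a => by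
    have hga : π (g a) = 0 := hg.le (Submodule.subset_span ⟨a, rfl⟩)
    rw [map_zero, ← LinearMap.comp_apply, hL, LinearMap.comp_apply, hga, map_zero]
  have hker : LinearMap.ker π ≤ LinearMap.ker ((N.map f).hom.comp L) := by
    rw [← hg, Submodule.span_le, Set.range_subset_iff]
    intro a
    show (N.map f).hom (L (g a)) = 0
    rw [hk a, map_zero]
  let s : M ⟶ N.obj k := ModuleCat.ofHom
    (((LinearMap.ker π).liftQ _ hker).comp (π.quotKerEquivOfSurjective hπ).symm.toLinearMap)
  refine ⟨colimit.ι (N ⋙ coyoneda.obj (Opposite.op M)) k s, ?_⟩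
  rw [post_ι_apply]
  refine ModuleCat.hom_ext ?_
  rw [← LinearMap.cancel_right hπ]
  refine LinearMap.ext fun x => ?_
  show (colimit.ι N k).hom (((LinearMap.ker π).liftQ _ hker)
    ((π.quotKerEquivOfSurjective hπ).symm (π x))) = φ.hom (π x)
  rw [show (π.quotKerEquivOfSurjective hπ).symm (π x) = Submodule.Quotient.mk x from
    (LinearEquiv.symm_apply_eq _).mpr (by simp), Submodule.liftQ_apply, LinearMap.comp_apply,
    ← LinearMap.comp_apply φ.hom π, ← hL]
  exact ConcreteCategory.congr_hom (colimit.w N f) (L x)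

end Groth.Agent.H26.ModColim
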