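import Mathlib

/-!
Alternating bimultiplicative pairings on `μ_n` with values in `𝔾_m` are trivial (helper for S19228).
-/

universe u

namespace Groth.Agent.H26.MuPairing

open MonoidAlgebra

/-- A natural pairing of characters of `ℤ/n`. -/
structure Pairing (R : Type u) [CommRing R] (n : ℕ) where
  toFun : ∀ (B : Type u) [CommRing B] [Algebra R B],
    (Multiplicative (ZMod n) →* B) → (Multiplicative (ZMod n) →* B) → B
  natural : ∀ (B B' : Type u) [CommRing B] [Algebra R B] [CommRing B'] [Algebra R B'] (f : B →ₐ[R] B')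
    (χ ψ : Multiplicative (ZMod n) →* B),
    f (toFun B χ ψ) = toFun B' (f.toRingHom.toMonoidHom.comp χ) (f.toRingHom.toMonoidHom.comp ψ)
  mul_left : ∀ (B : Type u) [CommRing B] [Algebra R B] (χ χ' ψ : Multiplicative (ZMod n) →* B),
    toFun B (χ * χ') ψ = toFun B χ ψ * toFun B χ' ψ
  mul_right : ∀ (B : Type u) [CommRing B] [Algebra R B] (χ ψ ψ' : Multiplicative (ZMod n) →* B),
    toFun B χ (ψ * ψ') = toFun B χ ψ * toFun B χ ψ'
  one_right : ∀ (B : Type u) [CommRing B] [Algebra R B] (χ : Multiplicative (ZMod n) →* B),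
    toFun B χ 1 = 1
  self : ∀ (B : Type u) [CommRing B] [Algebra R B] (χ : Multiplicative (ZMod n) →* B),
    toFun B χ χ = 1

variable {R : Type u} [CommRing R] {n : ℕ} [NeZero n]

theorem eq_zero_of_dvd {n p : ℕ} (hn : n ≠ 0) {c : ℕ} (h1 : ordCompl[p] n ∣ c)
    (h2 : n ∣ ordCompl[p] n * c) : n ∣ c := by
  by_cases hp : p.Prime
  · obtain ⟨d, rfl⟩ := h1
    have hmul : ordProj[p] n * ordCompl[p] n = n := Nat.ordProj_mul_ordCompl_eq_self n p
    have hcop : (ordProj[p] n).Coprime (ordCompl[p] n) :=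
      (Nat.coprime_ordCompl hp hn).pow_left _
    have h3 : ordProj[p] n ∣ ordCompl[p] n * (ordCompl[p] n * d) :=
      (Dvd.intro _ hmul).trans h2
    have h4 : ordProj[p] n ∣ d := hcop.dvd_of_dvd_mul_left (hcop.dvd_of_dvd_mul_left h3)
    calc n = ordCompl[p] n * ordProj[p] n := by rw [mul_comm, hmul]
      _ ∣ ordCompl[p] n * d := mul_dvd_mul_left _ h4
  · rwa [Nat.ordCompl_of_not_prime _ _ hp] at h1

theorem hom_eq_one_of_apply_self (K : Type u) [Field K] [IsAlgClosed K]
    (φ : (Multiplicative (ZMod n) →* K) →* Multiplicative (ZMod n))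
    (h : ∀ χ : Multiplicative (ZMod n) →* K, χ (φ χ) = 1) : φ = 1 := by
  set p := ringExpChar K with hp
  set n' := ordCompl[p] n with hn'
  have hn0 : n ≠ 0 := NeZero.ne n
  have hne : (n' : K) ≠ 0 := by
    rcases expChar_is_prime_or_one K p with hpr | h1
    · obtain ⟨q, hq⟩ := CharP.exists K
      have hqp : q = p := (char_eq_expChar_iff K q p).mpr (by
        rcases CharP.char_is_prime_or_zero K q with h | h
        · exact h
        · subst h
          exact absurd (expChar_one_of_char_zero K p) hpr.ne_one)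
      have : CharP K p := hqp ▸ hq
      rw [Ne, CharP.cast_eq_zero_iff K p]
      exact Nat.not_dvd_ordCompl hpr hn0
    · have : CharZero K := by
        have : ExpChar K 1 := h1 ▸ inferInstance
        exact charZero_of_expChar_one' K
      exact Nat.cast_ne_zero.mpr (Nat.ordCompl_pos p hn0).ne'
  have : NeZero (n' : K) := ⟨hne⟩
  have : NeZero n' := ⟨(Nat.ordCompl_pos p hn0).ne'⟩
  obtain ⟨ζ, hζ⟩ := HasEnoughRootsOfUnity.exists_primitiveRoot K n'
  have hroot : ∀ x : K, x ^ n = 1 → ∃ k, ζ ^ k = x := by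
    intro x hx
    have : x ^ n' = 1 := by
      apply iterateFrobenius_inj K p (n.factorization p)
      rw [iterateFrobenius_def, iterateFrobenius_def, one_pow, ← pow_mul, mul_comm,
        Nat.ordProj_mul_ordCompl_eq_self, hx]
    obtain ⟨k, -, hk⟩ := hζ.eq_pow_of_pow_eq_one this
    exact ⟨k, hk⟩
  have hgen : ∀ m : Multiplicative (ZMod n), m = Multiplicative.ofAdd (1 : ZMod n) ^ m.toAdd.val := by
    intro m
    rw [← ofAdd_nsmul, nsmul_one, ZMod.natCast_zmod_val, ofAdd_toAdd]
  have hdvd : n' ∣ n := Nat.ordCompl_dvd n p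
  let χ₀ : Multiplicative (ZMod n) →* K :=
    { toFun := fun m => ζ ^ m.toAdd.val
      map_one' := by simp
      map_mul' := fun a b => by
        rw [← pow_add, toAdd_mul, ZMod.val_add]
        refine pow_eq_pow_of_modEq ?_ hζ.pow_eq_one
        exact Nat.ModEq.of_dvd hdvd (Nat.mod_modEq _ _) }
  ext χ : 1
  obtain ⟨k, hk⟩ := hroot (χ (Multiplicative.ofAdd 1)) (by
    rw [← map_pow, ← ofAdd_nsmul, nsmul_one, ZMod.natCast_self, ofAdd_zero, map_one])
  have hχ : χ = χ₀ ^ k := by
    refine MonoidHom.ext fun m => ?_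
    conv_lhs => rw [hgen m, map_pow, ← hk]
    rw [MonoidHom.pow_apply, MonoidHom.coe_mk, OneHom.coe_mk, ← pow_mul, ← pow_mul, mul_comm]
  rw [hχ, map_pow, MonoidHom.one_apply]
  suffices φ χ₀ = 1 by rw [this, one_pow]
  have hχ₀ : χ₀ ^ n' = 1 := by
    refine MonoidHom.ext fun m => ?_
    rw [MonoidHom.pow_apply, MonoidHom.one_apply]
    show (ζ ^ _) ^ n' = 1
    rw [← pow_mul, mul_comm, pow_mul, hζ.pow_eq_one, one_pow]
  have h1 : n' ∣ (φ χ₀).toAdd.val := (hζ.pow_eq_one_iff_dvd _).mp (h χ₀)
  have h2 : n ∣ n' * (φ χ₀).toAdd.val := by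
    have := congrArg (fun z => Multiplicative.toAdd z) (congrArg φ hχ₀)
    simp only [map_pow, map_one, toAdd_pow, toAdd_one, nsmul_eq_mul] at this
    rw [← ZMod.natCast_eq_zero_iff, Nat.cast_mul, ZMod.natCast_zmod_val]
    exact this
  have h3 := eq_zero_of_dvd hn0 h1 h2
  have h4 : (φ χ₀).toAdd = 0 := by
    rw [← ZMod.natCast_zmod_val (φ χ₀).toAdd, ZMod.natCast_eq_zero_iff]
    exact h3
  exact toAdd_eq_zero.mp h4

/-- An alternating bimultiplicative pairing of characters of `ℤ/n` is trivial. -/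
theorem Pairing.eq_one (P : Pairing R n) (B : Type u) [CommRing B] [Algebra R B]
    (χ ψ : Multiplicative (ZMod n) →* B) : P.toFun B χ ψ = 1 := by
  classical
  let M := Multiplicative (ZMod n)
  let A := MonoidAlgebra R M
  let χu : M →* A := of R M
  let f₁ : MonoidAlgebra A M :=
    P.toFun (MonoidAlgebra A M) ((algebraMap A (MonoidAlgebra A M)).toMonoidHom.comp χu) (of A M)
  let a : M → A := fun m => f₁.coeff m
  -- the pairing against the universal character
  have hev : ∀ (C : Type u) [CommRing C] [Algebra R C] (g : A →ₐ[R] C) (ψ : M →* C),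
      P.toFun C (g.toRingHom.toMonoidHom.comp χu) ψ = ∑ m, g (a m) * ψ m := by
    intro C _ _ g ψ
    letI := g.toRingHom.toAlgebra
    have : IsScalarTower R A C := .of_algebraMap_eq fun r => (g.commutes r).symm
    let l : MonoidAlgebra A M →ₐ[A] C := MonoidAlgebra.lift A C M ψ
    have h := P.natural _ C (l.restrictScalars R)
      ((algebraMap A (MonoidAlgebra A M)).toMonoidHom.comp χu) (of A M)
    have e1 : (l.restrictScalars R).toRingHom.toMonoidHom.comp
        ((algebraMap A (MonoidAlgebra A M)).toMonoidHom.comp χu) = g.toRingHom.toMonoidHom.comp χu :=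
      MonoidHom.ext fun m => l.commutes (χu m)
    have e2 : (l.restrictScalars R).toRingHom.toMonoidHom.comp (of A M) = ψ :=
      MonoidHom.ext fun m => by simp [l]
    rw [e1, e2] at h
    rw [← h]
    change l f₁ = _
    conv_lhs => rw [← MonoidAlgebra.sum_coeff_single f₁]
    rw [map_finsuppSum, Finsupp.sum_fintype _ _ (by simp)]
    refine Finset.sum_congr rfl fun m _ => ?_
    simp only [l, MonoidAlgebra.lift_single, Algebra.smul_def]
    rfl
  -- orthogonal idempotents
  have hortho : ∀ m l, a m * a l = if m = l then a m else 0 := by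
    intro m l
    let C := MonoidAlgebra A (M × M)
    let g : A →ₐ[R] C := IsScalarTower.toAlgHom R A C
    let ψ₁ : M →* C := (of A (M × M)).comp (MonoidHom.inl M M)
    let ψ₂ : M →* C := (of A (M × M)).comp (MonoidHom.inr M M)
    have h := P.mul_right C (g.toRingHom.toMonoidHom.comp χu) ψ₁ ψ₂
    rw [hev C g, hev C g, hev C g, Finset.sum_mul_sum] at h
    have hc := congrArg (fun z : C => z.coeff (m, l)) h
    simp [g, ψ₁, ψ₂, C, MonoidAlgebra.coe_algebraMap, MonoidAlgebra.single_mul_single,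
      Finsupp.single_apply, Prod.ext_iff, ite_and] at hc
    rw [Fintype.sum_eq_single m (fun x hx => if_neg hx),
      Fintype.sum_eq_single m (fun x hx => if_neg hx), if_pos rfl, if_pos rfl,
      Fintype.sum_eq_single l (fun x hx => if_neg hx)] at hc
    simpa using hc.symm
  have hsum : ∑ m, a m = 1 := by
    have h := hev A (AlgHom.id R A) 1
    rw [P.one_right] at h
    simpa using h.symm
  -- vanishing at geometric points
  have hvan : ∀ m ≠ 1, ∀ Q : Ideal A, Q.IsPrime → a m ∈ Q := by
    intro m hm Q _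
    let K := AlgebraicClosure Q.ResidueField
    let g₀ : A →ₐ[R] K := IsScalarTower.toAlgHom R A K
    have key : ∀ χ : M →* K, ∃ m₀ : M, MonoidAlgebra.lift R K M χ (a m₀) = 1 ∧
        ∀ m ≠ m₀, MonoidAlgebra.lift R K M χ (a m) = 0 := by
      intro χ
      set g := MonoidAlgebra.lift R K M χ
      have hs : ∑ m, g (a m) = 1 := by rw [← map_sum, hsum, map_one]
      obtain ⟨m₀, -, hm₀⟩ := Finset.exists_ne_zero_of_sum_ne_zero (hs ▸ one_ne_zero)
      have h0 : ∀ m ≠ m₀, g (a m) = 0 := fun m hm => by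
        have := congrArg g (hortho m m₀)
        rw [if_neg hm, map_mul, map_zero] at this
        exact (mul_eq_zero.mp this).resolve_right hm₀
      refine ⟨m₀, ?_, h0⟩
      rw [← hs, Finset.sum_eq_single m₀ (fun m _ hm => h0 m hm) (by simp)]
    choose φ hφ1 hφ0 using key
    have hev' : ∀ (χ : M →* K) (C : Type u) [CommRing C] [Algebra R C] (j : K →ₐ[R] C) (ψ : M →* C),
        P.toFun C (j.toRingHom.toMonoidHom.comp χ) ψ = ψ (φ χ) := by
      intro χ C _ _ j ψ
      have h := hev C (j.comp (MonoidAlgebra.lift R K M χ)) ψ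
      have e : (j.comp (MonoidAlgebra.lift R K M χ)).toRingHom.toMonoidHom.comp χu =
          j.toRingHom.toMonoidHom.comp χ := MonoidHom.ext fun m => by simp [χu]
      rw [e] at h
      rw [h, Finset.sum_eq_single (φ χ) (fun m _ hm => by simp [hφ0 χ m hm]) (by simp)]
      simp [hφ1 χ]
    have hφmul : ∀ χ χ', φ (χ * χ') = φ χ * φ χ' := by
      intro χ χ'
      let C := MonoidAlgebra K M
      let j : K →ₐ[R] C := IsScalarTower.toAlgHom R K C
      have h := hev' (χ * χ') C j (of K M)
      rw [MonoidHom.comp_mul, P.mul_left, hev', hev', ← map_mul] at h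
      exact (MonoidAlgebra.of_injective h).symm
    have hφ : MonoidHom.mk' φ hφmul = 1 := hom_eq_one_of_apply_self K _ fun χ => by
      have h := hev' χ K (AlgHom.id R K) χ
      have e : (AlgHom.id R K).toRingHom.toMonoidHom.comp χ = χ := MonoidHom.ext fun _ => rfl
      rw [e, P.self] at h
      exact h.symm
    let χ₀ : M →* K := g₀.toRingHom.toMonoidHom.comp χu
    have hg₀ : MonoidAlgebra.lift R K M χ₀ = g₀ := (MonoidAlgebra.lift R K M).apply_symm_apply g₀
    have h0 := hφ0 χ₀ m (by rwa [show φ χ₀ = 1 from DFunLike.congr_fun hφ χ₀])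
    rw [hg₀] at h0
    have h1 : algebraMap Q.ResidueField K (algebraMap A Q.ResidueField (a m)) = 0 := by
      rw [← IsScalarTower.algebraMap_apply]; exact h0
    rwa [map_eq_zero, Ideal.algebraMap_residueField_eq_zero] at h1
  have hzero : ∀ m ≠ 1, a m = 0 := by
    intro m hm
    have hnil : IsNilpotent (a m) := by
      rw [nilpotent_iff_mem_prime]
      exact hvan m hm
    exact IsIdempotentElem.eq_zero_of_isNilpotent (by
      show _ * _ = _
      rw [hortho, if_pos rfl]) hnil
  have ha1 : a 1 = 1 := by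
    rw [← hsum, Finset.sum_eq_single 1 (fun m _ hm => hzero m hm) (by simp)]
  have hg : (MonoidAlgebra.lift R B M χ).toRingHom.toMonoidHom.comp χu = χ :=
    MonoidHom.ext fun m => by simp [χu]
  rw [← hg, hev, Finset.sum_eq_single 1 (fun m _ hm => by simp [hzero m hm]) (by simp)]
  simp [ha1]

end Groth.Agent.H26.MuPairing
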