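import Groth.Prelude.Def_Red2
import Groth.Prelude.Def_AlgGrp
import Groth.Agent.Lib.RedPts.Affine
import Groth.Agent.H26.MuPairing

/-!
The commutator pairing of a central extension of `μ_n` by `𝔾_m` (helper for S19228).
-/

set_option autoImplicit false
set_option linter.all false
set_option maxHeartbeats 1000000

universe u

open CategoryTheory MonoidalCategory CartesianMonoidalCategory MonObj GrpObj AlgebraicGeometry Limits
open Groth.Agent.Lib.RedPts

namespace Groth.Agent.H26.MuExt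

/-- Affine flat covers of the target of an fppf morphism. -/
theorem exists_affine_cover {X Y : Scheme.{u}} (f : X ⟶ Y) [Flat f] [Surjective f]
    [LocallyOfFinitePresentation f] [CompactSpace Y] :
    ∃ (V : Scheme.{u}) (j : V ⟶ X), IsAffine V ∧ Flat (j ≫ f) ∧ Surjective (j ≫ f) := by
  have hopen : IsOpenMap f := f.isOpenMap
  have hcov : ∀ y : Y, ∃ U : X.affineOpens, y ∈ f '' ((U : X.Opens) : Set X) := fun y => by
    obtain ⟨x, rfl⟩ := f.surjective y
    obtain ⟨U, hU, hx, -⟩ := TopologicalSpace.Opens.isBasis_iff_nbhd.mp X.isBasis_affineOpens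
      (show x ∈ (⊤ : X.Opens) from trivial)
    exact ⟨⟨U, hU⟩, x, hx, rfl⟩
  choose U hU using hcov
  obtain ⟨t, ht⟩ := isCompact_univ.elim_finite_subcover
    (fun y => f '' ((U y : X.Opens) : Set X)) (fun y => hopen _ (U y : X.Opens).isOpen)
    (fun y _ => Set.mem_iUnion.mpr ⟨y, hU y⟩)
  have : ∀ y : t, IsAffine ((U y.1 : X.Opens) : Scheme.{u}) := fun y => (U y.1).2
  refine ⟨∐ fun y : t => ((U y.1 : X.Opens) : Scheme.{u}),
    Sigma.desc fun y : t => (U y.1 : X.Opens).ι, inferInstance, inferInstance, ?_⟩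
  have h : Sigma.desc (fun y : t => (U y.1 : X.Opens).ι) ≫ f =
      Sigma.desc fun y : t => (U y.1 : X.Opens).ι ≫ f := by
    ext y; simp
  rw [h]
  refine Surjective.sigmaDesc_of_union_range_eq_univ (Set.eq_univ_iff_forall.mpr fun y => ?_)
  obtain ⟨z, hz, hyz⟩ := Set.mem_iUnion₂.mp (ht (Set.mem_univ y))
  obtain ⟨x, hx, rfl⟩ := hyz
  refine Set.mem_iUnion.mpr ⟨⟨z, hz⟩, ⟨⟨x, hx⟩, ?_⟩⟩
  rfl

variable {R : Type u} [CommRing R] {n : ℕ}

theorem diag_mul_comm {M : Type} [AddCommGroup M] {T : Over (Spec (CommRingCat.of R))} (a b : T ⟶ Red.diag R M) :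
    a * b = b * a :=
  Affine.diagFn_ext fun m => by rw [Affine.diagFn_mul, Affine.diagFn_mul, mul_comm]

/-- The data of a central extension. -/
structure CentExt (R : Type u) [CommRing R] (n : ℕ) where
  E : Over (Spec (CommRingCat.of R))
  [grp : GrpObj E]
  i : Red.diag R ℤ ⟶ E
  [ihom : IsMonHom i]
  q : E ⟶ Red.diag R (ZMod n)
  [qhom : IsMonHom q]
  ker : AlgGrp.IsKernel i q
  flat : Flat q.left
  surj : Surjective q.left
  lfp : LocallyOfFinitePresentation q.left
  cent : ∀ (T : Over (Spec (CommRingCat.of R))) (g : T ⟶ E) (t : T ⟶ Red.diag R ℤ),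
    g * (t ≫ i) = (t ≫ i) * g

attribute [instance] CentExt.grp CentExt.ihom CentExt.qhom

namespace CentExt

variable (X : CentExt R n) {T T' : Over (Spec (CommRingCat.of R))}

theorem i_mono (t t' : T ⟶ (Red.diag R ℤ)) (h : t ≫ X.i = t' ≫ X.i) : t = t' :=
  X.ker.hom_ext h (toUnit_unique _ _)

theorem exists_factor (w : T ⟶ X.E) (h : w ≫ X.q = 1) : ∃ t : T ⟶ (Red.diag R ℤ), t ≫ X.i = w :=
  ⟨X.ker.lift w (toUnit T) (by rw [h, Hom.one_def]), X.ker.lift_fst _ _ _⟩

theorem comm_comp_q (g h : T ⟶ X.E) : (g * h * g⁻¹ * h⁻¹) ≫ X.q = 1 := by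
  simp only [MonObj.mul_comp, GrpObj.inv_comp]
  exact mul_inv_eq_one.mpr (mul_inv_eq_iff_eq_mul.mpr (diag_mul_comm (g ≫ X.q) (h ≫ X.q)))

/-- The commutator. -/
noncomputable def c (g h : T ⟶ X.E) : T ⟶ (Red.diag R ℤ) := (X.exists_factor _ (X.comm_comp_q g h)).choose

theorem c_spec (g h : T ⟶ X.E) : X.c g h ≫ X.i = g * h * g⁻¹ * h⁻¹ :=
  (X.exists_factor _ (X.comm_comp_q g h)).choose_spec

theorem comp_c (f : T' ⟶ T) (g h : T ⟶ X.E) : f ≫ X.c g h = X.c (f ≫ g) (f ≫ h) := by
  apply X.i_mono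
  rw [Category.assoc, c_spec, c_spec]
  simp only [MonObj.comp_mul, GrpObj.comp_inv]

theorem c_self (g : T ⟶ X.E) : X.c g g = 1 := by
  apply X.i_mono
  rw [c_spec, MonObj.one_comp]
  group

theorem c_mul_left (g g' h : T ⟶ X.E) : X.c (g * g') h = X.c g h * X.c g' h := by
  apply X.i_mono
  simp only [MonObj.mul_comp, c_spec]
  have h1 := X.cent T g (X.c g' h)
  rw [c_spec] at h1
  calc g * g' * h * (g * g')⁻¹ * h⁻¹
      = (g * (g' * h * g'⁻¹ * h⁻¹)) * (h * g⁻¹ * h⁻¹) := by group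
    _ = ((g' * h * g'⁻¹ * h⁻¹) * g) * (h * g⁻¹ * h⁻¹) := by rw [h1]
    _ = (g' * h * g'⁻¹ * h⁻¹) * (g * h * g⁻¹ * h⁻¹) := by group
    _ = (g * h * g⁻¹ * h⁻¹) * (g' * h * g'⁻¹ * h⁻¹) := by
      rw [← c_spec X g h, ← c_spec X g' h]
      exact (X.cent T _ _).symm

theorem c_mul_right (g h h' : T ⟶ X.E) : X.c g (h * h') = X.c g h * X.c g h' := by
  apply X.i_mono
  simp only [MonObj.mul_comp, c_spec]
  have h1 := X.cent T h (X.c g h')
  rw [c_spec] at h1
  calc g * (h * h') * g⁻¹ * (h * h')⁻¹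
      = (g * h * g⁻¹) * (g * h' * g⁻¹ * h'⁻¹) * h⁻¹ := by group
    _ = (g * h * g⁻¹ * h⁻¹) * (h * (g * h' * g⁻¹ * h'⁻¹)) * h⁻¹ := by group
    _ = (g * h * g⁻¹ * h⁻¹) * ((g * h' * g⁻¹ * h'⁻¹) * h) * h⁻¹ := by rw [h1]
    _ = (g * h * g⁻¹ * h⁻¹) * (g * h' * g⁻¹ * h'⁻¹) := by group

theorem c_central_left (t : T ⟶ (Red.diag R ℤ)) (h : T ⟶ X.E) : X.c (t ≫ X.i) h = 1 := by
  apply X.i_mono
  rw [c_spec, MonObj.one_comp, ← X.cent T h t]
  group

theorem c_central_right (g : T ⟶ X.E) (t : T ⟶ (Red.diag R ℤ)) : X.c g (t ≫ X.i) = 1 := by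
  apply X.i_mono
  rw [c_spec, MonObj.one_comp, X.cent T g t]
  group

theorem c_congr {g g' h h' : T ⟶ X.E} (hg : g ≫ X.q = g' ≫ X.q) (hh : h ≫ X.q = h' ≫ X.q) :
    X.c g h = X.c g' h' := by
  obtain ⟨t, ht⟩ := X.exists_factor (g'⁻¹ * g) (by
    simp only [MonObj.mul_comp, GrpObj.inv_comp, hg, inv_mul_cancel])
  obtain ⟨s, hs⟩ := X.exists_factor (h'⁻¹ * h) (by
    simp only [MonObj.mul_comp, GrpObj.inv_comp, hh, inv_mul_cancel])
  have e1 : g = g' * (t ≫ X.i) := by rw [ht, mul_inv_cancel_left]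
  have e2 : h = h' * (s ≫ X.i) := by rw [hs, mul_inv_cancel_left]
  rw [e1, e2, c_mul_left, c_mul_right, c_central_left, c_central_right, _root_.mul_one, _root_.mul_one]

/-- Local lifting along `q`. -/
theorem exists_lift (a : T ⟶ (Red.diag R (ZMod n))) :
    ∃ (T' : Over (Spec (CommRingCat.of R))) (r : T' ⟶ T) (g : T' ⟶ X.E), Epi r ∧ g ≫ X.q = r ≫ a := by
  let T' : Over (Spec (CommRingCat.of R)) := Over.mk (pullback.fst a.left X.q.left ≫ T.hom)
  let r : T' ⟶ T := Over.homMk (pullback.fst a.left X.q.left) rfl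
  let g : T' ⟶ X.E := Over.homMk (pullback.snd a.left X.q.left) (by
    show _ = pullback.fst a.left X.q.left ≫ T.hom
    rw [← Over.w X.q, ← Category.assoc, ← pullback.condition, Category.assoc, Over.w a])
  have := X.flat
  have := X.surj
  have : Epi (pullback.fst a.left X.q.left) := Flat.epi_of_flat_of_surjective _
  have : Epi r.left := this
  exact ⟨T', r, g, Over.epi_of_epi_left r, Over.OverMorphism.ext pullback.condition.symm⟩

theorem exists_pairing : ∃ e : (Red.diag R (ZMod n)) ⊗ (Red.diag R (ZMod n)) ⟶ (Red.diag R ℤ),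
    ∀ (T : Over (Spec (CommRingCat.of R))) (g h : T ⟶ X.E), lift (g ≫ X.q) (h ≫ X.q) ≫ e = X.c g h := by
  have := X.flat
  have := X.surj
  have := X.lfp
  have : CompactSpace ((Red.diag R (ZMod n))).left := inferInstanceAs (CompactSpace (PrimeSpectrum _))
  obtain ⟨V, j, hV, hfl, hsu⟩ := exists_affine_cover X.q.left
  let V' : Over (Spec (CommRingCat.of R)) := Over.mk (j ≫ X.E.hom)
  let jO : V' ⟶ X.E := Over.homMk j rfl
  let π : V' ⟶ (Red.diag R (ZMod n)) := jO ≫ X.q
  let P := π ⊗ₘ π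
  have hπf : Flat π.left := hfl
  have hπs : Surjective π.left := hsu
  have hPf : Flat P.left := by
    exact MorphismProperty.pullbackMap hπf hπf (Over.w π).symm (Over.w π).symm
  have hPs : Surjective P.left := by
    exact MorphismProperty.pullbackMap (P := @Surjective) hπs hπs (Over.w π).symm (Over.w π).symm
  have : IsAffine V'.left := hV
  have : IsAffine ((Red.diag R (ZMod n))).left := inferInstanceAs (IsAffine (Spec _))
  have : IsAffine (V' ⊗ V').left := inferInstanceAs (IsAffine (pullback V'.hom V'.hom))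
  have : IsAffine ((Red.diag R (ZMod n)) ⊗ (Red.diag R (ZMod n))).left := inferInstanceAs (IsAffine (pullback ((Red.diag R (ZMod n))).hom ((Red.diag R (ZMod n))).hom))
  have : IsRegularEpi P.left := isRegularEpi_of_flat_of_surjective_of_isAffine _
  have : EffectiveEpi P.left := inferInstance
  let c0 : V' ⊗ V' ⟶ (Red.diag R ℤ) := X.c (fst V' V' ≫ jO) (snd V' V' ≫ jO)
  have hdesc : ∀ {Z : Scheme.{u}} (g1 g2 : Z ⟶ (V' ⊗ V').left),
      g1 ≫ P.left = g2 ≫ P.left → g1 ≫ c0.left = g2 ≫ c0.left := by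
    intro Z g1 g2 hg
    let Z' : Over (Spec (CommRingCat.of R)) := Over.mk (g1 ≫ (V' ⊗ V').hom)
    let a1 : Z' ⟶ V' ⊗ V' := Over.homMk g1 rfl
    let a2 : Z' ⟶ V' ⊗ V' := Over.homMk g2 (by
      show g2 ≫ (V' ⊗ V').hom = g1 ≫ (V' ⊗ V').hom
      rw [← Over.w P, ← Category.assoc, ← hg, Category.assoc])
    have ha : a1 ≫ P = a2 ≫ P := Over.OverMorphism.ext hg
    have k : a1 ≫ c0 = a2 ≫ c0 := by
      rw [comp_c, comp_c]
      refine X.c_congr ?_ ?_
      · simpa [P, π] using congr($ha ≫ fst _ _)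
      · simpa [P, π] using congr($ha ≫ snd _ _)
    exact congrArg CommaMorphism.left k
  let el := EffectiveEpi.desc P.left c0.left hdesc
  have hel : P.left ≫ el = c0.left := EffectiveEpi.fac P.left c0.left hdesc
  have : Epi P.left := inferInstance
  let e : (Red.diag R (ZMod n)) ⊗ (Red.diag R (ZMod n)) ⟶ (Red.diag R ℤ) := Over.homMk el (by
    rw [← cancel_epi P.left, ← Category.assoc, hel, Over.w c0, Over.w P])
  have he : P ≫ e = c0 := Over.OverMorphism.ext hel
  refine ⟨e, fun T g h => ?_⟩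
  let l : T ⟶ (Red.diag R (ZMod n)) ⊗ (Red.diag R (ZMod n)) := lift (g ≫ X.q) (h ≫ X.q)
  let W : Over (Spec (CommRingCat.of R)) := Over.mk (pullback.fst l.left P.left ≫ T.hom)
  let r : W ⟶ T := Over.homMk (pullback.fst l.left P.left) rfl
  let s : W ⟶ V' ⊗ V' := Over.homMk (pullback.snd l.left P.left) (by
    show _ = pullback.fst l.left P.left ≫ T.hom
    rw [← Over.w P, ← Category.assoc, ← pullback.condition, Category.assoc, Over.w l])
  have hrs : r ≫ l = s ≫ P := Over.OverMorphism.ext pullback.condition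
  have : Epi (pullback.fst l.left P.left) := Flat.epi_of_flat_of_surjective _
  have : Epi r.left := this
  have : Epi r := Over.epi_of_epi_left r
  rw [← cancel_epi r]
  show r ≫ l ≫ e = r ≫ X.c g h
  rw [← Category.assoc, hrs, Category.assoc, he, comp_c, comp_c]
  refine X.c_congr ?_ ?_
  · simpa [P, π, l] using congr($hrs ≫ fst _ _).symm
  · simpa [P, π, l] using congr($hrs ≫ snd _ _).symm

variable {X} {e : (Red.diag R (ZMod n)) ⊗ (Red.diag R (ZMod n)) ⟶ (Red.diag R ℤ)}
  (he : ∀ (T : Over (Spec (CommRingCat.of R))) (g h : T ⟶ X.E), lift (g ≫ X.q) (h ≫ X.q) ≫ e = X.c g h)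

include he

theorem pairing_mul_left (a a' b : T ⟶ (Red.diag R (ZMod n))) :
    lift (a * a') b ≫ e = (lift a b ≫ e) * (lift a' b ≫ e) := by
  obtain ⟨T₁, r₁, g, h₁, hg⟩ := X.exists_lift a
  obtain ⟨T₂, r₂, g', h₂, hg'⟩ := X.exists_lift (r₁ ≫ a')
  obtain ⟨T₃, r₃, h, h₃, hh⟩ := X.exists_lift (r₂ ≫ r₁ ≫ b)
  rw [← cancel_epi (r₃ ≫ r₂ ≫ r₁), MonObj.comp_mul]
  simp only [← Category.assoc, comp_lift, MonObj.comp_mul]
  simp only [Category.assoc]
  rw [← hg, ← hg', ← hh]
  simp only [← Category.assoc, ← MonObj.mul_comp, he, c_mul_left]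

theorem pairing_mul_right (a b b' : T ⟶ (Red.diag R (ZMod n))) :
    lift a (b * b') ≫ e = (lift a b ≫ e) * (lift a b' ≫ e) := by
  obtain ⟨T₁, r₁, g, h₁, hg⟩ := X.exists_lift b
  obtain ⟨T₂, r₂, g', h₂, hg'⟩ := X.exists_lift (r₁ ≫ b')
  obtain ⟨T₃, r₃, h, h₃, hh⟩ := X.exists_lift (r₂ ≫ r₁ ≫ a)
  rw [← cancel_epi (r₃ ≫ r₂ ≫ r₁), MonObj.comp_mul]
  simp only [← Category.assoc, comp_lift, MonObj.comp_mul]
  simp only [Category.assoc]
  rw [← hg, ← hg', ← hh]
  simp only [← Category.assoc, ← MonObj.mul_comp, he, c_mul_right]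

theorem pairing_self (a : T ⟶ (Red.diag R (ZMod n))) : lift a a ≫ e = 1 := by
  obtain ⟨T₁, r₁, g, h₁, hg⟩ := X.exists_lift a
  rw [← cancel_epi r₁, MonObj.comp_one, comp_lift_assoc, ← hg, he, c_self]

theorem pairing_one_right (a : T ⟶ (Red.diag R (ZMod n))) : lift a 1 ≫ e = 1 := by
  have := pairing_mul_right he a 1 1
  rw [_root_.mul_one] at this
  have h2 := congrArg (fun z => (lift a 1 ≫ e)⁻¹ * z) this
  exact ((inv_mul_cancel_left (lift a 1 ≫ e) (lift a 1 ≫ e)).symm.trans h2.symm).trans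
    (inv_mul_cancel (lift a 1 ≫ e))

omit he

/-- The test object `Spec B`. -/
noncomputable abbrev tB (B : Type u) [CommRing B] [Algebra R B] : Over (Spec (CommRingCat.of R)) :=
  Over.mk (Spec.map (CommRingCat.ofHom (algebraMap R B)))

/-- `B → Γ(Spec B)`. -/
noncomputable abbrev gam (B : Type u) [CommRing B] [Algebra R B] : B →+* Γ((tB (R := R) B).left, ⊤) :=
  (Scheme.ΓSpecIso (CommRingCat.of B)).inv.hom

/-- `Γ(Spec B) → B`. -/
noncomputable abbrev gamInv (B : Type u) [CommRing B] [Algebra R B] : Γ((tB (R := R) B).left, ⊤) →+* B :=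
  (Scheme.ΓSpecIso (CommRingCat.of B)).hom.hom

/-- The point of `μ_n` given by a character. -/
noncomputable def pt (B : Type u) [CommRing B] [Algebra R B] (χ : Multiplicative (ZMod n) →* B) :
    tB (R := R) B ⟶ (Red.diag R (ZMod n)) :=
  Affine.diagPt ((gam (R := R) B).toMonoidHom.comp χ)

theorem diagFn_pt (B : Type u) [CommRing B] [Algebra R B] (χ : Multiplicative (ZMod n) →* B)
    (m : ZMod n) : Affine.diagFn (pt (R := R) B χ) m = gam (R := R) B (χ (Multiplicative.ofAdd m)) :=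
  Affine.diagFn_diagPt _ m

theorem pt_mul (B : Type u) [CommRing B] [Algebra R B] (χ χ' : Multiplicative (ZMod n) →* B) :
    pt (R := R) B (χ * χ') = pt B χ * pt B χ' :=
  Affine.diagFn_ext fun m => by
    rw [Affine.diagFn_mul, diagFn_pt, diagFn_pt, diagFn_pt, MonoidHom.mul_apply, map_mul]

theorem pt_one (B : Type u) [CommRing B] [Algebra R B] :
    pt (R := R) B (1 : Multiplicative (ZMod n) →* B) = 1 :=
  Affine.diagFn_ext fun m => by
    rw [Affine.diagFn_one, diagFn_pt, MonoidHom.one_apply, map_one]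

/-- The map induced by an algebra homomorphism. -/
noncomputable def tMap {B B' : Type u} [CommRing B] [Algebra R B] [CommRing B'] [Algebra R B']
    (f : B →ₐ[R] B') : tB (R := R) B' ⟶ tB B :=
  Over.homMk (Spec.map (CommRingCat.ofHom f.toRingHom)) (by
    show Spec.map _ ≫ Spec.map _ = Spec.map _
    rw [← Spec.map_comp, ← CommRingCat.ofHom_comp]
    congr 2
    exact f.comp_algebraMap)

theorem tMap_gam {B B' : Type u} [CommRing B] [Algebra R B] [CommRing B'] [Algebra R B']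
    (f : B →ₐ[R] B') (b : B) : (tMap f).left.appTop (gam (R := R) B b) = gam (R := R) B' (f b) := by
  have := Scheme.ΓSpecIso_inv_naturality (CommRingCat.ofHom f.toRingHom)
  exact (congr($this b)).symm

theorem gamInv_tMap {B B' : Type u} [CommRing B] [Algebra R B] [CommRing B'] [Algebra R B']
    (f : B →ₐ[R] B') (z : Γ((tB (R := R) B).left, ⊤)) :
    gamInv (R := R) B' ((tMap f).left.appTop z) = f (gamInv (R := R) B z) := by
  have := Scheme.ΓSpecIso_naturality (CommRingCat.ofHom f.toRingHom)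
  exact congr($this z)

theorem tMap_pt {B B' : Type u} [CommRing B] [Algebra R B] [CommRing B'] [Algebra R B']
    (f : B →ₐ[R] B') (χ : Multiplicative (ZMod n) →* B) :
    tMap f ≫ pt B χ = pt B' (f.toRingHom.toMonoidHom.comp χ) :=
  Affine.diagFn_ext fun m => by
    rw [Affine.diagFn_comp, diagFn_pt, diagFn_pt, tMap_gam]
    rfl

variable (e) in
/-- The values of a morphism `μ_n × μ_n → 𝔾_m` on characters. -/
noncomputable def val (B : Type u) [CommRing B] [Algebra R B]
    (χ ψ : Multiplicative (ZMod n) →* B) : B :=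
  gamInv (R := R) B (Affine.diagFn (lift (pt B χ) (pt B ψ) ≫ e) 1)

include he

/-- The commutator pairing on characters. -/
noncomputable def pairing : MuPairing.Pairing R n where
  toFun B _ _ χ ψ := val e B χ ψ
  natural B B' _ _ _ _ f χ ψ := by
    simp only [val, ← gamInv_tMap, ← Affine.diagFn_comp, comp_lift_assoc, tMap_pt]
  mul_left B _ _ χ χ' ψ := by
    simp only [val, pt_mul, pairing_mul_left he, Affine.diagFn_mul, map_mul]
  mul_right B _ _ χ ψ ψ' := by
    simp only [val, pt_mul, pairing_mul_right he, Affine.diagFn_mul, map_mul]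
  one_right B _ _ χ := by
    simp only [val, pt_one, pairing_one_right he, Affine.diagFn_one, map_one]
  self B _ _ χ := by
    simp only [val, pairing_self he, Affine.diagFn_one, map_one]

attribute [local instance] Points.baseAlgebra

theorem pairing_trivial [NeZero n] (a b : T ⟶ (Red.diag R (ZMod n))) : lift a b ≫ e = 1 := by
  let B : Type u := Γ(T.left, ⊤)
  let u : T ⟶ tB (R := R) B := Over.homMk T.left.toSpecΓ (Over.w (Points.toSpec T))
  have hu : ∀ x : B, u.left.appTop (gam (R := R) B x) = x := fun x => by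
    show T.left.toSpecΓ.appTop ((Scheme.ΓSpecIso (CommRingCat.of Γ(T.left, ⊤))).inv x) = x
    rw [Scheme.toSpecΓ_appTop]
    exact congr($((Scheme.ΓSpecIso (CommRingCat.of Γ(T.left, ⊤))).inv_hom_id) x)
  let χ : (T ⟶ (Red.diag R (ZMod n))) → (Multiplicative (ZMod n) →* B) := fun a =>
    { toFun := fun m => Affine.diagFn a m.toAdd
      map_one' := Affine.diagFn_zero a
      map_mul' := fun x y => Affine.diagFn_add a _ _ }
  have ha : ∀ a, u ≫ pt B (χ a) = a := fun a => Affine.diagFn_ext fun m => by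
    rw [Affine.diagFn_comp, diagFn_pt, hu]
    rfl
  have h1 : Affine.diagFn (lift a b ≫ e) 1 = 1 := by
    rw [← ha a, ← ha b, ← comp_lift_assoc, Affine.diagFn_comp]
    have h2 : gamInv (R := R) B (Affine.diagFn (lift (pt B (χ a)) (pt B (χ b)) ≫ e) 1) = 1 :=
      (pairing he).eq_one B (χ a) (χ b)
    have h3 : Affine.diagFn (lift (pt B (χ a)) (pt B (χ b)) ≫ e) 1 = 1 :=
      (Scheme.ΓSpecIso (CommRingCat.of B)).commRingCatIsoToRingEquiv.injective (h2.trans (map_one _).symm)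
    rw [h3, map_one]
  refine Affine.diagFn_ext fun m => ?_
  rw [Affine.diagFn_one]
  induction m using Int.induction_on with
  | zero => exact Affine.diagFn_zero _
  | succ k hk => rw [Affine.diagFn_add, hk, h1, _root_.mul_one]
  | pred k hk =>
    have := Affine.diagFn_add (lift a b ≫ e) (-(k : ℤ) - 1) 1
    rw [sub_add_cancel, hk, h1, _root_.mul_one] at this
    exact this.symm

omit he

theorem comm [NeZero n] (X : CentExt R n) (g h : T ⟶ X.E) : g * h = h * g := by
  obtain ⟨e, he⟩ := X.exists_pairing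
  have h1 := pairing_trivial he (g ≫ X.q) (h ≫ X.q)
  rw [he] at h1
  have h2 := X.c_spec g h
  rw [h1, MonObj.one_comp] at h2
  calc g * h = (g * h * g⁻¹ * h⁻¹) * (h * g) := by group
    _ = h * g := by rw [← h2, _root_.one_mul]

end CentExt

end Groth.Agent.H26.MuExt
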