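import Groth.Agent.Lib.SchDense.Factor
import Mathlib.AlgebraicGeometry.Morphisms.Smooth
import Mathlib.AlgebraicGeometry.Morphisms.Etale

/-!
# The Néron mapping property in terms of extensions from the preimage open
-/

universe u

open CategoryTheory CategoryTheory.Limits AlgebraicGeometry
open Groth.Agent.Lib.SchDense.Factor

namespace Groth.Agent.H26.Neron

/-- Every morphism on the preimage of `S₀` extends uniquely, for smooth sources. -/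
abbrev NMP {S : Scheme.{u}} (S₀ : S.Opens) (N : Over S) : Prop :=
  ∀ Z : Over S, Smooth Z.hom → Function.Bijective (fun g : Z ⟶ N => (Over.pullback S₀.ι).map g)

lemma agree_of_range {X Y W : Scheme.{u}} {A : X.Opens} {f₁ f₂ : X ⟶ Y}
    (h : A.ι ≫ f₁ = A.ι ≫ f₂) (g : W ⟶ X) (hg : ∀ w, g w ∈ A) : g ≫ f₁ = g ≫ f₂ := by
  have hr : Set.range g ⊆ Set.range A.ι := by
    rw [Scheme.Opens.range_ι]; rintro _ ⟨w, rfl⟩; exact hg w
  rw [← IsOpenImmersion.lift_fac A.ι g hr, Category.assoc, Category.assoc, h]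

lemma exists_lift_open {X W : Scheme.{u}} (A : X.Opens) (g : W ⟶ X) (hg : ∀ w, g w ∈ A) :
    ∃ l : W ⟶ (A : Scheme.{u}), l ≫ A.ι = g :=
  ⟨IsOpenImmersion.lift A.ι g (by rw [Scheme.Opens.range_ι]; rintro _ ⟨w, rfl⟩; exact hg w),
    IsOpenImmersion.lift_fac _ _ _⟩

variable {S : Scheme.{u}} {S₀ : S.Opens} {N : Over S}

lemma NMP.ext (hN : NMP S₀ N) {Z : Scheme.{u}} (p : Z ⟶ S) [hp : Smooth p] {k₁ k₂ : Z ⟶ N.left}
    (w₁ : k₁ ≫ N.hom = p) (w₂ : k₂ ≫ N.hom = p)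
    (h : (p ⁻¹ᵁ S₀).ι ≫ k₁ = (p ⁻¹ᵁ S₀).ι ≫ k₂) : k₁ = k₂ :=
  congrArg CommaMorphism.left (((bijective_pullback_map_iff S₀ (Over.mk p) N).mp (hN _ hp)).1
    (Over.homMk k₁ w₁) (Over.homMk k₂ w₂) h)

lemma NMP.extend (hN : NMP S₀ N) {Z : Scheme.{u}} (p : Z ⟶ S) [hp : Smooth p]
    (k : (p ⁻¹ᵁ S₀ : Scheme.{u}) ⟶ N.left) (w : k ≫ N.hom = (p ⁻¹ᵁ S₀).ι ≫ p) :
    ∃ f : Z ⟶ N.left, f ≫ N.hom = p ∧ (p ⁻¹ᵁ S₀).ι ≫ f = k := by
  obtain ⟨f, hf⟩ := ((bijective_pullback_map_iff S₀ (Over.mk p) N).mp (hN _ hp)).2 k w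
  exact ⟨f.left, Over.w f, hf⟩

lemma NMP.mk'
    (hext : ∀ (Z : Scheme.{u}) (p : Z ⟶ S), Smooth p → ∀ k₁ k₂ : Z ⟶ N.left,
      k₁ ≫ N.hom = p → k₂ ≫ N.hom = p → (p ⁻¹ᵁ S₀).ι ≫ k₁ = (p ⁻¹ᵁ S₀).ι ≫ k₂ → k₁ = k₂)
    (hextend : ∀ (Z : Scheme.{u}) (p : Z ⟶ S), Smooth p →
      ∀ k : (p ⁻¹ᵁ S₀ : Scheme.{u}) ⟶ N.left, k ≫ N.hom = (p ⁻¹ᵁ S₀).ι ≫ p →
        ∃ f : Z ⟶ N.left, f ≫ N.hom = p ∧ (p ⁻¹ᵁ S₀).ι ≫ f = k) :
    NMP S₀ N := fun Z hZ => by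
  refine (bijective_pullback_map_iff S₀ Z N).mpr ⟨fun f₁ f₂ h => ?_, fun k hk => ?_⟩
  · ext1; exact hext Z.left Z.hom hZ _ _ (Over.w f₁) (Over.w f₂) h
  · obtain ⟨f, hf, hf'⟩ := hextend Z.left Z.hom hZ k hk
    exact ⟨Over.homMk f hf, hf'⟩

lemma smooth_of_comp_etale {Z S T : Scheme.{u}} (h : Z ⟶ S) (f : S ⟶ T) [Etale f]
    [Smooth (h ≫ f)] : Smooth h := by
  let G : Z ⟶ pullback (h ≫ f) f := pullback.lift (𝟙 Z) h (by simp)
  have : Etale (G ≫ pullback.fst (h ≫ f) f) := by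
    rw [pullback.lift_fst]; infer_instance
  have : Etale G := Etale.of_comp G (pullback.fst (h ≫ f) f)
  rw [show h = G ≫ pullback.snd (h ≫ f) f from (pullback.lift_snd _ _ _).symm]
  infer_instance

/-- Products. -/
lemma NMP.prod {M : Over S} (hN : NMP S₀ N) (hM : NMP S₀ M) :
    NMP S₀ (Over.mk (pullback.fst N.hom M.hom ≫ N.hom)) := by
  refine NMP.mk' (fun Z p _ k₁ k₂ w₁ w₂ h => ?_) (fun Z p _ k w => ?_)
  · dsimp at k₁ k₂ w₁ w₂ h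
    apply pullback.hom_ext
    · exact hN.ext p (by rw [Category.assoc]; exact w₁) (by rw [Category.assoc]; exact w₂)
        (by rw [reassoc_of% h])
    · exact hM.ext p (by rw [Category.assoc, ← pullback.condition]; exact w₁)
        (by rw [Category.assoc, ← pullback.condition]; exact w₂) (by rw [reassoc_of% h])
  · dsimp at k w
    obtain ⟨a, wa, ha⟩ := hN.extend p (k ≫ pullback.fst _ _) (by rw [Category.assoc]; exact w)
    obtain ⟨b, wb, hb⟩ := hM.extend p (k ≫ pullback.snd _ _)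
      (by rw [Category.assoc, ← pullback.condition]; exact w)
    refine ⟨pullback.lift a b (by rw [wa, wb]), ?_, ?_⟩
    · change pullback.lift a b _ ≫ pullback.fst _ _ ≫ N.hom = p
      rw [pullback.lift_fst_assoc, wa]
    · apply pullback.hom_ext
      · rw [Category.assoc, pullback.lift_fst, ha]
      · rw [Category.assoc, pullback.lift_snd, hb]

/-- Restricting the property over an open of the base, in terms of morphisms to `N`. -/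
lemma ext_restrict {S₁ : S.Opens}
    (h10 : NMP (S₁.ι ⁻¹ᵁ S₀) ((Over.pullback S₁.ι).obj N))
    {Z : Scheme.{u}} (p : Z ⟶ S) [Smooth p] {k₁ k₂ : (p ⁻¹ᵁ S₁ : Scheme.{u}) ⟶ N.left}
    (w₁ : k₁ ≫ N.hom = (p ⁻¹ᵁ S₁).ι ≫ p) (w₂ : k₂ ≫ N.hom = (p ⁻¹ᵁ S₁).ι ≫ p)
    (h : ∀ {W : Scheme.{u}} (g : W ⟶ (p ⁻¹ᵁ S₁ : Scheme.{u})),
      (∀ x, (g ≫ (p ⁻¹ᵁ S₁).ι) x ∈ p ⁻¹ᵁ S₀) → g ≫ k₁ = g ≫ k₂) : k₁ = k₂ := by
  have e := morphismRestrict_ι p S₁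
  have := h10.ext (p ∣_ S₁) (k₁ := pullback.lift k₁ (p ∣_ S₁) (w₁.trans e.symm))
    (k₂ := pullback.lift k₂ (p ∣_ S₁) (w₂.trans e.symm))
    (pullback.lift_snd _ _ _) (pullback.lift_snd _ _ _) (by
      apply pullback.hom_ext
      · rw [Category.assoc, Category.assoc, pullback.lift_fst, pullback.lift_fst]
        refine h _ fun x => ?_
        change p ((p ⁻¹ᵁ S₁).ι (((p ∣_ S₁) ⁻¹ᵁ (S₁.ι ⁻¹ᵁ S₀)).ι x)) ∈ S₀
        rw [← Scheme.Hom.comp_apply (f := (p ⁻¹ᵁ S₁).ι), ← e]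
        exact x.2
      · simp only [Category.assoc, pullback.lift_snd])
  have := congrArg (· ≫ pullback.fst N.hom S₁.ι) this
  rwa [pullback.lift_fst, pullback.lift_fst] at this

lemma extend_restrict {S₁ : S.Opens}
    (h10 : NMP (S₁.ι ⁻¹ᵁ S₀) ((Over.pullback S₁.ι).obj N))
    {Z : Scheme.{u}} (p : Z ⟶ S) [Smooth p] (k : (p ⁻¹ᵁ S₀ : Scheme.{u}) ⟶ N.left)
    (w : k ≫ N.hom = (p ⁻¹ᵁ S₀).ι ≫ p) :
    ∃ f : (p ⁻¹ᵁ S₁ : Scheme.{u}) ⟶ N.left, f ≫ N.hom = (p ⁻¹ᵁ S₁).ι ≫ p ∧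
      ∀ {W : Scheme.{u}} (g : W ⟶ (p ⁻¹ᵁ S₁ : Scheme.{u})) (l : W ⟶ (p ⁻¹ᵁ S₀ : Scheme.{u})),
        g ≫ (p ⁻¹ᵁ S₁).ι = l ≫ (p ⁻¹ᵁ S₀).ι → g ≫ f = l ≫ k := by
  have e := morphismRestrict_ι p S₁
  let V := (p ∣_ S₁) ⁻¹ᵁ (S₁.ι ⁻¹ᵁ S₀)
  obtain ⟨l₀, hl₀⟩ := exists_lift_open (p ⁻¹ᵁ S₀) (V.ι ≫ (p ⁻¹ᵁ S₁).ι) (fun x => by
    change p ((p ⁻¹ᵁ S₁).ι (V.ι x)) ∈ S₀
    rw [← Scheme.Hom.comp_apply (f := (p ⁻¹ᵁ S₁).ι), ← e]
    exact x.2)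
  obtain ⟨f, hf, hf'⟩ := h10.extend (p ∣_ S₁)
    (pullback.lift (l₀ ≫ k) (V.ι ≫ (p ∣_ S₁))
      (by rw [Category.assoc, w, Category.assoc, e, reassoc_of% hl₀]))
    (pullback.lift_snd _ _ _)
  refine ⟨f ≫ pullback.fst N.hom S₁.ι, ?_, fun {W} g l hgl => ?_⟩
  · rw [Category.assoc, pullback.condition, ← e, ← hf]
    exact (Category.assoc _ _ _).symm
  · obtain ⟨g₀, hg₀⟩ := exists_lift_open V g (fun x => by
      change S₁.ι ((p ∣_ S₁) (g x)) ∈ S₀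
      rw [← Scheme.Hom.comp_apply (f := p ∣_ S₁), e, ← Scheme.Hom.comp_apply, ← Category.assoc,
        hgl, Category.assoc]
      exact (l x).2)
    have h1 : V.ι ≫ f ≫ pullback.fst N.hom S₁.ι = l₀ ≫ k := by
      rw [← Category.assoc, hf']; exact pullback.lift_fst _ _ _
    have h2 : g₀ ≫ l₀ = l := by
      rw [← cancel_mono (p ⁻¹ᵁ S₀).ι, Category.assoc, hl₀, ← hgl, reassoc_of% hg₀]
    rw [← hg₀, Category.assoc, h1, reassoc_of% h2]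

lemma NMP.of_intermediate {S₁ : S.Opens} (h01 : S₀ ≤ S₁) (h1 : NMP S₁ N)
    (h10 : NMP (S₁.ι ⁻¹ᵁ S₀) ((Over.pullback S₁.ι).obj N)) : NMP S₀ N := by
  refine NMP.mk' (fun Z p _ k₁ k₂ w₁ w₂ h => ?_) (fun Z p _ k w => ?_)
  · refine h1.ext p w₁ w₂ (ext_restrict h10 p (by rw [Category.assoc, w₁])
      (by rw [Category.assoc, w₂]) fun g hg => ?_)
    rw [← Category.assoc, ← Category.assoc]
    exact agree_of_range h _ hg
  · obtain ⟨f₁, wf₁, hf₁⟩ := extend_restrict h10 p k w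
    obtain ⟨f, wf, hf⟩ := h1.extend p f₁ wf₁
    refine ⟨f, wf, ?_⟩
    rw [← Scheme.homOfLE_ι Z (show p ⁻¹ᵁ S₀ ≤ p ⁻¹ᵁ S₁ from p.preimage_mono h01), Category.assoc,
      hf, hf₁ _ (𝟙 _) (by rw [Category.id_comp, Scheme.homOfLE_ι]), Category.id_comp]

lemma NMP.larger {S₁ : S.Opens} (h01 : S₀ ≤ S₁) (h0 : NMP S₀ N)
    (h10 : NMP (S₁.ι ⁻¹ᵁ S₀) ((Over.pullback S₁.ι).obj N)) : NMP S₁ N := by
  refine NMP.mk' (fun Z p _ k₁ k₂ w₁ w₂ h => ?_) (fun Z p _ k w => ?_)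
  · exact h0.ext p w₁ w₂ (agree_of_range h _ fun x => h01 x.2)
  · let j := Z.homOfLE (p.preimage_mono h01)
    have hj : j ≫ (p ⁻¹ᵁ S₁).ι = (p ⁻¹ᵁ S₀).ι := Scheme.homOfLE_ι _ _
    obtain ⟨f, wf, hf⟩ := h0.extend p (j ≫ k) (by rw [Category.assoc, w, reassoc_of% hj])
    refine ⟨f, wf, ext_restrict h10 p (by rw [Category.assoc, wf]) w fun g hg => ?_⟩
    obtain ⟨l, hl⟩ := exists_lift_open (p ⁻¹ᵁ S₀) _ hg
    have hg' : g = l ≫ j := by rw [← cancel_mono (p ⁻¹ᵁ S₁).ι, Category.assoc, hj, hl]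
    rw [← Category.assoc, hg', Category.assoc l, hj, Category.assoc, hf, Category.assoc]

lemma NMP.comp_etale {T : Scheme.{u}} {T₀ : T.Opens} {S N : Scheme.{u}} (f : S ⟶ T) [Etale f]
    (g : N ⟶ S) (hS : NMP T₀ (Over.mk f)) (hN : NMP (f ⁻¹ᵁ T₀) (Over.mk g)) :
    NMP T₀ (Over.mk (g ≫ f)) := by
  refine NMP.mk' (fun Z p hp k₁ k₂ w₁ w₂ h => ?_) (fun Z p hp k w => ?_)
  · dsimp at k₁ k₂ w₁ w₂ h
    have hh : k₁ ≫ g = k₂ ≫ g := hS.ext p (by simpa using w₁) (by simpa using w₂)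
      (by dsimp; rw [reassoc_of% h])
    subst w₁
    have : Smooth ((k₁ ≫ g) ≫ f) := by rw [Category.assoc]; exact hp
    have : Smooth (k₁ ≫ g) := smooth_of_comp_etale _ f
    refine hN.ext (k₁ ≫ g) rfl hh.symm ?_
    exact agree_of_range h _ fun x => x.2
  · dsimp at k w
    obtain ⟨s, ws, hs⟩ := hS.extend p (k ≫ g) (by simpa using w)
    dsimp at ws hs
    subst ws
    have : Smooth s := smooth_of_comp_etale _ f
    obtain ⟨n, wn, hn⟩ := hN.extend s k (show k ≫ g = (s ⁻¹ᵁ (f ⁻¹ᵁ T₀)).ι ≫ s from hs.symm)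
    exact ⟨n, by dsimp at wn ⊢; rw [reassoc_of% wn], hn⟩

lemma NMP.fibre {G H : Over S} (hG : NMP S₀ G) (hH : NMP S₀ H) (f : G ⟶ H) (e : S ⟶ H.left)
    (he : e ≫ H.hom = 𝟙 S) : NMP S₀ (Over.mk (pullback.snd f.left e)) := by
  have hc : pullback.fst f.left e ≫ G.hom = pullback.snd f.left e := by
    rw [← Over.w f, ← Category.assoc, pullback.condition, Category.assoc, he, Category.comp_id]
  refine NMP.mk' (fun Z p _ k₁ k₂ w₁ w₂ h => ?_) (fun Z p _ k w => ?_)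
  · dsimp at k₁ k₂ w₁ w₂ h
    apply pullback.hom_ext
    · exact hG.ext p (by rw [Category.assoc, hc, w₁]) (by rw [Category.assoc, hc, w₂])
        (by rw [reassoc_of% h])
    · rw [w₁, w₂]
  · dsimp at k w
    obtain ⟨a, wa, ha⟩ := hG.extend p (k ≫ pullback.fst _ _) (by rw [Category.assoc, hc, w])
    have hae : a ≫ f.left = p ≫ e := by
      refine hH.ext p (by rw [Category.assoc, Over.w f, wa]) (by rw [Category.assoc, he,
        Category.comp_id]) ?_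
      rw [reassoc_of% ha, pullback.condition, ← Category.assoc, w, Category.assoc]
    refine ⟨pullback.lift a p hae, pullback.lift_snd _ _ _, ?_⟩
    apply pullback.hom_ext
    · rw [Category.assoc, pullback.lift_fst, ha]
    · rw [Category.assoc, pullback.lift_snd, w]

end Groth.Agent.H26.Neron
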