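import Groth.Agent.H26.Neron
import Groth.Prelude.Def_NonAbH2
import Mathlib.AlgebraicGeometry.Sites.Fpqc

/-!
# The Néron mapping property of torsors
-/

universe u

open CategoryTheory CategoryTheory.Limits MonoidalCategory CartesianMonoidalCategory MonObj
  AlgebraicGeometry
open Groth.Agent.Lib.SchDense.Factor

namespace Groth.Agent.H26.Neron

variable {S : Scheme.{u}} (S₀ : S.Opens)

/-- The preimage of `S₀` in an `S`-scheme. -/
noncomputable abbrev pre (Z : Over S) : Over S := Over.mk ((Z.hom ⁻¹ᵁ S₀).ι ≫ Z.hom)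

/-- The inclusion of `pre S₀ Z`. -/
noncomputable abbrev preι (Z : Over S) : pre S₀ Z ⟶ Z := Over.homMk (Z.hom ⁻¹ᵁ S₀).ι rfl

instance (Z : Over S) : Mono (preι S₀ Z) := by
  constructor
  intro W f g h
  ext1
  exact (cancel_mono (Z.hom ⁻¹ᵁ S₀).ι).mp (congrArg CommaMorphism.left h)

lemma exists_lift_pre {W Z : Over S} (g : W ⟶ Z) (h : ∀ w, W.hom w ∈ S₀) :
    ∃ l : W ⟶ pre S₀ Z, l ≫ preι S₀ Z = g := by
  obtain ⟨l, hl⟩ := exists_lift_open (Z.hom ⁻¹ᵁ S₀) g.left fun w => by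
    change Z.hom (g.left w) ∈ S₀
    rw [← Scheme.Hom.comp_apply, Over.w g]
    exact h w
  refine ⟨Over.homMk l ?_, ?_⟩
  · change l ≫ (Z.hom ⁻¹ᵁ S₀).ι ≫ Z.hom = W.hom
    rw [reassoc_of% hl, Over.w g]
  · ext1; exact hl

variable {S₀}

lemma exists_mapPre {W Z : Over S} (g : W ⟶ Z) :
    ∃ l : pre S₀ W ⟶ pre S₀ Z, l ≫ preι S₀ Z = preι S₀ W ≫ g :=
  exists_lift_pre S₀ _ fun w => by
    change W.hom ((W.hom ⁻¹ᵁ S₀).ι w) ∈ S₀
    exact w.2

lemma NMP.ext' {N : Over S} (hN : NMP S₀ N) {Z : Over S} [hZ : Smooth Z.hom] {f g : Z ⟶ N}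
    (h : preι S₀ Z ≫ f = preι S₀ Z ≫ g) : f = g :=
  ((bijective_pullback_map_iff S₀ Z N).mp (hN Z hZ)).1 f g (congrArg CommaMorphism.left h)

lemma NMP.extend' {N : Over S} (hN : NMP S₀ N) {Z : Over S} [hZ : Smooth Z.hom]
    (k : pre S₀ Z ⟶ N) : ∃ f : Z ⟶ N, preι S₀ Z ≫ f = k := by
  obtain ⟨f, hf⟩ := ((bijective_pullback_map_iff S₀ Z N).mp (hN Z hZ)).2 k.left (Over.w k)
  exact ⟨f, by ext1; exact hf⟩

lemma NMP.of_pre {N : Over S}
    (hext : ∀ Z : Over S, Smooth Z.hom → ∀ f g : Z ⟶ N,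
      preι S₀ Z ≫ f = preι S₀ Z ≫ g → f = g)
    (hextend : ∀ Z : Over S, Smooth Z.hom → ∀ k : pre S₀ Z ⟶ N,
      ∃ f : Z ⟶ N, preι S₀ Z ≫ f = k) : NMP S₀ N := fun Z hZ =>
  (bijective_pullback_map_iff S₀ Z N).mpr ⟨fun f g h => hext Z hZ f g (by ext1; exact h),
    fun k hk => by
      obtain ⟨f, hf⟩ := hextend Z hZ (Over.homMk k hk)
      exact ⟨f, congrArg CommaMorphism.left hf⟩⟩

/-- Extensions can be constructed after a smooth surjective base change. -/
lemma descend {X : Over S}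
    (uniq : ∀ Z : Over S, Smooth Z.hom → ∀ f g : Z ⟶ X,
      preι S₀ Z ≫ f = preι S₀ Z ≫ g → f = g)
    {Z Z' : Over S} [Smooth Z.hom] (q : Z' ⟶ Z) [Smooth q.left] [Surjective q.left]
    (k : pre S₀ Z ⟶ X) (f' : Z' ⟶ X) (q₀ : pre S₀ Z' ⟶ pre S₀ Z)
    (hq₀ : q₀ ≫ preι S₀ Z = preι S₀ Z' ≫ q)
    (hf' : preι S₀ Z' ≫ f' = q₀ ≫ k) : ∃ f : Z ⟶ X, preι S₀ Z ≫ f = k := by
  have hZ' : Smooth Z'.hom := by rw [← Over.w q]; infer_instance
  let P : Over S := Over.mk (pullback.fst q.left q.left ≫ Z'.hom)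
  let a : P ⟶ Z' := Over.homMk (pullback.fst q.left q.left) rfl
  let b : P ⟶ Z' := Over.homMk (pullback.snd q.left q.left) (by
    change _ = pullback.fst q.left q.left ≫ Z'.hom
    rw [← Over.w q, ← Category.assoc, ← Category.assoc, pullback.condition])
  obtain ⟨a₀, ha₀⟩ := exists_mapPre (S₀ := S₀) a
  obtain ⟨b₀, hb₀⟩ := exists_mapPre (S₀ := S₀) b
  have hab : a ≫ q = b ≫ q := by ext1; exact pullback.condition
  have hP : Smooth P.hom := by dsimp [P]; infer_instance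
  have h : a ≫ f' = b ≫ f' := by
    apply uniq P hP
    rw [← reassoc_of% ha₀, ← reassoc_of% hb₀, hf', ← Category.assoc, ← Category.assoc]
    congr 1
    rw [← cancel_mono (preι S₀ Z), Category.assoc, Category.assoc, hq₀, reassoc_of% ha₀,
      reassoc_of% hb₀, hab]
  have hd : ∀ {W : Scheme.{u}} (g₁ g₂ : W ⟶ Z'.left), g₁ ≫ q.left = g₂ ≫ q.left →
      g₁ ≫ f'.left = g₂ ≫ f'.left := fun g₁ g₂ e => by
    have : pullback.lift g₁ g₂ e ≫ pullback.fst q.left q.left ≫ f'.left =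
        pullback.lift g₁ g₂ e ≫ pullback.snd q.left q.left ≫ f'.left :=
      congrArg (fun m => pullback.lift g₁ g₂ e ≫ CommaMorphism.left m) h
    rwa [pullback.lift_fst_assoc, pullback.lift_snd_assoc] at this
  let f := EffectiveEpi.desc q.left f'.left hd
  have hf : q.left ≫ f = f'.left := EffectiveEpi.fac _ _ _
  refine ⟨Over.homMk f (by rw [← cancel_epi q.left, reassoc_of% hf, Over.w f', Over.w q]), ?_⟩
  ext1
  let U := Z.hom ⁻¹ᵁ S₀
  let W : Over S := Over.mk ((q.left ⁻¹ᵁ U).ι ≫ Z'.hom)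
  obtain ⟨l, hl⟩ := exists_lift_pre S₀ (Over.homMk (U := W) (V := Z') (q.left ⁻¹ᵁ U).ι rfl)
    fun w => by
      change Z'.hom ((q.left ⁻¹ᵁ U).ι w) ∈ S₀
      rw [← Over.w q, Scheme.Hom.comp_apply]
      exact w.2
  have hr : (l ≫ q₀).left = q.left ∣_ U := by
    rw [← cancel_mono U.ι, morphismRestrict_ι]
    have : ((l ≫ q₀) ≫ preι S₀ Z).left = _ := congrArg CommaMorphism.left
      (show (l ≫ q₀) ≫ preι S₀ Z = _ by rw [Category.assoc, hq₀, reassoc_of% hl])
    exact this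
  have : Smooth (q.left ∣_ U) :=
    MorphismProperty.of_isPullback (isPullback_morphismRestrict q.left U).flip ‹Smooth q.left›
  have : Surjective (q.left ∣_ U) := IsZariskiLocalAtTarget.restrict ‹Surjective q.left› U
  rw [← cancel_epi (q.left ∣_ U)]
  change (q.left ∣_ U) ≫ U.ι ≫ f = _
  rw [morphismRestrict_ι_assoc, hf]
  have := congrArg CommaMorphism.left
    (show (l ≫ preι S₀ Z') ≫ f' = (l ≫ q₀) ≫ k by rw [Category.assoc, hf', Category.assoc])
  rw [hl] at this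
  exact this.trans (congrArg (· ≫ k.left) hr)

section Torsor

variable {G N : Over S} [GrpObj G] (a : AlgGrp.Action G N)

/-- The action on points. -/
noncomputable def actPt {Z : Over S} (g : Z ⟶ G) (x : Z ⟶ N) : Z ⟶ N := lift g x ≫ a.act

/-- Division of points of a pseudo-torsor. -/
noncomputable def divPt [IsIso (lift a.act (snd G N))] {Z : Over S} (x y : Z ⟶ N) : Z ⟶ G :=
  lift x y ≫ inv (lift a.act (snd G N)) ≫ fst G N

lemma comp_actPt {W Z : Over S} (h : W ⟶ Z) (g : Z ⟶ G) (x : Z ⟶ N) :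
    h ≫ actPt a g x = actPt a (h ≫ g) (h ≫ x) := by
  rw [actPt, actPt, ← Category.assoc, comp_lift]

lemma one_actPt {Z : Over S} (x : Z ⟶ N) : actPt a 1 x = x := by
  have h : lift (toUnit Z ≫ η[G]) x = lift (toUnit Z) x ≫ (η[G] ▷ N) := by simp
  rw [actPt, Hom.one_def, h, Category.assoc, a.one_act, lift_leftUnitor_hom]

variable [IsIso (lift a.act (snd G N))]

lemma comp_divPt {W Z : Over S} (h : W ⟶ Z) (x y : Z ⟶ N) :
    h ≫ divPt a x y = divPt a (h ≫ x) (h ≫ y) := by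
  rw [divPt, divPt, ← Category.assoc, comp_lift]

lemma divPt_actPt {Z : Over S} (g : Z ⟶ G) (x : Z ⟶ N) : divPt a (actPt a g x) x = g := by
  have : lift (actPt a g x) x = lift g x ≫ lift a.act (snd G N) := by simp [actPt]
  rw [divPt, this, Category.assoc, IsIso.hom_inv_id_assoc, lift_fst]

lemma actPt_divPt {Z : Over S} (x y : Z ⟶ N) : actPt a (divPt a x y) y = x := by
  have h : inv (lift a.act (snd G N)) ≫ snd G N = snd N N := by
    rw [IsIso.inv_comp_eq, lift_snd]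
  have h' : lift (divPt a x y) y = lift x y ≫ inv (lift a.act (snd G N)) := by
    apply CartesianMonoidalCategory.hom_ext
    · rw [lift_fst, divPt, Category.assoc]
    · rw [lift_snd, Category.assoc, h, lift_snd]
  have h2 : inv (lift a.act (snd G N)) ≫ a.act = fst N N := by
    rw [IsIso.inv_comp_eq, lift_fst]
  rw [actPt, h', Category.assoc, h2, lift_fst]

include a in
lemma torsor_of_group [Smooth N.hom] [Surjective N.hom] (hG : NMP S₀ G) : NMP S₀ N := by
  have uniq : ∀ Z : Over S, Smooth Z.hom → ∀ f g : Z ⟶ N,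
      preι S₀ Z ≫ f = preι S₀ Z ≫ g → f = g := fun Z _ x y h => by
    have : divPt a x y = 1 := by
      apply hG.ext'
      rw [comp_divPt, h, MonObj.comp_one]
      conv_lhs => enter [2]; rw [← one_actPt a (preι S₀ Z ≫ y)]
      rw [divPt_actPt]
    rw [← actPt_divPt a x y, this, one_actPt]
  refine NMP.of_pre uniq fun Z _ k => ?_
  have : Smooth (Z ⊗ N).hom := by rw [Over.tensorObj_hom]; infer_instance
  have : Smooth (fst Z N).left := inferInstanceAs (Smooth (pullback.fst Z.hom N.hom))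
  have : Surjective (fst Z N).left := inferInstanceAs (Surjective (pullback.fst Z.hom N.hom))
  obtain ⟨q₀, hq₀⟩ := exists_mapPre (S₀ := S₀) (fst Z N)
  obtain ⟨g, hg⟩ := hG.extend' (divPt a (q₀ ≫ k) (preι S₀ _ ≫ snd Z N))
  refine descend uniq (fst Z N) k (actPt a g (snd Z N)) q₀ hq₀ ?_
  rw [comp_actPt, hg, actPt_divPt]

include a in
lemma group_of_torsor [Smooth N.hom] [Surjective N.hom] (hN : NMP S₀ N) : NMP S₀ G := by
  have uniq : ∀ Z : Over S, Smooth Z.hom → ∀ f g : Z ⟶ G,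
      preι S₀ Z ≫ f = preι S₀ Z ≫ g → f = g := fun Z _ f g h => by
    have : Smooth (Z ⊗ N).hom := by rw [Over.tensorObj_hom]; infer_instance
    obtain ⟨q₀, hq₀⟩ := exists_mapPre (S₀ := S₀) (fst Z N)
    have h1 : actPt a (fst Z N ≫ f) (snd Z N) = actPt a (fst Z N ≫ g) (snd Z N) := by
      apply hN.ext'
      rw [comp_actPt, comp_actPt, ← reassoc_of% hq₀, ← reassoc_of% hq₀, h]
    have h2 := congrArg (fun m => divPt a m (snd Z N)) h1
    simp only [divPt_actPt] at h2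
    have : Smooth (fst Z N).left := inferInstanceAs (Smooth (pullback.fst Z.hom N.hom))
    have : Surjective (fst Z N).left := inferInstanceAs (Surjective (pullback.fst Z.hom N.hom))
    ext1
    exact (cancel_epi (fst Z N).left).mp (congrArg CommaMorphism.left h2)
  refine NMP.of_pre uniq fun Z _ k => ?_
  have : Smooth (Z ⊗ N).hom := by rw [Over.tensorObj_hom]; infer_instance
  have : Smooth (fst Z N).left := inferInstanceAs (Smooth (pullback.fst Z.hom N.hom))
  have : Surjective (fst Z N).left := inferInstanceAs (Surjective (pullback.fst Z.hom N.hom))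
  obtain ⟨q₀, hq₀⟩ := exists_mapPre (S₀ := S₀) (fst Z N)
  obtain ⟨y, hy⟩ := hN.extend' (actPt a (q₀ ≫ k) (preι S₀ _ ≫ snd Z N))
  refine descend uniq (fst Z N) k (divPt a y (snd Z N)) q₀ hq₀ ?_
  rw [comp_divPt, hy, divPt_actPt]

end Torsor

end Groth.Agent.H26.Neron
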