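import Groth.Agent.H26.EtaleSection
import Groth.Agent.Lib.SchDense.Factor
import Mathlib.AlgebraicGeometry.Morphisms.Etale
import Mathlib.AlgebraicGeometry.Noetherian

/-!
# Uniqueness from the weak Néron mapping property
-/

universe u

open CategoryTheory CategoryTheory.Limits AlgebraicGeometry
open Groth.Agent.Lib.SchDense.Factor Groth.Agent.H26.EtaleSection

namespace Groth.Agent.H26.Neron

theorem eq_of_weak {S : Scheme.{u}} [IsLocallyNoetherian S] {S₀ : S.Opens}
    (hS₀ : CInt.IsSchematicallyDense S₀)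
    (hchar : ∀ (U : S.Opens) (hU : IsAffineOpen U) (p : PrimeSpectrum Γ(S, U)),
      PerfectField p.asIdeal.ResidueField)
    {N : Over S}
    (hN : ∀ U : Over S, Etale U.hom → ∀ a b : U ⟶ N,
      (U.hom ⁻¹ᵁ S₀).ι ≫ a.left = (U.hom ⁻¹ᵁ S₀).ι ≫ b.left → a = b)
    {Z : Over S} [Smooth Z.hom] (f g : Z ⟶ N)
    (h : (Z.hom ⁻¹ᵁ S₀).ι ≫ f.left = (Z.hom ⁻¹ᵁ S₀).ι ≫ g.left) : f = g := by
  ext1
  let k : Z.left ⟶ pullback N.hom N.hom := pullback.lift f.left g.left (by rw [Over.w f, Over.w g])
  let e := pullback.snd (pullback.diagonal N.hom) k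
  have he : e ≫ f.left = e ≫ g.left := by
    have h1 : e ≫ k ≫ pullback.fst _ _ = pullback.fst (pullback.diagonal N.hom) k := by
      rw [← reassoc_of% (pullback.condition (f := pullback.diagonal N.hom) (g := k)),
        pullback.diagonal_fst, Category.comp_id]
    have h2 : e ≫ k ≫ pullback.snd _ _ = pullback.fst (pullback.diagonal N.hom) k := by
      rw [← reassoc_of% (pullback.condition (f := pullback.diagonal N.hom) (g := k)),
        pullback.diagonal_snd, Category.comp_id]
    rw [show f.left = k ≫ pullback.fst _ _ from (pullback.lift_fst _ _ _).symm,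
      show g.left = k ≫ pullback.snd _ _ from (pullback.lift_snd _ _ _).symm, h1, h2]
  have hfac : ∀ {W : Scheme.{u}} (w : W ⟶ Z.left), w ≫ f.left = w ≫ g.left →
      ∃ l, l ≫ e = w := fun w hw => by
    refine ⟨pullback.lift (w ≫ f.left) w ?_, pullback.lift_snd _ _ _⟩
    apply pullback.hom_ext
    · rw [Category.assoc, pullback.diagonal_fst, Category.comp_id, Category.assoc,
        show k ≫ pullback.fst _ _ = f.left from pullback.lift_fst _ _ _]
    · rw [Category.assoc, pullback.diagonal_snd, Category.comp_id, Category.assoc,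
        show k ≫ pullback.snd _ _ = g.left from pullback.lift_snd _ _ _, hw]
  have hsurj : Set.range e = Set.univ := by
    refine Set.eq_univ_of_forall fun z => ?_
    obtain ⟨U, hU, V, hV, hzV, hVU, hstd⟩ := Smooth.exists_isStandardSmooth Z.hom z
    let φ := Z.hom.appLE U V hVU
    algebraize [φ.hom]
    have hFT : Algebra.FiniteType Γ(S, U) Γ(Z.left, V) :=
      have : φ.hom.FinitePresentation := Z.hom.finitePresentation_appLE hU hV hVU
      RingHom.FiniteType.of_finitePresentation this
    let q := hV.primeIdealOf ⟨z, hzV⟩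
    let p := q.asIdeal.comap φ.hom
    have : PerfectField p.ResidueField := hchar U hU ⟨p, inferInstance⟩
    let Ω := AlgebraicClosure p.ResidueField
    let ψ : p.ResidueField →+* q.asIdeal.ResidueField := Ideal.ResidueField.map p q.asIdeal φ.hom rfl
    let : Algebra p.ResidueField (AlgebraicClosure q.asIdeal.ResidueField) :=
      ((algebraMap q.asIdeal.ResidueField _).comp ψ).toAlgebra
    let ι : Ω →ₐ[p.ResidueField] AlgebraicClosure q.asIdeal.ResidueField := IsAlgClosed.lift
    have hι : ι.toRingHom.comp (algebraMap Γ(S, U) Ω) =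
        algebraMap Γ(S, U) (AlgebraicClosure q.asIdeal.ResidueField) := by
      ext r
      change ι (algebraMap Γ(S, U) Ω r) = _
      rw [IsScalarTower.algebraMap_apply Γ(S, U) p.ResidueField Ω, AlgHom.commutes,
        IsScalarTower.algebraMap_apply Γ(S, U) q.asIdeal.ResidueField
          (AlgebraicClosure q.asIdeal.ResidueField)]
      change algebraMap _ _ (ψ (algebraMap _ _ r)) = _
      rw [Ideal.ResidueField.map_algebraMap]
      rfl
    suffices hq : hV.fromSpec q ∈ Set.range e by rwa [hV.fromSpec_primeIdealOf] at hq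
    refine mem_of_isLocallyClosed q Ω ι.toRingHom hι (T := hV.fromSpec ⁻¹' Set.range e)
      (e.isLocallyClosed_range.preimage hV.fromSpec.continuous) fun σ => ?_
    obtain ⟨C, _, _, hC, v, c, hvc⟩ := exists_etale_factor p Ω hstd σ
    let W : Over S := Over.mk (Spec.map (CommRingCat.ofHom (algebraMap Γ(S, U) C)) ≫ hU.fromSpec)
    let vC : Γ(Z.left, V) ⟶ CommRingCat.of C := CommRingCat.ofHom v.toRingHom
    let w : W ⟶ Z := Over.homMk (Spec.map vC ≫ hV.fromSpec) (by
      change (Spec.map vC ≫ hV.fromSpec) ≫ Z.hom = _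
      rw [Category.assoc, ← IsAffineOpen.SpecMap_appLE_fromSpec Z.hom hU hV hVU,
        ← Category.assoc, ← Spec.map_comp]
      congr 2
      ext r
      exact v.commutes r)
    have hW : Etale W.hom := by
      have : Etale (Spec.map (CommRingCat.ofHom (algebraMap Γ(S, U) C))) :=
        (HasRingHomProperty.Spec_iff (P := @Etale)).mpr (RingHom.etale_algebraMap.mpr hC)
      dsimp [W]; infer_instance
    have hw : w ≫ f = w ≫ g := by
      apply hN W hW
      obtain ⟨l, hl⟩ : ∃ l, l ≫ (Z.hom ⁻¹ᵁ S₀).ι = (W.hom ⁻¹ᵁ S₀).ι ≫ w.left := by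
        refine ⟨IsOpenImmersion.lift (Z.hom ⁻¹ᵁ S₀).ι _ ?_, IsOpenImmersion.lift_fac _ _ _⟩
        rw [Scheme.Opens.range_ι]
        rintro _ ⟨x, rfl⟩
        change Z.hom (w.left ((W.hom ⁻¹ᵁ S₀).ι x)) ∈ S₀
        rw [← Scheme.Hom.comp_apply w.left, Over.w w]
        exact x.2
      rw [Over.comp_left, Over.comp_left, ← reassoc_of% hl, ← reassoc_of% hl, h]
    obtain ⟨l, hl⟩ := hfac w.left (congrArg CommaMorphism.left hw)
    change hV.fromSpec _ ∈ Set.range e
    let y : W.left := PrimeSpectrum.comap c.toRingHom ⊥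
    refine ⟨l y, (Scheme.Hom.comp_apply l e y).symm.trans ?_⟩
    rw [hl]
    change hV.fromSpec (PrimeSpectrum.comap v.toRingHom (PrimeSpectrum.comap c.toRingHom ⊥)) = _
    rw [← hvc]
    rfl
  have : IsClosedImmersion e := IsClosedImmersion.of_isPreimmersion e
    (by rw [hsurj]; exact isClosed_univ)
  have : IsSchemeTheoreticallyDominant S₀.ι :=
    Groth.Agent.Lib.SchDense.Basic.std_of_isSchematicallyDense hS₀
  let d := pullback.fst Z.hom S₀.ι
  obtain ⟨l, hl⟩ := hfac d (by
    change pullback.fst Z.hom S₀.ι ≫ f.left = pullback.fst Z.hom S₀.ι ≫ g.left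
    rw [← pullbackRestrictIsoRestrict_hom_ι Z.hom S₀, Category.assoc, Category.assoc, h])
  obtain ⟨s, hs⟩ := exists_factor e (𝟙 Z.left) d l (by rw [hl, Category.comp_id])
  rw [← Category.id_comp f.left, ← Category.id_comp g.left, ← hs, Category.assoc, Category.assoc, he]

end Groth.Agent.H26.Neron
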