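import Groth.Agent.H26.BirationalZMT
import Mathlib.Topology.Sheaves.SheafCondition.UniqueGluing

/-!
# Sections of a normal integral scheme
-/

universe u

open CategoryTheory AlgebraicGeometry TopologicalSpace Opposite

namespace Groth.Agent.H26.NormalSections

variable {X : Scheme.{u}} [IsIntegral X]

/-- An element of the function field integral over a ring mapping to the sections over `O` is a
section over `O` when the local rings are integrally closed. -/
theorem exists_section (hN : ∀ x : X, IsIntegrallyClosed (X.presheaf.stalk x)) {A : Type u}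
    [CommRing A] {O : X.Opens} (hO : genericPoint X ∈ O) (α : A →+* Γ(X, O)) (k : X.functionField)
    (hk : ((X.presheaf.germ O _ hO).hom.comp α).IsIntegralElem k) :
    ∃ s : Γ(X, O), X.presheaf.germ O _ hO s = k := by
  classical
  have hloc : ∀ z : O, ∃ (W : X.Opens) (hW : (z : X) ∈ W) (_ : W ≤ O) (s : Γ(X, W)),
      X.presheaf.germ W _ ((genericPoint_spec X).mem_open_set_iff W.2 |>.mpr ⟨z, trivial, hW⟩) s = k := by
    intro z
    have := hN z
    let : Algebra A (X.presheaf.stalk (z : X)) := ((X.presheaf.germ O _ z.2).hom.comp α).toAlgebra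
    let : Algebra A X.functionField := ((X.presheaf.germ O _ hO).hom.comp α).toAlgebra
    have : IsScalarTower A (X.presheaf.stalk (z : X)) X.functionField :=
      IsScalarTower.of_algebraMap_eq fun a =>
        (X.presheaf.germ_stalkSpecializes_apply z.2 ((genericPoint_spec X).specializes trivial) (α a)).symm
    have hk' : IsIntegral A k := hk
    obtain ⟨w, hw⟩ := IsIntegrallyClosed.isIntegral_iff.mp (hk'.tower_top (A := X.presheaf.stalk (z : X)))
    obtain ⟨W, hzW, s, rfl⟩ := TopCat.Presheaf.exists_germ_eq (F := X.presheaf) w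
    refine ⟨W ⊓ O, ⟨hzW, z.2⟩, inf_le_right, X.presheaf.map (homOfLE inf_le_left).op s, ?_⟩
    rw [X.presheaf.germ_res_apply (homOfLE (inf_le_left : W ⊓ O ≤ W))]
    refine Eq.trans ?_ hw
    exact (X.presheaf.germ_stalkSpecializes_apply hzW ((genericPoint_spec X).specializes trivial) s).symm
  choose W hzW hWO s hs using hloc
  have hgW : ∀ z, genericPoint X ∈ W z := fun z =>
    (genericPoint_spec X).mem_open_set_iff (W z).2 |>.mpr ⟨z, trivial, hzW z⟩
  obtain ⟨S, hS, -⟩ := X.sheaf.existsUnique_gluing' W O (fun z => homOfLE (hWO z))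
    (fun y hy => Opens.mem_iSup.mpr ⟨⟨y, hy⟩, hzW ⟨y, hy⟩⟩) s (fun z z' => by
      apply germ_injective_of_isIntegral X _ (show genericPoint X ∈ W z ⊓ W z' from ⟨hgW z, hgW z'⟩)
      refine (X.presheaf.germ_res_apply _ _ _ _).trans ?_
      refine Eq.trans ?_ (X.presheaf.germ_res_apply _ _ _ _).symm
      exact (hs z).trans (hs z').symm)
  refine ⟨S, ?_⟩
  let z : O := ⟨_, hO⟩
  have h2 : X.presheaf.map (homOfLE (hWO z)).op S = s z := hS z
  refine (X.presheaf.germ_res_apply (homOfLE (hWO z)) _ (hgW z) S).symm.trans ?_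
  exact (congrArg _ h2).trans (hs z)

end Groth.Agent.H26.NormalSections
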