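import Groth.Agent.H26.OrbitInterDim

/-!
# Points, orbits and translations
-/

set_option autoImplicit false
set_option backward.isDefEq.respectTransparency.types false
set_option linter.all false
set_option maxHeartbeats 1000000

universe u

open CategoryTheory CategoryTheory.Limits MonoidalCategory CartesianMonoidalCategory MonObj
open AlgebraicGeometry TopologicalSpace
open Groth.Agent.Lib

noncomputable section

namespace Groth.Agent.H26.OrbitGeom

variable {k : Type u} [Field k] {G X : Over (Spec (CommRingCat.of k))} [GrpObj G] (a : AlgGrp.Action G X)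

/-- Translations keep stable sets. -/
theorem mapsTo_trans {W : Set X.left} (hW : GrpSch.IsStableSet a W)
    (σ : 𝟙_ (Over (Spec (CommRingCat.of k))) ⟶ G) {p : X.left} (hp : p ∈ W) :
    (Kleiman.trans G X a σ).left p ∈ W := by
  refine (GrpSch.isStableSet_iff a W).1 hW ((lift (toUnit X ≫ σ) (𝟙 X)).left p) ?_
  rw [← Scheme.Hom.comp_apply, ← Over.comp_left, lift_snd]
  exact hp

/-- Translations preserve stable sets. -/
theorem image_trans {W : Set X.left} (hW : GrpSch.IsStableSet a W)
    (σ : 𝟙_ (Over (Spec (CommRingCat.of k))) ⟶ G) : ⇑(Kleiman.trans G X a σ).left '' W = W := by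
  refine Set.Subset.antisymm (by rintro _ ⟨p, hp, rfl⟩; exact mapsTo_trans a hW σ hp) fun p hp => ?_
  refine ⟨(Kleiman.trans G X a σ⁻¹).left p, mapsTo_trans a hW σ⁻¹ hp, ?_⟩
  have h : (Kleiman.transIso G X a σ).inv ≫ (Kleiman.transIso G X a σ).hom = 𝟙 X :=
    Iso.inv_hom_id _
  exact congrArg (fun φ : X ⟶ X => φ.left p) h

variable [LocallyOfFiniteType G.hom] [QuasiCompact G.hom] [LocallyOfFiniteType X.hom] [QuasiCompact X.hom]

/-- An orbit meeting a closed stable set lies in it. -/
theorem range_orbit_subset_of_mem [IsAlgClosed k] (o : 𝟙_ (Over (Spec (CommRingCat.of k))) ⟶ X)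
    {W : Set X.left} (hWc : IsClosed W) (hW : GrpSch.IsStableSet a W) {w : X.left}
    (hw : w ∈ Set.range (a.orbitMap o).left) (hwW : w ∈ W) :
    Set.range (a.orbitMap o).left ⊆ W := by
  haveI : JacobsonSpace X.left := LocallyOfFiniteType.jacobsonSpace X.hom
  obtain ⟨c, hc, hcc⟩ := nonempty_inter_closedPoints (X := X.left) (Z := Set.range (a.orbitMap o).left ∩ W) ⟨w, hw, hwW⟩
    ((GrpSch.isLocallyClosed_range_orbit a o).inter hWc.isLocallyClosed)
  obtain ⟨z, hz⟩ := GrpSch.exists_point_mem (X := X) hcc ⟨c, rfl⟩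
  by_cases ho : Set.range o.left ⊆ Set.range (a.orbitMap z).left
  · exact (GrpSch.range_orbit_subset a (GrpSch.isStableSet_range_orbit a z) o ho).trans
      (GrpSch.range_orbit_subset a hW z (hz.trans (Set.singleton_subset_iff.mpr hc.2 : ({c} : Set X.left) ⊆ W)))
  · exfalso
    have hsub : Set.range o.left ⊆ (Set.range (a.orbitMap z).left)ᶜ := by
      rintro _ ⟨s, rfl⟩ hmem
      refine ho ?_
      rintro _ ⟨s', rfl⟩
      rwa [show o.left s' = o.left s from congrArg o.left (Subsingleton.elim (α := Spec (CommRingCat.of k)) _ _)]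
    have h1 := GrpSch.range_orbit_subset a ((GrpSch.isStableSet_range_orbit a z).compl a) o hsub
    refine h1 hc.1 (GrpSch.range_subset_range_orbit a z ⟨IsLocalRing.closedPoint k, ?_⟩)
    exact hz ⟨_, rfl⟩

/-- With finitely many orbits every point lies on an orbit. -/
theorem exists_orbit_mem [IsAlgClosed k]
    (hfin : Set.Finite {S : Set X.left |
      ∃ x : 𝟙_ (Over (Spec (CommRingCat.of k))) ⟶ X, S = Set.range (a.orbitMap x).left})
    (p : X.left) : ∃ x : 𝟙_ (Over (Spec (CommRingCat.of k))) ⟶ X, p ∈ Set.range (a.orbitMap x).left := by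
  haveI : JacobsonSpace X.left := LocallyOfFiniteType.jacobsonSpace X.hom
  let 𝒮 := {S : Set X.left | ∃ x : 𝟙_ (Over (Spec (CommRingCat.of k))) ⟶ X, S = Set.range (a.orbitMap x).left}
  have hsub : closure ({p} : Set X.left) ⊆ ⋃ S ∈ 𝒮, closure (S ∩ closure {p}) := by
    refine (JacobsonSpace.closure_inter_closedPoints (Z := closure ({p} : Set X.left)) isClosed_closure).ge.trans ?_
    refine closure_minimal ?_ (hfin.isClosed_biUnion fun _ _ => isClosed_closure)
    rintro c ⟨hc, hcc⟩
    obtain ⟨z, hz⟩ := GrpSch.exists_point_mem (X := X) hcc ⟨c, rfl⟩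
    refine Set.mem_biUnion (x := Set.range (a.orbitMap z).left) ⟨z, rfl⟩ (subset_closure ⟨?_, ?_⟩)
    · exact GrpSch.range_subset_range_orbit a z ⟨IsLocalRing.closedPoint k, hz ⟨_, rfl⟩⟩
    · exact hc
  obtain ⟨S, ⟨x, rfl⟩, hS⟩ := Set.mem_iUnion₂.mp (hsub (subset_closure rfl))
  obtain ⟨U, hU, hUe⟩ := GrpSch.exists_open_orbit_eq a x
  refine ⟨x, hUe ▸ ⟨?_, closure_mono Set.inter_subset_left hS⟩⟩
  obtain ⟨q, hq, hqp⟩ : (Set.range (a.orbitMap x).left ∩ closure {p}).Nonempty :=
    Set.Nonempty.of_closure ⟨p, hS⟩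
  have hqU : q ∈ U := (hUe.le hq).1
  exact (specializes_iff_mem_closure.mpr hqp).mem_open hU hqU

end Groth.Agent.H26.OrbitGeom
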