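import Groth.Agent.H26.KleimanDim
import Groth.Agent.Lib.CohDelta.DevApps
import Groth.Agent.Lib.Homog.Orbit
import Groth.Agent.Lib.Cyc.LocalDim
import Groth.Agent.Lib.Cyc.Residue

/-!
# General translates meet inside each orbit in the expected dimension
-/

set_option autoImplicit false
set_option backward.isDefEq.respectTransparency.types false
set_option linter.all false
set_option maxHeartbeats 1000000

universe u

open CategoryTheory CategoryTheory.Limits MonoidalCategory CartesianMonoidalCategory MonObj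
open AlgebraicGeometry TopologicalSpace
open Groth.Agent.Lib Groth.Agent.H26 Groth.Agent.H26.Kleiman

noncomputable section

namespace Groth.Agent.H26.OrbitInter

variable {k : Type u} [Field k]

theorem fdelta_preimmersion {X Y : Scheme.{u}} (i : X ⟶ Y) [IsPreimmersion i]
    (f : Y ⟶ Spec (CommRingCat.of k)) [LocallyOfFiniteType f] [LocallyOfFiniteType (i ≫ f)] (x : X) :
    Cyc.FieldDim.fdelta (i ≫ f) x = Cyc.FieldDim.fdelta f (i x) := by
  have h := (Cyc.Residue.trdegAt_comp i f x).symm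
  rw [Cyc.FieldDim.trdegAt_eq_zero_of_surjective i x (Cyc.FieldDim.residueFieldMap_surjective (f := i) x)] at h
  unfold Cyc.FieldDim.fdelta
  rw [← h, add_zero]

theorem closure_image_of_embedding {α β : Type u} [TopologicalSpace α] [TopologicalSpace β] {f : α → β}
    (hf : Continuous f) {s : Set α} {x : α} (h : s ⊆ closure {x}) : f '' s ⊆ closure {f x} := by
  rintro _ ⟨a, ha, rfl⟩
  have := image_closure_subset_closure_image (s := {x}) hf ⟨a, h ha, rfl⟩
  rwa [Set.image_singleton] at this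

/-- For general `σ` a point of `σ Y₁ ∩ Y₂` on the orbit of `o` has dimension at most
the expected one for two components of `Yᵢ ∩ closure (orbit)` inside the orbit. -/
theorem orbit_bound [IsAlgClosed k] [CharZero k] (G X : Over (Spec (CommRingCat.of k))) [GrpObj G]
    (a : AlgGrp.Action G X)
    [IsIntegral G.left] [IsSeparated G.hom] [LocallyOfFiniteType G.hom] [QuasiCompact G.hom]
    [IsSeparated X.hom] [LocallyOfFiniteType X.hom] [QuasiCompact X.hom]
    (o : 𝟙_ (Over (Spec (CommRingCat.of k))) ⟶ X) (Y₁ Y₂ : Set X.left) (h₁ : IsClosed Y₁) (h₂ : IsClosed Y₂) :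
    ∃ V : G.left.Opens, (V : Set G.left).Nonempty ∧
      ∀ σ : 𝟙_ (Over (Spec (CommRingCat.of k))) ⟶ G, Set.range σ.left ⊆ (V : Set G.left) →
        ∀ ww : X.left, ww ∈ Set.range (a.orbitMap o).left →
          ww ∈ ⇑(trans G X a σ).left '' Y₁ ∩ Y₂ →
            ∃ (y₁ y₂ ζ : X.left),
              closure {ζ} = closure (Set.range (a.orbitMap o).left) ∧
              (y₁ ∈ Y₁ ∩ closure (Set.range (a.orbitMap o).left) ∧
                ∀ y ∈ Y₁ ∩ closure (Set.range (a.orbitMap o).left), y ⤳ y₁ → y = y₁) ∧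
              (y₂ ∈ Y₂ ∩ closure (Set.range (a.orbitMap o).left) ∧
                ∀ y ∈ Y₂ ∩ closure (Set.range (a.orbitMap o).left), y ⤳ y₂ → y = y₂) ∧
              Cyc.FieldDim.fdelta X.hom ww + Cyc.FieldDim.fdelta X.hom ζ ≤
                Cyc.FieldDim.fdelta X.hom y₁ + Cyc.FieldDim.fdelta X.hom y₂ := by
  classical
  haveI : IsNoetherianRing (CommRingCat.of k) := inferInstanceAs (IsNoetherianRing k)
  obtain ⟨Z, b, y, j, hj, hZft, hjb, hy, hs, hr, hred⟩ := Homog.exists_orbit a o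
  haveI := hj
  haveI := hZft
  haveI : IsReduced Z.left := hred inferInstance
  haveI : Surjective (b.orbitMap y).left := hs
  haveI : IrreducibleSpace Z.left :=
    (b.orbitMap y).left.surjective.irreducibleSpace (b.orbitMap y).left.continuous
  haveI : IsIntegral Z.left := isIntegral_of_irreducibleSpace_of_isReduced _
  haveI : IsSeparated Z.hom := by rw [← Over.w j]; infer_instance
  haveI : IsLocallyNoetherian X.left := LocallyOfFiniteType.isLocallyNoetherian X.hom
  haveI : IsLocallyNoetherian Z.left := LocallyOfFiniteType.isLocallyNoetherian Z.hom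
  haveI : CompactSpace G.left := QuasiCompact.compactSpace_of_compactSpace G.hom
  haveI : CompactSpace Z.left :=
    ⟨(b.orbitMap y).left.surjective.range_eq ▸ isCompact_range (b.orbitMap y).left.continuous⟩
  haveI : QuasiCompact Z.hom := (quasiCompact_iff_compactSpace Z.hom).mpr inferInstance
  haveI : IsNoetherian Z.left := ⟨⟩
  obtain ⟨dZ, hdZ⟩ := GenSmooth.exists_dim Z.hom
  have hdZ' : Cyc.FieldDim.fdelta Z.hom (genericPoint Z.left) = dZ := by
    have h' := Cyc.FieldDim.topologicalKrullDim_closure Z.hom (genericPoint Z.left)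
    rw [genericPoint_closure, (Homeomorph.Set.univ Z.left).isHomeomorph.topologicalKrullDim_eq, hdZ] at h'
    have h'' := Cyc.FieldDim.fdelta_nonneg Z.hom (genericPoint Z.left)
    norm_cast at h'
    omega
  -- transitivity on the orbit
  have htr : ∀ z z' : 𝟙_ (Over (Spec (CommRingCat.of k))) ⟶ Z,
      ∃ σ : 𝟙_ (Over (Spec (CommRingCat.of k))) ⟶ G, lift σ z ≫ b.act = z' := by
    have hl : ∀ z : 𝟙_ (Over (Spec (CommRingCat.of k))) ⟶ Z,
        ∃ g : 𝟙_ (Over (Spec (CommRingCat.of k))) ⟶ G, lift g y ≫ b.act = z := by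
      intro z
      have hc : IsClosed ({z.left (IsLocalRing.closedPoint k)} : Set Z.left) :=
        ((pointEquivClosedPoint Z.hom) ⟨z.left, Over.w z⟩).2
      obtain ⟨g, hg⟩ := GrpSch.exists_point_mem (X := G) (hc.preimage (b.orbitMap y).left.continuous)
        (Set.singleton_nonempty _ |>.preimage (b.orbitMap y).left.surjective)
      refine ⟨g, ?_⟩
      have e : g ≫ b.orbitMap y = lift g y ≫ b.act := by
        rw [AlgGrp.Action.orbitMap, comp_lift_assoc, Category.comp_id, ← Category.assoc g,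
          toUnit_unique (g ≫ toUnit G) (𝟙 _), Category.id_comp]
      rw [← e]
      refine Over.OverMorphism.ext ?_
      refine ext_of_apply_closedPoint_eq Z.hom (Over.w _) (Over.w _) ?_
      exact hg ⟨_, rfl⟩
    intro z z'
    obtain ⟨g, rfl⟩ := hl z
    obtain ⟨g', rfl⟩ := hl z'
    exact ⟨g' * g⁻¹, by rw [← GrpSch.act_mul, inv_mul_cancel_right]⟩
  -- the pieces
  let S₁ : Set Z.left := j.left ⁻¹' Y₁
  let S₂ : Set Z.left := j.left ⁻¹' Y₂
  have hmax : ∀ {Y : Set X.left}, IsClosed Y → ∃ M : Set Z.left, M.Finite ∧ M ⊆ j.left ⁻¹' Y ∧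
      (∀ z ∈ j.left ⁻¹' Y, ∃ m ∈ M, m ⤳ z) ∧
      ∀ m ∈ M, ∀ z ∈ j.left ⁻¹' Y, z ⤳ m → z = m := by
    intro Y hY
    obtain ⟨T, hTf, hTc, hTi, hT⟩ :=
      NoetherianSpace.exists_finite_set_isClosed_irreducible (hY.preimage j.left.continuous)
    let M0 : Set Z.left := {m | ∃ (t : Set Z.left) (ht : t ∈ T), (hTi t ht).genericPoint = m}
    let M : Set Z.left := {m | m ∈ M0 ∧ ∀ m' ∈ M0, m' ⤳ m → m' = m}
    have hg : ∀ t (ht : t ∈ T), IsGenericPoint (hTi t ht).genericPoint t := fun t ht => by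
      have := (hTi t ht).isGenericPoint_genericPoint_closure
      rwa [(hTc t ht).closure_eq] at this
    have hM0f : M0.Finite := by
      refine (hTf.dependent_image fun t ht => (hTi t ht).genericPoint).subset ?_
      rintro _ ⟨t, ht, rfl⟩
      exact ⟨t, ht, rfl⟩
    have hM0s : ∀ m ∈ M0, m ∈ j.left ⁻¹' Y := by
      rintro _ ⟨t, ht, rfl⟩
      exact hT ▸ Set.mem_sUnion.mpr ⟨t, ht, (hg t ht).mem⟩
    have hM0cov : ∀ z ∈ j.left ⁻¹' Y, ∃ m ∈ M0, m ⤳ z := by
      intro z hz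
      rw [hT] at hz
      obtain ⟨t, ht, hzt⟩ := Set.mem_sUnion.mp hz
      exact ⟨_, ⟨t, ht, rfl⟩, (hg t ht).specializes hzt⟩
    refine ⟨M, hM0f.subset fun m hm => hm.1, fun m hm => hM0s m hm.1, fun z hz => ?_, ?_⟩
    · obtain ⟨m, hm, hmz⟩ := hM0cov z hz
      obtain ⟨w, hw, hwmin⟩ := (hM0f.sep fun w => w ⤳ m).exists_minimalFor
        (fun w => -(Cyc.FieldDim.fdelta Z.hom w)) _ ⟨m, hm, specializes_rfl⟩
      refine ⟨w, ⟨hw.1, fun m' hm' h' => ?_⟩, hw.2.trans hmz⟩
      by_contra hne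
      have hlt := (Cyc.FieldDim.isDimFun_fdelta Z.hom m' w h' hne).1
      have hle := hwmin ⟨hm', h'.trans hw.2⟩ (by dsimp only; omega)
      dsimp only at hle
      omega
    · intro m hm z hz hzm
      obtain ⟨m', hm', hm'z⟩ := hM0cov z hz
      obtain rfl := hm.2 m' hm' (hm'z.trans hzm)
      exact (hzm.antisymm hm'z).eq
  obtain ⟨M₁, hM₁f, hM₁s, hM₁c, hM₁m⟩ := hmax h₁
  obtain ⟨M₂, hM₂f, hM₂s, hM₂c, hM₂m⟩ := hmax h₂
  -- one open set per pair
  have hpair : ∀ p : Z.left × Z.left, ∃ V : G.left.Opens, (V : Set G.left).Nonempty ∧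
      ∀ σ : 𝟙_ (Over (Spec (CommRingCat.of k))) ⟶ G, Set.range σ.left ⊆ (V : Set G.left) →
        ∀ z : Z.left, (∃ w, p.1 ⤳ w ∧ (trans G Z b σ).left w = z) → p.2 ⤳ z →
          Cyc.FieldDim.fdelta Z.hom z + dZ ≤
            Cyc.FieldDim.fdelta Z.hom p.1 + Cyc.FieldDim.fdelta Z.hom p.2 := by
    rintro ⟨p₁, p₂⟩
    obtain ⟨Z₁, i₁, hi₁, hZ₁, hr₁, -⟩ := CohDelta.DevApps.exists_integral (X := Z.left) p₁
    obtain ⟨Z₂, i₂, hi₂, hZ₂, hr₂, -⟩ := CohDelta.DevApps.exists_integral (X := Z.left) p₂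
    haveI := hi₁
    haveI := hi₂
    haveI := hZ₁
    haveI := hZ₂
    have d₁ : topologicalKrullDim Z₁ = ((Cyc.FieldDim.fdelta Z.hom p₁).toNat : WithBot ℕ∞) := by
      rw [i₁.isClosedEmbedding.isEmbedding.toHomeomorph.isHomeomorph.topologicalKrullDim_eq, hr₁,
        Cyc.FieldDim.topologicalKrullDim_closure Z.hom p₁]
    have d₂ : topologicalKrullDim Z₂ = ((Cyc.FieldDim.fdelta Z.hom p₂).toNat : WithBot ℕ∞) := by
      rw [i₂.isClosedEmbedding.isEmbedding.toHomeomorph.isHomeomorph.topologicalKrullDim_eq, hr₂,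
        Cyc.FieldDim.topologicalKrullDim_closure Z.hom p₂]
    obtain ⟨V, hVne, hV⟩ := KleimanDim.equidim G Z b htr i₁ i₂ dZ _ _ hdZ d₁ d₂
    refine ⟨V, hVne, fun σ hσ z ⟨w, hw, hwz⟩ hz => ?_⟩
    let T := (trans G Z b σ).left
    haveI : IsIso T := ((Over.forget _).mapIso (transIso G Z b σ)).isIso_hom
    let fσ : Z₁ ⟶ Z.left := i₁ ≫ T
    have hfσ : fσ = (lift (toUnit (Over.mk (i₁ ≫ Z.hom)) ≫ σ) (Over.homMk i₁) ≫ b.act).left := by
      rw [← comp_trans]
      rfl
    let mI := pullback.fst fσ i₂ ≫ fσ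
    let pF : pullback fσ i₂ ⟶ Spec (CommRingCat.of k) := pullback.fst fσ i₂ ≫ i₁ ≫ Z.hom
    obtain ⟨z₁, rfl⟩ : w ∈ Set.range i₁ := by rw [hr₁]; exact hw.mem_closure
    obtain ⟨z₂, hz₂⟩ : z ∈ Set.range i₂ := by rw [hr₂]; exact hz.mem_closure
    obtain ⟨c, hc, -⟩ := Scheme.Pullback.exists_preimage_pullback (f := fσ) (g := i₂) z₁ z₂
      (by rw [hz₂, ← hwz]; rfl)
    have hcz : mI c = z := by
      show fσ (pullback.fst fσ i₂ c) = z
      rw [hc, ← hwz]; rfl
    haveI : Nonempty ↥(pullback fσ i₂) := ⟨c⟩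
    haveI : JacobsonSpace ↥(pullback fσ i₂) := LocallyOfFiniteType.jacobsonSpace pF
    obtain ⟨c0, -, hc0⟩ := nonempty_inter_closedPoints (X := ↥(pullback fσ i₂)) (Z := Set.univ) Set.univ_nonempty
      isClosed_univ.isLocallyClosed
    obtain ⟨d0, -, hd0⟩ := hV σ hσ fσ hfσ c0 hc0
    have hdim : topologicalKrullDim ↥(pullback fσ i₂) = (d0 : WithBot ℕ∞) := by
      refine GenSmooth.dim_eq_of_forall_closed pF _ fun c' hc' => ?_
      obtain ⟨d, hd, hd'⟩ := hV σ hσ fσ hfσ c' hc'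
      rw [hd]
      congr 1
      omega
    have hle := Cyc.LocalDim.fdelta_le_topologicalKrullDim pF c
    rw [hdim] at hle
    norm_cast at hle
    have he : Cyc.FieldDim.fdelta pF c = Cyc.FieldDim.fdelta Z.hom z := by
      rw [← hcz, ← fdelta_preimmersion mI Z.hom c]
      congr 1
      show pullback.fst fσ i₂ ≫ i₁ ≫ Z.hom = _
      simp [mI, fσ, T, Over.w]
    have := Cyc.FieldDim.fdelta_nonneg Z.hom p₁
    have := Cyc.FieldDim.fdelta_nonneg Z.hom p₂
    dsimp only
    omega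
  choose V hVne hV using hpair
  have hP := hM₁f.prod hM₂f
  refine ⟨⟨⋂ p ∈ M₁ ×ˢ M₂, (V p : Set G.left), hP.isOpen_biInter fun p _ => (V p).2⟩, ?_, ?_⟩
  · refine ⟨genericPoint G.left, Set.mem_iInter₂.mpr fun p _ => ?_⟩
    exact ((genericPoint_spec G.left).mem_open_set_iff (V p).2).mpr (by simpa using hVne p)
  intro σ hσ ww hww hww'
  rw [← hr] at hww
  obtain ⟨z, rfl⟩ := hww
  obtain ⟨⟨x, hx, hxz⟩, hz₂⟩ := hww'
  let T := (trans G Z b σ).left
  haveI : IsIso T := ((Over.forget _).mapIso (transIso G Z b σ)).isIso_hom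
  haveI : IsIso (trans G X a σ).left := ((Over.forget _).mapIso (transIso G X a σ)).isIso_hom
  obtain ⟨w, rfl⟩ := T.surjective z
  have hw : j.left w = x := by
    refine (trans G X a σ).left.isOpenEmbedding.injective ?_
    rw [hxz, ← Scheme.Hom.comp_apply, ← Over.comp_left, ← trans_comm a b j hjb σ]
    rfl
  obtain ⟨m₁, hm₁, hm₁w⟩ := hM₁c w (show j.left w ∈ Y₁ by rw [hw]; exact hx)
  obtain ⟨m₂, hm₂, hm₂z⟩ := hM₂c (T w) hz₂
  have key := hV (m₁, m₂) σ (hσ.trans (Set.biInter_subset_of_mem (Set.mk_mem_prod hm₁ hm₂))) (T w)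
    ⟨w, hm₁w, rfl⟩ hm₂z
  have hcl : closure {j.left (genericPoint Z.left)} = closure (Set.range (a.orbitMap o).left) := by
    rw [← hr]
    refine le_antisymm (closure_mono (by simp)) (closure_minimal ?_ isClosed_closure)
    rw [← Set.image_univ]
    exact closure_image_of_embedding j.left.continuous (genericPoint_closure (α := Z.left)).ge
  -- generizations in the closure stay in the orbit
  have hgen : ∀ (m : Z.left) (x : X.left), x ∈ closure (Set.range (a.orbitMap o).left) → x ⤳ j.left m →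
      ∃ z' : Z.left, z' ⤳ m ∧ j.left z' = x := by
    intro m x hxcl hxm
    obtain ⟨U, hU, hUe⟩ := GrpSch.exists_open_orbit_eq a o
    have hm : j.left m ∈ U ∩ closure (Set.range (a.orbitMap o).left) := by
      rw [← hUe, ← hr]; exact ⟨m, rfl⟩
    have : x ∈ Set.range j.left := by
      rw [hr, hUe]; exact ⟨hxm.mem_open hU hm.1, hxcl⟩
    obtain ⟨z', rfl⟩ := this
    exact ⟨z', j.left.isEmbedding.toIsInducing.specializes_iff.mp hxm, rfl⟩
  have hin : ∀ m : Z.left, j.left m ∈ closure (Set.range (a.orbitMap o).left) := fun m =>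
    subset_closure (hr ▸ ⟨m, rfl⟩)
  refine ⟨j.left m₁, j.left m₂, j.left (genericPoint Z.left), hcl, ⟨⟨hM₁s hm₁, hin m₁⟩, ?_⟩,
    ⟨⟨hM₂s hm₂, hin m₂⟩, ?_⟩, ?_⟩
  · intro x hx' hxm
    obtain ⟨z', hz', rfl⟩ := hgen m₁ x hx'.2 hxm
    rw [hM₁m m₁ hm₁ z' hx'.1 hz']
  · intro x hx' hxm
    obtain ⟨z', hz', rfl⟩ := hgen m₂ x hx'.2 hxm
    rw [hM₂m m₂ hm₂ z' hx'.1 hz']
  simp only [← fdelta_preimmersion j.left X.hom, Over.w]
  rw [hdZ']
  exact key

end Groth.Agent.H26.OrbitInter
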