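import Groth.Agent.H26.OrbitInter

/-!
# Components of closed subsets and their dimensions, for translates
-/

set_option autoImplicit false
set_option backward.isDefEq.respectTransparency.types false
set_option linter.all false

universe u

open CategoryTheory CategoryTheory.Limits
open AlgebraicGeometry TopologicalSpace
open Groth.Agent.Lib

noncomputable section

namespace Groth.Agent.H26.OrbitInterDim

variable {k : Type u} [Field k] {X : Scheme.{u}}

/-- A maximal point of a closed subset gives a component of the expected dimension. -/
theorem exists_component (pX : X ⟶ Spec (CommRingCat.of k)) [LocallyOfFiniteType pX] {S : Set X}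
    (hS : IsClosed S) (y : X) (hy : y ∈ S) (hmax : ∀ z ∈ S, z ⤳ y → z = y) :
    ∃ C ∈ irreducibleComponents S,
      topologicalKrullDim ↥C = ((Cyc.FieldDim.fdelta pX y).toNat : WithBot ℕ∞) := by
  haveI : QuasiSober S := hS.isClosedEmbedding_subtypeVal.quasiSober
  have hm : Cyc.DimFun.IsMaxPt (⟨y, hy⟩ : S) := fun z hz =>
    Subtype.ext (hmax z.1 z.2 (hz.map continuous_subtype_val))
  refine ⟨_, Cyc.FieldDim.closure_mem_irreducibleComponents _ hm, ?_⟩
  rw [← Cyc.FieldDim.topologicalKrullDim_closure pX y]
  have e : (Subtype.val : S → X) '' closure {(⟨y, hy⟩ : S)} = closure {y} := by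
    rw [← hS.isClosedEmbedding_subtypeVal.closure_image_eq, Set.image_singleton]
  have he := (hS.isClosedEmbedding_subtypeVal.isEmbedding.homeomorphImage (closure {(⟨y, hy⟩ : S)})).trans
    (Homeomorph.setCongr e)
  exact he.isHomeomorph.topologicalKrullDim_eq

/-- A point whose `δ` is the dimension is the generic point. -/
theorem closure_eq_univ [IsIntegral X] (pX : X ⟶ Spec (CommRingCat.of k)) [LocallyOfFiniteType pX]
    (n : ℕ) (hn : topologicalKrullDim X = n) (x : X) (hx : n ≤ (Cyc.FieldDim.fdelta pX x).toNat) :
    closure ({x} : Set X) = Set.univ := by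
  have hg : ((Cyc.FieldDim.fdelta pX (genericPoint X)).toNat : WithBot ℕ∞) = n := by
    rw [← Cyc.FieldDim.topologicalKrullDim_closure pX (genericPoint X)]
    have h' : closure ({genericPoint X} : Set X) = Set.univ := genericPoint_closure _
    rw [h', (Homeomorph.Set.univ X).isHomeomorph.topologicalKrullDim_eq, hn]
  norm_cast at hg
  by_contra hne
  have hne' : genericPoint X ≠ x := by
    rintro rfl
    exact hne (genericPoint_closure _)
  have := (Cyc.FieldDim.isDimFun_fdelta pX _ x (genericPoint_specializes x) hne').1
  have := Cyc.FieldDim.fdelta_nonneg pX x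
  omega

end Groth.Agent.H26.OrbitInterDim
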