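import Groth.Prelude.Def_EGA4b
import Groth.Agent.H26.RegImmLocal
import Groth.Agent.Lib.StalkLoc.Basic
import Groth.Agent.Lib.CohBasics.Closure
import Mathlib.RingTheory.Spectrum.Prime.FreeLocus
import Mathlib.RingTheory.Localization.BaseChange
import Mathlib.RingTheory.TensorProduct.Quotient
import Mathlib.RingTheory.Flat.Stability
import Mathlib.RingTheory.Flat.Localization

/-!
# The ranks of the graded pieces along a normally flat closed subscheme
-/

set_option autoImplicit false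
set_option linter.style.haveILetI false

universe u

open scoped TensorProduct
open IsLocalRing CategoryTheory AlgebraicGeometry TopologicalSpace Opposite

namespace Groth.Agent.H26.Poincare

/-- The `r`-th graded piece, seen on sections. -/
abbrev G {B : Type u} [CommRing B] (I : Ideal B) (M₀ : Type u) [AddCommGroup M₀] [Module B M₀] (r : ℕ) : Type u :=
  (B ⧸ I) ⊗[B] ↥(I ^ r • (⊤ : Submodule B M₀))

section Local

variable {B : Type u} [CommRing B] (I : Ideal B) (M₀ : Type u) [AddCommGroup M₀] [Module B M₀]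
variable {A : Type u} [CommRing A] [Algebra B A] (p : Ideal B) [p.IsPrime] [IsLocalization.AtPrime A p]
variable {M : Type u} [AddCommGroup M] [Module A M] [Module B M] [IsScalarTower B A M]
variable (f : M₀ →ₗ[B] M) [IsLocalizedModule p.primeCompl f]

include p f in
theorem exists_tensorEquiv (r : ℕ) :
    Nonempty ((A ⊗[B] ↥(I ^ r • (⊤ : Submodule B M₀))) ≃ₗ[A]
      ↥(I.map (algebraMap B A) ^ r • (⊤ : Submodule A M))) := by
  let N : Submodule B M₀ := I ^ r • ⊤
  have hN : N.localized' A p.primeCompl f = I.map (algebraMap B A) ^ r • (⊤ : Submodule A M) := by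
    show (I ^ r • (⊤ : Submodule B M₀)).localized' A p.primeCompl f = _
    rw [Submodule.localized'_smul]
    congr 1
    · rw [Submodule.localized'_eq_span, ← Ideal.map_pow]
      rfl
    · exact Submodule.localized'_top A p.primeCompl f
  have hb : IsBaseChange A (N.toLocalized' A p.primeCompl f) :=
    IsLocalizedModule.isBaseChange p.primeCompl A _
  exact ⟨hb.equiv ≪≫ₗ LinearEquiv.ofEq _ _ hN⟩

include p f in
theorem flat_localized (hp : I ≤ p) (r : ℕ)
    (h : Module.Flat (A ⧸ I.map (algebraMap B A))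
      (↥(I.map (algebraMap B A) ^ r • (⊤ : Submodule A M)) ⧸
        (I.map (algebraMap B A) • (⊤ : Submodule A ↥(I.map (algebraMap B A) ^ r • (⊤ : Submodule A M))))))
    (P : Ideal (B ⧸ I)) [P.IsPrime] (hP : P.comap (Ideal.Quotient.mk I) = p) :
    Module.Flat (Localization.AtPrime P) (LocalizedModule P.primeCompl (G I M₀ r)) := by
  let K := I.map (algebraMap B A)
  letI : Algebra (B ⧸ I) (A ⧸ K) :=
    (Ideal.quotientMap K (algebraMap B A) Ideal.le_comap_map).toAlgebra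
  haveI : IsScalarTower B (B ⧸ I) (A ⧸ K) := .of_algebraMap_eq fun a => rfl
  have hloc : IsLocalization.AtPrime (A ⧸ K) P := by
    have h1 : IsLocalization (p.primeCompl.map (Ideal.Quotient.mk I)) (A ⧸ K) :=
      IsLocalization.of_surjective (R := B) (S := A) p.primeCompl (Ideal.Quotient.mk I)
        Ideal.Quotient.mk_surjective (Ideal.Quotient.mk K)
        Ideal.Quotient.mk_surjective (RingHom.ext fun x => rfl)
        (by rw [Ideal.mk_ker, Ideal.mk_ker])
    have h2 : p.primeCompl.map (Ideal.Quotient.mk I) = P.primeCompl := by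
      ext x
      obtain ⟨y, rfl⟩ := Ideal.Quotient.mk_surjective x
      simp only [Submonoid.mem_map, Ideal.mem_primeCompl_iff]
      refine ⟨fun ⟨z, hz, hzy⟩ h => hz ?_, fun h => ⟨y, fun hy => h ?_, rfl⟩⟩
      · rw [← hP, Ideal.mem_comap, hzy]; exact h
      · rwa [← hP, Ideal.mem_comap] at hy
    rw [h2] at h1
    exact h1
  obtain ⟨e1⟩ := exists_tensorEquiv (A := A) I M₀ p f r
  let N := ↥(K ^ r • (⊤ : Submodule A M))
  have hsurj : Function.Surjective (algebraMap A (A ⧸ K)) := Ideal.Quotient.mk_surjective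
  let e2 : ((A ⧸ K) ⊗[A] N) ≃ₗ[A ⧸ K] (N ⧸ (K • ⊤ : Submodule A N)) :=
    LinearEquiv.extendScalarsOfSurjective hsurj (TensorProduct.quotTensorEquivQuotSMul N K)
  let e : ((A ⧸ K) ⊗[B ⧸ I] G I M₀ r) ≃ₗ[A ⧸ K] (N ⧸ (K • ⊤ : Submodule A N)) :=
    TensorProduct.AlgebraTensorModule.cancelBaseChange B (B ⧸ I) (A ⧸ K) (A ⧸ K) _ ≪≫ₗ
      (TensorProduct.AlgebraTensorModule.cancelBaseChange B A (A ⧸ K) (A ⧸ K) _).symm ≪≫ₗ
      TensorProduct.AlgebraTensorModule.congr (LinearEquiv.refl _ _) e1 ≪≫ₗ e2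
  haveI hfl : Module.Flat (A ⧸ K) ((A ⧸ K) ⊗[B ⧸ I] G I M₀ r) := Module.Flat.of_linearEquiv e
  let φ : (A ⧸ K) ≃ₐ[B ⧸ I] Localization.AtPrime P := IsLocalization.algEquiv P.primeCompl _ _
  letI : Algebra (A ⧸ K) (Localization.AtPrime P) := φ.toAlgHom.toRingHom.toAlgebra
  haveI : IsScalarTower (B ⧸ I) (A ⧸ K) (Localization.AtPrime P) :=
    .of_algebraMap_eq fun a => (φ.commutes a).symm
  exact Module.Flat.of_linearEquiv
    (LocalizedModule.equivTensorProduct P.primeCompl (G I M₀ r) ≪≫ₗ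
      (TensorProduct.AlgebraTensorModule.cancelBaseChange (B ⧸ I) (A ⧸ K) (Localization.AtPrime P)
        (Localization.AtPrime P) (G I M₀ r)).symm)

variable [IsLocalRing A]

include p f in
theorem finrank_fibre (hp : I ≤ p) (r : ℕ) [Module.Flat (B ⧸ I) (G I M₀ r)] [Module.Finite (B ⧸ I) (G I M₀ r)]
    (P : PrimeSpectrum (B ⧸ I)) (hP : P.asIdeal.comap (Ideal.Quotient.mk I) = p) :
    Module.finrank (A ⧸ maximalIdeal A)
      ((↥(I.map (algebraMap B A) ^ r • (⊤ : Submodule A M)) ⧸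
          (I.map (algebraMap B A) • (⊤ : Submodule A ↥(I.map (algebraMap B A) ^ r • (⊤ : Submodule A M))))) ⧸
        (maximalIdeal A • (⊤ : Submodule A (↥(I.map (algebraMap B A) ^ r • (⊤ : Submodule A M)) ⧸
          (I.map (algebraMap B A) • (⊤ : Submodule A ↥(I.map (algebraMap B A) ^ r • (⊤ : Submodule A M)))))))) =
      Module.rankAtStalk (G I M₀ r) P := by
  let K := I.map (algebraMap B A)
  let m := maximalIdeal A
  let k := A ⧸ m
  have hcomap : m.comap (algebraMap B A) = p := IsLocalization.AtPrime.comap_maximalIdeal A p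
  have hK : K ≤ m := Ideal.map_le_iff_le_comap.2 (hp.trans hcomap.ge)
  letI : Algebra (B ⧸ I) k := (Ideal.Quotient.lift I (algebraMap B k) fun b hb =>
    (Ideal.Quotient.eq_zero_iff_mem).2 (hK (Ideal.mem_map_of_mem _ hb))).toAlgebra
  haveI : IsScalarTower B (B ⧸ I) k := .of_algebraMap_eq fun a => rfl
  letI : Field k := Ideal.Quotient.field m
  obtain ⟨e1⟩ := exists_tensorEquiv (A := A) I M₀ p f r
  let N := ↥(K ^ r • (⊤ : Submodule A M))
  let Q : Submodule A N := K • ⊤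
  have hQ : Q ≤ m • ⊤ := Submodule.smul_mono_left hK
  have hmap : (m • (⊤ : Submodule A N)).map Q.mkQ = m • (⊤ : Submodule A (N ⧸ Q)) := by
    rw [Submodule.map_smul'', Submodule.map_top, Submodule.range_mkQ]
  let e0 : ((N ⧸ Q) ⧸ (m • (⊤ : Submodule A (N ⧸ Q)))) ≃ₗ[A] (N ⧸ (m • (⊤ : Submodule A N))) :=
    Submodule.quotEquivOfEq _ _ hmap.symm ≪≫ₗ Submodule.quotientQuotientEquivQuotient Q _ hQ
  have hsurj : Function.Surjective (algebraMap A k) := Ideal.Quotient.mk_surjective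
  let e : ((N ⧸ Q) ⧸ (m • (⊤ : Submodule A (N ⧸ Q)))) ≃ₗ[k] (k ⊗[B ⧸ I] G I M₀ r) :=
    LinearEquiv.extendScalarsOfSurjective hsurj (e0 ≪≫ₗ (TensorProduct.quotTensorEquivQuotSMul N m).symm) ≪≫ₗ
      TensorProduct.AlgebraTensorModule.congr (LinearEquiv.refl _ _) e1.symm ≪≫ₗ
      TensorProduct.AlgebraTensorModule.cancelBaseChange B A k k _ ≪≫ₗ
      (TensorProduct.AlgebraTensorModule.cancelBaseChange B (B ⧸ I) k k _).symm
  refine e.finrank_eq.trans ?_
  let P₀ : PrimeSpectrum k := ⟨⊥, Ideal.isPrime_bot⟩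
  have h1 := congrFun (Module.rankAtStalk_eq_finrank_of_free (R := k) (M := k ⊗[B ⧸ I] G I M₀ r)) P₀
  have hP₀ : P₀.comap (algebraMap (B ⧸ I) k) = P := by
    refine PrimeSpectrum.ext (Ideal.ext fun x => ?_)
    obtain ⟨b, rfl⟩ := Ideal.Quotient.mk_surjective x
    have h2 : b ∈ P.asIdeal.comap (Ideal.Quotient.mk I) ↔ b ∈ m.comap (algebraMap B A) := by
      rw [hP, hcomap]
    exact ((Ideal.Quotient.eq_zero_iff_mem (I := m) (a := algebraMap B A b))).trans h2.symm
  rw [← hP₀, ← Module.rankAtStalk_baseChange (M := G I M₀ r) P₀]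
  exact h1.symm

end Local

variable {X : Scheme.{u}} [IsLocallyNoetherian X]

/-- `(K ^ r F / K ^ (r + 1) F) ⊗ k` at a point of the subscheme. -/
noncomputable def rank (𝓘 : X.IdealSheafData) (F : X.Modules) (y : 𝓘.subscheme) (r : ℕ) : ℕ :=
  let A := X.presheaf.stalk (𝓘.subschemeι y)
  let M := F.presheaf.stalk (𝓘.subschemeι y)
  let K := RingHom.ker (𝓘.subschemeι.stalkMap y).hom
  Module.finrank (A ⧸ maximalIdeal A)
    ((↥(K ^ r • (⊤ : Submodule A M)) ⧸ (K • (⊤ : Submodule A ↥(K ^ r • (⊤ : Submodule A M))))) ⧸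
      (maximalIdeal A • (⊤ : Submodule A (↥(K ^ r • (⊤ : Submodule A M)) ⧸
        (K • (⊤ : Submodule A ↥(K ^ r • (⊤ : Submodule A M))))))))

theorem isLocallyConstant_rank (𝓘 : X.IdealSheafData) (F : X.Modules) (hF : Coh.IsCoh F)
    (hnf : ∀ y : ↥𝓘.subscheme, EGA4.IsNormallyFlat (RingHom.ker (𝓘.subschemeι.stalkMap y).hom)
      ↑(F.presheaf.stalk (𝓘.subschemeι y))) (r : ℕ) :
    IsLocallyConstant fun y : 𝓘.subscheme => rank 𝓘 F y r := by
  rw [IsLocallyConstant.iff_exists_open]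
  intro y₀
  obtain ⟨W, hW, hy₀, -⟩ := exists_isAffineOpen_mem_and_subset (x := 𝓘.subschemeι y₀) (U := ⊤) trivial
  let U : X.affineOpens := ⟨W, hW⟩
  haveI := hF.1
  haveI : IsNoetherianRing Γ(X, W) := IsLocallyNoetherian.component_noetherian U
  haveI : Module.Finite Γ(X, W) Γ(F, W) := Groth.Agent.Lib.CohBasics.Closure.finite_sections hF hW
  let I := 𝓘.ideal U
  let M₀ := Γ(F, W)
  have hker : ∀ (y : 𝓘.subscheme) (hy : 𝓘.subschemeι y ∈ W),
      RingHom.ker (𝓘.subschemeι.stalkMap y).hom = I.map (X.presheaf.germ W (𝓘.subschemeι y) hy).hom :=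
    fun y hy => by
      rw [Groth.Agent.H26.RegImmLocal.ker_stalkMap 𝓘.subschemeι U y hy, Scheme.IdealSheafData.ker_subschemeι]
  have hle : ∀ (y : 𝓘.subscheme) (hy : 𝓘.subschemeι y ∈ W), I ≤ (hW.primeIdealOf ⟨_, hy⟩).asIdeal := by
    intro y hy
    letI := TopCat.Presheaf.algebra_section_stalk X.presheaf (⟨_, hy⟩ : W)
    haveI := hW.isLocalization_stalk ⟨_, hy⟩
    rw [← IsLocalization.AtPrime.comap_maximalIdeal (X.presheaf.stalk (𝓘.subschemeι y))
      (hW.primeIdealOf ⟨_, hy⟩).asIdeal]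
    refine Ideal.map_le_iff_le_comap.1 ?_
    change I.map (X.presheaf.germ W (𝓘.subschemeι y) hy).hom ≤ _
    rw [← hker y hy]
    exact IsLocalRing.le_maximalIdeal (RingHom.ker_ne_top _)
  haveI hfl : Module.Flat (Γ(X, W) ⧸ I) (G I M₀ r) := by
    refine Module.flat_of_localized_maximal _ fun P _ => ?_
    let p : PrimeSpectrum Γ(X, W) := ⟨P.comap (Ideal.Quotient.mk I), inferInstance⟩
    have hmem : hW.fromSpec p ∈ X.zeroLocus (U := W) (I : Set Γ(X, W)) ∩ W := by
      rw [← hW.fromSpec_image_zeroLocus]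
      refine ⟨p, fun b hb => ?_, rfl⟩
      show Ideal.Quotient.mk I b ∈ P
      rw [Ideal.Quotient.eq_zero_iff_mem.2 hb]
      exact P.zero_mem
    obtain ⟨y, hy⟩ : hW.fromSpec p ∈ Set.range 𝓘.subschemeι := by
      rw [Scheme.IdealSheafData.range_subschemeι]
      exact ((Scheme.IdealSheafData.coe_support_inter 𝓘 U).ge hmem).1
    have hyW : 𝓘.subschemeι y ∈ W := hy ▸ hmem.2
    have hp : hW.primeIdealOf ⟨_, hyW⟩ = p := hW.fromSpec.isOpenEmbedding.injective
      ((hW.fromSpec_primeIdealOf ⟨_, hyW⟩).trans hy)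
    letI := TopCat.Presheaf.algebra_section_stalk X.presheaf (⟨_, hyW⟩ : W)
    letI := Groth.Agent.Lib.StalkLoc.Basic.moduleSections F hyW
    haveI := Groth.Agent.Lib.StalkLoc.Basic.isScalarTower_sections F hyW
    haveI := hW.isLocalization_stalk ⟨_, hyW⟩
    haveI := Groth.Agent.Lib.StalkLoc.Basic.isLocalizedModule_germ (M := F) hW hyW
    haveI : Module.Flat (Localization.AtPrime P) (LocalizedModule P.primeCompl (G I M₀ r)) := by
     refine flat_localized (A := X.presheaf.stalk (𝓘.subschemeι y)) I M₀ (hW.primeIdealOf ⟨_, hyW⟩).asIdeal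
      (Groth.Agent.Lib.StalkLoc.Basic.germₗ F hyW) (hle y hyW) r ?_ P (by rw [hp])
     have h := hnf y r
     rw [hker y hyW] at h
     exact h
    haveI : Module.Flat (Γ(X, W) ⧸ I) (Localization.AtPrime P) := IsLocalization.flat _ P.primeCompl
    exact Module.Flat.trans (Γ(X, W) ⧸ I) (Localization.AtPrime P) _
  haveI : Module.Finite (Γ(X, W) ⧸ I) (G I M₀ r) := inferInstance
  haveI : Module.FinitePresentation (Γ(X, W) ⧸ I) (G I M₀ r) :=
    Module.finitePresentation_of_finite _ _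
  let P : ∀ (y : 𝓘.subscheme) (hy : 𝓘.subschemeι y ∈ W), PrimeSpectrum (Γ(X, W) ⧸ I) := fun y hy =>
    ⟨(hW.primeIdealOf ⟨_, hy⟩).asIdeal.map (Ideal.Quotient.mk I),
      Ideal.map_isPrime_of_surjective Ideal.Quotient.mk_surjective (by rw [Ideal.mk_ker]; exact hle y hy)⟩
  have hP : ∀ y hy, (P y hy).asIdeal.comap (Ideal.Quotient.mk I) = (hW.primeIdealOf ⟨_, hy⟩).asIdeal :=
    fun y hy => by
      show ((hW.primeIdealOf ⟨_, hy⟩).asIdeal.map (Ideal.Quotient.mk I)).comap (Ideal.Quotient.mk I) = _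
      rw [Ideal.comap_map_of_surjective' _ Ideal.Quotient.mk_surjective, Ideal.mk_ker, sup_eq_left]
      exact hle y hy
  have key : ∀ y hy, rank 𝓘 F y r = Module.rankAtStalk (G I M₀ r) (P y hy) := by
    intro y hy
    letI := TopCat.Presheaf.algebra_section_stalk X.presheaf (⟨_, hy⟩ : W)
    letI := Groth.Agent.Lib.StalkLoc.Basic.moduleSections F hy
    haveI := Groth.Agent.Lib.StalkLoc.Basic.isScalarTower_sections F hy
    haveI := hW.isLocalization_stalk ⟨_, hy⟩
    haveI := Groth.Agent.Lib.StalkLoc.Basic.isLocalizedModule_germ (M := F) hW hy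
    have h := finrank_fibre (A := X.presheaf.stalk (𝓘.subschemeι y)) I M₀ (hW.primeIdealOf ⟨_, hy⟩).asIdeal
      (Groth.Agent.Lib.StalkLoc.Basic.germₗ F hy) (hle y hy) r (P y hy) (hP y hy)
    let A := X.presheaf.stalk (𝓘.subschemeι y)
    let M := F.presheaf.stalk (𝓘.subschemeι y)
    suffices ∀ K : Ideal A, K = I.map (X.presheaf.germ W (𝓘.subschemeι y) hy).hom →
        Module.finrank (A ⧸ maximalIdeal A)
          ((↥(K ^ r • (⊤ : Submodule A M)) ⧸ (K • (⊤ : Submodule A ↥(K ^ r • (⊤ : Submodule A M))))) ⧸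
            (maximalIdeal A • (⊤ : Submodule A (↥(K ^ r • (⊤ : Submodule A M)) ⧸
              (K • (⊤ : Submodule A ↥(K ^ r • (⊤ : Submodule A M)))))))) =
          Module.rankAtStalk (G I M₀ r) (P y hy) from this _ (hker y hy)
    intro K hK
    subst hK
    exact h
  have hlc := Module.isLocallyConstant_rankAtStalk (R := Γ(X, W) ⧸ I) (M := G I M₀ r)
  obtain ⟨V, hVo, hV0, hV⟩ := (IsLocallyConstant.iff_exists_open _).1 hlc (P y₀ hy₀)
  obtain ⟨_, ⟨g', rfl⟩, hg0, hgV⟩ :=
    PrimeSpectrum.isTopologicalBasis_basic_opens.exists_subset_of_mem_open hV0 hVo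
  obtain ⟨g, rfl⟩ := Ideal.Quotient.mk_surjective g'
  have hbasic : ∀ y hy, (P y hy ∈ PrimeSpectrum.basicOpen (Ideal.Quotient.mk I g) ↔
      𝓘.subschemeι y ∈ X.basicOpen g) := by
    intro y hy
    letI := TopCat.Presheaf.algebra_section_stalk X.presheaf (⟨_, hy⟩ : W)
    haveI := hW.isLocalization_stalk ⟨_, hy⟩
    rw [PrimeSpectrum.mem_basicOpen, ← Ideal.mem_comap, hP y hy, X.mem_basicOpen g _ hy]
    exact (IsLocalization.AtPrime.isUnit_to_map_iff (X.presheaf.stalk (𝓘.subschemeι y))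
      (hW.primeIdealOf ⟨_, hy⟩).asIdeal g).symm
  refine ⟨𝓘.subschemeι ⁻¹' (X.basicOpen g : Set X), (X.basicOpen g).2.preimage 𝓘.subschemeι.continuous,
    (hbasic y₀ hy₀).1 hg0, fun y hy => ?_⟩
  have hyW : 𝓘.subschemeι y ∈ W := X.basicOpen_le g hy
  rw [key y hyW, key y₀ hy₀]
  exact hV _ (hgV ((hbasic y hyW).2 hy))

end Groth.Agent.H26.Poincare
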