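import Groth.Agent.H26.Triv
import Groth.Agent.Lib.Regular.Quotient
import Mathlib.RingTheory.AdicCompletion.Noetherian
import Mathlib.LinearAlgebra.Matrix.ToLin
import Mathlib.LinearAlgebra.Matrix.NonsingularInverse
import Mathlib.Data.Fin.Tuple.Basic

/-!
# Ideals generated by regular sequences in Noetherian local rings
-/

universe u

open Pointwise RingTheory.Sequence IsLocalRing

namespace Groth.Agent.H26.RegAlg

open Triv

variable {A : Type u} [CommRing A]

theorem regular_of_triv_of_mem [IsNoetherianRing A] [IsLocalRing A] {n : ℕ} (f : Fin n → A)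
    (hf : ∀ i, f i ∈ maximalIdeal A)
    (h : ∀ m : Fin n → A, ∑ i, f i • m i = 0 → IsTriv f m) :
    IsWeaklyRegular A (List.ofFn f) :=
  Triv.regular_of_triv (maximalIdeal A)
    (fun _ _ => IsHausdorff.of_isLocalRing _ _ (maximalIdeal.isMaximal A).ne_top) n f hf h

/-- If `c ⊆ b` and the generators of `b` are regular modulo `c`, then `c = b c`. -/
theorem le_mul_of_regular_quotient {n : ℕ} (g : Fin n → A) (c : Ideal A)
    (hc : c ≤ Ideal.span (Set.range g)) (hreg : IsWeaklyRegular (A ⧸ c) (List.ofFn g)) :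
    c ≤ Ideal.span (Set.range g) * c := by
  intro z hz
  obtain ⟨m, hm⟩ := (mem_span_smul_top_iff g z).mp (by
    rw [smul_eq_mul, Ideal.mul_top]; exact hc hz)
  obtain ⟨a, ha⟩ := triv_of_regular n g hreg (fun i => Ideal.Quotient.mk c (m i)) (by
    have : Ideal.Quotient.mk c (∑ i, g i * m i) = 0 := by
      rw [show ∑ i, g i * m i = z from hm]; exact Ideal.Quotient.eq_zero_iff_mem.mpr hz
    rw [map_sum] at this
    exact this)
  choose b hb using fun i j => Ideal.Quotient.mk_surjective (a i j)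
  let t : Fin n → A := fun i => ∑ j, g j • (b i j - b j i)
  have hmt : ∀ i, m i - t i ∈ c := fun i => by
    rw [← Ideal.Quotient.eq]
    refine (ha i).trans ?_
    simp only [t, map_sum, ← hb, ← map_sub, smul_eq_mul]
    rfl
  have h0 : ∑ i, g i • t i = 0 := IsTriv.sum_eq_zero ⟨b, fun i => rfl⟩
  rw [← hm, ← sub_zero (∑ i, g i • m i), ← h0, ← Finset.sum_sub_distrib]
  refine Submodule.sum_mem _ fun i _ => ?_
  rw [← smul_sub, smul_eq_mul]
  exact Ideal.mul_mem_mul (Ideal.subset_span ⟨i, rfl⟩) (hmt i)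

/-- If `c ⊆ b` and the generators of `b` are regular modulo `c`, then `c = 0`. -/
theorem eq_bot_of_regular_quotient [IsNoetherianRing A] [IsLocalRing A] {n : ℕ} (g : Fin n → A)
    (hg : ∀ i, g i ∈ maximalIdeal A) (c : Ideal A) (hc : c ≤ Ideal.span (Set.range g))
    (hreg : IsWeaklyRegular (A ⧸ c) (List.ofFn g)) : c = ⊥ := by
  refine Submodule.eq_bot_of_le_smul_of_le_jacobson_bot (maximalIdeal A) c
    (IsNoetherian.noetherian c) ((le_mul_of_regular_quotient g c hc hreg).trans ?_)
    (maximalIdeal_le_jacobson _)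
  exact Ideal.mul_mono_left (Ideal.span_le.mpr (Set.range_subset_iff.mpr hg))

theorem coeff_mem [IsLocalRing A] {n : ℕ} {g : Fin n → A} (hreg : IsWeaklyRegular A (List.ofFn g))
    (hg : ∀ i, g i ∈ maximalIdeal A) {c : Fin n → A}
    (h : ∑ i, c i * g i ∈ maximalIdeal A * Ideal.span (Set.range g)) (i : Fin n) :
    c i ∈ maximalIdeal A := by
  obtain ⟨d, hd, hd'⟩ : ∃ d : Fin n → A, (∀ i, d i ∈ maximalIdeal A) ∧
      ∑ i, d i * g i = ∑ i, c i * g i := by
    refine Submodule.mul_induction_on h (fun a ha b hb => ?_) ?_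
    · obtain ⟨e, rfl⟩ := Submodule.mem_span_range_iff_exists_fun A |>.mp hb
      exact ⟨fun i => a * e i, fun i => Ideal.mul_mem_right _ _ ha, by
        rw [Finset.mul_sum]; exact Finset.sum_congr rfl fun i _ => mul_assoc _ _ _⟩
    · rintro _ _ ⟨d, hd, rfl⟩ ⟨e, he, rfl⟩
      exact ⟨d + e, fun i => add_mem (hd i) (he i), by simp [add_mul, Finset.sum_add_distrib]⟩
  have h1 := mem_span_range (triv_of_regular n g hreg (fun i => c i - d i) (by
    have e : ∑ i, g i * (c i - d i) = ∑ i, c i * g i - ∑ i, d i * g i := by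
      rw [← Finset.sum_sub_distrib]; exact Finset.sum_congr rfl fun i _ => by ring
    exact e.trans (sub_eq_zero.mpr hd'.symm))) i
  rw [smul_eq_mul, Ideal.mul_top] at h1
  have := add_mem (Ideal.span_le.mpr (Set.range_subset_iff.mpr hg) h1) (hd i)
  rwa [sub_add_cancel] at this

open Matrix in
/-- Another generating family without unit relations of an ideal generated by a regular sequence is
regular. -/
theorem regular_of_generators [IsNoetherianRing A] [IsLocalRing A] {n N : ℕ} (g : Fin n → A)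
    (hreg : IsWeaklyRegular A (List.ofFn g)) (hg : ∀ i, g i ∈ maximalIdeal A) (S : Fin N → A)
    (hS : Ideal.span (Set.range S) = Ideal.span (Set.range g))
    (hrel : ∀ c : Fin N → A, ∑ i, c i * S i = 0 → ∀ i, c i ∈ maximalIdeal A) :
    IsWeaklyRegular A (List.ofFn S) := by
  obtain ⟨P, hP⟩ : ∃ P : Matrix (Fin N) (Fin n) A, P *ᵥ g = S := by
    have : ∀ i, ∃ c : Fin n → A, ∑ j, c j • g j = S i := fun i =>
      (Submodule.mem_span_range_iff_exists_fun A).mp (hS.le (Ideal.subset_span ⟨i, rfl⟩))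
    choose P hP using this
    exact ⟨Matrix.of P, funext fun i => hP i⟩
  obtain ⟨Q, hQ⟩ : ∃ Q : Matrix (Fin n) (Fin N) A, Q *ᵥ S = g := by
    have : ∀ i, ∃ c : Fin N → A, ∑ j, c j • S j = g i := fun i =>
      (Submodule.mem_span_range_iff_exists_fun A).mp (hS.ge (Ideal.subset_span ⟨i, rfl⟩))
    choose Q hQ using this
    exact ⟨Matrix.of Q, funext fun i => hQ i⟩
  let ρ := residue A
  have h1 : (P * Q).map ρ = 1 := by
    ext i j
    have h : (P * Q - (1 : Matrix (Fin N) (Fin N) A)) *ᵥ S = 0 := by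
      rw [Matrix.sub_mulVec, ← Matrix.mulVec_mulVec, hQ, hP, Matrix.one_mulVec, sub_self]
    have h' : ∑ k, (P * Q - (1 : Matrix (Fin N) (Fin N) A)) i k * S k = 0 := congrFun h i
    have := hrel (fun k => (P * Q - (1 : Matrix (Fin N) (Fin N) A)) i k) h' j
    rw [← residue_eq_zero_iff, Matrix.sub_apply, map_sub, sub_eq_zero] at this
    rw [Matrix.map_apply, this]
    rcases eq_or_ne i j with rfl | hij <;> simp [*]
  have h2 : (Q * P).map ρ = 1 := by
    ext i j
    have h : (Q * P - (1 : Matrix (Fin n) (Fin n) A)) *ᵥ g = 0 := by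
      rw [Matrix.sub_mulVec, ← Matrix.mulVec_mulVec, hP, hQ, Matrix.one_mulVec, sub_self]
    have h0 := congrFun h i
    have := mem_span_range (triv_of_regular n g hreg (fun k => (Q * P - (1 : Matrix (Fin n) (Fin n) A)) i k) (by
      exact (Finset.sum_congr rfl fun k _ => mul_comm _ _).trans h0)) j
    rw [smul_eq_mul, Ideal.mul_top] at this
    have hj := Ideal.span_le.mpr (Set.range_subset_iff.mpr hg) this
    rw [← residue_eq_zero_iff, Matrix.sub_apply, map_sub, sub_eq_zero] at hj
    rw [Matrix.map_apply, hj]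
    rcases eq_or_ne i j with rfl | hij <;> simp [*]
  have hcard : N = n := by
    have a1 : P.map ρ * Q.map ρ = 1 := by rw [← Matrix.map_mul, h1]
    have a2 : Q.map ρ * P.map ρ = 1 := by rw [← Matrix.map_mul, h2]
    have e : (Fin n → ResidueField A) ≃ₗ[ResidueField A] (Fin N → ResidueField A) :=
      LinearEquiv.ofLinearMap (P.map ρ).mulVecLin (Q.map ρ).mulVecLin
        (by rw [← Matrix.mulVecLin_mul, a1, Matrix.mulVecLin_one])
        (by rw [← Matrix.mulVecLin_mul, a2, Matrix.mulVecLin_one])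
    simpa using e.finrank_eq.symm
  subst hcard
  have hdet : IsUnit P.det := by
    have : ρ (Q * P).det = 1 := by rw [RingHom.map_det, RingHom.mapMatrix_apply, h2, Matrix.det_one]
    refine isUnit_of_map_unit ρ _ ?_
    rw [Matrix.det_mul, map_mul] at this
    exact IsUnit.of_mul_eq_one_right _ this
  let R := P⁻¹
  have hPR : P * R = 1 := Matrix.mul_nonsing_inv P hdet
  have hRP : R * P = 1 := Matrix.nonsing_inv_mul P hdet
  have hR : g = R *ᵥ S := by rw [← hP, Matrix.mulVec_mulVec, hRP, Matrix.one_mulVec]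
  have hSmem : ∀ i, S i ∈ maximalIdeal A := fun i =>
    Ideal.span_le.mpr (Set.range_subset_iff.mpr hg) (hS.le (Ideal.subset_span ⟨i, rfl⟩))
  refine regular_of_triv_of_mem S hSmem fun m hm => ?_
  obtain ⟨b, hb⟩ := triv_of_regular N g hreg (Pᵀ *ᵥ m) (by
    have h : m ⬝ᵥ (P *ᵥ g) = 0 := by
      rw [hP, dotProduct, ← hm]
      exact Finset.sum_congr rfl fun i _ => mul_comm _ _
    rw [Matrix.dotProduct_mulVec, ← Matrix.mulVec_transpose] at h
    rw [← h, dotProduct]
    exact Finset.sum_congr rfl fun i _ => mul_comm _ _)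
  let B : Matrix (Fin N) (Fin N) A := Matrix.of b
  have hb' : Pᵀ *ᵥ m = (B - Bᵀ) *ᵥ g := funext fun i => (hb i).trans
    (Finset.sum_congr rfl fun j _ => mul_comm _ _)
  have hm' : m = ((Rᵀ * B * R) - (Rᵀ * B * R)ᵀ) *ᵥ S := by
    have e : Rᵀ * Pᵀ = 1 := by rw [← Matrix.transpose_mul, hPR, Matrix.transpose_one]
    calc m = (Rᵀ * Pᵀ) *ᵥ m := by rw [e, Matrix.one_mulVec]
      _ = Rᵀ *ᵥ ((B - Bᵀ) *ᵥ (R *ᵥ S)) := by rw [← Matrix.mulVec_mulVec, hb', hR]
      _ = _ := by
        rw [Matrix.mulVec_mulVec, Matrix.mulVec_mulVec, Matrix.transpose_mul, Matrix.transpose_mul,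
          Matrix.transpose_transpose, Matrix.mul_sub, Matrix.sub_mul, ← mul_assoc]
  refine ⟨fun i j => (Rᵀ * B * R) i j, fun i => ?_⟩
  refine (congrFun hm' i).trans ?_
  simp only [Matrix.mulVec, dotProduct, Matrix.sub_apply, Matrix.transpose_apply, smul_eq_mul, mul_comm (S _)]

/-- A family without unit relations extends to a regular family of generators. -/
theorem exists_extend [IsNoetherianRing A] [IsLocalRing A] {n r : ℕ} (g : Fin n → A)
    (hreg : IsWeaklyRegular A (List.ofFn g)) (hg : ∀ i, g i ∈ maximalIdeal A) (x : Fin r → A)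
    (T : Ideal A) (hK : Ideal.span (Set.range x) ⊔ T = Ideal.span (Set.range g))
    (hind : ∀ c : Fin r → A, ∑ i, c i * x i ∈ maximalIdeal A * T → ∀ i, c i ∈ maximalIdeal A) :
    ∃ (s : ℕ) (y : Fin s → A), (∀ i, y i ∈ T) ∧
      Ideal.span (Set.range x) ⊔ Ideal.span (Set.range y) = Ideal.span (Set.range g) ∧
      IsWeaklyRegular A (List.ofFn x ++ List.ofFn y) := by
  classical
  have hex : ∃ (s : ℕ) (y : Fin s → A), (∀ i, y i ∈ T) ∧
      Ideal.span (Set.range x) ⊔ Ideal.span (Set.range y) = Ideal.span (Set.range g) := by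
    obtain ⟨s, y, hy⟩ := Submodule.fg_iff_exists_fin_generating_family.mp (IsNoetherian.noetherian T)
    exact ⟨s, y, fun i => hy.le (Submodule.subset_span ⟨i, rfl⟩), by
      rw [show Ideal.span (Set.range y) = T from hy]; exact hK⟩
  obtain ⟨y, hyT, hy⟩ := Nat.find_spec hex
  refine ⟨Nat.find hex, y, hyT, hy, ?_⟩
  have hmin : ∀ s, s < Nat.find hex → ¬ ∃ y : Fin s → A, (∀ i, y i ∈ T) ∧
      Ideal.span (Set.range x) ⊔ Ideal.span (Set.range y) = Ideal.span (Set.range g) :=
    fun s hs => Nat.find_min hex hs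
  revert y hmin
  generalize Nat.find hex = s
  intro y hyT hy hmin
  rw [← List.ofFn_fin_append]
  refine regular_of_generators g hreg hg (Fin.append x y) ?_ ?_
  · rw [← hy, ← Ideal.span_union]
    refine congrArg Ideal.span (Set.ext fun a => ⟨?_, ?_⟩)
    · rintro ⟨i, rfl⟩
      refine Fin.addCases (fun i => ?_) (fun i => ?_) i
      · rw [Fin.append_left]; exact Or.inl ⟨i, rfl⟩
      · rw [Fin.append_right]; exact Or.inr ⟨i, rfl⟩
    · rintro (⟨i, rfl⟩ | ⟨i, rfl⟩)
      · exact ⟨_, Fin.append_left x y i⟩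
      · exact ⟨_, Fin.append_right x y i⟩
  intro c hc
  rw [Fin.sum_univ_add] at hc
  simp only [Fin.append_left, Fin.append_right] at hc
  have hy' : ∀ j, c (Fin.natAdd r j) ∈ maximalIdeal A := by
    intro j
    by_contra hj
    obtain ⟨u, hu⟩ := (notMem_maximalIdeal.mp hj)
    cases s with
    | zero => exact j.elim0
    | succ s =>
      refine hmin s (Nat.lt_succ_self s) ⟨y ∘ j.succAbove, fun i => hyT _, ?_⟩
      refine le_antisymm ?_ ?_
      · rw [← hy]
        exact sup_le_sup le_rfl (Ideal.span_mono (Set.range_comp_subset_range _ _))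
      · rw [← hy, sup_le_iff, Ideal.span_le (I := _ ⊔ _) (s := Set.range y)]
        refine ⟨le_sup_left, Set.range_subset_iff.mpr fun k => ?_⟩
        rcases Fin.eq_self_or_eq_succAbove j k with rfl | ⟨k, rfl⟩
        · have hk : c (Fin.natAdd r k) * y k ∈
              Ideal.span (Set.range x) ⊔ Ideal.span (Set.range (y ∘ k.succAbove)) := by
            rw [Fin.sum_univ_succAbove _ k, ← add_assoc, add_comm (∑ i, _) (c _ * y k),
              add_assoc, add_eq_zero_iff_eq_neg] at hc
            rw [hc]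
            refine neg_mem (Submodule.add_mem_sup ?_ ?_)
            · exact sum_mem fun i _ => Ideal.mul_mem_left _ _ (Ideal.subset_span ⟨i, rfl⟩)
            · exact sum_mem fun i _ => Ideal.mul_mem_left _ _ (Ideal.subset_span ⟨i, rfl⟩)
          rw [← hu] at hk
          exact (Ideal.unit_mul_mem_iff_mem _ u.isUnit).mp hk
        · exact Ideal.mem_sup_right (Ideal.subset_span ⟨k, rfl⟩)
  refine fun i => Fin.addCases (hind (fun i => c (Fin.castAdd s i)) ?_) hy' i
  rw [eq_neg_of_add_eq_zero_left hc]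
  exact neg_mem (sum_mem fun j _ => Ideal.mul_mem_mul (hy' j) (hyT j))

theorem isWeaklyRegular_quotient_iff (I : Ideal A) (rs : List A) :
    IsWeaklyRegular (A ⧸ I) (rs.map (Ideal.Quotient.mk I)) ↔ IsWeaklyRegular (A ⧸ I) rs :=
  isWeaklyRegular_map_algebraMap_iff (A ⧸ I) (A ⧸ I) rs

theorem isWeaklyRegular_append_iff_quotient (rs₁ rs₂ : List A) :
    IsWeaklyRegular A (rs₁ ++ rs₂) ↔
      IsWeaklyRegular A rs₁ ∧ IsWeaklyRegular (A ⧸ Ideal.ofList rs₁) rs₂ := by
  rw [isWeaklyRegular_append_iff, (Submodule.quotEquivOfEq _ (Ideal.ofList rs₁) (by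
    rw [smul_eq_mul, Ideal.mul_top])).isWeaklyRegular_congr]

end Groth.Agent.H26.RegAlg
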