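import Groth.Prelude.Def_CInt
import Groth.Agent.H26.RegAlg
import Mathlib.RingTheory.KrullDimension.Regular

/-!
# Regular ideals in Noetherian local rings
-/

universe u

open Pointwise RingTheory.Sequence IsLocalRing

namespace Groth.Agent.H26.RegIdeal

open RegAlg Triv

variable {A : Type u} [CommRing A]

theorem ofList_eq_span (rs : List A) : Ideal.ofList rs = Ideal.span (Set.range rs.get) := by
  rw [← ofList_ofFn, List.ofFn_get]

theorem get_mem {rs : List A} {I : Ideal A} (h : Ideal.ofList rs ≤ I) (i : Fin rs.length) :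
    rs.get i ∈ I :=
  h (Ideal.subset_span (List.get_mem rs i))

variable [IsNoetherianRing A] [IsLocalRing A]

theorem isRegularIdeal_of_mem {rs : List A} (hmem : ∀ r ∈ rs, r ∈ maximalIdeal A)
    (h : IsWeaklyRegular A rs) : CInt.IsRegularIdeal (Ideal.ofList rs) :=
  ⟨rs, RingTheory.Sequence.IsRegular.of_isWeaklyRegular_of_mem_maximalIdeal A hmem h, rfl⟩

theorem exists_weak {I : Ideal A} (hI : I ≤ maximalIdeal A) (h : CInt.IsRegularIdeal I) :
    ∃ rs : List A, IsWeaklyRegular A rs ∧ Ideal.ofList rs = I ∧ ∀ r ∈ rs, r ∈ maximalIdeal A := by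
  obtain ⟨rs, hrs, rfl⟩ := h
  exact ⟨rs, hrs.toIsWeaklyRegular, rfl, fun r hr => hI (Ideal.subset_span hr)⟩

/-- Lift of a regular generating list of `K / J`. -/
theorem exists_lift {J K : Ideal A} (hJK : J ≤ K) (hK : K ≤ maximalIdeal A)
    (h : CInt.IsRegularIdeal (K.map (Ideal.Quotient.mk J))) :
    ∃ hs : List A, IsWeaklyRegular (A ⧸ J) hs ∧ Ideal.ofList hs ⊔ J = K ∧
      ∀ r ∈ hs, r ∈ maximalIdeal A := by
  obtain ⟨rs, hrs, hrs'⟩ := h
  obtain ⟨hs, rfl⟩ := List.map_surjective_iff.mpr Ideal.Quotient.mk_surjective rs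
  rw [← Ideal.map_ofList] at hrs'
  have e := congrArg (Ideal.comap (Ideal.Quotient.mk J)) hrs'
  rw [Ideal.comap_map_of_surjective _ Ideal.Quotient.mk_surjective,
    Ideal.comap_map_of_surjective _ Ideal.Quotient.mk_surjective] at e
  simp only [← RingHom.ker_eq_comap_bot, Ideal.mk_ker, sup_eq_left.mpr hJK] at e
  exact ⟨hs, (isWeaklyRegular_quotient_iff J hs).mp hrs.toIsWeaklyRegular, e,
    fun r hr => hK (e.le (Ideal.mem_sup_left (Ideal.subset_span hr)))⟩

theorem isRegularIdeal_of_regular_quotient_ideal {J K : Ideal A} (hJK : J ≤ K)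
    (hK : K ≤ maximalIdeal A) (hJ : CInt.IsRegularIdeal J)
    (hKJ : CInt.IsRegularIdeal (K.map (Ideal.Quotient.mk J))) : CInt.IsRegularIdeal K := by
  obtain ⟨rs, hrs, rfl, hrm⟩ := exists_weak (hJK.trans hK) hJ
  obtain ⟨hs, hhs, e, hhm⟩ := exists_lift hJK hK hKJ
  rw [← e, sup_comm, ← Ideal.ofList_append]
  refine isRegularIdeal_of_mem (fun r hr => (List.mem_append.mp hr).elim (hrm r) (hhm r)) ?_
  exact (isWeaklyRegular_append_iff_quotient rs hs).mpr ⟨hrs, hhs⟩

theorem sum_coeff_mem {J K : Ideal A} (hJK : J ≤ K) {r : ℕ} (x : Fin r → A)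
    (hx : IsWeaklyRegular (A ⧸ J) (List.ofFn x)) (hxK : ∀ i, x i ∈ K) (c : Fin r → A)
    (hc : ∑ i, c i * x i ∈ J) (i : Fin r) : c i ∈ K := by
  have h0 : ∑ i, x i • Ideal.Quotient.mk J (c i) = 0 := by
    have h := Ideal.Quotient.eq_zero_iff_mem.mpr hc
    rw [map_sum] at h
    rw [← h]
    refine Finset.sum_congr rfl fun i _ => ?_
    rw [mul_comm (c i) (x i)]
    rfl
  obtain ⟨m, hm⟩ := (mem_span_smul_top_iff x _).mp (mem_span_range (triv_of_regular r x hx _ h0) i)
  choose m' hm' using fun j => Ideal.Quotient.mk_surjective (m j)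
  have h2 : Ideal.Quotient.mk J (c i) = Ideal.Quotient.mk J (∑ j, x j * m' j) := by
    rw [map_sum, ← hm]
    refine Finset.sum_congr rfl fun j _ => ?_
    rw [← hm' j]
    rfl
  have h3 : c i - ∑ j, x j * m' j ∈ J := Ideal.Quotient.eq.mp h2
  have := add_mem (hJK h3) (sum_mem (t := Finset.univ) fun j _ => K.mul_mem_right (m' j) (hxK j))
  rwa [sub_add_cancel] at this

theorem eq_of_le_of_regular {J : Ideal A} (hs ys : List A)
    (hmem : ∀ r ∈ hs ++ ys, r ∈ maximalIdeal A) (hreg : IsWeaklyRegular A (hs ++ ys))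
    (hhs : IsWeaklyRegular (A ⧸ J) hs) (hle : Ideal.ofList ys ≤ J)
    (hJle : J ≤ Ideal.ofList (hs ++ ys)) (hJm : J ≤ maximalIdeal A) : Ideal.ofList ys = J := by
  have hperm := IsLocalRing.isWeaklyRegular_of_perm_of_subset_maximalIdeal hreg
    List.perm_append_comm hmem
  obtain ⟨-, hx⟩ := (isWeaklyRegular_append_iff_quotient ys hs).mp hperm
  set J' := Ideal.ofList ys with hJ'
  refine le_antisymm hle ?_
  have : Nontrivial (A ⧸ J') := Ideal.Quotient.nontrivial_iff.mpr fun h =>
    (maximalIdeal.isMaximal A).ne_top (top_le_iff.mp (h ▸ (hle.trans hJm)))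
  have := IsLocalRing.of_surjective' (Ideal.Quotient.mk J') Ideal.Quotient.mk_surjective
  let g : Fin hs.length → A ⧸ J' := fun i => Ideal.Quotient.mk J' (hs.get i)
  have hgl : List.ofFn g = hs.map (Ideal.Quotient.mk J') := by
    conv_rhs => rw [← List.ofFn_get hs]
    rw [List.map_ofFn]
    rfl
  let c : Ideal (A ⧸ J') := J.map (Ideal.Quotient.mk J')
  have hc : c ≤ Ideal.span (Set.range g) := by
    rw [← ofList_ofFn, hgl, ← Ideal.map_ofList]
    refine Ideal.map_le_of_le_comap fun z hz => ?_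
    rw [Ideal.mem_comap, Ideal.mem_quotient_iff_mem_sup, hJ', ← Ideal.ofList_append]
    exact hJle hz
  have hgm : ∀ i, g i ∈ maximalIdeal (A ⧸ J') := fun i => by
    rw [Lib.Regular.Quotient.maximalIdeal_quotient]
    exact Ideal.mem_map_of_mem _ (hmem _ (List.mem_append_left _ (List.get_mem hs i)))
  let e : ((A ⧸ J') ⧸ c) ≃ₗ[A] A ⧸ J := (DoubleQuot.quotQuotEquivQuotOfLEₐ A hle).toLinearEquiv
  have hreg' : IsWeaklyRegular ((A ⧸ J') ⧸ c) (List.ofFn g) := by
    rw [hgl]
    exact (isWeaklyRegular_map_algebraMap_iff (A ⧸ J') ((A ⧸ J') ⧸ c) hs).mpr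
      ((e.isWeaklyRegular_congr hs).mpr hhs)
  have hbot : c = ⊥ := eq_bot_of_regular_quotient g hgm c hc hreg'
  intro z hz
  exact Ideal.Quotient.eq_zero_iff_mem.mp (hbot.le (Ideal.mem_map_of_mem (Ideal.Quotient.mk J') hz))

/-- The complement of a regular generating list of `K / J` in a regular ideal `K`. -/
theorem exists_complement {J K : Ideal A} (hJK : J ≤ K) (hK : K ≤ maximalIdeal A)
    (hKreg : CInt.IsRegularIdeal K) (hKJ : CInt.IsRegularIdeal (K.map (Ideal.Quotient.mk J))) :
    ∃ ys hs : List A, J = Ideal.ofList ys ∧ Ideal.ofList (hs ++ ys) = K ∧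
      (∀ r ∈ hs ++ ys, r ∈ maximalIdeal A) ∧ IsWeaklyRegular A (hs ++ ys) := by
  obtain ⟨gs, hgs, rfl, hgm⟩ := exists_weak hK hKreg
  obtain ⟨hs, hhs, e, hhm⟩ := exists_lift hJK hK hKJ
  have hspan : Ideal.span (Set.range hs.get) ⊔ J = Ideal.span (Set.range gs.get) := by
    rw [← ofList_eq_span, ← ofList_eq_span, e]
  have hgs' : IsWeaklyRegular A (List.ofFn gs.get) := by rw [List.ofFn_get]; exact hgs
  have hgm' : ∀ i, gs.get i ∈ maximalIdeal A := fun i => hgm _ (List.get_mem gs i)
  have hhs' : IsWeaklyRegular (A ⧸ J) (List.ofFn hs.get) := by rw [List.ofFn_get]; exact hhs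
  have hle : Ideal.ofList hs ≤ Ideal.ofList gs := e ▸ le_sup_left
  have hhsK : ∀ j, hs.get j ∈ Ideal.ofList gs := fun j => get_mem hle j
  have hind : ∀ c : Fin hs.length → A, ∑ i, c i * hs.get i ∈ maximalIdeal A * J →
      ∀ i, c i ∈ maximalIdeal A := fun c hc i => by
    have h1 : ∑ i, c i * hs.get i ∈ J := (Ideal.mul_le_right : maximalIdeal A * J ≤ J) hc
    exact hK (sum_coeff_mem (K := Ideal.ofList gs) hJK hs.get hhs' hhsK c h1 i)
  obtain ⟨s, y, hyJ, hy, hreg⟩ := exists_extend gs.get hgs' hgm' hs.get J hspan hind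
  rw [List.ofFn_get] at hreg
  have hmem : ∀ r ∈ hs ++ List.ofFn y, r ∈ maximalIdeal A := fun r hr => by
    rcases List.mem_append.mp hr with h | h
    · exact hhm r h
    · obtain ⟨i, rfl⟩ := List.mem_ofFn.mp h
      exact hK (hJK (hyJ i))
  have hK' : J ≤ maximalIdeal A := hJK.trans hK
  refine ⟨List.ofFn y, hs, ?_, by rw [Ideal.ofList_append, ofList_ofFn, ofList_eq_span hs, hy,
    ← ofList_eq_span], hmem, hreg⟩
  exact (eq_of_le_of_regular hs (List.ofFn y) hmem hreg hhs
    (by rw [ofList_ofFn, Ideal.span_le]; exact Set.range_subset_iff.mpr hyJ) (by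
      rw [Ideal.ofList_append, ofList_ofFn, ofList_eq_span hs, hy, ← ofList_eq_span]
      exact hJK) hK').symm

theorem isRegularIdeal_of_regular_and_regular_quotient {J K : Ideal A} (hJK : J ≤ K)
    (hK : K ≤ maximalIdeal A) (hKreg : CInt.IsRegularIdeal K)
    (hKJ : CInt.IsRegularIdeal (K.map (Ideal.Quotient.mk J))) : CInt.IsRegularIdeal J := by
  obtain ⟨ys, hs, rfl, -, hmem, hreg⟩ := exists_complement hJK hK hKreg hKJ
  have hperm := IsLocalRing.isWeaklyRegular_of_perm_of_subset_maximalIdeal hreg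
    List.perm_append_comm hmem
  exact isRegularIdeal_of_mem (fun r hr => hmem r (List.mem_append_right _ hr))
    ((isWeaklyRegular_append_iff A ys hs).mp hperm).1

/-- The maximal ideal of a regular local ring is a regular ideal. -/
theorem isRegularIdeal_maximalIdeal (R : Type u) [CommRing R] [IsRegularLocalRing R] :
    CInt.IsRegularIdeal (maximalIdeal R) := by
  obtain ⟨S, hS, hcard⟩ : ∃ S : Finset R,
      Ideal.span (S : Set R) = maximalIdeal R ∧ S.card = (maximalIdeal R).spanFinrank := by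
    have hfg : (maximalIdeal R).FG := IsNoetherian.noetherian _
    refine ⟨(Submodule.FG.finite_generators hfg).toFinset, ?_, ?_⟩
    · rw [Set.Finite.coe_toFinset]; exact Submodule.span_generators _
    · rw [← Submodule.FG.generators_ncard hfg, ← Set.ncard_eq_toFinset_card _ _]
  have hl : Ideal.ofList S.toList = maximalIdeal R := by
    rw [← hS]; exact congrArg Ideal.span (Set.ext fun a => Finset.mem_toList)
  exact ⟨S.toList, Lib.Regular.Quotient.isRegular_of_span_eq_maximalIdeal _ hl
    (by rw [Finset.length_toList, hcard]), hl⟩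

theorem map_maximalIdeal (J : Ideal A) [IsLocalRing (A ⧸ J)] :
    (maximalIdeal A).map (Ideal.Quotient.mk J) = maximalIdeal (A ⧸ J) :=
  (Lib.Regular.Quotient.maximalIdeal_quotient J).symm

theorem le_maximalIdeal_of_local (J : Ideal A) [IsLocalRing (A ⧸ J)] : J ≤ maximalIdeal A :=
  le_maximalIdeal fun h => by
    have : Subsingleton (A ⧸ J) := Ideal.Quotient.subsingleton_iff.mpr h
    exact not_subsingleton (A ⧸ J) this

theorem isRegularLocalRing_of_isRegularIdeal (J : Ideal A) [IsRegularLocalRing (A ⧸ J)]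
    (h : CInt.IsRegularIdeal J) : IsRegularLocalRing A := by
  have hm := isRegularIdeal_of_regular_quotient_ideal (le_maximalIdeal_of_local J) le_rfl h
    (by rw [map_maximalIdeal]; exact isRegularIdeal_maximalIdeal _)
  obtain ⟨rs, hrs, e⟩ := hm
  refine IsRegularLocalRing.of_spanFinrank_maximalIdeal_le A ?_
  have hd := ringKrullDim_add_length_eq_ringKrullDim_of_isRegular rs hrs
  rw [e] at hd
  have : IsArtinianRing (A ⧸ maximalIdeal A) := by
    let := Ideal.Quotient.field (maximalIdeal A)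
    infer_instance
  rw [ringKrullDim_eq_zero_of_isField
    (Ideal.Quotient.field (maximalIdeal A)).toIsField, zero_add] at hd
  rw [← hd, ← e]
  norm_cast
  classical
  refine (Submodule.spanFinrank_span_le_ncard_of_finite ?_).trans ?_
  · exact List.finite_toSet rs
  · rw [show {r : A | r ∈ rs} = (rs.toFinset : Set A) from (List.coe_toFinset rs).symm,
      Set.ncard_coe_finset]
    exact List.toFinset_card_le rs

theorem isRegularLocalRing_iff (J : Ideal A) [IsRegularLocalRing (A ⧸ J)] :
    IsRegularLocalRing A ↔ CInt.IsRegularIdeal J := by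
  refine ⟨fun h => ?_, isRegularLocalRing_of_isRegularIdeal J⟩
  exact isRegularIdeal_of_regular_and_regular_quotient (le_maximalIdeal_of_local J) le_rfl
    (isRegularIdeal_maximalIdeal A) (by rw [map_maximalIdeal]; exact isRegularIdeal_maximalIdeal _)

theorem isRegularIdeal_quotient_of_regular {A : Type u} [CommRing A] [IsRegularLocalRing A] {J K : Ideal A} (hJK : J ≤ K)
    (hK : K ≤ maximalIdeal A) [IsRegularLocalRing (A ⧸ J)] (hKreg : CInt.IsRegularIdeal K) :
    CInt.IsRegularIdeal (K.map (Ideal.Quotient.mk J)) := by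
  obtain ⟨ys, ts, rfl, hm, hmem, hreg⟩ := exists_complement (le_maximalIdeal_of_local J) le_rfl
    (isRegularIdeal_maximalIdeal A) (by rw [map_maximalIdeal]; exact isRegularIdeal_maximalIdeal _)
  obtain ⟨gs, hgs, rfl, hgm⟩ := exists_weak hK hKreg
  obtain ⟨s, z, hzK, hz, hreg'⟩ := exists_extend gs.get (by rwa [List.ofFn_get])
    (fun i => hgm _ (List.get_mem gs i)) ys.get (Ideal.ofList gs)
    (by rw [← ofList_eq_span, ← ofList_eq_span, sup_eq_right.mpr hJK]) fun c hc i => by
      have hreg2 := IsLocalRing.isWeaklyRegular_of_perm_of_subset_maximalIdeal hreg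
        List.perm_append_comm hmem
      have hc2 : ∑ j, Fin.append c (fun _ : Fin ts.length => (0 : A)) j *
          Fin.append ys.get ts.get j ∈ maximalIdeal A *
            Ideal.span (Set.range (Fin.append ys.get ts.get)) := by
        rw [Fin.sum_univ_add]
        simp only [Fin.append_left, Fin.append_right, zero_mul, Finset.sum_const_zero, add_zero]
        refine Ideal.mul_mono_right ?_ hc
        rw [← ofList_ofFn, List.ofFn_fin_append, List.ofFn_get, List.ofFn_get, Ideal.ofList_append,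
          sup_comm, ← Ideal.ofList_append, hm]
        exact hK
      have := coeff_mem (g := Fin.append ys.get ts.get)
        (by rwa [List.ofFn_fin_append, List.ofFn_get, List.ofFn_get]) (fun j => by
          refine hmem _ ?_
          refine Fin.addCases (fun j => ?_) (fun j => ?_) j
          · rw [Fin.append_left]; exact List.mem_append_right _ (List.get_mem _ _)
          · rw [Fin.append_right]; exact List.mem_append_left _ (List.get_mem _ _))
        hc2 (Fin.castAdd ts.length i)
      rwa [Fin.append_left] at this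
  rw [List.ofFn_get] at hreg'
  obtain ⟨-, hz'⟩ := (isWeaklyRegular_append_iff_quotient ys (List.ofFn z)).mp hreg'
  refine ⟨(List.ofFn z).map (Ideal.Quotient.mk (Ideal.ofList ys)), ?_, ?_⟩
  · have : Nontrivial (A ⧸ Ideal.ofList ys) := inferInstance
    refine RingTheory.Sequence.IsRegular.of_isWeaklyRegular_of_mem_maximalIdeal _ (fun r hr => ?_)
      ((isWeaklyRegular_quotient_iff _ _).mpr hz')
    obtain ⟨a, ha, rfl⟩ := List.mem_map.mp hr
    obtain ⟨j, rfl⟩ := List.mem_ofFn.mp ha
    rw [Lib.Regular.Quotient.maximalIdeal_quotient]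
    exact Ideal.mem_map_of_mem _ (hK (hzK j))
  · rw [← Ideal.map_ofList, ofList_ofFn]
    have e : Ideal.ofList gs = Ideal.ofList ys ⊔ Ideal.span (Set.range z) := by
      rw [ofList_eq_span ys, hz, ← ofList_eq_span]
    rw [e, Ideal.map_sup, Ideal.map_quotient_self, bot_sup_eq]

end Groth.Agent.H26.RegIdeal
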