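import Groth.Agent.Lib.Flat55.RegularImm
import Groth.Prelude.Def_Mor2
import Mathlib.RingTheory.Regular.Flat

/-!
# Composition of regular closed immersions
-/

universe u

open CategoryTheory AlgebraicGeometry RingTheory.Sequence

namespace Groth.Agent.H26.RegImmAppend

/-- Regular sequences concatenate along a surjection. -/
theorem weaklyRegular_append {A B : Type u} [CommRing A] [CommRing B] (φ : A →+* B)
    (hφ : Function.Surjective φ) (ss rs : List A) (hker : RingHom.ker φ = Ideal.ofList ss)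
    (hs : IsWeaklyRegular A ss) (hr : IsWeaklyRegular B (rs.map φ)) :
    IsWeaklyRegular A (ss ++ rs) := by
  rw [isWeaklyRegular_append_iff]
  refine ⟨hs, ?_⟩
  have heq : Ideal.ofList ss • (⊤ : Submodule A A) = RingHom.ker φ := by
    rw [smul_eq_mul, Ideal.mul_top, hker]
  let e : (A ⧸ Ideal.ofList ss • (⊤ : Submodule A A)) ≃+ B :=
    (Submodule.quotEquivOfEq _ (RingHom.ker φ) heq).toAddEquiv.trans
      (RingHom.quotientKerEquivOfSurjective hφ).toAddEquiv
  refine (AddEquiv.isWeaklyRegular_congr (e := e) (as := rs) (bs := rs.map φ)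
    (List.forall₂_map_right_iff.mpr (List.forall₂_same.mpr fun a _ x => ?_))).mpr hr
  obtain ⟨x, rfl⟩ := Submodule.Quotient.mk_surjective _ x
  exact map_mul φ a x

theorem ofList_append_eq {A B : Type u} [CommRing A] [CommRing B] (φ : A →+* B)
    (hφ : Function.Surjective φ) (ss rs : List A) (hker : RingHom.ker φ = Ideal.ofList ss) :
    Ideal.ofList (ss ++ rs) = (Ideal.ofList (rs.map φ)).comap φ := by
  rw [Ideal.ofList_append, ← Ideal.map_ofList, Ideal.comap_map_of_surjective _ hφ, ← hker,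
    sup_comm, RingHom.ker_eq_comap_bot]

/-- Regular generators localise to a basic open. -/
theorem exists_basicOpen {X Y : Scheme.{u}} (f : Y ⟶ X) [IsClosedImmersion f] (U : X.affineOpens)
    (a : Γ(X, U.1)) (rs : List Γ(X, U.1)) (hrs : IsWeaklyRegular Γ(X, U.1) rs)
    (hker : f.ker.ideal U = Ideal.ofList rs) :
    ∃ rs' : List Γ(X, X.basicOpen a), IsWeaklyRegular Γ(X, X.basicOpen a) rs' ∧
      f.ker.ideal (X.affineBasicOpen a) = Ideal.ofList rs' := by
  haveI := U.2.isLocalization_basicOpen a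
  haveI : Module.Flat Γ(X, U.1) Γ(X, X.basicOpen a) := IsLocalization.flat _ (Submonoid.powers a)
  refine ⟨rs.map (algebraMap Γ(X, U.1) Γ(X, X.basicOpen a)), hrs.of_flat, ?_⟩
  rw [← f.ker.map_ideal_basicOpen U a, hker, Ideal.map_ofList]
  rfl

theorem comp {Z Y X : Scheme.{u}} (i : Z ⟶ Y) (j : Y ⟶ X)
    (hi : Mor2.IsRegularClosedImmersion i) (hj : Mor2.IsRegularClosedImmersion j) :
    Mor2.IsRegularClosedImmersion (i ≫ j) := by
  haveI := hi.1
  haveI := hj.1
  refine Groth.Agent.Lib.Flat55.RegularImm.isRegularClosedImmersion_of _ fun z => ?_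
  obtain ⟨V, hV, hzV, rs, hrs, hrk⟩ := hi.2 z
  obtain ⟨U, hU, hzU, ss, hss, hsk⟩ := hj.2 (i z)
  obtain ⟨b, c, hbc, hzb⟩ := exists_basicOpen_le_affine_inter (hU.preimage j) hV (i z) ⟨hzU, hzV⟩
  obtain ⟨a, rfl⟩ := Scheme.Hom.app_surjective j U hU b
  have hzD : j (i z) ∈ X.basicOpen a := by
    have : i z ∈ j ⁻¹ᵁ X.basicOpen a := by rw [Scheme.preimage_basicOpen]; exact hzb
    exact this
  obtain ⟨ss', hss', hsk'⟩ := exists_basicOpen j ⟨U, hU⟩ a ss hss.toIsWeaklyRegular hsk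
  obtain ⟨rs', hrs', hrk'⟩ := exists_basicOpen i ⟨V, hV⟩ c rs hrs.toIsWeaklyRegular hrk
  have hD : IsAffineOpen (X.basicOpen a) := hU.basicOpen a
  have key : ∀ (W : Y.Opens) (hW : IsAffineOpen W), W = j ⁻¹ᵁ X.basicOpen a →
      ∀ rs' : List Γ(Y, W), IsWeaklyRegular Γ(Y, W) rs' → i.ker.ideal ⟨W, hW⟩ = Ideal.ofList rs' →
      ∃ rs'' : List Γ(Y, j ⁻¹ᵁ X.basicOpen a), IsWeaklyRegular Γ(Y, j ⁻¹ᵁ X.basicOpen a) rs'' ∧
        i.ker.ideal ⟨j ⁻¹ᵁ X.basicOpen a, hD.preimage j⟩ = Ideal.ofList rs'' := by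
    rintro W hW rfl rs' h1 h2; exact ⟨rs', h1, h2⟩
  obtain ⟨rs'', hr, hrk''⟩ := key _ (hV.basicOpen c)
    (by rw [Scheme.preimage_basicOpen]; exact hbc.symm) rs' hrs' hrk'
  have hsurj : Function.Surjective (j.app (X.basicOpen a)).hom := Scheme.Hom.app_surjective j _ hD
  choose g hg using hsurj
  have hmap : (rs''.map g).map (j.app (X.basicOpen a)).hom = rs'' := by
    rw [List.map_map]
    exact (List.map_congr_left fun x _ => hg x).trans (List.map_id _)
  have hsurj : Function.Surjective (j.app (X.basicOpen a)).hom := fun x => ⟨g x, hg x⟩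
  have hker : RingHom.ker (j.app (X.basicOpen a)).hom = Ideal.ofList ss' :=
    (Scheme.Hom.ker_apply j ⟨_, hD⟩).symm.trans hsk'
  refine ⟨X.basicOpen a, hD, hzD, ss' ++ rs''.map g,
    weaklyRegular_append _ hsurj ss' _ hker hss' (by rw [hmap]; exact hr), ?_⟩
  rw [ofList_append_eq _ hsurj ss' _ hker, hmap, ← hrk'', Scheme.Hom.ker_apply, Scheme.Hom.ker_apply,
    RingHom.comap_ker]
  rfl

end Groth.Agent.H26.RegImmAppend
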