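import Groth.Agent.H26.RelQuasi
import Mathlib.RingTheory.Smooth.Fiber
import Mathlib.RingTheory.Smooth.Flat

/-!
# Flatness of quotients by sequences quasi-regular modulo a locally nilpotent ideal
-/

universe u

open IsLocalRing RingTheory.Sequence CAlgX TensorProduct

set_option maxHeartbeats 1000000

namespace Groth.Agent.H26.RelQuasiNil

variable {A B : Type u} [CommRing A] [CommRing B] [Algebra A B] [Module.Flat A B]
  [Algebra.FinitePresentation A B]

theorem isNoetherianRing_fibre (p : Ideal A) [p.IsPrime] (P : Ideal B) [P.IsPrime] [P.LiesOver p]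
    (B' : Type u) [CommRing B'] [Algebra B B'] [IsLocalization.AtPrime B' P] :
    IsNoetherianRing (B' ⧸ (p.map (algebraMap A B)).map (algebraMap B B')) := by
  haveI : IsNoetherianRing (p.Fiber B) := Algebra.FiniteType.isNoetherianRing p.ResidueField _
  let qF := PrimeSpectrum.preimageEquivFiber A B ⟨p, inferInstance⟩
    ⟨⟨P, inferInstance⟩, PrimeSpectrum.ext (Ideal.over_def P p).symm⟩
  have hcomap : qF.asIdeal.comap
      (Algebra.TensorProduct.includeRight (R := A) (A := p.ResidueField)) = P :=
    congrArg (fun x => (Subtype.val x).asIdeal)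
      ((PrimeSpectrum.preimageEquivFiber A B ⟨p, inferInstance⟩).symm_apply_apply
        ⟨⟨P, inferInstance⟩, PrimeSpectrum.ext (Ideal.over_def P p).symm⟩)
  haveI : IsNoetherianRing (Localization.AtPrime qF.asIdeal) :=
    IsLocalization.isNoetherianRing qF.asIdeal.primeCompl _ inferInstance
  have key := isNoetherianRing_of_ringEquiv (Localization.AtPrime qF.asIdeal)
    (Ideal.Fiber.algEquivAux₂ p qF.asIdeal).toRingEquiv
  have e : ∀ (P' : Ideal B) [P'.IsPrime], P' = P →
      IsNoetherianRing (Localization.AtPrime P' ⧸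
        (p.map (algebraMap A B)).map (algebraMap B (Localization.AtPrime P'))) →
      IsNoetherianRing (B' ⧸ (p.map (algebraMap A B)).map (algebraMap B B')) := by
    intro P' _ h hN
    subst h
    let e := IsLocalization.algEquiv P'.primeCompl (Localization.AtPrime P') B'
    refine @isNoetherianRing_of_ringEquiv _ _ _ _ (Ideal.quotientEquiv _ _ e.toRingEquiv ?_) hN
    conv_lhs => rw [← e.toAlgHom.comp_algebraMap, ← Ideal.map_map]
    rfl
  exact e _ hcomap key

theorem flat (I : Ideal A) (hI : ∀ x ∈ I, IsNilpotent x) {r : ℕ} (f : Fin r → B)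
    (hq : IsQuasiRegular fun i => Ideal.Quotient.mk (I.map (algebraMap A B)) (f i))
    (hflat : Module.Flat (A ⧸ I) ((B ⧸ I.map (algebraMap A B)) ⧸
      Ideal.span (Set.range fun i => Ideal.Quotient.mk (I.map (algebraMap A B)) (f i)))) :
    Module.Flat A (B ⧸ Ideal.span (Set.range f)) := by
  set K := Ideal.span (Set.range f)
  refine Module.flat_of_isLocalized_maximal (R := A) (B ⧸ K) (B ⧸ K)
    (fun Q _ ↦ Localization.AtPrime Q)
    (fun Q _ ↦ Algebra.linearMap (B ⧸ K) (Localization.AtPrime Q)) fun Q hQ ↦ ?_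
  let P := Q.comap (Ideal.Quotient.mk K)
  haveI : P.IsPrime := Ideal.IsPrime.comap _
  let p := P.comap (algebraMap A B)
  haveI : p.IsPrime := Ideal.IsPrime.comap _
  haveI : P.LiesOver p := ⟨rfl⟩
  letI : Algebra (Localization.AtPrime p) (Localization.AtPrime P) :=
    Localization.AtPrime.algebraOfLiesOver p P
  haveI : IsLocalHom (algebraMap (Localization.AtPrime p) (Localization.AtPrime P)) := by
    rw [Localization.AtPrime.IsLiesOverAlgebra.algebraMap_eq]
    exact Localization.isLocalHom_localRingHom _ _ _ _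
  haveI : Module.Flat (Localization.AtPrime p) (Localization.AtPrime P) := by
    rw [← RingHom.flat_algebraMap_iff, Localization.AtPrime.IsLiesOverAlgebra.algebraMap_eq]
    exact RingHom.Flat.localRingHom (RingHom.flat_algebraMap_iff.mpr inferInstance) _ _ _
  let Ap := Localization.AtPrime p
  let BP := Localization.AtPrime P
  have hKP : K ≤ P := fun x hx => by
    show Ideal.Quotient.mk K x ∈ Q
    rw [Ideal.Quotient.eq_zero_iff_mem.mpr hx]
    exact zero_mem _
  have hIp : I ≤ p := fun x hx => nilradical_le_prime p (hI x hx)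
  -- quasi-regular modulo `p`
  let B₀ := B ⧸ I.map (algebraMap A B)
  have h1 := RelQuasi.quasi_quotient (A := A ⧸ I) (C := B₀) (p.map (Ideal.Quotient.mk I)) _ hflat hq
  let L := (p.map (Ideal.Quotient.mk I)).map (algebraMap (A ⧸ I) B₀)
  have hL : L = (p.map (algebraMap A B)).map (Ideal.Quotient.mk (I.map (algebraMap A B))) := by
    show (p.map (Ideal.Quotient.mk I)).map _ = _
    rw [Ideal.map_map, Ideal.map_map]
    rfl
  let e₁ : B₀ ⧸ L ≃+* B ⧸ p.map (algebraMap A B) :=
    (Ideal.quotEquivOfEq hL).trans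
      (DoubleQuot.quotQuotEquivQuotOfLE (Ideal.map_mono (f := algebraMap A B) hIp))
  have h2 := RelQuasi.quasi_ringEquiv e₁ h1
  let M := Algebra.algebraMapSubmonoid (B ⧸ p.map (algebraMap A B)) P.primeCompl
  let F := BP ⧸ (p.map (algebraMap A B)).map (algebraMap B BP)
  have h2' : IsQuasiRegular fun i => Ideal.Quotient.mk (p.map (algebraMap A B)) (f i) := by
    convert h2 using 1
    funext i
    simp only [e₁, RingEquiv.trans_apply, Ideal.quotEquivOfEq_mk]
    exact (DoubleQuot.quotQuotEquivQuotOfLE_quotQuotMk (f i) _).symm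
  have h3 : IsQuasiRegular fun i => Ideal.Quotient.mk ((p.map (algebraMap A B)).map (algebraMap B BP))
      (algebraMap B BP (f i)) := by
    have h := RegQuasi.quasi_localization (L := F) M h2'
    have e : ∀ x : B, algebraMap (B ⧸ p.map (algebraMap A B)) F (Ideal.Quotient.mk _ x) =
        Ideal.Quotient.mk ((p.map (algebraMap A B)).map (algebraMap B BP)) (algebraMap B BP x) := fun x => by
      rw [← Ideal.Quotient.algebraMap_eq, ← IsScalarTower.algebraMap_apply]
      exact IsScalarTower.algebraMap_apply B BP F x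
    simpa only [e] using h
  have hmax : (maximalIdeal Ap).map (algebraMap Ap BP) = (p.map (algebraMap A B)).map (algebraMap B BP) := by
    rw [← Localization.AtPrime.map_eq_maximalIdeal, Ideal.map_map, Ideal.map_map,
      ← IsScalarTower.algebraMap_eq, ← IsScalarTower.algebraMap_eq]
  haveI hN : IsNoetherianRing (BP ⧸ (maximalIdeal Ap).map (algebraMap Ap BP)) := by
    haveI := isNoetherianRing_fibre (A := A) (B := B) p P BP
    exact isNoetherianRing_of_ringEquiv _ (Ideal.quotEquivOfEq hmax.symm)
  haveI : Nontrivial (BP ⧸ (maximalIdeal Ap).map (algebraMap Ap BP)) := Ideal.Quotient.nontrivial_iff.mpr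
    (IsLocalRing.map_maximalIdeal_lt_top _).ne
  haveI : IsLocalRing (BP ⧸ (maximalIdeal Ap).map (algebraMap Ap BP)) :=
    .of_surjective' (Ideal.Quotient.mk _) Ideal.Quotient.mk_surjective
  have hw := RelQuasi.weaklyRegular_of_quasi _ (fun i => ?_)
    (RelQuasi.quasi_ringEquiv (Ideal.quotEquivOfEq hmax.symm) h3)
  swap
  · show Ideal.Quotient.mk _ (algebraMap B BP (f i)) ∈ maximalIdeal _
    rw [← IsLocalRing.map_maximalIdeal_of_surjective (f := Ideal.Quotient.mk ((maximalIdeal Ap).map (algebraMap Ap BP))) Ideal.Quotient.mk_surjective]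
    exact Ideal.mem_map_of_mem _ ((IsLocalization.AtPrime.to_map_mem_maximal_iff BP P (f i)).mpr
      (hKP (Ideal.subset_span ⟨i, rfl⟩)))
  have hfl := RelQuasi.flat_quotient_of_fibre (R' := Ap) (C' := BP) p P
    (fun a => (IsScalarTower.algebraMap_apply A Ap BP a).symm.trans
      (IsScalarTower.algebraMap_apply A B BP a)) (List.ofFn f)
    (fun h hh => by
      obtain ⟨i, rfl⟩ := List.mem_ofFn.mp hh
      exact hKP (Ideal.subset_span ⟨i, rfl⟩))
    (by rw [List.map_ofFn, List.map_ofFn]; exact hw)
  rw [Triv.ofList_ofFn] at hfl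
  haveI : Module.Flat A (BP ⧸ K.map (algebraMap B BP)) := by
    rw [← RingHom.flat_algebraMap_iff]
    rwa [← IsScalarTower.algebraMap_eq A B BP] at hfl
  have hsub : Algebra.algebraMapSubmonoid (B ⧸ K) P.primeCompl = Q.primeCompl := by
    ext x
    constructor
    · rintro ⟨a, ha, rfl⟩
      exact ha
    · intro hx
      obtain ⟨a, rfl⟩ := Ideal.Quotient.mk_surjective x
      exact ⟨a, hx, rfl⟩
  haveI : IsLocalization Q.primeCompl (BP ⧸ K.map (algebraMap B BP)) := hsub ▸
    (inferInstance : IsLocalization (Algebra.algebraMapSubmonoid (B ⧸ K) P.primeCompl)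
      (BP ⧸ K.map (algebraMap B BP)))
  haveI := IsScalarTower.to₁₃₄ A B (B ⧸ K) (BP ⧸ K.map (algebraMap B BP))
  exact Module.Flat.of_linearEquiv
    (((IsLocalization.algEquiv Q.primeCompl (Localization.AtPrime Q)
      (BP ⧸ K.map (algebraMap B BP))).restrictScalars A).toLinearEquiv)

theorem smooth (I : Ideal A) (hI : ∀ x ∈ I, IsNilpotent x) {r : ℕ} (f : Fin r → B)
    (hq : IsQuasiRegular fun i => Ideal.Quotient.mk (I.map (algebraMap A B)) (f i))
    (hsm : Algebra.Smooth (A ⧸ I) ((B ⧸ I.map (algebraMap A B)) ⧸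
      Ideal.span (Set.range fun i => Ideal.Quotient.mk (I.map (algebraMap A B)) (f i)))) :
    Algebra.Smooth A (B ⧸ Ideal.span (Set.range f)) := by
  haveI := hsm
  haveI := flat I hI f hq inferInstance
  set K := Ideal.span (Set.range f)
  haveI : Algebra.FinitePresentation A (B ⧸ K) :=
    Algebra.FinitePresentation.quotient (Submodule.fg_span (Set.finite_range f))
  refine Algebra.Smooth.of_formallySmooth_fiber fun p _ => ?_
  have hIp : I ≤ p := fun x hx => nilradical_le_prime p (hI x hx)
  let T := B ⧸ K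
  let T₀ := (B ⧸ I.map (algebraMap A B)) ⧸
    Ideal.span (Set.range fun i => Ideal.Quotient.mk (I.map (algebraMap A B)) (f i))
  let φ : (A ⧸ I) →ₐ[A] p.ResidueField := Ideal.Quotient.liftₐ I (Algebra.ofId A p.ResidueField)
    fun a ha => (Ideal.algebraMap_residueField_eq_zero).mpr (hIp ha)
  letI : Algebra (A ⧸ I) p.ResidueField := φ.toRingHom.toAlgebra
  haveI : IsScalarTower A (A ⧸ I) p.ResidueField := .of_algebraMap_eq fun a => rfl
  haveI : Algebra.FormallySmooth p.ResidueField (p.ResidueField ⊗[A ⧸ I] T₀) := inferInstance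
  have hK : (I.map (algebraMap A T)) =
      (I.map (algebraMap A B)).map (Ideal.Quotient.mk K) := by rw [Ideal.map_map]; rfl
  let e₀ : (T ⧸ I.map (algebraMap A T)) ≃ₐ[A] T₀ :=
    (Ideal.quotientEquivAlgOfEq A hK).trans <| (DoubleQuot.quotQuotEquivCommₐ A K (I.map (algebraMap A B))).trans
      (Ideal.quotientEquivAlgOfEq A (by
        show K.map (Ideal.Quotient.mk (I.map (algebraMap A B))) = _
        rw [Ideal.map_span, ← Set.range_comp]; rfl))
  let e₁ : (A ⧸ I) ⊗[A] T ≃ₐ[A ⧸ I] T₀ :=
    (Algebra.TensorProduct.quotIdealMapEquivQuotTensor T I).symm.trans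
      (AlgEquiv.extendScalarsOfSurjective Ideal.Quotient.mk_surjective e₀)
  show Algebra.FormallySmooth p.ResidueField (p.ResidueField ⊗[A] T)
  exact Algebra.FormallySmooth.of_equiv (A := p.ResidueField ⊗[A ⧸ I] T₀) (B := p.ResidueField ⊗[A] T)
    (((Algebra.TensorProduct.congr (AlgEquiv.refl : p.ResidueField ≃ₐ[p.ResidueField] p.ResidueField)
      e₁.symm)).trans
      (Algebra.TensorProduct.cancelBaseChange A (A ⧸ I) p.ResidueField p.ResidueField T))

end Groth.Agent.H26.RelQuasiNil
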