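import Groth.Agent.H26.SectionExtend
import Groth.Agent.Lib.SchDense.Basic
import Mathlib.AlgebraicGeometry.Morphisms.QuasiFinite

/-!
# Valuative criteria for extending sections to normal points
-/

universe u

open CategoryTheory CategoryTheory.Limits AlgebraicGeometry TopologicalSpace
open Groth.Agent.H26.SectionExtend

namespace Groth.Agent.H26.SectionExtend

/-- The generic map of a discrete valuation ring. -/
noncomputable abbrev genMap (R : Type u) [CommRing R] [IsDomain R] :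
    Spec (CommRingCat.of (FractionRing R)) ⟶ Spec (CommRingCat.of R) :=
  Spec.map (CommRingCat.ofHom (algebraMap R (FractionRing R)))

lemma genMap_apply (R : Type u) [CommRing R] [IsDomain R]
    (z : Spec (CommRingCat.of (FractionRing R))) :
    genMap R z = genericPoint (Spec (CommRingCat.of R)) := by
  have hz : z = (⊥ : PrimeSpectrum (FractionRing R)) := Subsingleton.elim (α := PrimeSpectrum _) _ _
  subst hz
  rw [genericPoint_eq_bot_of_affine]
  exact PrimeSpectrum.ext (Ideal.comap_bot_of_injective _ (IsFractionRing.injective R (FractionRing R)))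

lemma specializes_closedPoint {R : Type u} [CommRing R] [IsLocalRing R]
    (z : Spec (CommRingCat.of R)) : z ⤳ IsLocalRing.closedPoint R :=
  IsLocalRing.specializes_closedPoint z

lemma forall_mem_of_closedPoint {R : Type u} [CommRing R] [IsLocalRing R] {X : Scheme.{u}}
    (g : Spec (CommRingCat.of R) ⟶ X) (O : X.Opens) (h : g (IsLocalRing.closedPoint R) ∈ O)
    (z : Spec (CommRingCat.of R)) : g z ∈ O :=
  ((specializes_closedPoint z).map g.continuous).mem_open O.2 h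

lemma exists_lift_opens {T X : Scheme.{u}} (g : T ⟶ X) (O : X.Opens) (h : ∀ z, g z ∈ O) :
    ∃ g' : T ⟶ (O : Scheme.{u}), g' ≫ O.ι = g :=
  ⟨IsOpenImmersion.lift O.ι g (by rw [Scheme.Opens.range_ι]; rintro _ ⟨z, rfl⟩; exact h z),
    IsOpenImmersion.lift_fac _ _ _⟩

/-- Extending by gluing. -/
theorem glue_section {X Y : Scheme.{u}} (q : Y ⟶ X) (U U₁ : X.Opens) (h : (U : Scheme.{u}) ⟶ Y)
    (hh : h ≫ q = U.ι) (s : (U₁ : Scheme.{u}) ⟶ Y) (hs : s ≫ q = U₁.ι)
    (hsh : X.homOfLE (inf_le_right : U ⊓ U₁ ≤ U₁) ≫ s = X.homOfLE (inf_le_left : U ⊓ U₁ ≤ U) ≫ h) :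
    ∃ (U' : X.Opens) (hU : U ≤ U') (hU₁ : U₁ ≤ U') (h' : (U' : Scheme.{u}) ⟶ Y),
      h' ≫ q = U'.ι ∧ X.homOfLE hU ≫ h' = h ∧ X.homOfLE hU₁ ≫ h' = s := by
  let F : ULift.{u} Bool → X.Opens := fun b => if b.down then U else U₁
  let fs : ∀ b, (F b : Scheme.{u}) ⟶ Y := fun
    | ⟨true⟩ => h
    | ⟨false⟩ => s
  have hfs : ∀ b, fs b ≫ q = (F b).ι := fun
    | ⟨true⟩ => hh
    | ⟨false⟩ => hs
  obtain ⟨g, hg⟩ := exists_glue F fs (fun a b => by
    obtain ⟨a⟩ := a
    obtain ⟨b⟩ := b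
    cases a <;> cases b
    · rfl
    · change X.homOfLE (inf_le_left : U₁ ⊓ U ≤ U₁) ≫ s = X.homOfLE (inf_le_right : U₁ ⊓ U ≤ U) ≫ h
      have := congrArg (X.homOfLE (le_of_eq (inf_comm U₁ U)) ≫ ·) hsh
      simpa using this
    · exact hsh.symm
    · rfl)
  refine ⟨⨆ b, F b, le_iSup F ⟨true⟩, le_iSup F ⟨false⟩, g, ?_, hg ⟨true⟩, hg ⟨false⟩⟩
  refine Scheme.Cover.hom_ext (Scheme.Opens.iSupOpenCover F) _ _ fun b => ?_
  change X.homOfLE (le_iSup F b) ≫ g ≫ q = X.homOfLE (le_iSup F b) ≫ (⨆ b, F b).ι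
  rw [← Category.assoc, hg b, hfs b, Scheme.homOfLE_ι]

variable {X Y : Scheme.{u}} (q : Y ⟶ X) (U : X.Opens) (h : (U : Scheme.{u}) ⟶ Y)

/-- An extension gives valuative lifts. -/
theorem lift_of_extension {U' : X.Opens} (hUU' : U ≤ U') (h' : (U' : Scheme.{u}) ⟶ Y)
    (hq' : h' ≫ q = U'.ι) (hext : X.homOfLE hUU' ≫ h' = h) (x : X) (hxU' : x ∈ U')
    (R : Type u) [CommRing R] [IsDomain R] [IsDiscreteValuationRing R]
    (u : Spec (CommRingCat.of R) ⟶ X) (hu : u (IsLocalRing.closedPoint R) = x)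
    (ub : Spec (CommRingCat.of (FractionRing R)) ⟶ (U : Scheme.{u}))
    (hub : ub ≫ U.ι = genMap R ≫ u) :
    ∃ h₁ : Spec (CommRingCat.of R) ⟶ Y, h₁ ≫ q = u ∧
      h₁ (IsLocalRing.closedPoint R) = h' ⟨x, hxU'⟩ ∧ genMap R ≫ h₁ = ub ≫ h := by
  obtain ⟨u', hu'⟩ := exists_lift_opens u U' fun z =>
    forall_mem_of_closedPoint u U' (by rw [hu]; exact hxU') z
  refine ⟨u' ≫ h', by rw [Category.assoc, hq', hu'], ?_, ?_⟩
  · change h' (u' (IsLocalRing.closedPoint R)) = _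
    congr 1
    apply Subtype.ext
    change (u' ≫ U'.ι) (IsLocalRing.closedPoint R) = x
    rw [hu', hu]
  · have : genMap R ≫ u' = ub ≫ X.homOfLE hUU' := by
      rw [← cancel_mono U'.ι, Category.assoc, hu', Category.assoc, Scheme.homOfLE_ι, hub]
    rw [← Category.assoc, this, Category.assoc, hext]

/-- A field-valued point landing in the image of an immersion factors through it. -/
theorem exists_fac_of_immersion {K : Type u} [Field K] {T Z : Scheme.{u}}
    (j : T ⟶ Z) [IsImmersion j] (a : Spec (CommRingCat.of K) ⟶ Z) (h : ∀ z, a z ∈ Set.range j) :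
    ∃ c, c ≫ j = a := by
  let e := pullback.snd j a
  have hr : Set.range e = Set.univ := by
    rw [Scheme.Pullback.range_snd]
    exact Set.eq_univ_of_forall fun z => h z
  have : IsClosedImmersion e := IsClosedImmersion.of_isPreimmersion _ (hr ▸ isClosed_univ)
  have : Surjective e := ⟨Set.range_eq_univ.mp hr⟩
  have : IsIso e := isIso_of_isClosedImmersion_of_surjective e
  exact ⟨inv e ≫ pullback.fst j a, by
    rw [Category.assoc, pullback.condition, IsIso.inv_hom_id_assoc]⟩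

variable [IsLocallyNoetherian X] [LocallyOfFiniteType q]

/-- Through a normal point outside a dense open passes a discrete valuation ring. -/
theorem exists_dvr (hU : Dense (U : Set X)) (x : X) (hxU : x ∉ U) [IsDomain (X.presheaf.stalk x)] :
    ∃ (R : Type u) (_ : CommRing R) (_ : IsDomain R) (_ : IsDiscreteValuationRing R)
      (u : Spec (CommRingCat.of R) ⟶ X) (ub : Spec (CommRingCat.of (FractionRing R)) ⟶ (U : Scheme.{u})),
      u (IsLocalRing.closedPoint R) = x ∧ ub ≫ U.ι = genMap R ≫ u := by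
  obtain ⟨W, hxW, hW⟩ := exists_integral_nhd x
  obtain ⟨η, hηU, -, hη⟩ := exists_generization U hU x W hxW
  obtain ⟨R, iC, iD, iV, g, hgc, hgg⟩ :=
    Groth.Agent.H46.DvrScheme.exists_dvr_of_specializes (hη x hxW) (fun e => hxU (e ▸ hηU))
  obtain ⟨ub, hub⟩ := exists_lift_opens (genMap R ≫ g) U fun z => by
    rw [Scheme.Hom.comp_apply, genMap_apply]
    exact hgg ▸ hηU
  exact ⟨R, iC, iD, iV, g, ub, hgc, hub⟩

/-- The valuative criterion for a separated quasi-finite morphism. -/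
theorem extends_of_exists [IsSeparated q] [LocallyQuasiFinite q] (hU : Dense (U : Set X))
    (hh : h ≫ q = U.ι) (x : X) [IsDomain (X.presheaf.stalk x)]
    (hx : IsIntegrallyClosed (X.presheaf.stalk x))
    (R : Type u) [CommRing R] [IsDomain R] [IsDiscreteValuationRing R]
    (u : Spec (CommRingCat.of R) ⟶ X)
    (ub : Spec (CommRingCat.of (FractionRing R)) ⟶ (U : Scheme.{u}))
    (h₁ : Spec (CommRingCat.of R) ⟶ Y) (hu : u (IsLocalRing.closedPoint R) = x)
    (hub : ub ≫ U.ι = genMap R ≫ u) (h₁q : h₁ ≫ q = u) (h₁g : genMap R ≫ h₁ = ub ≫ h) :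
    ∃ (U' : X.Opens) (hUU' : U ≤ U') (h' : (U' : Scheme.{u}) ⟶ Y),
      x ∈ U' ∧ h' ≫ q = U'.ι ∧ X.homOfLE hUU' ≫ h' = h := by
  let y₀ := h₁ (IsLocalRing.closedPoint R)
  let z₀ : Spec (CommRingCat.of (FractionRing R)) := (⊥ : PrimeSpectrum (FractionRing R))
  have hw : ∀ z, (ub z).1 = u (genMap R z) := fun z => by
    change (ub ≫ U.ι) z = _
    rw [hub]; rfl
  have hy₀ : q y₀ = x := by
    change (h₁ ≫ q) (IsLocalRing.closedPoint R) = x
    rw [h₁q, hu]
  have hd := q.isDiscrete_preimage_singleton x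
  have : DiscreteTopology (q ⁻¹' {x}) := isDiscrete_iff_discreteTopology.mp hd
  obtain ⟨O, hO, hOe⟩ := isOpen_induced_iff.mp (isOpen_discrete ({⟨y₀, hy₀⟩} : Set (q ⁻¹' {x})))
  obtain ⟨U₁, s, hx₁, hsq, -, hsh⟩ := exists_extension q U hU h hh x hx ⊤ y₀ trivial hy₀
    (fun _ _ => trivial) (fun w hwmin _ => by
      have hwx : (ub z₀).1 ⤳ x := by
        rw [hw, ← hu]
        exact (specializes_closedPoint _).map u.continuous
      have h2 : w ⤳ ub z₀ := (subtype_specializes_iff w (ub z₀)).mpr (hwmin _ hwx)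
      refine (h2.map h.continuous).trans ?_
      rw [← Scheme.Hom.comp_apply, ← h₁g, Scheme.Hom.comp_apply]
      exact (specializes_closedPoint _).map h₁.continuous)
    ⟨⟨O, hO⟩, by
      have : (⟨y₀, hy₀⟩ : q ⁻¹' {x}) ∈ Subtype.val ⁻¹' O := by rw [hOe]; rfl
      exact this, fun w _ y hy _ hqy _ => by
      have : (⟨y, hqy⟩ : q ⁻¹' {x}) ∈ Subtype.val ⁻¹' O := hy
      rw [hOe] at this
      exact congrArg Subtype.val this⟩
  obtain ⟨U', hU', hU₁', h', hq', hext, -⟩ := glue_section q U U₁ h hh s hsq hsh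
  exact ⟨U', hU', h', hU₁' hx₁, hq', hext⟩

/-- The valuative criterion for extending a section with prescribed value. -/
theorem extends_of_forall (hU : Dense (U : Set X)) (hh : h ≫ q = U.ι) (x : X) (hxU : x ∉ U)
    [IsDomain (X.presheaf.stalk x)] (hx : IsIntegrallyClosed (X.presheaf.stalk x))
    (y₀ : Y) (hy₀ : q y₀ = x)
    (H : ∀ (R : Type u) [CommRing R] [IsDomain R] [IsDiscreteValuationRing R]
        (u : Spec (CommRingCat.of R) ⟶ X), u (IsLocalRing.closedPoint R) = x →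
        ∀ ub : Spec (CommRingCat.of (FractionRing R)) ⟶ (U : Scheme.{u}),
          ub ≫ U.ι = genMap R ≫ u →
          ∃ h₁ : Spec (CommRingCat.of R) ⟶ Y, h₁ ≫ q = u ∧
            h₁ (IsLocalRing.closedPoint R) = y₀ ∧ genMap R ≫ h₁ = ub ≫ h) :
    ∃ (U' : X.Opens) (hUU' : U ≤ U') (hxU' : x ∈ U') (h' : (U' : Scheme.{u}) ⟶ Y),
      h' ≫ q = U'.ι ∧ X.homOfLE hUU' ≫ h' = h ∧ h' ⟨x, hxU'⟩ = y₀ := by
  have : IsImmersion (h ≫ q) := by rw [hh]; infer_instance
  have : IsImmersion h := IsImmersion.of_comp h q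
  have : IsLocallyNoetherian Y := LocallyOfFiniteType.isLocallyNoetherian q
  obtain ⟨_, ⟨V, hV, rfl⟩, hxV, -⟩ := X.isBasis_affineOpens.exists_subset_of_mem_open
    (Set.mem_univ x) isOpen_univ
  obtain ⟨_, ⟨Y₁, hY₁, rfl⟩, hy₁, hY₁V : Y₁ ≤ q ⁻¹ᵁ V⟩ :=
    Y.isBasis_affineOpens.exists_subset_of_mem_open (show y₀ ∈ q ⁻¹ᵁ V by
      change q y₀ ∈ V; rw [hy₀]; exact hxV) (q ⁻¹ᵁ V).isOpen
  let Y₁ : Y.Opens := Y₁
  have : IsSeparated (Y₁.ι ≫ q) := by
    have : IsAffine (V : Scheme.{u}) := hV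
    have : IsAffine (Y₁ : Scheme.{u}) := hY₁
    rw [← Scheme.Hom.resLE_comp_ι q hY₁V]
    infer_instance
  have hspec : ∀ w : (U : Scheme.{u}), w.1 ⤳ x → h w ⤳ y₀ := fun w hwx => by
    obtain ⟨R, _, _, _, g, hgc, hgg⟩ :=
      Groth.Agent.H46.DvrScheme.exists_dvr_of_specializes hwx (fun e => hxU (e ▸ w.2))
    obtain ⟨ub, hub⟩ := exists_lift_opens (genMap R ≫ g) U fun z => by
      rw [Scheme.Hom.comp_apply, genMap_apply]
      exact hgg ▸ w.2
    obtain ⟨h₁, -, h₁c, h₁g⟩ := H R g hgc ub hub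
    let z₀ : Spec (CommRingCat.of (FractionRing R)) := (⊥ : PrimeSpectrum (FractionRing R))
    have hw : ub z₀ = w := by
      apply Subtype.ext
      change (ub ≫ U.ι) z₀ = w.1
      rw [hub, Scheme.Hom.comp_apply, genMap_apply]
      exact hgg
    rw [← hw, ← Scheme.Hom.comp_apply, ← h₁g, Scheme.Hom.comp_apply, ← h₁c]
    exact (specializes_closedPoint _).map h₁.continuous
  obtain ⟨U₁, s, hx₁, hsq, hsx, hsh⟩ := exists_extension q U hU h hh x hx Y₁ y₀ hy₁ hy₀
    (fun w hwx => (hspec w hwx).mem_open Y₁.2 hy₁) (fun w _ hwx => hspec w hwx)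
    ⟨⊤, trivial, fun w hwx y _ hyY₁ hqy hwy => by
      have hne : h w ≠ y := fun e => hxU (by
        rw [← hqy, ← e, ← Scheme.Hom.comp_apply, hh]
        exact w.2)
      obtain ⟨R, _, _, _, g, hgc, hgg⟩ :=
        Groth.Agent.H46.DvrScheme.exists_dvr_of_specializes hwy hne
      obtain ⟨c, hc⟩ := exists_fac_of_immersion h (genMap R ≫ g) fun z => ⟨w, by
        rw [Scheme.Hom.comp_apply, genMap_apply]; exact hgg.symm⟩
      obtain ⟨h₁, h₁q, h₁c, h₁g⟩ := H R (g ≫ q)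
        (by change q (g (IsLocalRing.closedPoint R)) = x; rw [hgc, hqy]) c
        (by rw [← hh, reassoc_of% hc])
      obtain ⟨l₁, hl₁⟩ := exists_lift_opens h₁ Y₁ fun z =>
        forall_mem_of_closedPoint h₁ Y₁ (by rw [h₁c]; exact hy₁) z
      obtain ⟨l₂, hl₂⟩ := exists_lift_opens g Y₁ fun z =>
        forall_mem_of_closedPoint g Y₁ (by rw [hgc]; exact hyY₁) z
      have : IsSchemeTheoreticallyDominant (genMap R) :=
        Groth.Agent.Lib.SchDense.Basic.std_genPt R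
      have hll : l₁ = l₂ := Groth.Agent.Lib.SchDense.Basic.ext_of_std (Y₁.ι ≫ q)
        (by rw [reassoc_of% hl₁, reassoc_of% hl₂, h₁q]) (genMap R) (by
          rw [← cancel_mono Y₁.ι, Category.assoc, hl₁, Category.assoc, hl₂, h₁g, hc])
      rw [← hgc, ← h₁c, ← hl₁, ← hl₂, hll]⟩
  obtain ⟨U', hU', hU₁', h', hq', hext, hext'⟩ := glue_section q U U₁ h hh s hsq hsh
  refine ⟨U', hU', hU₁' hx₁, h', hq', hext, ?_⟩
  rw [← hsx, ← hext']
  change h' _ = h' ((X.homOfLE hU₁') _)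
  congr 1
  apply Subtype.ext
  change x = (X.homOfLE hU₁' ≫ U'.ι) ⟨x, hx₁⟩
  rw [Scheme.homOfLE_ι]
  rfl

end Groth.Agent.H26.SectionExtend
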