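import Groth.Agent.H26.BertiniProj
import Groth.Agent.H34.UFDExt.Gen
import Groth.Agent.Lib.LefPen45.Chart
import Groth.Agent.Lib.ProjMor.Embed
import Groth.Agent.Lib.ProjTilde.QCoh
import Groth.Agent.Lib.ProjSpace.Basic
import Groth.Agent.Lib.Curves.SepCriterion
import Mathlib.AlgebraicGeometry.ZariskisMainTheorem
import Mathlib.RingTheory.Nakayama

/-!
# Morphisms to projective space separating points and tangent vectors
-/

set_option autoImplicit false
set_option backward.isDefEq.respectTransparency.types false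
set_option linter.all false
set_option maxHeartbeats 1000000

universe u

open CategoryTheory CategoryTheory.Limits AlgebraicGeometry TopologicalSpace Opposite
open Groth.Agent.Lib.ProjSpace Groth.Agent.Lib.TensorMod.Gen Groth.Agent.Lib.TensorMod.Dual
open Groth.Agent.Lib.ProjMor.Sec (gl)

noncomputable section

namespace Groth.Agent.H26.SepPoints

theorem mem_primeIdealOf_iff {Y : Scheme.{u}} {D : Y.Opens} (hD : IsAffineOpen D) (y : Y) (hy : y ∈ D)
    (a : Γ(Y, D)) : a ∈ (hD.primeIdealOf ⟨y, hy⟩).asIdeal ↔ y ∉ Y.basicOpen a := by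
  have h := SetLike.ext_iff.mp (IsAffineOpen.fromSpec_preimage_basicOpen hD a) (hD.primeIdealOf ⟨y, hy⟩)
  change hD.fromSpec (hD.primeIdealOf ⟨y, hy⟩) ∈ Y.basicOpen a ↔ a ∉ (hD.primeIdealOf ⟨y, hy⟩).asIdeal at h
  rw [hD.fromSpec_primeIdealOf] at h
  exact ((not_congr h).trans not_not).symm

variable (k : Type u) [Field k] (n : ℕ)

/-- The standard chart. -/
abbrev D (i : Fin (n + 1)) : (CohB1.ProjSpace n k).Opens :=
  Proj.basicOpen (CohB1.polyGrading n k) (MvPolynomial.X i : MvPolynomial (Fin (n + 1)) k)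

theorem isAffineOpen_D (i : Fin (n + 1)) : IsAffineOpen (D k n i) := Basic.isAffineOpen_basicOpen_X k i

theorem exists_mem_D (y : CohB1.ProjSpace n k) : ∃ i, y ∈ D k n i :=
  Opens.mem_iSup.mp ((SetLike.ext_iff.mp (Basic.iSup_basicOpen_X_eq_top n k) y).mpr trivial)

/-- The constants on a chart. -/
def cst (i : Fin (n + 1)) : k →+* Γ(CohB1.ProjSpace n k, D k n i) :=
  (Proj.awayToSection (CohB1.polyGrading n k) (MvPolynomial.X i)).hom.comp (Charts.constHom k i)

/-- The linear coordinates on a chart. -/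
def crd (i j : Fin (n + 1)) : Γ(CohB1.ProjSpace n k, D k n i) :=
  (Proj.awayToSection (CohB1.polyGrading n k) (MvPolynomial.X i)).hom (Charts.coord k i j)

/-- A linear form on a chart. -/
def lf (i : Fin (n + 1)) (c : Fin (n + 1) → k) : Γ(CohB1.ProjSpace n k, D k n i) :=
  ∑ j, cst k n i (c j) * crd k n i j

theorem crd_self (i : Fin (n + 1)) : crd k n i i = 1 := by
  rw [crd, Charts.coord_self]
  exact map_one _

theorem lf_single (i j : Fin (n + 1)) : lf k n i (Pi.single j 1) = crd k n i j := by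
  rw [lf, Finset.sum_eq_single j (fun b _ hb => by rw [Pi.single_eq_of_ne hb, map_zero, zero_mul])
    (fun h => (h (Finset.mem_univ _)).elim), Pi.single_eq_same, map_one, one_mul]

theorem lf_sub (i : Fin (n + 1)) (c d : Fin (n + 1) → k) : lf k n i (c - d) = lf k n i c - lf k n i d := by
  simp [lf, sub_mul, Finset.sum_sub_distrib]

theorem crd_sub_cst (i j : Fin (n + 1)) (v : k) :
    crd k n i j - cst k n i v = lf k n i (Pi.single j 1 - v • Pi.single i 1) := by
  rw [lf_sub, lf_single]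
  congr 1
  rw [lf, Finset.sum_eq_single i (fun b _ hb => by simp [Pi.single_eq_of_ne hb])
    (fun h => (h (Finset.mem_univ _)).elim)]
  simp [crd_self]

/-- Modulo the linear forms vanishing at a point, functions are constants. -/
theorem sub_cst_mem (i : Fin (n + 1)) (v : Fin (n + 1) → k) (b : Γ(CohB1.ProjSpace n k, D k n i)) :
    ∃ c : k, b - cst k n i c ∈
      Ideal.span (Set.range fun j => crd k n i j - cst k n i (v j)) := by
  haveI : IsIso (Proj.awayToSection (CohB1.polyGrading n k) (MvPolynomial.X i : MvPolynomial (Fin (n + 1)) k)) :=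
    (Proj.basicOpenIsoAway (CohB1.polyGrading n k) _ (Charts.X_mem_one i) one_pos).isIso_hom
  obtain ⟨z, rfl⟩ := (asIso (Proj.awayToSection (CohB1.polyGrading n k)
    (MvPolynomial.X i : MvPolynomial (Fin (n + 1)) k))).commRingCatIsoToRingEquiv.surjective b
  obtain ⟨p, rfl⟩ := Charts.fromPoly_surjective i z
  refine ⟨MvPolynomial.eval (fun j => v j.1) p, ?_⟩
  let Φ : MvPolynomial {j : Fin (n + 1) // j ≠ i} k →+* Γ(CohB1.ProjSpace n k, D k n i) :=
    (Proj.awayToSection (CohB1.polyGrading n k) (MvPolynomial.X i)).hom.comp (Charts.fromPoly k i)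
  suffices key : ∀ p, Φ p - cst k n i (MvPolynomial.eval (fun j => v j.1) p) ∈
      Ideal.span (Set.range fun j => crd k n i j - cst k n i (v j)) from key p
  intro p
  induction p using MvPolynomial.induction_on with
  | C c =>
    have h : Φ (MvPolynomial.C c) = cst k n i c := congrArg (Proj.awayToSection (CohB1.polyGrading n k) (MvPolynomial.X i)).hom (Charts.fromPoly_C i c)
    rw [MvPolynomial.eval_C, h, sub_self]
    exact zero_mem _
  | add p q hp hq => rw [map_add, map_add, map_add, add_sub_add_comm]; exact add_mem hp hq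
  | mul_X p j hp =>
    have h : Φ (MvPolynomial.X j) = crd k n i j.1 := congrArg (Proj.awayToSection (CohB1.polyGrading n k) (MvPolynomial.X i)).hom (Charts.fromPoly_X i j)
    rw [map_mul, map_mul, h, MvPolynomial.eval_X, map_mul,
      show Φ p * crd k n i j.1 - cst k n i (MvPolynomial.eval (fun j => v j.1) p) * cst k n i (v j.1) =
        (Φ p - cst k n i (MvPolynomial.eval (fun j => v j.1) p)) * crd k n i j.1 +
          cst k n i (MvPolynomial.eval (fun j => v j.1) p) * (crd k n i j.1 - cst k n i (v j.1)) from by ring]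
    exact add_mem (Ideal.mul_mem_right _ _ hp) (Ideal.mul_mem_left _ _ (Ideal.subset_span ⟨j.1, rfl⟩))

theorem prime_eq_span (i : Fin (n + 1)) {M : Ideal Γ(CohB1.ProjSpace n k, D k n i)} (hM : M.IsPrime)
    (v : Fin (n + 1) → k) (hv : ∀ j, crd k n i j - cst k n i (v j) ∈ M) :
    M = Ideal.span (Set.range fun j => crd k n i j - cst k n i (v j)) := by
  refine le_antisymm (fun b hb => ?_) (Ideal.span_le.mpr (by rintro _ ⟨j, rfl⟩; exact hv j))
  obtain ⟨c, hc⟩ := sub_cst_mem k n i v b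
  have hle : Ideal.span (Set.range fun j => crd k n i j - cst k n i (v j)) ≤ M :=
    Ideal.span_le.mpr (by rintro _ ⟨j, rfl⟩; exact hv j)
  have h0 : c = 0 := by
    by_contra hc0
    have h1 : cst k n i c ∈ M := by simpa using M.sub_mem hb (hle hc)
    exact hM.ne_top (Ideal.eq_top_of_isUnit_mem _ h1 ((isUnit_iff_ne_zero.mpr hc0).map _))
  simpa [h0] using hc

theorem mem_basicOpen_crd (i j : Fin (n + 1)) (y : CohB1.ProjSpace n k) :
    y ∈ (CohB1.ProjSpace n k).basicOpen (crd k n i j) ↔ y ∈ D k n i ∧ y ∈ D k n j := by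
  have e : Charts.coord k i j = HomogeneousLocalization.Away.mk (CohB1.polyGrading n k)
      (Charts.X_mem_one i) 1 (MvPolynomial.X j) (by rw [one_smul]; exact Charts.X_mem_one j) := by
    refine HomogeneousLocalization.val_injective _ ?_
    erw [HomogeneousLocalization.Away.val_mk]
    exact congrArg (Localization.mk _) (Subtype.ext (pow_one _).symm)
  have h := Groth.Agent.Lib.ProjTilde.QCoh.basicOpen_awayToSection (𝒜 := CohB1.polyGrading n k)
    (Charts.X_mem_one i) 1 (MvPolynomial.X j) (by rw [one_smul]; exact Charts.X_mem_one j)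
  rw [← e] at h
  refine (SetLike.ext_iff.mp h y).trans ?_
  exact (SetLike.ext_iff.mp (Proj.basicOpen_mul _ _ _) y).trans Iff.rfl

variable {k n}
variable {X : Scheme.{u}} (pX : X ⟶ Spec (CommRingCat.of k)) (f : X ⟶ CohB1.ProjSpace n k)
  (hf : f ≫ CohB1.ProjSpace.toSpec n k = pX)

/-- The line bundle of the morphism. -/
abbrev L : X.Modules := (Scheme.Modules.pullback f).obj (Twist.twistProjSpace n k 1)

/-- A combination of the coordinate sections. -/
abbrev sec (c : Fin (n + 1) → k) : Γ(L f, ⊤) :=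
  ∑ j, ProjUP.toGlobal pX (c j) • ProjUP.pullSec f (Twist.twistProjSpace n k 1) (ProjUP.coord n k j)

/-- The vector space of germs of sections vanishing at a point. -/
abbrev mL (r : ℕ) (x : X) : Submodule (X.presheaf.stalk x) ((L f).presheaf.stalk x) :=
  IsLocalRing.maximalIdeal (X.presheaf.stalk x) ^ r • ⊤

include hf in
theorem app_cst (i : Fin (n + 1)) (c : k) :
    f.app (D k n i) (cst k n i c) =
      X.presheaf.map (homOfLE (le_top : f ⁻¹ᵁ D k n i ≤ ⊤)).op (ProjUP.toGlobal pX c) := by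
  subst hf
  exact (Groth.Agent.Lib.LefPen45.Chart.cst_eq k f i c).symm.trans rfl

theorem isGen (i : Fin (n + 1)) : IsGen (L f) (f ⁻¹ᵁ D k n i)
    (gl (ProjUP.pullSec f (Twist.twistProjSpace n k 1) (ProjUP.coord n k i)) (f ⁻¹ᵁ D k n i)) := by
  have h := Groth.Agent.Lib.Ample.GenLocus.isGen_unitSec f (Groth.Agent.Lib.ProjMor.Frame.isGen_g
    (𝒜 := CohB1.polyGrading n k) ⟨MvPolynomial.X i, MvPolynomial.isHomogeneous_X k i⟩)
  refine (congrArg (IsGen (L f) (f ⁻¹ᵁ D k n i)) ?_).mpr h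
  exact Groth.Agent.Lib.ProjMor.Sec.gl_pullSec f _ _

theorem gl_pullSec_coord (i j : Fin (n + 1)) :
    gl (ProjUP.pullSec f (Twist.twistProjSpace n k 1) (ProjUP.coord n k j)) (f ⁻¹ᵁ D k n i) =
      f.app (D k n i) (crd k n i j) •
        gl (ProjUP.pullSec f (Twist.twistProjSpace n k 1) (ProjUP.coord n k i)) (f ⁻¹ᵁ D k n i) := by
  have h := Groth.Agent.Lib.ProjMor.Uniq.gl_pullSec_g (𝒜 := CohB1.polyGrading n k) f
    ⟨MvPolynomial.X i, MvPolynomial.isHomogeneous_X k i⟩ ⟨MvPolynomial.X j, MvPolynomial.isHomogeneous_X k j⟩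
    (U := f ⁻¹ᵁ D k n i) le_rfl
  have e : Groth.Agent.Lib.ProjMor.Frame.fr (CohB1.polyGrading n k) ⟨MvPolynomial.X i, MvPolynomial.isHomogeneous_X k i⟩
      ⟨MvPolynomial.X j, MvPolynomial.isHomogeneous_X k j⟩ = crd k n i j := by
    refine congrArg (Proj.awayToSection (CohB1.polyGrading n k) (MvPolynomial.X i)).hom ?_
    refine HomogeneousLocalization.val_injective _ ?_
    erw [HomogeneousLocalization.Away.val_mk]
    exact congrArg (Localization.mk _) (Subtype.ext (pow_one _))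
  refine h.trans (congrArg (fun a : Γ(X, f ⁻¹ᵁ D k n i) => a •
    gl (ProjUP.pullSec f (Twist.twistProjSpace n k 1) (ProjUP.coord n k i)) (f ⁻¹ᵁ D k n i)) ?_)
  exact (ConcreteCategory.congr_hom (Scheme.Hom.appLE_eq_app f) _).trans (congrArg (f.app (D k n i)) e)

/-- The germ of a coordinate section. -/
abbrev gen (i : Fin (n + 1)) (x : X) : (L f).presheaf.stalk x :=
  (L f).presheaf.germ ⊤ x trivial (ProjUP.pullSec f (Twist.twistProjSpace n k 1) (ProjUP.coord n k i))

theorem gen_eq (i : Fin (n + 1)) {x : X} (hx : x ∈ f ⁻¹ᵁ D k n i) :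
    (L f).presheaf.germ (f ⁻¹ᵁ D k n i) x hx
      (gl (ProjUP.pullSec f (Twist.twistProjSpace n k 1) (ProjUP.coord n k i)) (f ⁻¹ᵁ D k n i)) = gen f i x :=
  TopCat.Presheaf.germ_res_apply (L f).presheaf _ x hx _

theorem gen_bijective (i : Fin (n + 1)) {x : X} (hx : x ∈ f ⁻¹ᵁ D k n i) :
    Function.Bijective fun a : X.presheaf.stalk x => a • gen f i x := by
  rw [← gen_eq f i hx]
  exact Groth.Agent.H34.UFDExt.Gen.IsGen.stalk_bijective (M := L f) (fun W hW => isGen f i W hW) hx

/-- The stalk is free on the germ of a coordinate section. -/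
def stalkEquiv (i : Fin (n + 1)) {x : X} (hx : x ∈ f ⁻¹ᵁ D k n i) :
    X.presheaf.stalk x ≃ₗ[X.presheaf.stalk x] (L f).presheaf.stalk x :=
  LinearEquiv.ofBijective (LinearMap.toSpanSingleton _ _ (gen f i x)) (gen_bijective f i hx)

theorem map_stalkEquiv (i : Fin (n + 1)) {x : X} (hx : x ∈ f ⁻¹ᵁ D k n i) (I : Ideal (X.presheaf.stalk x)) :
    Submodule.map (stalkEquiv f i hx).toLinearMap I = I • ⊤ := by
  conv_lhs => rw [← Ideal.mul_top I, ← smul_eq_mul]
  rw [Submodule.map_smul'', Submodule.map_top, LinearMap.range_eq_top.mpr (stalkEquiv f i hx).surjective]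

include hf in
theorem germ_sec (i : Fin (n + 1)) {x : X} (hx : x ∈ f ⁻¹ᵁ D k n i) (c : Fin (n + 1) → k) :
    ((L f).presheaf.germ ⊤ x trivial).hom (sec pX f c) =
      stalkEquiv f i hx (X.presheaf.germ (f ⁻¹ᵁ D k n i) x hx (f.app (D k n i) (lf k n i c))) := by
  change _ = X.presheaf.germ (f ⁻¹ᵁ D k n i) x hx (f.app (D k n i) (lf k n i c)) • gen f i x
  have hR : X.presheaf.germ (f ⁻¹ᵁ D k n i) x hx (f.app (D k n i) (lf k n i c)) =
      ∑ j, X.presheaf.germ (f ⁻¹ᵁ D k n i) x hx (f.app (D k n i) (cst k n i (c j) * crd k n i j)) := by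
    rw [lf, map_sum, map_sum]
  rw [hR, Finset.sum_smul]
  refine (map_sum _ _ _).trans (Finset.sum_congr rfl fun j _ => ?_)
  have hgl : Groth.Agent.Lib.TensorMod.Dual.rs (L f) (le_top : f ⁻¹ᵁ D k n i ≤ ⊤) (ProjUP.toGlobal pX (c j) •
      ProjUP.pullSec f (Twist.twistProjSpace n k 1) (ProjUP.coord n k j)) =
      (f.app (D k n i) (cst k n i (c j)) * f.app (D k n i) (crd k n i j)) •
        gl (ProjUP.pullSec f (Twist.twistProjSpace n k 1) (ProjUP.coord n k i)) (f ⁻¹ᵁ D k n i) := by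
    rw [mul_smul, app_cst pX f hf, ← gl_pullSec_coord]
    exact Scheme.Modules.map_smul _ _ _ _
  rw [map_mul, ← gen_eq f i hx]
  refine Eq.trans ?_ (Groth.Agent.Lib.Modules.StalkModule.germ_smul hx _ _)
  rw [← hgl]
  exact (TopCat.Presheaf.germ_res_apply (L f).presheaf _ x hx _).symm

include hf in
theorem germ_sec_mem (i : Fin (n + 1)) {x : X} (hx : x ∈ f ⁻¹ᵁ D k n i) (c : Fin (n + 1) → k) :
    ((L f).presheaf.germ ⊤ x trivial).hom (sec pX f c) ∈
        (IsLocalRing.maximalIdeal (X.presheaf.stalk x) • ⊤ : Submodule (X.presheaf.stalk x) ((L f).presheaf.stalk x)) ↔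
      f x ∉ (CohB1.ProjSpace n k).basicOpen (lf k n i c) := by
  rw [germ_sec pX f hf i hx, ← map_stalkEquiv f i hx]
  refine (Submodule.mem_map.trans ⟨fun ⟨a, ha, h⟩ => (stalkEquiv f i hx).injective h ▸ ha, fun h => ⟨_, h, rfl⟩⟩).trans ?_
  rw [IsLocalRing.mem_maximalIdeal, mem_nonunits_iff, ← Scheme.mem_basicOpen, ← Scheme.preimage_basicOpen]
  rfl

/-- Separation of points. -/
def SepPts : Prop :=
  ∀ P Q : X, IsClosed ({P} : Set X) → IsClosed ({Q} : Set X) → P ≠ Q →
    ∃ c : Fin (n + 1) → k,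
      ((L f).presheaf.germ ⊤ P trivial).hom (sec pX f c) ∈
        (IsLocalRing.maximalIdeal (X.presheaf.stalk P) • ⊤ : Submodule (X.presheaf.stalk P) ((L f).presheaf.stalk P)) ∧
      ((L f).presheaf.germ ⊤ Q trivial).hom (sec pX f c) ∉
        (IsLocalRing.maximalIdeal (X.presheaf.stalk Q) • ⊤ : Submodule (X.presheaf.stalk Q) ((L f).presheaf.stalk Q))

/-- Separation of points, in either order. -/
def SepPts' : Prop :=
  ∀ P Q : X, IsClosed ({P} : Set X) → IsClosed ({Q} : Set X) → P ≠ Q →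
    ∃ c : Fin (n + 1) → k,
      (((L f).presheaf.germ ⊤ P trivial).hom (sec pX f c) ∈
        (IsLocalRing.maximalIdeal (X.presheaf.stalk P) • ⊤ : Submodule (X.presheaf.stalk P) ((L f).presheaf.stalk P)) ∧
      ((L f).presheaf.germ ⊤ Q trivial).hom (sec pX f c) ∉
        (IsLocalRing.maximalIdeal (X.presheaf.stalk Q) • ⊤ : Submodule (X.presheaf.stalk Q) ((L f).presheaf.stalk Q))) ∨
      (((L f).presheaf.germ ⊤ Q trivial).hom (sec pX f c) ∈
        (IsLocalRing.maximalIdeal (X.presheaf.stalk Q) • ⊤ : Submodule (X.presheaf.stalk Q) ((L f).presheaf.stalk Q)) ∧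
      ((L f).presheaf.germ ⊤ P trivial).hom (sec pX f c) ∉
        (IsLocalRing.maximalIdeal (X.presheaf.stalk P) • ⊤ : Submodule (X.presheaf.stalk P) ((L f).presheaf.stalk P)))

/-- Separation of tangent vectors. -/
def SepTan : Prop :=
  ∀ P : X, IsClosed ({P} : Set X) →
    (IsLocalRing.maximalIdeal (X.presheaf.stalk P) • ⊤ : Submodule (X.presheaf.stalk P) ((L f).presheaf.stalk P)) ≤
      Submodule.span (X.presheaf.stalk P)
        {v | ∃ c : Fin (n + 1) → k, v = ((L f).presheaf.germ ⊤ P trivial).hom (sec pX f c) ∧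
          v ∈ (IsLocalRing.maximalIdeal (X.presheaf.stalk P) • ⊤ :
            Submodule (X.presheaf.stalk P) ((L f).presheaf.stalk P))} ⊔ mL f 2 P

theorem sepPts'_of_sepPts (h : SepPts pX f) : SepPts' pX f := fun P Q hP hQ hne =>
  (h P Q hP hQ hne).imp fun _ hc => Or.inl hc

/-- The germs at a point of the linear forms vanishing there. -/
def tanIdeal (i : Fin (n + 1)) {x : X} (hx : x ∈ f ⁻¹ᵁ D k n i) : Ideal (X.presheaf.stalk x) :=
  Ideal.span {a | ∃ c : Fin (n + 1) → k, a = X.presheaf.germ (f ⁻¹ᵁ D k n i) x hx (f.app (D k n i) (lf k n i c)) ∧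
    f x ∉ (CohB1.ProjSpace n k).basicOpen (lf k n i c)}

include hf in
theorem map_tanIdeal (i : Fin (n + 1)) {x : X} (hx : x ∈ f ⁻¹ᵁ D k n i) :
    Submodule.map (stalkEquiv f i hx).toLinearMap (tanIdeal f i hx) =
      Submodule.span (X.presheaf.stalk x)
        {v | ∃ c : Fin (n + 1) → k, v = ((L f).presheaf.germ ⊤ x trivial).hom (sec pX f c) ∧
          v ∈ (IsLocalRing.maximalIdeal (X.presheaf.stalk x) • ⊤ :
            Submodule (X.presheaf.stalk x) ((L f).presheaf.stalk x))} := by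
  rw [tanIdeal, Ideal.span, Submodule.map_span]
  congr 1
  ext v
  constructor
  · rintro ⟨a, ⟨c, rfl, hc⟩, rfl⟩
    refine ⟨c, (germ_sec pX f hf i hx c).symm, ?_⟩
    have := (germ_sec_mem pX f hf i hx c).mpr hc
    rwa [germ_sec pX f hf i hx c] at this
  · rintro ⟨c, rfl, hc⟩
    exact ⟨_, ⟨c, rfl, (germ_sec_mem pX f hf i hx c).mp hc⟩, (germ_sec pX f hf i hx c).symm⟩

include hf in
theorem le_tanIdeal_of_sepTan (h : SepTan pX f) (i : Fin (n + 1)) {x : X} (hx : x ∈ f ⁻¹ᵁ D k n i)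
    (hcl : IsClosed ({x} : Set X)) :
    IsLocalRing.maximalIdeal (X.presheaf.stalk x) ≤
      tanIdeal f i hx ⊔ IsLocalRing.maximalIdeal (X.presheaf.stalk x) ^ 2 := by
  have h1 := h x hcl
  rw [mL, ← map_tanIdeal pX f hf i hx, ← map_stalkEquiv f i hx, ← map_stalkEquiv f i hx, ← Submodule.map_sup] at h1
  exact (Submodule.map_le_map_iff_of_injective (stalkEquiv f i hx).injective _ _).mp h1

include hf in
theorem sepTan_of (h : ∀ (i : Fin (n + 1)) (x : X) (hx : x ∈ f ⁻¹ᵁ D k n i), IsClosed ({x} : Set X) →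
    IsLocalRing.maximalIdeal (X.presheaf.stalk x) ≤ tanIdeal f i hx) : SepTan pX f := by
  intro x hcl
  obtain ⟨i, hi⟩ := exists_mem_D k n (f x)
  refine le_trans ?_ le_sup_left
  rw [← map_tanIdeal pX f hf i (x := x) hi, ← map_stalkEquiv f i (x := x) hi]
  exact Submodule.map_mono (h i x hi hcl)

variable [IsAlgClosed k]

theorem exists_values (i : Fin (n + 1)) {y : CohB1.ProjSpace n k} (hy : IsClosed ({y} : Set (CohB1.ProjSpace n k)))
    (hyD : y ∈ D k n i) :
    ∃ v : Fin (n + 1) → k, ∀ j,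
      crd k n i j - cst k n i (v j) ∈ ((isAffineOpen_D k n i).primeIdealOf ⟨y, hyD⟩).asIdeal := by
  letI : (CohB1.ProjSpace n k).Over (Spec (CommRingCat.of k)) := ⟨CohB1.ProjSpace.toSpec n k⟩
  haveI := Basic.isProper_toSpec n k
  haveI : LocallyOfFiniteType (CohB1.ProjSpace n k ↘ Spec (CommRingCat.of k)) :=
    inferInstanceAs (LocallyOfFiniteType (CohB1.ProjSpace.toSpec n k))
  choose v hv using fun j => Groth.Agent.Lib.Curves.SepCriterion.exists_scalar (k := k) (isAffineOpen_D k n i) hy hyD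
    (crd k n i j)
  refine ⟨v, fun j => ?_⟩
  convert hv j using 2
  exact (app_cst (CohB1.ProjSpace.toSpec n k) (𝟙 _) (Category.id_comp _) i (v j)).trans rfl

include hf in
theorem sepPts_of_isClosedImmersion [IsClosedImmersion f] : SepPts pX f := by
  intro P Q hP hQ hne
  have hne' : f P ≠ f Q := fun h => hne (f.isClosedEmbedding.injective h)
  have hPc : IsClosed ({f P} : Set (CohB1.ProjSpace n k)) := by
    simpa using f.isClosedEmbedding.isClosedMap _ hP
  have hQc : IsClosed ({f Q} : Set (CohB1.ProjSpace n k)) := by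
    simpa using f.isClosedEmbedding.isClosedMap _ hQ
  obtain ⟨iQ, hiQ⟩ := exists_mem_D k n (f Q)
  obtain ⟨iP, hiP⟩ := exists_mem_D k n (f P)
  by_cases hPi : f P ∈ D k n iQ
  · obtain ⟨v, hv⟩ := exists_values iQ hPc hPi
    by_contra hcon
    push Not at hcon
    have hall : ∀ j, crd k n iQ j - cst k n iQ (v j) ∈ ((isAffineOpen_D k n iQ).primeIdealOf ⟨f Q, hiQ⟩).asIdeal := by
      intro j
      rw [crd_sub_cst, mem_primeIdealOf_iff]
      refine (germ_sec_mem pX f hf iQ (x := Q) hiQ _).mp (hcon _ ((germ_sec_mem pX f hf iQ (x := P) hPi _).mpr ?_))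
      rw [← crd_sub_cst, ← mem_primeIdealOf_iff (isAffineOpen_D k n iQ) _ hPi]
      exact hv j
    have e : (isAffineOpen_D k n iQ).primeIdealOf ⟨f P, hPi⟩ = (isAffineOpen_D k n iQ).primeIdealOf ⟨f Q, hiQ⟩ :=
      PrimeSpectrum.ext ((prime_eq_span k n iQ (PrimeSpectrum.isPrime _) v hv).trans
        (prime_eq_span k n iQ (PrimeSpectrum.isPrime _) v hall).symm)
    exact hne' ((((isAffineOpen_D k n iQ).fromSpec_primeIdealOf ⟨f P, hPi⟩).symm.trans
      (congrArg _ e)).trans ((isAffineOpen_D k n iQ).fromSpec_primeIdealOf ⟨f Q, hiQ⟩))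
  · refine ⟨Pi.single iQ 1, ?_, ?_⟩
    · rw [germ_sec_mem pX f hf iP (x := P) hiP, lf_single, mem_basicOpen_crd]
      exact fun h => hPi h.2
    · rw [germ_sec_mem pX f hf iQ (x := Q) hiQ, lf_single, mem_basicOpen_crd, not_not]
      exact ⟨hiQ, hiQ⟩

include hf in
theorem sepTan_of_isClosedImmersion [IsClosedImmersion f] : SepTan pX f := by
  refine sepTan_of pX f hf fun i x hx hcl => ?_
  have hyc : IsClosed ({f x} : Set (CohB1.ProjSpace n k)) := by
    simpa using f.isClosedEmbedding.isClosedMap _ hcl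
  have hD := isAffineOpen_D k n i
  have hfx : f x ∈ D k n i := hx
  obtain ⟨v, hv⟩ := exists_values i hyc hfx
  intro a ha
  obtain ⟨b, rfl⟩ := f.stalkMap_surjective x a
  have hb : b ∈ IsLocalRing.maximalIdeal ((CohB1.ProjSpace n k).presheaf.stalk (f x)) := by
    rw [IsLocalRing.mem_maximalIdeal, mem_nonunits_iff] at ha ⊢
    exact fun h => ha (h.map _)
  letI := TopCat.Presheaf.algebra_section_stalk (CohB1.ProjSpace n k).presheaf ⟨f x, hfx⟩
  haveI := hD.isLocalization_stalk ⟨f x, hfx⟩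
  rw [← IsLocalization.AtPrime.map_eq_maximalIdeal (hD.primeIdealOf ⟨f x, hfx⟩).asIdeal,
    prime_eq_span k n i (PrimeSpectrum.isPrime _) v hv, Ideal.map_span] at hb
  suffices h : Ideal.map (f.stalkMap x).hom (Ideal.span ((algebraMap Γ(CohB1.ProjSpace n k, D k n i)
      ((CohB1.ProjSpace n k).presheaf.stalk (f x))) '' Set.range fun j => crd k n i j - cst k n i (v j))) ≤
      tanIdeal f i hx from h (Ideal.mem_map_of_mem _ hb)
  rw [Ideal.map_span, Ideal.span_le]
  rintro _ ⟨_, ⟨_, ⟨j, rfl⟩, rfl⟩, rfl⟩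
  refine Ideal.subset_span ⟨Pi.single j 1 - v j • Pi.single i 1, ?_, ?_⟩
  · rw [← crd_sub_cst]
    exact Scheme.Hom.germ_stalkMap_apply f (D k n i) x hx _
  · rw [← crd_sub_cst, ← mem_primeIdealOf_iff hD _ hfx]
    exact hv j

section Back

variable [IsProper pX]

include hf in
theorem isFinite_of_inj (hinj : ∀ P Q : X, IsClosed ({P} : Set X) → IsClosed ({Q} : Set X) → f P = f Q → P = Q) :
    IsFinite f := by
  haveI := Basic.isProper_toSpec n k
  haveI : IsProper (f ≫ CohB1.ProjSpace.toSpec n k) := hf ▸ inferInstance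
  haveI : IsProper f := IsProper.of_comp f (CohB1.ProjSpace.toSpec n k)
  haveI : JacobsonSpace X := LocallyOfFiniteType.jacobsonSpace pX
  haveI : JacobsonSpace (CohB1.ProjSpace n k) :=
    LocallyOfFiniteType.jacobsonSpace (CohB1.ProjSpace.toSpec n k)
  have hfib : ∀ y : CohB1.ProjSpace n k, IsClosed ({y} : Set (CohB1.ProjSpace n k)) → (f ⁻¹' {y}).Finite := by
    intro y hy
    have hC : IsClosed (f ⁻¹' {y}) := hy.preimage f.continuous
    have hcl := JacobsonSpace.closure_inter_closedPoints hC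
    have hsub : (f ⁻¹' {y} ∩ closedPoints X).Subsingleton := fun P hP Q hQ =>
      hinj P Q hP.2 hQ.2 (hP.1.trans hQ.1.symm)
    rw [← hcl]
    rcases hsub.eq_empty_or_singleton with h | ⟨P, hP⟩
    · rw [h, closure_empty]; exact Set.finite_empty
    · have hPc : IsClosed ({P} : Set X) := (hP.symm ▸ Set.mem_singleton P : P ∈ f ⁻¹' {y} ∩ closedPoints X).2
      rw [hP, hPc.closure_eq]; exact Set.finite_singleton P
  choose V hyV hV using fun y : closedPoints (CohB1.ProjSpace n k) =>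
    exists_isFinite_morphismRestrict_of_finite_preimage_singleton f y.1 (hfib y.1 y.2)
  refine IsZariskiLocalAtTarget.of_iSup_eq_top (P := @IsFinite) V ?_ hV
  by_contra hne
  obtain ⟨z, hz, hzc⟩ := nonempty_inter_closedPoints (X := CohB1.ProjSpace n k)
    (Z := ((⨆ y, V y : (CohB1.ProjSpace n k).Opens) : Set (CohB1.ProjSpace n k))ᶜ)
    (by
      rw [Set.nonempty_compl]
      exact fun h => hne (Opens.ext h))
    ((⨆ y, V y).isOpen.isClosed_compl).isLocallyClosed
  exact hz (Opens.mem_iSup.mpr ⟨⟨z, hzc⟩, hyV ⟨z, hzc⟩⟩)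

include hf in
theorem isClosedImmersion_of (hpts : SepPts' pX f) (htan : SepTan pX f) : IsClosedImmersion f := by
  classical
  haveI := Basic.isProper_toSpec n k
  haveI : IsNoetherianRing (CommRingCat.of k) := inferInstanceAs (IsNoetherianRing k)
  haveI : IsLocallyNoetherian X := LocallyOfFiniteType.isLocallyNoetherian pX
  haveI : JacobsonSpace X := LocallyOfFiniteType.jacobsonSpace pX
  haveI : JacobsonSpace (CohB1.ProjSpace n k) :=
    LocallyOfFiniteType.jacobsonSpace (CohB1.ProjSpace.toSpec n k)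
  letI : X.Over (Spec (CommRingCat.of k)) := ⟨pX⟩
  haveI : LocallyOfFiniteType (X ↘ Spec (CommRingCat.of k)) := inferInstanceAs (LocallyOfFiniteType pX)
  have hinj : ∀ P Q : X, IsClosed ({P} : Set X) → IsClosed ({Q} : Set X) → f P = f Q → P = Q := by
    intro P Q hP hQ hPQ
    by_contra hne
    obtain ⟨i, hi⟩ := exists_mem_D k n (f P)
    have hiQ : f Q ∈ D k n i := hPQ ▸ hi
    obtain ⟨c, ⟨h1, h2⟩ | ⟨h1, h2⟩⟩ := hpts P Q hP hQ hne
    · rw [germ_sec_mem pX f hf i (x := P) hi] at h1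
      rw [germ_sec_mem pX f hf i (x := Q) hiQ, ← hPQ] at h2
      exact h2 h1
    · rw [germ_sec_mem pX f hf i (x := Q) hiQ, ← hPQ] at h1
      rw [germ_sec_mem pX f hf i (x := P) hi] at h2
      exact h2 h1
  haveI := isFinite_of_inj pX f hf hinj
  refine IsZariskiLocalAtTarget.of_iSup_eq_top (P := @IsClosedImmersion) (D k n)
    (Basic.iSup_basicOpen_X_eq_top n k) fun i => ?_
  have hD := isAffineOpen_D k n i
  have hU : IsAffineOpen (f ⁻¹ᵁ D k n i) := hD.preimage f
  haveI : IsAffine ((D k n i : (CohB1.ProjSpace n k).Opens) : Scheme.{u}) := hD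
  haveI : IsAffine ((f ⁻¹ᵁ D k n i : X.Opens) : Scheme.{u}) := hU
  refine IsClosedImmersion.of_surjective_of_isAffine _ ?_
  have e : (f ∣_ D k n i).appTop = (D k n i).topIso.hom ≫ f.app (D k n i) ≫ (f ⁻¹ᵁ D k n i).topIso.inv := by
    rw [← Scheme.Hom.resLE_eq_morphismRestrict, ← Scheme.Hom.appLE_eq_app]
    exact Scheme.Hom.resLE_app_top _ _
  change Function.Surjective (f ∣_ D k n i).appTop
  rw [e]
  refine (ConcreteCategory.bijective_of_isIso (f ⁻¹ᵁ D k n i).topIso.inv).2.comp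
    (Function.Surjective.comp ?_ (ConcreteCategory.bijective_of_isIso (D k n i).topIso.hom).2)
  let A := Γ(CohB1.ProjSpace n k, D k n i)
  let B := Γ(X, f ⁻¹ᵁ D k n i)
  letI : Algebra A B := (f.app (D k n i)).hom.toAlgebra
  haveI : Module.Finite A B := f.finite_app (D k n i) hD
  let N : Submodule A B := LinearMap.range (Algebra.linearMap A B)
  suffices hN : N = ⊤ from fun b => LinearMap.mem_range.mp (hN ▸ Submodule.mem_top : b ∈ N)
  rw [← Submodule.Quotient.subsingleton_iff, ← Module.annihilator_eq_top_iff (R := A)]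
  by_contra hne
  obtain ⟨M, hM, hle⟩ := Ideal.exists_le_maximal _ hne
  suffices hin : (⊤ : Submodule A (B ⧸ N)) ≤ M • ⊤ by
    obtain ⟨s, hs1, hs0⟩ := Submodule.exists_sub_one_mem_and_smul_eq_zero_of_fg_of_le_smul M ⊤
      Module.Finite.fg_top hin
    have hsM : s ∈ M := hle (Module.mem_annihilator.mpr fun q => hs0 q Submodule.mem_top)
    exact hM.ne_top ((Ideal.eq_top_iff_one M).mpr (sub_sub_cancel s 1 ▸ M.sub_mem hsM hs1))
  -- closed points over `M`
  have hpt : ∀ q : Ideal B, q.IsMaximal → M.map (algebraMap A B) ≤ q → ∃ (z : X) (hz : z ∈ f ⁻¹ᵁ D k n i),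
      IsClosed ({z} : Set X) ∧ (hU.primeIdealOf ⟨z, hz⟩).asIdeal = q ∧
      (∀ a : A, f z ∉ (CohB1.ProjSpace n k).basicOpen a ↔ a ∈ M) := by
    intro q hq hMq
    let p : PrimeSpectrum B := ⟨q, hq.isPrime⟩
    have hz : hU.fromSpec p ∈ f ⁻¹ᵁ D k n i := hU.range_fromSpec.subset ⟨p, rfl⟩
    have hp : hU.primeIdealOf ⟨hU.fromSpec p, hz⟩ = p :=
      hU.fromSpec.isOpenEmbedding.injective (hU.fromSpec_primeIdealOf ⟨_, hz⟩)
    refine ⟨hU.fromSpec p, hz, ?_, congrArg PrimeSpectrum.asIdeal hp, fun a => ?_⟩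
    · refine isClosed_singleton_of_isLocallyClosed_singleton ?_
      have h := ((PrimeSpectrum.isClosed_singleton_iff_isMaximal p).mpr hq).isLocallyClosed.image
        hU.fromSpec.isOpenEmbedding.isInducing
        ((congrArg IsLocallyClosed hU.range_fromSpec).mpr (f ⁻¹ᵁ D k n i).2.isLocallyClosed)
      exact (congrArg IsLocallyClosed Set.image_singleton).mp h
    · have h1 : f (hU.fromSpec p) ∉ (CohB1.ProjSpace n k).basicOpen a ↔ a ∈ q.comap (algebraMap A B) := by
        rw [← Scheme.Hom.mem_preimage, Scheme.preimage_basicOpen, ← mem_primeIdealOf_iff hU _ hz, hp]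
        exact Iff.rfl
      rw [h1, ← hM.eq_of_le (Ideal.comap_ne_top _ hq.ne_top) (Ideal.map_le_iff_le_comap.mp hMq)]
  have hconst : ∀ b : B, ∃ a : A, b - algebraMap A B a ∈ M.map (algebraMap A B) := by
    intro b
    by_cases hq : ∃ q : Ideal B, q.IsMaximal ∧ M.map (algebraMap A B) ≤ q
    swap
    · refine ⟨0, ?_⟩
      have htop : M.map (algebraMap A B) = ⊤ := by
        by_contra h
        exact hq (Ideal.exists_le_maximal _ h)
      rw [htop]; trivial
    obtain ⟨q, hqmax, hMq⟩ := hq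
    obtain ⟨z, hz, hzc, hzq, hzM⟩ := hpt q hqmax hMq
    obtain ⟨c, hc⟩ := Groth.Agent.Lib.Curves.SepCriterion.exists_scalar (k := k) hU hzc hz b
    refine ⟨cst k n i c, ?_⟩
    have hb : b - algebraMap A B (cst k n i c) ∈ q := by
      rw [← hzq]
      convert hc using 2
      exact (app_cst pX f hf i c).trans rfl
    set d := b - algebraMap A B (cst k n i c)
    let T : Ideal B := Submodule.comap (LinearMap.toSpanSingleton B B d) (M.map (algebraMap A B))
    suffices hT : T = ⊤ by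
      have : (1 : B) ∈ T := hT ▸ trivial
      simpa [T] using this
    by_contra hT
    obtain ⟨Q, hQ, hTQ⟩ := Ideal.exists_le_maximal _ hT
    have hMQ : M.map (algebraMap A B) ≤ Q :=
      le_trans (fun t ht => Submodule.mem_comap.mpr (Ideal.mul_mem_right d _ ht)) hTQ
    obtain ⟨z', hz', hzc', hzq', hzM'⟩ := hpt Q hQ hMQ
    have hff : f z = f z' := by
      have : hD.primeIdealOf ⟨f z, hz⟩ = hD.primeIdealOf ⟨f z', hz'⟩ := PrimeSpectrum.ext (Ideal.ext fun a => by
        rw [mem_primeIdealOf_iff hD _ hz, mem_primeIdealOf_iff hD _ hz', hzM, hzM'])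
      exact ((hD.fromSpec_primeIdealOf ⟨f z, hz⟩).symm.trans (congrArg _ this)).trans
        (hD.fromSpec_primeIdealOf ⟨f z', hz'⟩)
    obtain rfl : z = z' := hinj z z' hzc hzc' hff
    letI := TopCat.Presheaf.algebra_section_stalk X.presheaf ⟨z, hz⟩
    haveI := hU.isLocalization_stalk ⟨z, hz⟩
    have hJ : IsLocalRing.maximalIdeal (X.presheaf.stalk z) ≤
        (M.map (algebraMap A B)).map (algebraMap B (X.presheaf.stalk z)) := by
      refine Submodule.le_of_le_smul_of_le_jacobson_bot (I := IsLocalRing.maximalIdeal (X.presheaf.stalk z))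
        (IsNoetherian.noetherian _) (IsLocalRing.maximalIdeal_le_jacobson _) ?_
      refine (le_tanIdeal_of_sepTan pX f hf htan i hz hzc).trans (sup_le (le_sup_of_le_left ?_) ?_)
      · refine Ideal.span_le.mpr ?_
        rintro _ ⟨a, rfl, ha⟩
        exact Ideal.mem_map_of_mem _ (Ideal.mem_map_of_mem _ ((hzM _).mp ha))
      · rw [smul_eq_mul, ← pow_two]; exact le_sup_right
    have hdm : algebraMap B (X.presheaf.stalk z) d ∈ (M.map (algebraMap A B)).map (algebraMap B _) := by
      refine hJ ?_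
      rw [← IsLocalization.AtPrime.map_eq_maximalIdeal (hU.primeIdealOf ⟨z, hz⟩).asIdeal]
      exact Ideal.mem_map_of_mem _ (hzq.symm ▸ hb)
    obtain ⟨s, hs, hsd⟩ := (IsLocalization.algebraMap_mem_map_algebraMap_iff
      (hU.primeIdealOf ⟨z, hz⟩).asIdeal.primeCompl (X.presheaf.stalk z) _ d).mp hdm
    exact hs (hzq'.symm ▸ hTQ (show s ∈ T from hsd))
  intro q _
  obtain ⟨b, rfl⟩ := N.mkQ_surjective q
  obtain ⟨a, ha⟩ := hconst b
  have h0 : N.mkQ (algebraMap A B a) = 0 := (Submodule.Quotient.mk_eq_zero N).mpr ⟨a, rfl⟩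
  rw [show N.mkQ b = N.mkQ (b - algebraMap A B a) by rw [map_sub, h0, sub_zero]]
  exact (Submodule.map_smul'' M ⊤ N.mkQ).le.trans (Submodule.smul_mono le_rfl le_top)
    (Submodule.mem_map_of_mem (by rw [Ideal.smul_top_eq_map (S := B) M]; exact ha))

end Back

end Groth.Agent.H26.SepPoints
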