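import Groth.Agent.H26.FibreDim
import Groth.Agent.H26.Purity
import Groth.Agent.Lib.Cyc.SmoothReg
import Groth.Agent.Lib.Regular.Adapted
import Mathlib.RingTheory.Flat.Equalizer
import Mathlib.RingTheory.Ideal.KrullsHeightTheorem
import Mathlib.AlgebraicGeometry.Morphisms.ClosedImmersion

/-!
# Codimension of a smooth closed subscheme of a smooth scheme
-/

universe u

open CategoryTheory CategoryTheory.Limits AlgebraicGeometry IsLocalRing LocCoh

namespace Groth.Agent.H26.SmoothCodim

theorem isRegularLocalRing_quotient_fibre {X S : Scheme.{u}} (f : X ⟶ S) [Smooth f] (x : X) :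
    IsRegularLocalRing
      (X.presheaf.stalk x ⧸ (maximalIdeal (S.presheaf.stalk (f x))).map (f.stalkMap x).hom) := by
  have hsq := IsPullback.of_hasPullback f (S.fromSpecResidueField (f x))
  have : Smooth (f.fiberToSpecResidueField (f x)) :=
    MorphismProperty.of_isPullback (P := @Smooth) hsq ‹Smooth f›
  have : IsRegularLocalRing ((f.fiber (f x)).presheaf.stalk (f.asFiber x)) :=
    @Lib.Cyc.SmoothReg.isRegularLocalRing_stalk (f.fiber (f x)) (S.residueField (f x)) _
      (f.fiberToSpecResidueField (f x)) this _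
  exact IsRegularLocalRing.of_ringEquiv (H46.FiberStalk.quotientEquiv f x).symm

theorem inf_map_le_mul {A B : Type u} [CommRing A] [CommRing B] [Algebra A B] (m : Ideal A)
    (I : Ideal B) [Module.Flat A (B ⧸ I)] :
    I ⊓ m.map (algebraMap A B) ≤ m.map (algebraMap A B) * I := by
  rintro x ⟨hxI, hxm⟩
  let g : I.restrictScalars A →ₗ[A] B := (I.restrictScalars A).subtype
  have hg := LinearMap.lTensor_injective_of_exact_of_flat (P := B ⧸ I)
    ((I.mkQ).restrictScalars A) I.mkQ_surjective g Subtype.val_injective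
    (LinearMap.exact_iff.mpr (by ext; simp [g])) (A ⧸ m)
  have h0 : g.lTensor (A ⧸ m) (1 ⊗ₜ[A] (⟨x, hxI⟩ : I.restrictScalars A)) = 0 := by
    rw [LinearMap.lTensor_tmul]
    apply (TensorProduct.quotTensorEquivQuotSMul B m).injective
    rw [TensorProduct.quotTensorEquivQuotSMul_mk_one_tmul, map_zero, Submodule.Quotient.mk_eq_zero,
      Ideal.smul_top_eq_map]
    exact hxm
  have h1 := hg (h0.trans (map_zero _).symm)
  have h2 := congrArg (TensorProduct.quotTensorEquivQuotSMul (I.restrictScalars A) m) h1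
  rw [TensorProduct.quotTensorEquivQuotSMul_mk_one_tmul, map_zero, Submodule.Quotient.mk_eq_zero]
    at h2
  have h3 := Submodule.mem_map_of_mem (f := g) h2
  rw [Submodule.map_smul''] at h3
  refine Submodule.smul_induction_on (p := fun z => z ∈ m.map (algebraMap A B) * I) h3 ?_
    fun _ _ => add_mem
  rintro r hr _ ⟨z, -, rfl⟩
  rw [Algebra.smul_def]
  exact Ideal.mul_mem_mul (Ideal.mem_map_of_mem _ hr) z.2

theorem exists_minimal_height_le {A B : Type u} [CommRing A] [CommRing B] [IsLocalRing B]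
    [IsNoetherianRing B] (m : Ideal A) (φ : A →+* B) (hm : m.map φ ≤ maximalIdeal B)
    (I : Ideal B) (hI : I ≤ maximalIdeal B) (hflat : ((Ideal.Quotient.mk I).comp φ).Flat)
    [IsRegularLocalRing (B ⧸ m.map φ)] [IsRegularLocalRing (B ⧸ (I ⊔ m.map φ))] :
    ∃ q : Ideal B, q.IsPrime ∧ I ≤ q ∧
      (q.height : WithBot ℕ∞) ≤ ringKrullDim (B ⧸ m.map φ) := by
  classical
  let π := Ideal.Quotient.mk (m.map φ)
  have e : IsRegularLocalRing ((B ⧸ m.map φ) ⧸ I.map π) := IsRegularLocalRing.of_ringEquiv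
    ((DoubleQuot.quotQuotEquivQuotSup (m.map φ) I).trans
      (Ideal.quotEquivOfEq (sup_comm (m.map φ) I))).symm
  obtain ⟨s, t, hs, -, hlen, -⟩ :=
    Lib.Regular.Adapted.exists_adapted _ (B ⧸ m.map φ) rfl (I.map π)
  have hl : ∀ r ∈ s, ∃ b ∈ I, π b = r := fun r hr =>
    (Ideal.mem_map_iff_of_surjective π Ideal.Quotient.mk_surjective).mp
      (hs ▸ Ideal.subset_span hr)
  choose! l hlI hlπ using hl
  let T := s.toFinset.image l
  have hT : Ideal.span (T : Set B) ≤ I := Ideal.span_le.mpr fun b hb => by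
    obtain ⟨r, hr, rfl⟩ := Finset.mem_image.mp (Finset.mem_coe.mp hb)
    exact hlI r (List.mem_toFinset.mp hr)
  have hIT : I ≤ Ideal.span (T : Set B) := by
    refine Submodule.le_of_le_smul_of_le_jacobson_bot (I := maximalIdeal B)
      (IsNoetherian.noetherian I) (IsLocalRing.maximalIdeal_le_jacobson ⊥) fun x hx => ?_
    have hx' : π x ∈ (Ideal.span (T : Set B)).map π := by
      refine SetLike.le_def.mp ?_ (Ideal.mem_map_of_mem π hx)
      rw [← hs, Ideal.ofList, Ideal.span_le]
      intro r hr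
      rw [← hlπ r hr]
      exact Ideal.mem_map_of_mem π
        (Ideal.subset_span (Finset.mem_image_of_mem l (List.mem_toFinset.mpr hr)))
    obtain ⟨b, hb, hbx⟩ :=
      (Ideal.mem_map_iff_of_surjective π Ideal.Quotient.mk_surjective).mp hx'
    have hsub : x - b ∈ m.map φ := Ideal.Quotient.eq.mp hbx.symm
    algebraize [φ]
    haveI : Module.Flat A (B ⧸ I) := RingHom.flat_algebraMap_iff.mp hflat
    have := inf_map_le_mul m I ⟨sub_mem hx (hT hb), hsub⟩
    rw [show x = b + (x - b) by ring]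
    exact Submodule.add_mem_sup hb (Ideal.mul_mono_left hm this)
  obtain ⟨q, hq, -⟩ := Ideal.exists_minimalPrimes_le (J := maximalIdeal B) (hT.trans hI)
  refine ⟨q, hq.1.1, hIT.trans hq.1.2, ?_⟩
  have h1 := Ideal.height_le_card_of_mem_minimalPrimes_span_finset hq
  have h2 : T.card ≤ (maximalIdeal (B ⧸ m.map φ)).spanFinrank :=
    (Finset.card_image_le.trans (List.toFinset_card_le s)).trans (by omega)
  rw [← IsRegularLocalRing.spanFinrank_maximalIdeal (R := B ⧸ m.map φ)]
  exact le_trans (WithBot.coe_le_coe.mpr h1) (by exact_mod_cast h2)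

theorem exists_point_le {X Y S : Scheme.{u}} [IsLocallyNoetherian X] [IsLocallyNoetherian S]
    (f : X ⟶ S) [Smooth f] (i : Y ⟶ X) [IsClosedImmersion i] [Smooth (i ≫ f)] (w : Y) :
    ∃ y ∈ Set.range i.base, ringKrullDim (X.presheaf.stalk y) ≤
      ringKrullDim (CInt.fiberStalk f (i w)) := by
  let B := X.presheaf.stalk (i w)
  let φ := (f.stalkMap (i w)).hom
  let ψ := (i.stalkMap w).hom
  let m := maximalIdeal (S.presheaf.stalk (f (i w)))
  have hψ : Function.Surjective ψ := i.stalkMap_surjective w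
  let e := RingHom.quotientKerEquivOfSurjective hψ
  have hI : RingHom.ker ψ ≤ maximalIdeal B := le_maximalIdeal (RingHom.ker_ne_top ψ)
  have hcomp : ((i ≫ f).stalkMap w).hom = ψ.comp φ := by
    rw [Scheme.Hom.stalkMap_comp]; rfl
  have hflat : ((Ideal.Quotient.mk (RingHom.ker ψ)).comp φ).Flat := by
    have h1 : (ψ.comp φ).Flat := hcomp ▸ Flat.stalkMap (i ≫ f) w
    have h2 : (e.symm.toRingHom.comp (ψ.comp φ)).Flat :=
      RingHom.Flat.comp h1 (RingHom.Flat.of_bijective (f := e.symm.toRingHom) e.symm.bijective)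
    have e2 : (e.symm.toRingHom.comp (ψ.comp φ)) =
        (Ideal.Quotient.mk (RingHom.ker ψ)).comp φ := by
      ext a
      apply e.injective
      change e (e.symm (ψ (φ a))) = e (Ideal.Quotient.mk _ (φ a))
      rw [RingEquiv.apply_symm_apply]
      rfl
    exact e2 ▸ h2
  have : IsRegularLocalRing (B ⧸ m.map φ) := isRegularLocalRing_quotient_fibre f (i w)
  have : IsRegularLocalRing (B ⧸ (RingHom.ker ψ ⊔ m.map φ)) := by
    have h := isRegularLocalRing_quotient_fibre (i ≫ f) w
    have hm' : (maximalIdeal (S.presheaf.stalk ((i ≫ f) w))).map ((i ≫ f).stalkMap w).hom =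
        (m.map φ).map ψ := by
      rw [hcomp, Ideal.map_map]; rfl
    have : IsRegularLocalRing (Y.presheaf.stalk w ⧸ (m.map φ).map ψ) :=
      IsRegularLocalRing.of_ringEquiv (Ideal.quotEquivOfEq hm')
    refine IsRegularLocalRing.of_ringEquiv ((Ideal.quotientEquiv ((m.map φ).map
      (Ideal.Quotient.mk (RingHom.ker ψ))) ((m.map φ).map ψ) e ?_).symm.trans
      (DoubleQuot.quotQuotEquivQuotSup _ _))
    conv_rhs => rw [Ideal.map_map]
    congr 1
  obtain ⟨q, hq, hqI, hht⟩ := exists_minimal_height_le m φ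
    (((local_hom_TFAE φ).out 0 2).mp (inferInstance : IsLocalHom (f.stalkMap (i w)).hom))
    (RingHom.ker ψ) hI hflat
  rw [H46.FiberStalk.ringKrullDim_stalk_fiber f (i w)]
  refine ⟨X.fromSpecStalk (i w) ⟨q, hq⟩, ?_, ?_⟩
  · have hmem : (⟨q, hq⟩ : PrimeSpectrum B) ∈ Set.range (PrimeSpectrum.comap ψ) := by
      rw [range_comap_of_surjective _ ψ hψ, PrimeSpectrum.mem_zeroLocus]
      exact hqI
    obtain ⟨q', hq'⟩ := hmem
    refine ⟨Y.fromSpecStalk w q', ?_⟩
    rw [← hq']
    exact congr($(Scheme.SpecMap_stalkMap_fromSpecStalk i (x := w)) q').symm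
  · rw [Purity.ringKrullDim_stalk_fromSpecStalk]
    exact hht

end Groth.Agent.H26.SmoothCodim
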