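import Groth.Agent.H40.HypBox
import Groth.Agent.Lib.RelDiv.Cartier
import Groth.Agent.Lib.AlmostBlowUp.Basic
import Groth.Agent.Lib.FibreInt.Basic
import Groth.Agent.Lib.BirMap96.SmoothCritScheme
import Groth.Agent.Lib.SchQuot.IsQuot
import Groth.Agent.Lib.TensorMod.HomGlue
import Groth.Agent.Lib.Ample.GenLocus
import Groth.Agent.Lib.Ample.Pow

/-!
# Descent along the symmetric square of a curve, and pulling section divisors back to a fibre
-/

noncomputable section
set_option autoImplicit false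
set_option linter.style.haveILetI false
set_option linter.unusedSectionVars false
set_option maxHeartbeats 1000000
universe u

open CategoryTheory CategoryTheory.Limits AlgebraicGeometry TopologicalSpace Opposite

namespace Groth.Agent.H26.SymSqTheta

open Groth.Agent.Lib
open Groth.Agent.Lib.TensorMod.Basic (comm assoc tensorIso leftUnit rightUnit)
open Groth.Agent.Lib.TensorMod.Dual (rs rf rs_rs rf_rf rs_self rf_self rs_smul)
open Groth.Agent.Lib.TensorMod.Gen (IsGen)
open Groth.Agent.Lib.TensorMod.Pullback (unitSec)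

section Descent

variable {X Y : Scheme.{u}} {G : Type u} [Group G] {ρ : G →* Aut X} {p : X ⟶ Y}

theorem gen_app {L M : X.Modules} (e : L ≅ M) {U : X.Opens} {x : Γ(L, U)} (hx : IsGen L U x) :
    IsGen M U (e.hom.app U x) := fun V hV => by
  have h : (fun a : Γ(X, V) => a • rs M hV (e.hom.app U x)) =
      e.hom.app V ∘ fun a => a • rs L hV x := funext fun a => by
    rw [Function.comp_apply, Scheme.Modules.Hom.app_smul, ← Modules.TensorSec.app_rs]
  rw [h]
  exact (ConcreteCategory.bijective_of_isIso (e.hom.app V)).comp (hx V hV)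

theorem isUnit_of_gen {U : X.Opens} {a : Γ(X, U)}
    (ha : IsGen (Coh.structureModule X) U (show Γ(Coh.structureModule X, U) from a)) : IsUnit a := by
  obtain ⟨b, hb⟩ := (ha U le_rfl).2 (show Γ(Coh.structureModule X, U) from (1 : Γ(X, U)))
  have e := rs_self (Coh.structureModule X) (le_refl U) (show Γ(Coh.structureModule X, U) from a)
  exact IsUnit.of_mul_eq_one (M := Γ(X, U)) b (((mul_comm a b).trans (congrArg (b • ·) e.symm)).trans hb)

theorem gen_of_isUnit {U : X.Opens} {a : Γ(X, U)} (ha : IsUnit a) :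
    IsGen (Coh.structureModule X) U (show Γ(Coh.structureModule X, U) from a) := by
  have h := Ample.GenLocus.IsGen_smul_isUnit (Ample.GenLocus.isGen_one U) ha
  rwa [show a • TensorMod.Gen.one X U = (show Γ(Coh.structureModule X, U) from a) from mul_one a] at h

/-- Trivial pullback descends when functions of the cover are fixed and there is a fixed curve. -/
theorem nonempty_iso_of_pullback (hp : SGA1.IsQuot ρ p) {D : Scheme.{u}} [Nonempty D] (δ : D ⟶ X)
    (hδ : ∀ g : G, δ ≫ (ρ g).hom = δ)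
    (hconst : ∀ r : Γ(X, ⊤), δ.appTop r = 1 → r = 1) {M : Y.Modules} (hM : PicF.IsInvertible M)
    (e : (Scheme.Modules.pullback p).obj M ≅ Coh.structureModule X) :
    Nonempty (M ≅ Coh.structureModule Y) := by
  classical
  choose U h hU hgen using TensorMod.Gen.isInvertible_iff.1 hM
  have hcov : iSup U = ⊤ := eq_top_iff.2 fun y _ => Opens.mem_iSup.2 ⟨y, hU y⟩
  let u : ∀ y, Γ(X, p ⁻¹ᵁ U y) := fun y => e.hom.app (p ⁻¹ᵁ U y) (unitSec p M (h y))
  have hu : ∀ y, IsUnit (u y) := fun y =>
    isUnit_of_gen (gen_app e (Ample.GenLocus.isGen_unitSec p (hgen y)))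
  -- overlaps
  have hov : ∀ (y y' : Y) (W : Y.Opens) (hy : W ≤ U y) (hy' : W ≤ U y') (c : Γ(Y, W)),
      rs M hy (h y) = c • rs M hy' (h y') →
        rf (fun z hz => hy hz : p ⁻¹ᵁ W ≤ p ⁻¹ᵁ U y) (u y) =
          p.app W c * rf (fun z hz => hy' hz : p ⁻¹ᵁ W ≤ p ⁻¹ᵁ U y') (u y') := by
    intro y y' W hy hy' c hc
    have h1 := congrArg (fun m => e.hom.app (p ⁻¹ᵁ W) (unitSec p M m)) hc
    simp only at h1
    rw [Modules.ProjFormula.unitSec_smul, ← Modules.ProjFormula.unitSec_rs p hy,
      ← Modules.ProjFormula.unitSec_rs p hy', Scheme.Modules.Hom.app_smul] at h1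
    exact (Modules.TensorSec.app_rs e.hom _ _).symm.trans
      (h1.trans (congrArg (p.app W c • ·) (Modules.TensorSec.app_rs e.hom _ _)))
  have hinv : ∀ (g : G) (y : Y), ((ρ g).hom.appLE (p ⁻¹ᵁ U y) (p ⁻¹ᵁ U y)
      (SGA1.preimage_le_of_inv ρ p hp.inv g (U y))).hom (u y) = u y := by
    intro g
    let P : ∀ W : Y.Opens, Γ(X, p ⁻¹ᵁ W) ⟶ Γ(X, p ⁻¹ᵁ W) := fun W => SchQuot.IsQuot.pull hp.inv g W
    have hPres : ∀ (V W : Y.Opens) (hVW : V ≤ W) (s : Γ(X, p ⁻¹ᵁ W)),
        rf (fun z hz => hVW hz : p ⁻¹ᵁ V ≤ p ⁻¹ᵁ W) (P W s) = P V (rf (fun z hz => hVW hz : p ⁻¹ᵁ V ≤ p ⁻¹ᵁ W) s) := by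
      intro V W hVW s
      show ((ρ g).hom.appLE _ _ _ ≫ X.presheaf.map _) s = (X.presheaf.map _ ≫ (ρ g).hom.appLE _ _ _) s
      rw [Scheme.Hom.appLE_map, Scheme.Hom.map_appLE]
    let r : ∀ y, Γ(X, p ⁻¹ᵁ U y) := fun y => P (U y) (u y) * ((hu y).unit⁻¹ : (Γ(X, p ⁻¹ᵁ U y))ˣ)
    have hr : ∀ y, r y * u y = P (U y) (u y) := fun y => by
      show _ * _ * _ = _
      rw [mul_assoc, IsUnit.val_inv_mul, mul_one]
    obtain ⟨R, hR, -⟩ := TopCat.Sheaf.existsUnique_gluing' X.sheaf (fun y => p ⁻¹ᵁ U y) ⊤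
      (fun y => homOfLE le_top) (fun x _ => Opens.mem_iSup.2 ⟨p x, hU (p x)⟩) r fun y y' => by
        let W := U y ⊓ U y'
        have i₁ : p ⁻¹ᵁ W ≤ p ⁻¹ᵁ U y := fun z hz => hz.1
        have i₂ : p ⁻¹ᵁ W ≤ p ⁻¹ᵁ U y' := fun z hz => hz.2
        show rf (i₁) (r y) = rf (i₂) (r y')
        obtain ⟨c, hc⟩ := (hgen y' W inf_le_right).2 (rs M (inf_le_left : W ≤ U y) (h y))
        have e1 := hov y y' W inf_le_left inf_le_right c hc.symm
        have a1 : rf i₁ (r y) * rf i₁ (u y) = P W (rf i₁ (u y)) := by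
          rw [← map_mul (X.presheaf.map _).hom, hr]; exact hPres W (U y) inf_le_left (u y)
        have a2 : rf i₂ (r y') * rf i₂ (u y') = P W (rf i₂ (u y')) := by
          rw [← map_mul (X.presheaf.map _).hom, hr]; exact hPres W (U y') inf_le_right (u y')
        have hP : P W (p.app W c) = p.app W c :=
          ConcreteCategory.congr_hom (SchQuot.IsQuot.app_pull hp W g) c
        have huW : IsUnit (rf i₁ (u y)) := (hu y).map (X.presheaf.map _).hom
        refine huW.mul_right_cancel ?_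
        rw [a1, e1, map_mul, hP, ← a2]
        ring
    have hR' : ∀ y, rf (le_top : p ⁻¹ᵁ U y ≤ ⊤) R = r y := hR
    change Γ(X, ⊤) at R
    have hR1 : R = 1 := by
      refine hconst R ?_
      refine TopCat.Sheaf.eq_of_locally_eq' D.sheaf (fun y => δ ⁻¹ᵁ (p ⁻¹ᵁ U y)) ⊤ (fun y => homOfLE le_top)
        (fun x _ => Opens.mem_iSup.2 ⟨p (δ x), hU (p (δ x))⟩) _ _ fun y => ?_
      show rf le_top (δ.app ⊤ R) = rf le_top 1
      rw [show rf (le_top : δ ⁻¹ᵁ (p ⁻¹ᵁ U y) ≤ ⊤) (1 : Γ(D, ⊤)) = 1 from map_one _]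
      have h1 : rf (le_top : δ ⁻¹ᵁ (p ⁻¹ᵁ U y) ≤ ⊤) (δ.app ⊤ R) = δ.app (p ⁻¹ᵁ U y) (r y) := by
        rw [← hR' y]
        exact (Modules.ProjFormula.app_rf δ le_top R).symm
      rw [h1]
      have h2 : δ.app (p ⁻¹ᵁ U y) (P (U y) (u y)) = δ.app (p ⁻¹ᵁ U y) (u y) := by
        show ((ρ g).hom.appLE _ _ _ ≫ δ.app _) (u y) = _
        rw [Scheme.Hom.app_eq_appLE, Scheme.Hom.appLE_comp_appLE]
        simp only [hδ g]
      refine ((hu y).map (δ.app (p ⁻¹ᵁ U y)).hom).mul_right_cancel ?_
      rw [one_mul, ← map_mul, hr]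
      exact h2
    intro y
    show P (U y) (u y) = u y
    rw [← hr, ← hR' y, hR1]
    exact (congrArg (· * u y) (map_one (X.presheaf.map _).hom)).trans (one_mul _)
  choose b hb using fun y => (hp.range_iff (U y) (u y)).2 fun g => hinv g y
  have hbu : ∀ y, IsUnit (b y) := fun y => by
    obtain ⟨b', hb'⟩ := (hp.range_iff (U y) ((hu y).unit⁻¹ : (Γ(X, p ⁻¹ᵁ U y))ˣ)).2 fun g => by
      have h1 := hinv g y
      refine ((hu y).mul_left_cancel ?_)
      rw [IsUnit.mul_val_inv]
      conv_lhs => arg 1; rw [← h1]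
      rw [← map_mul, IsUnit.mul_val_inv, map_one]
    refine IsUnit.of_mul_eq_one b' (hp.injective (U y) ?_)
    rw [map_mul, hb, hb', map_one, IsUnit.mul_val_inv]
  have hbO : ∀ y, IsGen (Coh.structureModule Y) (U y) (show Γ(Coh.structureModule Y, U y) from b y) :=
    fun y => gen_of_isUnit (hbu y)
  have hcompat : ∀ (y y' : Y) (W : Y.Opens) (hy : W ≤ U y) (hy' : W ≤ U y') (c : Γ(Y, W)),
      rs M hy (h y) = c • rs M hy' (h y') → rf hy (b y) = c * rf hy' (b y') := by
    intro y y' W hy hy' c hc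
    apply hp.injective W
    rw [map_mul]
    rw [Modules.ProjFormula.app_rf p hy, Modules.ProjFormula.app_rf p hy']
    rw [hb, hb]
    exact hov y y' W hy hy' c hc
  obtain ⟨φ, hφ⟩ := TensorMod.HomGlue.exists_hom_of_gen hcov h hgen
    (fun y => (show Γ(Coh.structureModule Y, U y) from b y)) fun y y' W hy hy' c hc => hcompat y y' W hy hy' c hc
  obtain ⟨ψ, hψ⟩ := TensorMod.HomGlue.exists_hom_of_gen hcov
    (fun y => (show Γ(Coh.structureModule Y, U y) from b y)) hbO h fun y y' W hy hy' c hc => by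
      obtain ⟨c', hc'⟩ := (hgen y' W hy').2 (rs M hy (h y))
      have hc'' : rs M hy (h y) = c' • rs M hy' (h y') := hc'.symm
      have := hcompat y y' W hy hy' c' hc''
      rw [hc'']
      congr 1
      exact (hbO y' W hy').1 (this.symm.trans hc)
  refine ⟨⟨φ, ψ, ?_, ?_⟩⟩
  · refine TensorMod.HomGlue.hom_ext_gen hcov h hgen fun y => ?_
    show ψ.app (U y) (φ.app (U y) (h y)) = h y
    rw [hφ, hψ]
  · refine TensorMod.HomGlue.hom_ext_gen hcov _ hbO fun y => ?_
    show φ.app (U y) (ψ.app (U y) _) = _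
    rw [hψ, hφ]
    rfl

end Descent

variable {k : Type u} [Field k] [IsAlgClosed k] {C : Scheme.{u}} [C.Over (Spec (CommRingCat.of k))]
  [IsProper (C ↘ Spec (CommRingCat.of k))] [Smooth (C ↘ Spec (CommRingCat.of k))] [ConnectedSpace ↥C]
  (hdim : topologicalKrullDim ↥C = 1)

local notation "pC" => (C ↘ Spec (CommRingCat.of k))
local notation "SS" => pullback pC pC

/-- The graph of an automorphism fixing `x` cuts the fibre over `x` in `x`. -/
theorem nonempty_fibre_pullback (hdim : topologicalKrullDim ↥C = 1) (τ : C ⟶ C) (hτ : τ ≫ pC = pC)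
    (x : Spec (CommRingCat.of k) ⟶ C) (hx : x ≫ pC = 𝟙 _) (hxτ : x ≫ τ = x)
    {A : C.Modules} (hA : PicF.IsInvertible A) (hAinv : _root_.ClSub.IsInverseOf A (_root_.ClSub.idealMod x.ker))
    {s : C ⟶ SS} (hs1 : s ≫ pullback.fst pC pC = 𝟙 C) (hs2 : s ≫ pullback.snd pC pC = τ)
    {N : (SS).Modules} (hN : _root_.ClSub.IsInverseOf N (_root_.ClSub.idealMod s.ker)) :
    Nonempty ((Scheme.Modules.pullback (pullback.lift (pC ≫ x) (𝟙 C)
      (by rw [Category.assoc, hx, Category.comp_id, Category.id_comp]))).obj N ≅ A) := by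
  haveI := HypSq96.Basic.isIntegral_C (k := k) hdim
  haveI : IsClosedImmersion x := by
    haveI : IsClosedImmersion (x ≫ pC) := hx ▸ inferInstance
    exact IsClosedImmersion.of_comp x pC
  haveI : IsClosedImmersion s := by
    haveI : IsClosedImmersion (s ≫ pullback.fst pC pC) := hs1 ▸ inferInstance
    exact IsClosedImmersion.of_comp s (pullback.fst pC pC)
  set f := pullback.lift (pC ≫ x) (𝟙 C) (by rw [Category.assoc, hx, Category.comp_id, Category.id_comp])
  have hf1 : f ≫ pullback.fst pC pC = pC ≫ x := pullback.lift_fst _ _ _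
  have hf2 : f ≫ pullback.snd pC pC = 𝟙 C := pullback.lift_snd _ _ _
  have hsq : x ≫ f = x ≫ s := pullback.hom_ext
    (by rw [Category.assoc, Category.assoc, hs1, hf1, reassoc_of% hx, Category.comp_id])
    (by rw [Category.assoc, Category.assoc, hs2, hf2, hxτ, Category.comp_id])
  have hpb : IsPullback x x s f := by
    refine IsPullback.of_isLimit' ⟨hsq.symm⟩ (PullbackCone.IsLimit.mk _ (fun c => c.fst ≫ pC) ?_ ?_ ?_)
    · intro c
      have h1 := congrArg (· ≫ pullback.fst pC pC) c.condition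
      simp only [Category.assoc, hs1, Category.comp_id, f, pullback.lift_fst] at h1
      have h2 := congrArg (· ≫ pC) h1
      simp only [Category.assoc, hx, Category.comp_id] at h2
      rw [h2, Category.assoc]
      exact h1.symm
    · intro c
      have h1 := congrArg (· ≫ pullback.fst pC pC) c.condition
      simp only [Category.assoc, hs1, Category.comp_id, f, pullback.lift_fst] at h1
      have h2 := congrArg (· ≫ pullback.snd pC pC) c.condition
      simp only [Category.assoc, hs2, Category.comp_id, f, pullback.lift_snd] at h2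
      have ea : c.fst ≫ pC ≫ x = c.fst := by rw [h1]; simp only [Category.assoc, reassoc_of% hx]
      have eb : c.fst ≫ τ = c.fst := by rw [h1]; simp only [Category.assoc, hxτ]
      exact (Category.assoc _ _ _).trans (ea.trans (eb.symm.trans h2))
    · intro c m hm1 hm2
      rw [← hm1, Category.assoc, hx, Category.comp_id]
  have hker : x.ker = s.ker.comap f := AlmostBlowUp.Basic.ker_of_isPullback hpb
  have hs : BlowUp.IsEffCartierIdeal s.ker := by
    haveI : SmoothOfRelativeDimension 1 pC := by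
      letI : (Spec (CommRingCat.of k)).Over (Spec (CommRingCat.of k)) := ⟨𝟙 _⟩
      haveI : LocallyOfFiniteType (Spec (CommRingCat.of k) ↘ Spec (CommRingCat.of k)) :=
        inferInstanceAs (LocallyOfFiniteType (𝟙 _))
      have h0 : topologicalKrullDim (Spec (CommRingCat.of k)) = ((0 : ℕ) : WithBot ℕ∞) := by
        change topologicalKrullDim (PrimeSpectrum k) = _
        rw [PrimeSpectrum.topologicalKrullDim_eq_ringKrullDim, ringKrullDim_eq_zero_of_field]
        rfl
      exact BirMap96.SmoothCritScheme.smoothOfRelativeDimension pC (Category.comp_id _) 1 0 hdim h0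
    haveI : MorphismProperty.IsStableUnderBaseChange (@SmoothOfRelativeDimension 1 : MorphismProperty Scheme.{u}) :=
      smoothOfRelativeDimension_isStableUnderBaseChange 1
    haveI : SmoothOfRelativeDimension 1 (pullback.fst pC pC) :=
      MorphismProperty.of_isPullback (P := @SmoothOfRelativeDimension 1) (IsPullback.of_hasPullback pC pC).flip inferInstance
    refine RelDiv.Cartier.isEffCartier_of_isFinLocFree (pullback.fst pC pC) _ ?_
    haveI : IsIso s.toImage := inferInstance
    have hcomp : s.imageι ≫ pullback.fst pC pC = inv s.toImage := by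
      rw [eq_comm, IsIso.inv_eq_of_hom_inv_id]
      rw [Scheme.Hom.toImage_imageι_assoc, hs1]
    show Mor2.IsFinLocFree (s.imageι ≫ pullback.fst pC pC)
    rw [hcomp]
    exact ⟨inferInstance, inferInstance, inferInstance⟩
  have hη : genericPoint C ∉ ((s.ker.comap f).support : Set C) := by
    rw [← hker, Scheme.Hom.support_ker, x.isClosedEmbedding.isClosed_range.closure_eq]
    rintro ⟨o, ho⟩
    have hc : IsClosed ({genericPoint C} : Set C) := by
      have : ({genericPoint C} : Set C) = Set.range x := by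
        ext y
        constructor
        · rintro rfl; exact ⟨o, ho⟩
        · rintro ⟨o', rfl⟩; rw [Subsingleton.elim o' o, ho]; rfl
      rw [this]; exact x.isClosedEmbedding.isClosed_range
    exact SmoothCurve.Stalk.ne_genericPoint_of_isClosed (by rw [hdim]; exact one_ne_zero) hc rfl
  obtain ⟨-, ⟨i⟩⟩ := FibreInt.nonempty_pullback_idealMod_of_not_mem f hs hη
  obtain ⟨eN⟩ := hN
  obtain ⟨eA⟩ := hAinv
  rw [← hker] at i
  exact ⟨TensorMod.Invertible.cancelRight (L := _root_.ClSub.idealMod x.ker)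
    (TensorMod.TensorInv.isInvertible_of_tensor_iso (comm _ _ ≪≫ eA))
    (tensorIso (Iso.refl _) i.symm ≪≫ (TensorMod.Pullback.pullbackTensorIso f _ _).symm ≪≫
      (Scheme.Modules.pullback f).mapIso eN ≪≫ PicLoc.pullbackStructureIso f ≪≫ eA.symm)⟩

/-- Global functions on the square are constants, detected on the diagonal. -/
theorem eq_one_of_diag (hdim : topologicalKrullDim ↥C = 1) [IsIntegral (SS)] (r : Γ(SS, ⊤))
    (h : (pullback.diagonal pC).appTop r = 1) : r = 1 := by
  haveI := HypSq96.Basic.isIntegral_C (k := k) hdim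
  letI : (SS).Over (Spec (CommRingCat.of k)) := ⟨pullback.fst pC pC ≫ pC⟩
  haveI : IsProper ((SS) ↘ Spec (CommRingCat.of k)) := by
    show IsProper (pullback.fst pC pC ≫ pC); infer_instance
  haveI : IsDomain Γ(SS, ⊤) := inferInstance
  letI : Algebra k Γ(SS, ⊤) := RingHom.toAlgebra (S := Γ(SS, ⊤)) (Coh.toGlobal ((SS) ↘ Spec (CommRingCat.of k)))
  haveI : Module.Finite k Γ(SS, ⊤) := Curves.GlobalSections.finite_toGlobal k (SS)
  have hb : Function.Bijective (algebraMap k Γ(SS, ⊤)) := IsAlgClosed.algebraMap_bijective_of_isIntegral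
  obtain ⟨c, rfl⟩ := hb.2 r
  have hinj : Function.Injective (((pullback.diagonal pC).appTop.hom).comp (algebraMap k Γ(SS, ⊤))) :=
    RingHom.injective _
  have : c = 1 := hinj (by simpa using h)
  rw [this, map_one]

end Groth.Agent.H26.SymSqTheta
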