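import Groth.Agent.Lib.FlatCA.WeakAssBC
import Groth.Agent.Lib.FlatCA.LocalModel
import Mathlib.RingTheory.Polynomial.Basic
import Mathlib.LinearAlgebra.TensorProduct.RightExactness

/-!
# Universal injectivity from injectivity on fibres

An `A`-linear map from a localization of a finitely presented module to a flat module, injective on
every fibre, is universally injective.  The coefficients of a presentation and of one element
killing all torsion of the fibre live in a Noetherian subring `A₀`; over the residue field of `A₀`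
one can rewrite tensors so that the first factors become independent in the fibre.
-/

set_option maxHeartbeats 1000000
set_option linter.all false

noncomputable section

universe u

open TensorProduct

namespace Groth.Agent.H26.UnivInjFibre

section Abstract

variable {A : Type u} [CommRing A]

theorem coeff_zero_of_independent (p : Ideal A) [p.IsPrime] {M W : Type u} [AddCommGroup M] [Module A M]
    [Module.Flat A M] [AddCommGroup W] [Module A W] [Module (Localization.AtPrime p) W]
    [IsScalarTower A (Localization.AtPrime p) W] {r : ℕ} (m : Fin r → M) (w : Fin r → W)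
    (hli : LinearIndependent p.ResidueField fun i => (1 : p.ResidueField) ⊗ₜ[A] m i)
    (h : ∑ i, m i ⊗ₜ[A] w i = 0) : w = 0 := by
  classical
  let Ap := Localization.AtPrime p
  let φ : (Fin r → Ap) →ₗ[Ap] Ap ⊗[A] M :=
    Fintype.linearCombination Ap (fun i => (1 : Ap) ⊗ₜ[A] m i)
  have hφs : ∀ i, φ (Pi.single i 1) = (1 : Ap) ⊗ₜ[A] m i := fun i => by
    simp [φ, Fintype.linearCombination_apply, Pi.single_apply, ite_smul]
  have hinj : Function.Injective (φ.lTensor (IsLocalRing.ResidueField Ap)) := by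
    refine (injective_iff_map_eq_zero _).2 fun z hz => ?_
    obtain ⟨c, hc⟩ : ∃ c : Fin r → IsLocalRing.ResidueField Ap,
        z = ∑ i, c i ⊗ₜ[Ap] (Pi.single i (1 : Ap) : Fin r → Ap) := by
      refine ⟨TensorProduct.piScalarRight Ap Ap (IsLocalRing.ResidueField Ap) (Fin r) z, ?_⟩
      apply (TensorProduct.piScalarRight Ap Ap (IsLocalRing.ResidueField Ap) (Fin r)).injective
      funext j
      simp [Pi.single_apply, ite_smul]
    have e := congrArg (TensorProduct.AlgebraTensorModule.cancelBaseChange A Ap Ap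
      (IsLocalRing.ResidueField Ap) M) hz
    rw [hc] at e
    simp only [map_sum, LinearMap.lTensor_tmul, hφs, map_zero,
      TensorProduct.AlgebraTensorModule.cancelBaseChange_tmul, one_smul] at e
    have hc0 : ∀ i, c i = 0 := Fintype.linearIndependent_iff.1 hli c (by
      rw [← e]
      refine Finset.sum_congr rfl fun i _ => ?_
      rw [TensorProduct.smul_tmul', smul_eq_mul, mul_one])
    rw [hc]
    exact Finset.sum_eq_zero fun i _ => by rw [hc0 i, zero_tmul]
  have hW := Groth.Agent.Lib.LocalFlat.UnivInjective.rTensor_injective_of_finite_free φ hinj W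
  let γ : M ⊗[A] W →ₗ[A] (Ap ⊗[A] M) ⊗[Ap] W := TensorProduct.lift
    (LinearMap.mk₂ A (fun x v => ((1 : Ap) ⊗ₜ[A] x) ⊗ₜ[Ap] v)
      (fun x y v => by rw [tmul_add, add_tmul])
      (fun a x v => by rw [tmul_smul]; exact (smul_tmul' a _ v).symm)
      (fun x v v' => by rw [tmul_add])
      (fun a x v => by rw [← algebraMap_smul Ap a v, tmul_smul, algebraMap_smul]))
  have hz : ∑ i, (Pi.single i (1 : Ap) : Fin r → Ap) ⊗ₜ[Ap] w i = 0 := by
    apply hW
    rw [map_zero, map_sum]
    simp only [LinearMap.rTensor_tmul, hφs]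
    have e := congrArg γ h
    simp only [map_sum, map_zero, γ, TensorProduct.lift.tmul, LinearMap.mk₂_apply] at e
    exact e
  funext j
  have e := congrArg (fun z => TensorProduct.lid Ap W ((LinearMap.proj j).rTensor W z)) hz
  simp [Pi.single_apply, ite_smul] at e
  exact e

/-- The general principle: it suffices to rewrite tensors with independent first factors. -/
theorem univInj_of_reps {N M : Type u} [AddCommGroup N] [Module A N] [Module.Flat A N]
    [AddCommGroup M] [Module A M] [Module.Flat A M] (u : N →ₗ[A] M)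
    (h : ∀ (p : Ideal A) [p.IsPrime], Function.Injective (u.lTensor p.ResidueField))
    (R : ∀ (p : Ideal A) [p.IsPrime], ∃ G : Finset A, (G : Set A) ⊆ p ∧
      ∀ (W : Type u) [AddCommGroup W] [Module A W], (∀ g ∈ G, ∀ w : W, g • w = 0) →
        (∀ s ∉ p, Function.Bijective (fun w : W => s • w)) → ∀ y : N ⊗[A] W,
        ∃ (r : ℕ) (n : Fin r → N) (w : Fin r → W),
          LinearIndependent p.ResidueField (fun i => (1 : p.ResidueField) ⊗ₜ[A] n i) ∧
            y = ∑ i, n i ⊗ₜ w i) :
    FlatCA.UnivInj A u := by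
  classical
  intro Q _ _
  rw [LinearMap.lTensor_inj_iff_rTensor_inj]
  refine (injective_iff_map_eq_zero _).2 fun x hx => ?_
  by_contra hx0
  obtain ⟨p, hp⟩ := Ideal.nonempty_minimalPrimes (I := (Submodule.span A {x}).annihilator) (fun htop => hx0 (by
    have := (Submodule.mem_annihilator_span_singleton x (1 : A)).1 (htop ▸ Submodule.mem_top)
    rwa [one_smul] at this))
  haveI : p.IsPrime := hp.1.1
  obtain ⟨hz, hnil⟩ := Groth.Agent.Lib.FlatCA.WeakAssBC.nil_of_minimal p x hp
  obtain ⟨G, hG, hR⟩ := R p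
  obtain ⟨b, hb, hbz⟩ := Groth.Agent.Lib.FlatCA.WeakAssBC.exists_killed p G hG x hz
    fun c hc => hnil c (hG hc)
  let W₀ : Submodule A Q :=
    { carrier := {m | ∀ a ∈ G, a • m = 0}
      zero_mem' := fun a _ => smul_zero a
      add_mem' := fun {x y} hx hy a ha => by rw [smul_add, hx a ha, hy a ha, add_zero]
      smul_mem' := fun c x hx a ha => by rw [smul_comm, hx a ha, smul_zero] }
  obtain ⟨y₀, hy₀⟩ := Groth.Agent.Lib.FlatCA.WeakAssBC.mem_range_of_killed G W₀ (fun _ => Iff.rfl)
    (b • x) hb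
  let W := LocalizedModule p.primeCompl W₀
  let l : W₀ →ₗ[A] W := LocalizedModule.mkLinearMap p.primeCompl W₀
  have hWG : ∀ g ∈ G, ∀ w : W, g • w = 0 := by
    intro g hg w
    obtain ⟨⟨m, s⟩, rfl⟩ := IsLocalizedModule.mk'_surjective p.primeCompl l w
    show g • IsLocalizedModule.mk' l m s = 0
    rw [← IsLocalizedModule.mk'_smul, show g • m = 0 from Subtype.ext (m.2 g hg),
      IsLocalizedModule.mk'_zero]
  have hWb : ∀ s ∉ p, Function.Bijective (fun w : W => s • w) := fun s hs =>
    (Module.End.isUnit_iff _).1 (IsLocalizedModule.map_units l (⟨s, hs⟩ : p.primeCompl))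
  let y := l.lTensor N y₀
  have hy : y ≠ 0 := by
    intro h0
    haveI := IsLocalizedModule.rTensor p.primeCompl (R := A) (A := A) (N := N) l
    have key : ∀ w : N ⊗[A] W₀, TensorProduct.AlgebraTensorModule.rTensor A N l (TensorProduct.comm A N W₀ w) =
        TensorProduct.comm A N W (l.lTensor N w) := fun w => by
      induction w using TensorProduct.induction_on with
      | zero => simp
      | add a b ha hb => simp only [map_add, ha, hb]
      | tmul a b => rfl
    obtain ⟨⟨s, hs⟩, hsy⟩ := (IsLocalizedModule.eq_zero_iff p.primeCompl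
      (TensorProduct.AlgebraTensorModule.rTensor A N l)).1
      (show TensorProduct.AlgebraTensorModule.rTensor A N l (TensorProduct.comm A N W₀ y₀) = 0 by
        rw [key]; exact (congrArg _ h0).trans (map_zero _))
    have hsy₀ : s • y₀ = 0 := (TensorProduct.comm A N W₀).injective (by
      rw [map_smul, map_zero]; exact hsy)
    exact hbz s hs (by rw [← hy₀, ← map_smul, hsy₀, map_zero])
  have huy : u.rTensor W y = 0 := by
    have hW0 : u.rTensor W₀ y₀ = 0 := by
      apply Module.Flat.lTensor_preserves_injective_linearMap (M := M) W₀.subtype W₀.injective_subtype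
      rw [map_zero, ← LinearMap.comp_apply, LinearMap.lTensor_comp_rTensor,
        ← LinearMap.rTensor_comp_lTensor, LinearMap.comp_apply, hy₀, map_smul, hx, smul_zero]
    show u.rTensor W (l.lTensor N y₀) = 0
    rw [← LinearMap.comp_apply, LinearMap.rTensor_comp_lTensor, ← LinearMap.lTensor_comp_rTensor,
      LinearMap.comp_apply, hW0, map_zero]
  obtain ⟨r, n, w, hli, hrep⟩ := hR W hWG hWb y
  have hli' : LinearIndependent p.ResidueField fun i => (1 : p.ResidueField) ⊗ₜ[A] u (n i) := by
    have hker : LinearMap.ker (u.baseChange p.ResidueField) = ⊥ := LinearMap.ker_eq_bot.2 (h p)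
    exact hli.map' (u.baseChange p.ResidueField) hker
  have hw := coeff_zero_of_independent p (fun i => u (n i)) w hli' (by
    rw [hrep, map_sum] at huy
    simpa using huy)
  exact hy (by rw [hrep, hw]; simp)

/-- The kernel of `N → κ(p) ⊗ N`. -/
theorem exists_smul_mem (p : Ideal A) [p.IsPrime] {N : Type u} [AddCommGroup N] [Module A N] (x : N)
    (hx : (1 : p.ResidueField) ⊗ₜ[A] x = 0) : ∃ s ∉ p, s • x ∈ p • (⊤ : Submodule A N) := by
  let Ap := Localization.AtPrime p
  let f : Ap →ₗ[A] p.ResidueField := (Algebra.linearMap Ap p.ResidueField).restrictScalars A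
  let mA : Submodule A Ap := (IsLocalRing.maximalIdeal Ap).restrictScalars A
  have hex : Function.Exact mA.subtype f := fun c => by
    refine ⟨fun hc => ⟨⟨c, (IsLocalRing.residue_eq_zero_iff c).1 hc⟩, rfl⟩, ?_⟩
    rintro ⟨⟨c, hc⟩, rfl⟩
    exact (IsLocalRing.residue_eq_zero_iff c).2 hc
  obtain ⟨z, hz⟩ := (rTensor_exact N hex IsLocalRing.residue_surjective ((1 : Ap) ⊗ₜ[A] x)).1 (by
    rw [LinearMap.rTensor_tmul, show f 1 = 1 from map_one (algebraMap Ap p.ResidueField)]
    exact hx)
  have key : ∀ z : mA ⊗[A] N, ∃ s ∉ p, ∃ v ∈ p • (⊤ : Submodule A N),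
      s • mA.subtype.rTensor N z = (1 : Ap) ⊗ₜ[A] v := by
    intro z
    induction z using TensorProduct.induction_on with
    | zero => exact ⟨1, p.primeCompl.one_mem, 0, zero_mem _, by simp⟩
    | tmul c n =>
      obtain ⟨⟨a, s⟩, hs⟩ := IsLocalization.surj p.primeCompl (c : Ap)
      have ha : a ∈ p := (IsLocalization.AtPrime.to_map_mem_maximal_iff Ap p a).1 (by
        rw [← hs]; exact Ideal.mul_mem_right _ _ c.2)
      refine ⟨s, s.2, a • n, Submodule.smul_mem_smul ha Submodule.mem_top, ?_⟩
      rw [LinearMap.rTensor_tmul, TensorProduct.smul_tmul', Algebra.smul_def, mul_comm]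
      show ((c : Ap) * algebraMap A Ap s) ⊗ₜ[A] n = _
      rw [hs, tmul_smul, smul_tmul', Algebra.smul_def, mul_one]
    | add a b ha hb =>
      obtain ⟨s, hs, v, hv, e⟩ := ha
      obtain ⟨s', hs', v', hv', e'⟩ := hb
      refine ⟨s * s', p.primeCompl.mul_mem hs hs', s' • v + s • v',
        add_mem (Submodule.smul_mem _ _ hv) (Submodule.smul_mem _ _ hv'), ?_⟩
      rw [map_add, smul_add, tmul_add, mul_smul, mul_smul, smul_comm s s' (mA.subtype.rTensor N a), e, e',
        tmul_smul, tmul_smul]
  obtain ⟨s, hs, v, hv, e⟩ := key z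
  rw [hz, ← tmul_smul] at e
  haveI : IsLocalizedModule p.primeCompl (TensorProduct.mk A Ap N 1) :=
    (isLocalizedModule_iff_isBaseChange p.primeCompl Ap _).2 (TensorProduct.isBaseChange A N Ap)
  obtain ⟨⟨c, hc⟩, hcv⟩ := (IsLocalizedModule.eq_iff_exists p.primeCompl (TensorProduct.mk A Ap N 1)).1
    (show TensorProduct.mk A Ap N 1 (s • x) = TensorProduct.mk A Ap N 1 v from e)
  refine ⟨c * s, p.primeCompl.mul_mem hc hs, ?_⟩
  rw [mul_smul, show c • s • x = c • v from hcv]
  exact Submodule.smul_mem _ _ hv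

end Abstract

section Clear

open MvPolynomial

variable {A₀ : Type u} [CommRing A₀] (p₀ : Ideal A₀) [p₀.IsPrime]

theorem exists_clear_scalar (d : p₀.ResidueField) : ∃ s ∉ p₀, ∃ a : A₀,
    algebraMap A₀ p₀.ResidueField s * d = algebraMap A₀ p₀.ResidueField a := by
  obtain ⟨c, rfl⟩ := IsLocalRing.residue_surjective d
  obtain ⟨⟨a, s⟩, hs⟩ := IsLocalization.surj p₀.primeCompl c
  refine ⟨s, s.2, a, ?_⟩
  rw [IsScalarTower.algebraMap_apply A₀ (Localization.AtPrime p₀) p₀.ResidueField s,
    IsScalarTower.algebraMap_apply A₀ (Localization.AtPrime p₀) p₀.ResidueField a,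
    IsLocalRing.ResidueField.algebraMap_eq, ← map_mul, mul_comm, hs]

theorem exists_clear {n : ℕ} (q : MvPolynomial (Fin n) p₀.ResidueField) : ∃ s ∉ p₀,
    ∃ q₀ : MvPolynomial (Fin n) A₀,
      C (algebraMap A₀ p₀.ResidueField s) * q = MvPolynomial.map (algebraMap A₀ p₀.ResidueField) q₀ := by
  induction q using MvPolynomial.induction_on' with
  | monomial α d =>
    obtain ⟨s, hs, a, ha⟩ := exists_clear_scalar p₀ d
    exact ⟨s, hs, monomial α a, by rw [C_mul_monomial, ha, map_monomial]⟩
  | add x y hx hy =>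
    obtain ⟨s, hs, a, ha⟩ := hx
    obtain ⟨t, ht, b, hb⟩ := hy
    refine ⟨s * t, p₀.primeCompl.mul_mem hs ht, C t * a + C s * b, ?_⟩
    simp only [map_add, map_mul, map_C, C_mul, ← ha, ← hb]
    ring

theorem exists_clear_family {ι : Type*} (F : Finset ι) {R : Type u} [CommRing R] (ρ : A₀ →+* R)
    {P₀ : Type u} [CommRing P₀] (σ : A₀ →+* P₀) (θ : P₀ →+* R) (hσ : θ.comp σ = ρ) (q : ι → R)
    (hq : ∀ i ∈ F, ∃ s ∉ p₀, ∃ a : P₀, ρ s * q i = θ a) :
    ∃ s ∉ p₀, ∀ i ∈ F, ∃ a : P₀, ρ s * q i = θ a := by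
  classical
  induction F using Finset.induction_on with
  | empty => exact ⟨1, p₀.primeCompl.one_mem, by simp⟩
  | insert i F hiF ih =>
    obtain ⟨s, hs, hs'⟩ := ih fun j hj => hq j (Finset.mem_insert_of_mem hj)
    obtain ⟨t, ht, a, ha⟩ := hq i (Finset.mem_insert_self i F)
    refine ⟨s * t, p₀.primeCompl.mul_mem hs ht, fun j hj => ?_⟩
    rcases Finset.mem_insert.1 hj with rfl | hj
    · exact ⟨σ s * a, by rw [map_mul, map_mul, mul_assoc, ha, ← hσ, RingHom.comp_apply]⟩
    · obtain ⟨b, hb⟩ := hs' j hj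
      exact ⟨σ t * b, by rw [map_mul, map_mul, mul_comm (ρ s), mul_assoc, hb, ← hσ, RingHom.comp_apply]⟩

end Clear

section Functional

open MvPolynomial

variable {k₀ K : Type u} [CommRing k₀] [CommRing K] [Algebra k₀ K] {σ : Type*}

/-- Apply a linear functional to all coefficients. -/
def coeffApply (ℓ : K →ₗ[k₀] k₀) (z : MvPolynomial σ K) : MvPolynomial σ k₀ :=
  ∑ α ∈ z.support, monomial α (ℓ (coeff α z))

theorem coeff_coeffApply (ℓ : K →ₗ[k₀] k₀) (z : MvPolynomial σ K) (β : σ →₀ ℕ) :
    coeff β (coeffApply ℓ z) = ℓ (coeff β z) := by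
  classical
  rw [coeffApply, coeff_sum]
  simp only [coeff_monomial, Finset.sum_ite_eq']
  split_ifs with h
  · rfl
  · rw [notMem_support_iff.1 h, map_zero]

theorem coeffApply_add (ℓ : K →ₗ[k₀] k₀) (a b : MvPolynomial σ K) :
    coeffApply ℓ (a + b) = coeffApply ℓ a + coeffApply ℓ b := by
  ext β; simp [coeff_coeffApply]

theorem coeffApply_sum (ℓ : K →ₗ[k₀] k₀) {ι : Type*} (F : Finset ι) (a : ι → MvPolynomial σ K) :
    coeffApply ℓ (∑ i ∈ F, a i) = ∑ i ∈ F, coeffApply ℓ (a i) := by
  ext β; simp [coeff_coeffApply, coeff_sum]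

theorem coeffApply_C (ℓ : K →ₗ[k₀] k₀) (c : K) : coeffApply (σ := σ) ℓ (C c) = C (ℓ c) := by
  classical
  ext β
  rw [coeff_coeffApply, coeff_C, coeff_C]
  split_ifs <;> simp

theorem coeffApply_mul_map (ℓ : K →ₗ[k₀] k₀) (z : MvPolynomial σ K) (q : MvPolynomial σ k₀) :
    coeffApply ℓ (z * MvPolynomial.map (algebraMap k₀ K) q) = coeffApply ℓ z * q := by
  classical
  ext β
  rw [coeff_coeffApply, coeff_mul, coeff_mul, map_sum]
  refine Finset.sum_congr rfl fun x _ => ?_
  rw [coeff_map, coeff_coeffApply, mul_comm, ← Algebra.smul_def, map_smul, smul_eq_mul, mul_comm]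

end Functional

section Relation

open MvPolynomial

variable {A₀ : Type u} [CommRing A₀] (p₀ : Ideal A₀) [p₀.IsPrime] {K : Type u} [Field K]
  [Algebra p₀.ResidueField K]

/-- A linear relation over an extension of `κ(p₀)` between vectors defined over `A₀` gives a relation over
`A₀` modulo `p₀`. -/
theorem exists_relation {n m k : ℕ} {ι : Type u} [Fintype ι]
    (h : ι → Fin m → MvPolynomial (Fin n) A₀) (J₀ : Fin k → Fin m → MvPolynomial (Fin n) A₀)
    (c : ι → K) (g₁ : ι) (hg₁ : c g₁ ≠ 0) (q : Fin k → MvPolynomial (Fin n) K)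
    (hq : ∀ i, ∑ j, q j * MvPolynomial.map (algebraMap p₀.ResidueField K)
        (MvPolynomial.map (algebraMap A₀ p₀.ResidueField) (J₀ j i)) =
      ∑ g, C (c g) * MvPolynomial.map (algebraMap p₀.ResidueField K)
        (MvPolynomial.map (algebraMap A₀ p₀.ResidueField) (h g i))) :
    ∃ (a : ι → A₀) (b : Fin k → MvPolynomial (Fin n) A₀), a g₁ ∉ p₀ ∧
      ∀ i α, coeff α (∑ g, C (a g) * h g i - ∑ j, b j * J₀ j i) ∈ p₀ := by
  classical
  let ρ := algebraMap A₀ p₀.ResidueField
  let π₀ : MvPolynomial (Fin n) A₀ →+* MvPolynomial (Fin n) p₀.ResidueField := MvPolynomial.map ρ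
  obtain ⟨ℓ, hℓ⟩ := Module.Projective.exists_dual_ne_zero p₀.ResidueField hg₁
  have hi : ∀ i, ∑ j, coeffApply ℓ (q j) * π₀ (J₀ j i) = ∑ g, C (ℓ (c g)) * π₀ (h g i) := fun i => by
    have e := congrArg (coeffApply ℓ) (hq i)
    rw [coeffApply_sum, coeffApply_sum] at e
    simp only [coeffApply_mul_map, coeffApply_C] at e
    exact e
  obtain ⟨s₁, hs₁, hq'⟩ := exists_clear_family p₀ (Finset.univ : Finset (Fin k))
    ((C : p₀.ResidueField →+* MvPolynomial (Fin n) p₀.ResidueField).comp ρ)
    (C : A₀ →+* MvPolynomial (Fin n) A₀) π₀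
    (RingHom.ext fun a => map_C ρ a) (fun j => coeffApply ℓ (q j)) fun j _ => exists_clear p₀ _
  obtain ⟨s₂, hs₂, hc'⟩ := exists_clear_family p₀ (Finset.univ : Finset ι)
    ρ (RingHom.id A₀) ρ (RingHom.comp_id ρ) (fun g => ℓ (c g)) fun g _ => exists_clear_scalar p₀ _
  choose q₀ hq₀ using hq'
  choose a ha using hc'
  refine ⟨fun g => s₁ * a g (Finset.mem_univ g), fun j => C s₂ * q₀ j (Finset.mem_univ j), ?_, fun i α => ?_⟩
  · intro hmem
    rcases (inferInstance : p₀.IsPrime).mem_or_mem hmem with h | h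
    · exact hs₁ h
    · have h' := ha g₁ (Finset.mem_univ _)
      rw [Ideal.algebraMap_residueField_eq_zero.2 h] at h'
      rcases mul_eq_zero.1 h' with h' | h'
      · exact hs₂ (Ideal.algebraMap_residueField_eq_zero.1 h')
      · exact hℓ h'
  · rw [← Ideal.algebraMap_residueField_eq_zero (I := p₀), ← coeff_map]
    suffices π₀ (∑ g, C (s₁ * a g (Finset.mem_univ g)) * h g i -
        ∑ j, C s₂ * q₀ j (Finset.mem_univ j) * J₀ j i) = 0 by
      show coeff α (π₀ _) = 0
      rw [this, coeff_zero]
    simp only [map_sub, map_sum, map_mul, π₀, map_C, C_mul]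
    rw [sub_eq_zero]
    calc _ = C (ρ s₁) * C (ρ s₂) * ∑ g, C (ℓ (c g)) * π₀ (h g i) := by
          rw [Finset.mul_sum]
          refine Finset.sum_congr rfl fun g _ => ?_
          rw [← ha g (Finset.mem_univ g), C_mul]
          ring
      _ = _ := by
          rw [← hi, Finset.mul_sum]
          refine Finset.sum_congr rfl fun j _ => ?_
          have e : C (ρ s₁) * coeffApply ℓ (q j) = π₀ (q₀ j (Finset.mem_univ j)) := hq₀ j _
          show _ = C (ρ s₂) * π₀ (q₀ j (Finset.mem_univ j)) * π₀ (J₀ j i)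
          rw [← e]
          ring

end Relation

section Fibre

open MvPolynomial

variable {A : Type u} [CommRing A] (p : Ideal A) [p.IsPrime] (n m : ℕ)

/-- Reduction of vectors of polynomials modulo `p`. -/
def red : (Fin m → MvPolynomial (Fin n) A) →+ (Fin m → MvPolynomial (Fin n) p.ResidueField) where
  toFun v i := MvPolynomial.map (algebraMap A p.ResidueField) (v i)
  map_zero' := by ext i : 1; simp
  map_add' v v' := by ext i : 1; simp

theorem red_apply (v : Fin m → MvPolynomial (Fin n) A) (i : Fin m) :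
    red p n m v i = MvPolynomial.map (algebraMap A p.ResidueField) (v i) := rfl

theorem red_smul (a : MvPolynomial (Fin n) A) (v : Fin m → MvPolynomial (Fin n) A) :
    red p n m (a • v) = MvPolynomial.map (algebraMap A p.ResidueField) a • red p n m v :=
  funext fun i => map_mul (MvPolynomial.map (algebraMap A p.ResidueField)) a (v i)

theorem red_smul_scalar (a : A) (v : Fin m → MvPolynomial (Fin n) A) :
    red p n m (a • v) = (C (algebraMap A p.ResidueField a) : MvPolynomial (Fin n) p.ResidueField) • red p n m v := by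
  rw [← algebraMap_smul (MvPolynomial (Fin n) A) a v, red_smul, MvPolynomial.algebraMap_eq, map_C]

variable {n m} {k : ℕ} (J : Fin k → Fin m → MvPolynomial (Fin n) A)

/-- The reduced relations. -/
def redSpan : Submodule (MvPolynomial (Fin n) p.ResidueField) (Fin m → MvPolynomial (Fin n) p.ResidueField) :=
  Submodule.span _ (Set.range fun j => red p n m (J j))

theorem red_mem_redSpan {v : Fin m → MvPolynomial (Fin n) A}
    (hv : v ∈ Submodule.span (MvPolynomial (Fin n) A) (Set.range J)) : red p n m v ∈ redSpan p J := by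
  induction hv using Submodule.span_induction with
  | mem v hv => obtain ⟨j, rfl⟩ := hv; exact Submodule.subset_span ⟨j, rfl⟩
  | zero => rw [map_zero]; exact zero_mem _
  | add a b _ _ ha hb => rw [map_add]; exact add_mem ha hb
  | smul a v _ hv => rw [red_smul]; exact Submodule.smul_mem _ _ hv

/-- One element of `S` kills the `S`-torsion of the fibre. -/
theorem exists_killer (S : Submonoid (MvPolynomial (Fin n) A)) :
    ∃ t₀ ∈ S, ∀ z : Fin m → MvPolynomial (Fin n) p.ResidueField,
      (∃ t ∈ S, MvPolynomial.map (algebraMap A p.ResidueField) t • z ∈ redSpan p J) →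
      MvPolynomial.map (algebraMap A p.ResidueField) t₀ • z ∈ redSpan p J := by
  classical
  let π := MvPolynomial.map (σ := Fin n) (algebraMap A p.ResidueField)
  let Tor : Submodule (MvPolynomial (Fin n) p.ResidueField) (Fin m → MvPolynomial (Fin n) p.ResidueField) :=
    { carrier := {z | ∃ t ∈ S, π t • z ∈ redSpan p J}
      zero_mem' := ⟨1, S.one_mem, by rw [smul_zero]; exact zero_mem _⟩
      add_mem' := by
        rintro a b ⟨t, ht, ha⟩ ⟨t', ht', hb⟩
        refine ⟨t * t', S.mul_mem ht ht', ?_⟩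
        rw [map_mul, smul_add]
        refine add_mem ?_ ?_
        · rw [mul_comm, mul_smul]; exact Submodule.smul_mem _ _ ha
        · rw [mul_smul]; exact Submodule.smul_mem _ _ hb
      smul_mem' := by
        rintro c z ⟨t, ht, hz⟩
        exact ⟨t, ht, by rw [smul_comm]; exact Submodule.smul_mem _ _ hz⟩ }
  obtain ⟨F, hF⟩ := (IsNoetherian.noetherian Tor : Tor.FG)
  have hFT : ∀ z ∈ F, ∃ t ∈ S, π t • z ∈ redSpan p J := fun z hz => hF.le (Submodule.subset_span hz)
  choose! τ hτ hτ' using hFT
  refine ⟨∏ z ∈ F, τ z, Submonoid.prod_mem _ hτ, fun z hz => ?_⟩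
  change z ∈ Tor at hz
  rw [← hF] at hz
  induction hz using Submodule.span_induction with
  | mem a ha =>
    rw [← Finset.prod_erase_mul F τ ha, map_mul, mul_smul]
    exact Submodule.smul_mem _ _ (hτ' a ha)
  | zero => rw [smul_zero]; exact zero_mem _
  | add a b _ _ ha hb => rw [smul_add]; exact add_mem ha hb
  | smul c a _ ha => rw [smul_comm]; exact Submodule.smul_mem _ _ ha

variable {N : Type u} [AddCommGroup N] [Module (MvPolynomial (Fin n) A) N] [Module A N]
  [IsScalarTower A (MvPolynomial (Fin n) A) N]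

/-- A fraction vanishing in the fibre has torsion numerator. -/
theorem torsion_of_fibre_zero (S : Submonoid (MvPolynomial (Fin n) A))
    (l : (Fin m → MvPolynomial (Fin n) A) →ₗ[MvPolynomial (Fin n) A] N)
    (hsurj : ∀ x : N, ∃ t ∈ S, ∃ v, t • x = l v)
    (hker : ∀ v, l v = 0 → ∃ t ∈ S, t • v ∈ Submodule.span (MvPolynomial (Fin n) A) (Set.range J))
    (x : N) (hx : (1 : p.ResidueField) ⊗ₜ[A] x = 0) (T : MvPolynomial (Fin n) A)
    (v : Fin m → MvPolynomial (Fin n) A) (hv : T • x = l v) :
    ∃ t ∈ S, MvPolynomial.map (algebraMap A p.ResidueField) t • red p n m v ∈ redSpan p J := by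
  obtain ⟨s', hs', hmem⟩ := exists_smul_mem p _ hx
  obtain ⟨t', ht', v', hv', hv'0⟩ : ∃ t' ∈ S, ∃ v' : Fin m → MvPolynomial (Fin n) A,
      t' • (s' • x) = l v' ∧ red p n m v' = 0 := by
    refine Submodule.smul_induction_on
      (p := fun z => ∃ t' ∈ S, ∃ v' : Fin m → MvPolynomial (Fin n) A, t' • z = l v' ∧ red p n m v' = 0)
      hmem ?_ ?_
    · intro b hb x _
      obtain ⟨t', ht', v', hv'⟩ := hsurj x
      refine ⟨t', ht', b • v', ?_, ?_⟩
      · rw [smul_comm, hv', LinearMap.map_smul_of_tower]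
      · rw [red_smul_scalar, Ideal.algebraMap_residueField_eq_zero.2 hb, map_zero, zero_smul]
    · rintro x y ⟨t₁, ht₁, v₁, e₁, z₁⟩ ⟨t₂, ht₂, v₂, e₂, z₂⟩
      refine ⟨t₁ * t₂, S.mul_mem ht₁ ht₂, t₂ • v₁ + t₁ • v₂, ?_, ?_⟩
      · rw [smul_add, map_add, map_smul, map_smul, mul_smul, mul_smul, smul_comm t₁ t₂ x, e₁, e₂]
      · rw [map_add, red_smul, red_smul, z₁, z₂, smul_zero, smul_zero, add_zero]
  obtain ⟨t'', ht'', hspan'⟩ := hker (t' • s' • v - T • v') (by
    rw [map_sub, map_smul, LinearMap.map_smul_of_tower, map_smul, sub_eq_zero, ← hv, ← hv',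
      smul_comm s' T x, smul_comm t' T (s' • x)])
  have h1 := red_mem_redSpan p J hspan'
  rw [red_smul, map_sub, red_smul, red_smul, hv'0, smul_zero, sub_zero, red_smul_scalar] at h1
  refine ⟨t'' * t', S.mul_mem ht'' ht', ?_⟩
  rw [map_mul, mul_smul]
  rw [smul_comm (MvPolynomial.map (algebraMap A p.ResidueField) t') (C _),
    smul_comm (MvPolynomial.map (algebraMap A p.ResidueField) t'') (C _)] at h1
  exact (Submodule.smul_mem_iff_of_isUnit (redSpan p J)
    ((IsUnit.mk0 _ fun h => hs' (Ideal.algebraMap_residueField_eq_zero.1 h)).map C)).1 h1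

end Fibre

section Reps

open MvPolynomial

variable {A : Type u} [CommRing A] {n m k : ℕ} {N : Type u} [AddCommGroup N]
  [Module (MvPolynomial (Fin n) A) N] [Module A N] [IsScalarTower A (MvPolynomial (Fin n) A) N]

theorem reps (S : Submonoid (MvPolynomial (Fin n) A))
    (l : (Fin m → MvPolynomial (Fin n) A) →ₗ[MvPolynomial (Fin n) A] N)
    (J : Fin k → Fin m → MvPolynomial (Fin n) A)
    (hsurj : ∀ x : N, ∃ t ∈ S, ∃ v, t • x = l v) (hJ : ∀ j, l (J j) = 0)
    (hker : ∀ v, l v = 0 → ∃ t ∈ S, t • v ∈ Submodule.span (MvPolynomial (Fin n) A) (Set.range J))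
    (hunit : ∀ t ∈ S, Function.Bijective (fun x : N => t • x))
    (p : Ideal A) [p.IsPrime] :
    ∃ G : Finset A, (G : Set A) ⊆ p ∧
      ∀ (W : Type u) [AddCommGroup W] [Module A W], (∀ g ∈ G, ∀ w : W, g • w = 0) →
        (∀ s ∉ p, Function.Bijective (fun w : W => s • w)) → ∀ y : N ⊗[A] W,
        ∃ (r : ℕ) (x : Fin r → N) (w : Fin r → W),
          LinearIndependent p.ResidueField (fun i => (1 : p.ResidueField) ⊗ₜ[A] x i) ∧
            y = ∑ i, x i ⊗ₜ w i := by
  classical
  obtain ⟨t₀, ht₀, htor⟩ := exists_killer p J S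
  -- the Noetherian subring of coefficients
  let coefs : Finset A := (Finset.univ.biUnion fun ji : Fin k × Fin m => (J ji.1 ji.2).coeffs) ∪ t₀.coeffs
  let A₀ := Algebra.adjoin ℤ (coefs : Set A)
  haveI : Algebra.FiniteType ℤ A₀ := (Subalgebra.fg_iff_finiteType _).1 (Subalgebra.fg_adjoin_finset _)
  haveI : IsNoetherianRing A₀ := Algebra.FiniteType.isNoetherianRing ℤ A₀
  let ι₀ : A₀ →+* A := algebraMap A₀ A
  have hmem : ∀ q : MvPolynomial (Fin n) A, (∀ a ∈ q.coeffs, a ∈ coefs) →
      ∃ q₀ : MvPolynomial (Fin n) A₀, MvPolynomial.map ι₀ q₀ = q := fun q hq => by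
    have : q ∈ Set.range (MvPolynomial.map ι₀) := MvPolynomial.mem_range_map_iff_coeffs_subset.2 fun a ha =>
      ⟨⟨a, Algebra.subset_adjoin (hq a ha)⟩, rfl⟩
    exact this
  obtain ⟨t₀₀, ht₀₀⟩ := hmem t₀ fun a ha => Finset.mem_union_right _ ha
  have hJ₀ : ∀ j i, ∃ q₀ : MvPolynomial (Fin n) A₀, MvPolynomial.map ι₀ q₀ = J j i := fun j i => hmem _ fun a ha =>
    Finset.mem_union_left _ (Finset.mem_biUnion.2 ⟨(j, i), Finset.mem_univ _, ha⟩)
  choose J₀ hJ₀ using hJ₀
  let p₀ : Ideal A₀ := p.comap ι₀
  obtain ⟨G₀, hG₀⟩ := (IsNoetherian.noetherian p₀ : p₀.FG)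
  refine ⟨G₀.image ι₀, fun a ha => ?_, fun W _ _ hWG hWb y => ?_⟩
  · obtain ⟨a, ha', rfl⟩ := Finset.mem_image.1 ha
    exact hG₀.le (Ideal.subset_span ha')
  have hp₀W : ∀ a ∈ p₀, ∀ w : W, ι₀ a • w = 0 := by
    intro a ha
    rw [← hG₀] at ha
    induction ha using Submodule.span_induction with
    | mem a ha => exact hWG _ (Finset.mem_image_of_mem _ ha)
    | zero => intro w; rw [map_zero, zero_smul]
    | add a b _ _ ha hb => intro w; rw [map_add, add_smul, ha, hb, add_zero]
    | smul c a _ ha => intro w; rw [smul_eq_mul, map_mul, mul_smul, ha, smul_zero]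
  let μv : (Fin m → MvPolynomial (Fin n) A₀) →+ (Fin m → MvPolynomial (Fin n) A) :=
    { toFun := fun v i => MvPolynomial.map ι₀ (v i)
      map_zero' := by ext i : 1; simp
      map_add' := fun v v' => by ext i : 1; simp }
  have μv_smul : ∀ (a : MvPolynomial (Fin n) A₀) v, μv (a • v) = MvPolynomial.map ι₀ a • μv v :=
    fun a v => funext fun i => map_mul (MvPolynomial.map ι₀) a (v i)
  have μv_J : ∀ j, μv (J₀ j) = J j := fun j => funext fun i => hJ₀ j i
  have hspan : ∀ v : Fin m → MvPolynomial (Fin n) A, v ∈ Submodule.span A (Set.range μv) := by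
    intro v
    rw [← Finset.univ_sum_single v]
    refine Submodule.sum_mem _ fun i _ => ?_
    generalize v i = q
    induction q using MvPolynomial.induction_on' with
    | monomial α a =>
      have : (Pi.single i (monomial α a) : Fin m → MvPolynomial (Fin n) A) =
          a • μv (Pi.single i (monomial α 1)) := by
        refine funext fun j => ?_
        show (Pi.single i (monomial α a) : Fin m → MvPolynomial (Fin n) A) j =
          a • MvPolynomial.map ι₀ ((Pi.single i (monomial α 1) : Fin m → MvPolynomial (Fin n) A₀) j)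
        by_cases hji : j = i
        · subst hji
          rw [Pi.single_eq_same, Pi.single_eq_same, map_monomial, map_one, smul_monomial, smul_eq_mul, mul_one]
        · rw [Pi.single_eq_of_ne hji, Pi.single_eq_of_ne hji, map_zero, smul_zero]
      rw [this]
      exact Submodule.smul_mem _ _ (Submodule.subset_span ⟨_, rfl⟩)
    | add a b ha hb => rw [Pi.single_add]; exact add_mem ha hb
  let t₀S : S := ⟨t₀, ht₀⟩
  let E : S → (N ≃ₗ[MvPolynomial (Fin n) A] N) := fun t =>
    LinearEquiv.ofBijective (LinearMap.lsmul _ N (t : MvPolynomial (Fin n) A)) (hunit _ t.2)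
  let D : S → (Fin m → MvPolynomial (Fin n) A) →ₗ[A] N := fun t =>
    ((E (t * t₀S)).symm.toLinearMap ∘ₗ l).restrictScalars A
  have hD : ∀ t v, ((t * t₀S : S) : MvPolynomial (Fin n) A) • D t v = l v :=
    fun t v => (E (t * t₀S)).apply_symm_apply (l v)
  have hDspan : ∀ t j (b : MvPolynomial (Fin n) A), D t (b • J j) = 0 := fun t j b => by
    show (E (t * t₀S)).symm (l _) = 0
    rw [map_smul, hJ, smul_zero, map_zero]
  let ν : S → (Fin m → MvPolynomial (Fin n) A₀) → N := fun t g => D t (μv (t₀₀ • g))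
  let Θ : S → ((Fin m → MvPolynomial (Fin n) A₀) →₀ W) →ₗ[A] N ⊗[A] W := fun t =>
    Finsupp.lsum A fun g => TensorProduct.mk A N W (ν t g)
  have hΘ : ∀ t f, Θ t f = ∑ g ∈ f.support, ν t g ⊗ₜ[A] f g := fun t f => by
    simp [Θ, Finsupp.sum]
  -- every tensor lies in the range of some `Θ t`
  obtain ⟨t, hyt⟩ : ∃ t : S, y ∈ LinearMap.range (Θ t) := by
    suffices ∃ t : S, ∀ t' : S, y ∈ LinearMap.range (Θ (t * t')) by
      obtain ⟨t, ht⟩ := this; exact ⟨t * 1, ht 1⟩
    induction y using TensorProduct.induction_on with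
    | zero => exact ⟨1, fun t' => zero_mem _⟩
    | add a b ha hb =>
      obtain ⟨t, ht⟩ := ha
      obtain ⟨t', ht'⟩ := hb
      refine ⟨t * t', fun t'' => add_mem ?_ ?_⟩
      · rw [mul_assoc]; exact ht _
      · rw [mul_comm t t', mul_assoc]; exact ht' _
    | tmul x w =>
      obtain ⟨t, ht, v, hv⟩ := hsurj x
      refine ⟨⟨t, ht⟩, fun t' => ?_⟩
      have hx : x = D (⟨t, ht⟩ * t') (t₀ • (t' : MvPolynomial (Fin n) A) • v) := by
        apply (hunit _ (⟨t, ht⟩ * t' * t₀S : S).2).1
        show _ = ((⟨t, ht⟩ * t' * t₀S : S) : MvPolynomial (Fin n) A) • D _ _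
        rw [hD, map_smul, map_smul, ← hv]
        show (t * t' * t₀) • x = _
        rw [smul_smul, smul_smul]
        congr 1
        ring
      rw [hx]
      have hmem := hspan ((t' : MvPolynomial (Fin n) A) • v)
      generalize (t' : MvPolynomial (Fin n) A) • v = v' at hmem ⊢
      induction hmem using Submodule.span_induction with
      | mem v' hv' =>
        obtain ⟨g, rfl⟩ := hv'
        exact ⟨Finsupp.single g w, by simp [Θ, ν, μv_smul, ht₀₀]⟩
      | zero => simp
      | add a b _ _ ha hb => rw [smul_add, map_add, add_tmul]; exact add_mem ha hb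
      | smul c a _ ha => rw [smul_comm, map_smul, ← smul_tmul']; exact Submodule.smul_mem _ _ ha
  have hne : ∃ r, ∃ f, Θ t f = y ∧ f.support.card = r := by
    obtain ⟨f, hf⟩ := hyt
    exact ⟨_, f, hf, rfl⟩
  obtain ⟨f, hf, hfc⟩ := Nat.find_spec hne
  -- the elements of the support are independent in the fibre
  letI : Algebra p₀.ResidueField p.ResidueField := (Ideal.ResidueField.map p₀ p ι₀ rfl).toAlgebra
  have hπ : ∀ q : MvPolynomial (Fin n) A₀,
      MvPolynomial.map (algebraMap A p.ResidueField) (MvPolynomial.map ι₀ q) =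
        MvPolynomial.map (algebraMap p₀.ResidueField p.ResidueField)
          (MvPolynomial.map (algebraMap A₀ p₀.ResidueField) q) := fun q => by
    rw [MvPolynomial.map_map, MvPolynomial.map_map]
    exact congrArg (fun φ : A₀ →+* p.ResidueField => MvPolynomial.map φ q)
      (RingHom.ext fun a => (Ideal.ResidueField.map_algebraMap p₀ p ι₀ rfl a).symm)
  have key : ∀ c : f.support → p.ResidueField,
      (∑ g : f.support, (C (c g) : MvPolynomial (Fin n) p.ResidueField) •
        red p n m (μv (t₀₀ • g.1))) ∈ redSpan p J → c = 0 := by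
    intro c hc
    by_contra hc0
    obtain ⟨g₁, hg₁⟩ := Function.ne_iff.1 hc0
    obtain ⟨q, hq⟩ := (Submodule.mem_span_range_iff_exists_fun _).1 hc
    obtain ⟨a, b, hag₁, hab⟩ := exists_relation p₀ (fun (g : f.support) i => t₀₀ * g.1 i) J₀ c g₁ hg₁ q (by
      intro i
      have e := congrFun hq i
      simp only [Finset.sum_apply, Pi.smul_apply, smul_eq_mul, red_apply] at e
      simp only [← hJ₀, hπ] at e
      refine e.trans (Finset.sum_congr rfl fun g _ => ?_)
      exact congrArg (C (c g) * ·) (hπ _))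
    let Δ : Fin m → MvPolynomial (Fin n) A₀ :=
      (∑ g : f.support, (C (a g) : MvPolynomial (Fin n) A₀) • (t₀₀ • g.1)) - ∑ j, b j • J₀ j
    have hΔ : ∀ i α, coeff α (Δ i) ∈ p₀ := fun i α => by
      have := hab i α
      simpa [Δ, Finset.sum_apply] using this
    have hrel : ∀ w : W, ∑ g : f.support, (ι₀ (a g) • ν t g.1) ⊗ₜ[A] w = 0 := by
      intro w
      let L : (Fin m → MvPolynomial (Fin n) A) →ₗ[A] N ⊗[A] W := ((TensorProduct.mk A N W).flip w) ∘ₗ D t
      have h1 : L (μv Δ) = 0 := by
        suffices μv Δ ∈ LinearMap.ker L from this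
        rw [← Finset.univ_sum_single (μv Δ)]
        refine Submodule.sum_mem _ fun i _ => ?_
        rw [← support_sum_monomial_coeff (μv Δ i)]
        generalize (μv Δ i).support = F
        induction F using Finset.induction_on with
        | empty => simp
        | insert α F hα ih =>
          rw [Finset.sum_insert hα, Pi.single_add]
          refine add_mem ?_ ih
          have hm : monomial α (coeff α (μv Δ i)) = ι₀ (coeff α (Δ i)) • (monomial α (1 : A)) := by
            rw [smul_monomial, smul_eq_mul, mul_one, ← coeff_map]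
            rfl
          rw [LinearMap.mem_ker, hm, Pi.single_smul, map_smul]
          show ι₀ _ • (D t _ ⊗ₜ[A] w) = 0
          rw [← tmul_smul, hp₀W _ (hΔ i α), tmul_zero]
      have h2 : D t (μv Δ) = ∑ g : f.support, ι₀ (a g) • ν t g.1 := by
        simp only [Δ, map_sub, map_sum]
        rw [sub_eq_self.2 (Finset.sum_eq_zero fun j _ => by rw [μv_smul, μv_J, hDspan])]
        refine Finset.sum_congr rfl fun g _ => ?_
        rw [μv_smul, map_C, ← MvPolynomial.algebraMap_eq, algebraMap_smul, map_smul]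
      rw [← sum_tmul, ← h2]
      exact h1
    have hg₁p : ι₀ (a g₁) ∉ p := hag₁
    obtain ⟨w', hw'⟩ := (hWb _ hg₁p).2 (f g₁.1)
    change ι₀ (a g₁) • w' = f g₁.1 at hw'
    let f' := f - ∑ g : f.support, Finsupp.single g.1 (ι₀ (a g) • w')
    have hf' : Θ t f' = y := by
      rw [map_sub, hf, sub_eq_self, map_sum, ← hrel w']
      exact Finset.sum_congr rfl fun g _ => by simp [Θ, smul_tmul]
    have hlt : f'.support.card < Nat.find hne := by
      rw [← hfc]
      refine Finset.card_lt_card ((Finset.ssubset_iff_of_subset fun g hg => ?_).2 ⟨g₁.1, g₁.2, ?_⟩)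
      · by_contra hgf
        apply Finsupp.mem_support_iff.1 hg
        simp only [f', Finsupp.sub_apply, Finsupp.finsetSum_apply, Finsupp.notMem_support_iff.1 hgf, zero_sub,
          neg_eq_zero]
        exact Finset.sum_eq_zero fun g' _ => by
          rw [Finsupp.single_eq_of_ne]
          rintro rfl
          exact hgf g'.2
      · rw [Finsupp.notMem_support_iff]
        simp only [f', Finsupp.sub_apply, Finsupp.finsetSum_apply]
        rw [Finset.sum_eq_single g₁ (fun g' _ hne' => by
          rw [Finsupp.single_eq_of_ne]; exact fun h => hne' (Subtype.ext h.symm)) (by simp),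
          Finsupp.single_eq_same, hw', sub_self]
    exact Nat.find_min hne hlt ⟨f', hf', rfl⟩
  have hind : LinearIndependent p.ResidueField fun g : f.support => (1 : p.ResidueField) ⊗ₜ[A] ν t g.1 := by
    rw [Fintype.linearIndependent_iff]
    intro c hc
    obtain ⟨s, hs, hca⟩ := exists_clear_family p (Finset.univ : Finset f.support)
      (algebraMap A p.ResidueField) (RingHom.id A) (algebraMap A p.ResidueField) (RingHom.comp_id _) c
      fun g _ => exists_clear_scalar p _
    choose a ha using hca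
    let a' : f.support → A := fun g => a g (Finset.mem_univ g)
    have ha' : ∀ g, algebraMap A p.ResidueField s * c g = algebraMap A p.ResidueField (a' g) :=
      fun g => ha g _
    let v : Fin m → MvPolynomial (Fin n) A := ∑ g : f.support, a' g • μv g.1
    have hν : (∑ g : f.support, a' g • ν t g.1) = D t (t₀ • v) := by
      simp only [v, Finset.smul_sum, map_sum]
      exact Finset.sum_congr rfl fun g _ => by
        show a' g • D t (μv (t₀₀ • g.1)) = _
        rw [μv_smul, ht₀₀, smul_comm t₀ (a' g)]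
        exact (map_smul (D t) (a' g) _).symm
    have hc' : (1 : p.ResidueField) ⊗ₜ[A] (∑ g : f.support, a' g • ν t g.1) = 0 := by
      rw [tmul_sum, ← smul_zero (algebraMap A p.ResidueField s), ← hc, Finset.smul_sum]
      refine Finset.sum_congr rfl fun g _ => ?_
      rw [smul_smul, ha', tmul_smul, algebraMap_smul]
    obtain ⟨t', ht', htv⟩ := torsion_of_fibre_zero p J S l hsurj hker _ hc' _ (t₀ • v) (by
      rw [hν]; exact hD t _)
    have htv' := htor (red p n m v) ⟨t' * t₀, S.mul_mem ht' ht₀, by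
      rw [map_mul, mul_smul, ← red_smul]; exact htv⟩
    have := key (fun g => algebraMap A p.ResidueField (a' g)) (by
      have e : red p n m (t₀ • v) = ∑ g : f.support,
          (C (algebraMap A p.ResidueField (a' g)) : MvPolynomial (Fin n) p.ResidueField) •
            red p n m (μv (t₀₀ • g.1)) := by
        simp only [v, Finset.smul_sum, map_sum, μv_smul, ht₀₀]
        exact Finset.sum_congr rfl fun g _ => by rw [smul_comm t₀ (a' g), red_smul_scalar]
      rw [← e, red_smul]
      exact htv')
    intro g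
    have hg := congrFun this g
    rw [Pi.zero_apply, ← ha'] at hg
    exact (mul_eq_zero.1 hg).resolve_left fun h => hs (Ideal.algebraMap_residueField_eq_zero.1 h)
  refine ⟨Fintype.card f.support, fun i => ν t ((Fintype.equivFin f.support).symm i).1,
    fun i => f ((Fintype.equivFin f.support).symm i).1, hind.comp _ (Equiv.injective _), ?_⟩
  rw [← hf, hΘ, ← Finset.sum_coe_sort]
  exact (Equiv.sum_comp (Fintype.equivFin f.support).symm
    (fun g : f.support => ν t g.1 ⊗ₜ[A] f g.1)).symm

end Reps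

end Groth.Agent.H26.UnivInjFibre
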